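import Mathlib.AlgebraicGeometry.Morphisms.Smooth
import Mathlib.AlgebraicGeometry.Geometrically.Reduced
import Mathlib.RingTheory.RingHom.StandardSmooth
import Mathlib.RingTheory.Unramified.Field
import Mathlib.RingTheory.Smooth.Flat

/-!
# A smooth scheme over a field is (geometrically) reduced
-/

universe u

open CategoryTheory Limits TopologicalSpace AlgebraicGeometry
open scoped TensorProduct

namespace Groth.AlgGrp1

theorem isReduced_of_etale_domain {P A : Type u} [CommRing P] [IsDomain P] [CommRing A] [Algebra P A]
    [Algebra.Etale P A] : _root_.IsReduced A := by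
  have h : _root_.IsReduced (FractionRing P ⊗[P] A) :=
    Algebra.FormallyUnramified.isReduced_of_field (FractionRing P) _
  exact isReduced_of_injective
    (Algebra.TensorProduct.includeRight : A →ₐ[P] FractionRing P ⊗[P] A)
    (Algebra.TensorProduct.includeRight_injective (IsFractionRing.injective P (FractionRing P)))

theorem isReduced_of_isStandardSmooth {R A : Type u} [CommRing R] [IsDomain R] [CommRing A]
    {f : R →+* A} (hf : f.IsStandardSmooth) : _root_.IsReduced A := by
  obtain ⟨n, g, -, hg⟩ := hf.exists_etale_mvPolynomial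
  let := g.toAlgebra
  have : Algebra.Etale (MvPolynomial (Fin n) R) A := hg
  exact isReduced_of_etale_domain (P := MvPolynomial (Fin n) R)

theorem isReduced_of_smooth {k : Type u} [Field k] {X : Scheme.{u}}
    (f : X ⟶ Spec (CommRingCat.of k)) [Smooth f] : IsReduced X := by
  have h : ∀ x : X, ∃ (V : X.Opens) (_ : IsAffineOpen V), x ∈ V ∧ _root_.IsReduced Γ(X, V) := by
    intro x
    obtain ⟨U, hU, V, hV, hx, e, hf⟩ := Smooth.exists_isStandardSmooth f x
    have hUtop : U = ⊤ := by
      ext s
      simp only [Opens.coe_top, Set.mem_univ, iff_true]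
      exact Subsingleton.elim (f.base x) s ▸ e hx
    subst hUtop
    have : IsDomain Γ(Spec (CommRingCat.of k), ⊤) :=
      MulEquiv.isDomain k (Scheme.ΓSpecIso (CommRingCat.of k)).commRingCatIsoToRingEquiv.toMulEquiv
    exact ⟨V, hV, hx, isReduced_of_isStandardSmooth hf⟩
  choose V hV hx hred using h
  let 𝒰 := X.openCoverOfIsOpenCover V (IsOpenCover.mk (by
    ext x; simpa using ⟨x, hx x⟩))
  have : ∀ i, IsReduced (𝒰.X i) := fun i => by
    have : IsAffine (V i).toScheme := hV i
    have : _root_.IsReduced Γ((V i).toScheme, ⊤) := by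
      have := hred i
      exact isReduced_of_injective (V i).topIso.hom.hom
        (ConcreteCategory.bijective_of_isIso (V i).topIso.hom).1
    exact @isReduced_of_isAffine_isReduced (V i).toScheme ‹_› ‹_›
  exact IsReduced.of_openCover (X := X) 𝒰

theorem geometricallyReduced_of_smooth {k : Type u} [Field k] {X : Scheme.{u}}
    (f : X ⟶ Spec (CommRingCat.of k)) [Smooth f] : GeometricallyReduced f := by
  constructor
  intro K _ y Z fst snd h
  have : Smooth snd := MorphismProperty.of_isPullback h ‹Smooth f›
  exact isReduced_of_smooth snd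

end Groth.AlgGrp1
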