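import Groth.Agent.AlgGrp1.Basic
import Groth.Agent.AlgGrp1.SmoothReduced
import Mathlib.AlgebraicGeometry.Geometrically.Connected
import Mathlib.AlgebraicGeometry.Geometrically.Integral
import Mathlib.AlgebraicGeometry.AlgClosed.Basic
import Mathlib.FieldTheory.IsAlgClosed.AlgebraicClosure

/-!
# Geometric connectedness and irreducibility of group schemes over a field

A connected scheme locally of finite type over a field with a rational point is geometrically
connected.  A connected group scheme of finite type over a field is geometrically irreducible, and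
geometrically integral when it is smooth.
-/

universe u

open CategoryTheory Limits MonoidalCategory CartesianMonoidalCategory MonObj AlgebraicGeometry
  TopologicalSpace

namespace Groth.AlgGrp1

/-- If `q : Z → X` is open and surjective, `X` is connected and every nonempty open of `X` contains a
point with a one-point fibre, then `Z` is connected. -/
theorem connectedSpace_of_dense_singleton_fibres {Z X : Type*} [TopologicalSpace Z] [TopologicalSpace X]
    [ConnectedSpace X] (q : Z → X) (ho : IsOpenMap q) (hs : Function.Surjective q)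
    (hD : ∀ U : Set X, IsOpen U → U.Nonempty → ∃ x ∈ U, (q ⁻¹' {x}).Subsingleton) :
    ConnectedSpace Z := by
  have : Nonempty Z := (hs (Classical.arbitrary X)).nonempty
  refine connectedSpace_iff_clopen.2 ⟨‹_›, fun W hW => ?_⟩
  by_contra hne
  push Not at hne
  have h1 : (q '' W).Nonempty := (hne.1).image q
  have h2 : (q '' Wᶜ).Nonempty := (Set.nonempty_compl.2 hne.2).image q
  have hcov : Set.univ ⊆ q '' W ∪ q '' Wᶜ := by
    intro x _
    obtain ⟨z, rfl⟩ := hs x
    by_cases hz : z ∈ W
    · exact Or.inl ⟨z, hz, rfl⟩
    · exact Or.inr ⟨z, hz, rfl⟩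
  have h3 := isPreconnected_univ _ _ (ho _ hW.isOpen) (ho _ hW.compl.isOpen) hcov
    (by simpa using h1) (by simpa using h2)
  rw [Set.univ_inter] at h3
  obtain ⟨x, ⟨⟨a, ha, hax⟩, ⟨b, hb, hbx⟩⟩, hx⟩ :=
    hD _ ((ho _ hW.isOpen).inter (ho _ hW.compl.isOpen)) h3
  exact hb (hx hbx hax ▸ ha)

/-- If `q : Z → X` is open, closed, `X` is connected and one fibre is a point, then `Z` is connected. -/
theorem connectedSpace_of_open_closed {Z X : Type*} [TopologicalSpace Z] [TopologicalSpace X]
    [ConnectedSpace X] [Nonempty Z] (q : Z → X) (ho : IsOpenMap q) (hcl : IsClosedMap q)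
    (x : X) (hx : (q ⁻¹' {x}).Subsingleton) : ConnectedSpace Z := by
  refine connectedSpace_iff_clopen.2 ⟨‹_›, fun W hW => ?_⟩
  by_contra hne
  push Not at hne
  have key : ∀ V : Set Z, IsClopen V → V.Nonempty → ∃ a ∈ V, q a = x := by
    intro V hV hVne
    have := IsClopen.eq_univ (s := q '' V) ⟨hcl _ hV.isClosed, ho _ hV.isOpen⟩ (hVne.image q)
    have hx' : x ∈ q '' V := this ▸ Set.mem_univ x
    exact hx'
  obtain ⟨a, ha, hax⟩ := key W hW hne.1
  obtain ⟨b, hb, hbx⟩ := key Wᶜ hW.compl (Set.nonempty_compl.2 hne.2)
  exact hb (hx hbx hax ▸ ha)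

variable {k : Type u} [Field k]

/-- The fibre of `X ×ₖ K → X` over a rational point is a single point. -/
theorem subsingleton_preimage_of_point {X : Scheme.{u}} (f : X ⟶ Spec (CommRingCat.of k))
    {K : Type u} [Field K] (y : Spec (CommRingCat.of K) ⟶ Spec (CommRingCat.of k))
    (p : Spec (CommRingCat.of k) ⟶ X) (hp : p ≫ f = 𝟙 _) (t : ↥(Spec (CommRingCat.of k))) :
    ((pullback.fst f y).base ⁻¹' {p.base t}).Subsingleton := by
  have : Subsingleton ↥(pullback p (pullback.fst f y)) :=
    (pullbackRightPullbackFstIso f y p ≪≫ pullback.congrHom hp rfl ≪≫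
      asIso (pullback.snd (𝟙 _) y)).hom.homeomorph.injective.subsingleton
  refine Set.Subsingleton.anti (t := Set.range (pullback.snd p (pullback.fst f y)).base)
    (fun a ⟨u, hu⟩ b ⟨v, hv⟩ => by rw [← hu, ← hv, Subsingleton.elim u v]) ?_
  intro z hz
  have : z ∈ (pullback.fst f y).base ⁻¹' Set.range p.base := ⟨t, hz.symm⟩
  rwa [← Scheme.Pullback.range_snd] at this

/-- Auxiliary: connectedness of the base change to an algebraic extension. -/
theorem connectedSpace_pullback_of_isIntegral {X : Scheme.{u}} (f : X ⟶ Spec (CommRingCat.of k))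
    [ConnectedSpace X] {K : Type u} [Field K] [Algebra k K] [Algebra.IsAlgebraic k K]
    (p : Spec (CommRingCat.of k) ⟶ X) (hp : p ≫ f = 𝟙 _) :
    ConnectedSpace ↥(pullback f (Spec.map (CommRingCat.ofHom (algebraMap k K)))) := by
  set y := Spec.map (CommRingCat.ofHom (algebraMap k K))
  have : IsIntegralHom y := by
    rw [IsIntegralHom.SpecMap_iff]
    exact Algebra.IsIntegral.isIntegral
  have : Surjective y := ⟨fun _ => ⟨IsLocalRing.closedPoint K, Subsingleton.elim _ _⟩⟩
  have : Nonempty ↥(pullback f y) :=
    ((pullback.fst f y).surjective (Classical.arbitrary X)).nonempty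
  exact connectedSpace_of_open_closed (pullback.fst f y).base (pullback.fst f y).isOpenMap
    (pullback.fst f y).isClosedMap _ (subsingleton_preimage_of_point f y p hp (IsLocalRing.closedPoint k))

/-- A connected scheme locally of finite type over a field with a rational point is geometrically
connected. -/
theorem geometricallyConnected_of_point {X : Scheme.{u}} (f : X ⟶ Spec (CommRingCat.of k))
    [LocallyOfFiniteType f] [ConnectedSpace X] (p : Spec (CommRingCat.of k) ⟶ X) (hp : p ≫ f = 𝟙 _) :
    GeometricallyConnected f := by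
  refine ⟨(geometrically_iff_of_isClosedUnderIsomorphisms (P := fun S : Scheme => ConnectedSpace S)).mpr
    fun K _ y => ?_⟩
  obtain ⟨φ, rfl⟩ := Spec.map_surjective y
  let := φ.hom.toAlgebra
  let L := AlgebraicClosure K
  let : Algebra k L := ((algebraMap K L).comp φ.hom).toAlgebra
  let k' := AlgebraicClosure k
  let g : k' →ₐ[k] L := IsAlgClosed.lift
  set yL := Spec.map (CommRingCat.ofHom (algebraMap K L))
  set yk := Spec.map (CommRingCat.ofHom (algebraMap k k'))
  set yg := Spec.map (CommRingCat.ofHom g.toRingHom)
  have hg : yg ≫ yk = yL ≫ Spec.map φ := by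
    rw [← Spec.map_comp, ← Spec.map_comp]
    congr 1
    ext a
    exact g.commutes a
  -- the geometric base change
  have := connectedSpace_pullback_of_isIntegral f (K := k') p hp
  set Z := pullback f yk
  have : JacobsonSpace Z := LocallyOfFiniteType.jacobsonSpace (pullback.snd f yk)
  let W := pullback (pullback.snd f yk) yg
  let q : W ⟶ Z := pullback.fst _ _
  have : Surjective yg := ⟨fun _ => ⟨IsLocalRing.closedPoint L, Subsingleton.elim _ _⟩⟩
  have hW : ConnectedSpace W := by
    refine connectedSpace_of_dense_singleton_fibres q.base q.isOpenMap q.surjective ?_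
    intro U hU hne
    obtain ⟨x, hxU, hx⟩ := nonempty_inter_closedPoints hne hU.isLocallyClosed
    refine ⟨x, hxU, ?_⟩
    have h := subsingleton_preimage_of_point (pullback.snd f yk) yg
      (pointOfClosedPoint _ x hx) (pointOfClosedPoint_comp _ x hx) (IsLocalRing.closedPoint k')
    have hpt : (pointOfClosedPoint (pullback.snd f yk) x hx).base (IsLocalRing.closedPoint k') = x :=
      pointOfClosedPoint_apply _ _ _ _
    intro a ha b hb
    exact h (ha.trans hpt.symm) (hb.trans hpt.symm)
  let e : W ≅ pullback (pullback.snd f (Spec.map φ)) yL :=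
    pullbackLeftPullbackSndIso f yk yg ≪≫ pullback.congrHom rfl hg ≪≫
      (pullbackLeftPullbackSndIso f (Spec.map φ) yL).symm
  have : Surjective yL := ⟨fun _ => ⟨IsLocalRing.closedPoint L, Subsingleton.elim _ _⟩⟩
  exact (e.hom ≫ pullback.fst (pullback.snd f (Spec.map φ)) yL).surjective.connectedSpace
    (Scheme.Hom.continuous _)

/-- A connected group scheme of finite type over an algebraically closed field is irreducible. -/
theorem irreducibleSpace_of_isAlgClosed [IsAlgClosed k] (G : Over (Spec (CommRingCat.of k))) [GrpObj G]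
    [LocallyOfFiniteType G.hom] [QuasiCompact G.hom] [ConnectedSpace G.left] :
    IrreducibleSpace G.left := by
  have := LocallyOfFiniteType.jacobsonSpace G.hom
  have := isLocallyNoetherian_left G
  have : CompactSpace G.left := (quasiCompact_iff_compactSpace G.hom).mp inferInstance
  have : IsNoetherian G.left := ⟨⟩
  -- the group of rational points acts transitively on closed points by homeomorphisms
  have trans' : ∀ x y : G.left, IsClosed {x} → IsClosed {y} → ∃ φ : G.left ≃ₜ G.left, φ x = y := by
    intro x y hx hy
    let x' : 𝟙_ _ ⟶ G := Over.homMk _ ((pointEquivClosedPoint G.hom).symm ⟨x, hx⟩).2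
    let y' : 𝟙_ _ ⟶ G := Over.homMk _ ((pointEquivClosedPoint G.hom).symm ⟨y, hy⟩).2
    let α := (GrpObj.mulRight (A := G) x').symm ≪≫ GrpObj.mulRight (A := G) y'
    have hα : x' ≫ α.hom = y' := by
      dsimp only [Iso.trans_hom, Iso.symm_hom, α]
      rw [← Category.assoc, ← Iso.eq_comp_inv]
      simp [comp_lift_assoc]
    refine ⟨((Over.forget _).mapIso α).hom.homeomorph, ?_⟩
    have h := congr(($hα).left (IsLocalRing.closedPoint k))
    simp only [Over.comp_left, Scheme.Hom.comp_apply, x', y', Over.homMk_left] at h
    exact (congrArg α.hom.left.base (pointOfClosedPoint_apply G.hom x hx _)).symm.trans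
      (h.trans (pointOfClosedPoint_apply G.hom y hy _))
  obtain ⟨C, hC⟩ : (irreducibleComponents G.left).Nonempty := by
    obtain ⟨x⟩ := (inferInstance : Nonempty G.left)
    exact ⟨_, irreducibleComponent_mem_irreducibleComponents x⟩
  have hfin := NoetherianSpace.finite_irreducibleComponents (α := G.left)
  -- a closed point lying on a single component
  obtain ⟨x₀, hx₀C, hx₀, hx₀'⟩ : ∃ x, x ∈ C ∧ IsClosed {x} ∧
      ∀ D ∈ irreducibleComponents G.left, x ∈ D → D = C := by
    have hcl : IsClosed (⋃ D ∈ irreducibleComponents G.left \ {C}, D) :=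
      (hfin.sdiff).isClosed_biUnion fun D hD => isClosed_of_mem_irreducibleComponents _ hD.1
    have hne : (C ∩ (⋃ D ∈ irreducibleComponents G.left \ {C}, D)ᶜ).Nonempty := by
      by_contra hemp
      rw [Set.not_nonempty_iff_eq_empty, ← Set.sdiff_eq, Set.sdiff_eq_empty, ← Set.sUnion_eq_biUnion] at hemp
      obtain ⟨D, hD, hCD⟩ := isIrreducible_iff_sUnion_isClosed.mp hC.1
        hfin.sdiff.toFinset (fun D hD => isClosed_of_mem_irreducibleComponents _
          ((Set.Finite.mem_toFinset _).1 hD).1) (by simpa using hemp)
      rw [Set.Finite.mem_toFinset] at hD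
      exact hD.2 (le_antisymm (hC.2 hD.1.1 hCD) hCD)
    obtain ⟨x, hx, hxc⟩ := nonempty_inter_closedPoints hne
      ((isClosed_of_mem_irreducibleComponents _ hC).isLocallyClosed.inter hcl.isOpen_compl.isLocallyClosed)
    refine ⟨x, hx.1, hxc, fun D hD hxD => ?_⟩
    by_contra hDC
    exact hx.2 (Set.mem_biUnion ⟨hD, hDC⟩ hxD)
  -- hence every closed point lies on a single component
  have uniq : ∀ x, IsClosed {x} → ∀ D ∈ irreducibleComponents G.left, ∀ E ∈ irreducibleComponents G.left,
      x ∈ D → x ∈ E → D = E := by
    intro x hx D hD E hE hxD hxE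
    obtain ⟨φ, rfl⟩ := trans' x x₀ hx hx₀
    have him : ∀ D ∈ irreducibleComponents G.left, φ '' D ∈ irreducibleComponents G.left := by
      intro D hD
      refine ⟨hD.1.image φ φ.continuous.continuousOn, fun E hE hDE => ?_⟩
      have : φ.symm '' E ⊆ D := hD.2 (hE.image φ.symm φ.symm.continuous.continuousOn) (fun a ha =>
        ⟨φ a, hDE ⟨a, ha, rfl⟩, φ.symm_apply_apply a⟩)
      exact fun e he => ⟨φ.symm e, this ⟨e, he, rfl⟩, φ.apply_symm_apply e⟩
    have e1 := hx₀' _ (him D hD) ⟨x, hxD, rfl⟩
    have e2 := hx₀' _ (him E hE) ⟨x, hxE, rfl⟩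
    exact φ.injective.image_injective (e1.trans e2.symm)
  have hopen : IsOpen C := by
    have : C = (⋃ D ∈ irreducibleComponents G.left \ {C}, D)ᶜ := by
      ext x
      refine ⟨fun hx hx' => ?_, fun hx => ?_⟩
      · simp only [Set.mem_iUnion] at hx'
        obtain ⟨D, hD, hxD⟩ := hx'
        have hcl := (isClosed_of_mem_irreducibleComponents _ hC).inter
          (isClosed_of_mem_irreducibleComponents _ hD.1)
        obtain ⟨z, hz, hzc⟩ := nonempty_inter_closedPoints (⟨x, hx, hxD⟩ : (C ∩ D).Nonempty) hcl.isLocallyClosed
        exact hD.2 (uniq z hzc D hD.1 C hC hz.2 hz.1)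
      · by_contra hxC
        exact hx (Set.mem_biUnion (x := irreducibleComponent x) ⟨irreducibleComponent_mem_irreducibleComponents x,
          fun h => hxC (by rw [← (h : irreducibleComponent x = C)]; exact mem_irreducibleComponent)⟩
          mem_irreducibleComponent)
    rw [this]
    exact ((hfin.sdiff).isClosed_biUnion fun D hD => isClosed_of_mem_irreducibleComponents _ hD.1).isOpen_compl
  have hclopen : IsClopen C := ⟨isClosed_of_mem_irreducibleComponents _ hC, hopen⟩
  have := hclopen.eq_univ hC.1.nonempty
  rw [irreducibleSpace_def]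
  change IsIrreducible (Set.univ : Set G.left)
  rw [← this]
  exact hC.1

/-- A connected group scheme of finite type over a field is geometrically irreducible. -/
theorem geometricallyIrreducible_of_connected (G : Over (Spec (CommRingCat.of k))) [GrpObj G]
    [LocallyOfFiniteType G.hom] [QuasiCompact G.hom] [ConnectedSpace G.left] :
    GeometricallyIrreducible G.hom := by
  have := geometricallyConnected_of_point G.hom η[G].left (Over.w η[G])
  refine ⟨(geometrically_iff_of_isClosedUnderIsomorphisms (P := fun S : Scheme => IrreducibleSpace S)).mpr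
    fun K _ y => ?_⟩
  let L := AlgebraicClosure K
  let yL : Spec (CommRingCat.of L) ⟶ Spec (CommRingCat.of K) := Spec.map (CommRingCat.ofHom (algebraMap K L))
  let : GrpObj (Over.mk G.hom) := ‹GrpObj G›
  let : GrpObj (Over.mk (pullback.snd G.hom y)) := Over.grpObjMkPullbackSnd
  let : GrpObj (Over.mk (pullback.snd (pullback.snd G.hom y) yL)) := Over.grpObjMkPullbackSnd
  have : LocallyOfFiniteType (Over.mk (pullback.snd (pullback.snd G.hom y) yL)).hom :=
    inferInstanceAs (LocallyOfFiniteType (pullback.snd _ _))
  have : QuasiCompact (Over.mk (pullback.snd (pullback.snd G.hom y) yL)).hom :=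
    inferInstanceAs (QuasiCompact (pullback.snd _ _))
  have : ConnectedSpace (Over.mk (pullback.snd (pullback.snd G.hom y) yL)).left :=
    inferInstanceAs (ConnectedSpace ↥(pullback (pullback.snd G.hom y) yL))
  have hirr := irreducibleSpace_of_isAlgClosed (Over.mk (pullback.snd (pullback.snd G.hom y) yL))
  have : Surjective yL := ⟨fun _ => ⟨IsLocalRing.closedPoint L, Subsingleton.elim _ _⟩⟩
  have : IrreducibleSpace ↥(pullback (pullback.snd G.hom y) yL) := hirr
  set q := pullback.fst (pullback.snd G.hom y) yL
  rw [irreducibleSpace_def]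
  change IsIrreducible (Set.univ : Set ↥(pullback G.hom y))
  rw [← q.surjective.range_eq, ← Set.image_univ]
  exact (IrreducibleSpace.isIrreducible_univ _).image _ q.continuous.continuousOn

theorem irreducibleSpace_of_connected (G : Over (Spec (CommRingCat.of k))) [GrpObj G]
    [LocallyOfFiniteType G.hom] [QuasiCompact G.hom] [ConnectedSpace G.left] :
    IrreducibleSpace G.left :=
  have := geometricallyIrreducible_of_connected G
  GeometricallyIrreducible.irreducibleSpace_of_subsingleton G.hom

/-- A smooth connected group scheme of finite type over a field is geometrically integral. -/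
theorem geometricallyIntegral_of_smooth (G : Over (Spec (CommRingCat.of k))) [GrpObj G]
    [Smooth G.hom] [QuasiCompact G.hom] [ConnectedSpace G.left] :
    GeometricallyIntegral G.hom :=
  have := geometricallyIrreducible_of_connected G
  have := geometricallyReduced_of_smooth G.hom
  GeometricallyIntegral.of_geometricallyReduced_of_geometricallyIrreducible G.hom

theorem isIntegral_of_smooth (G : Over (Spec (CommRingCat.of k))) [GrpObj G]
    [Smooth G.hom] [QuasiCompact G.hom] [ConnectedSpace G.left] :
    IsIntegral G.left :=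
  have := geometricallyIntegral_of_smooth G
  GeometricallyIntegral.isIntegral_of_subsingleton G.hom

end Groth.AlgGrp1
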