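import Groth.Agent.AlgGrp1.Points
import Groth.Agent.SpectralTopology.Constructible
import Mathlib.AlgebraicGeometry.Geometrically.Irreducible

/-!
# Points with values in an algebraically closed extension, and open subsets
-/

universe u

open CategoryTheory Limits MonoidalCategory CartesianMonoidalCategory MonObj AlgebraicGeometry
  TopologicalSpace

namespace Groth.AlgGrp1

variable {k : Type u} [Field k] {K : Type u} [Field K] [Algebra k K]

/-- The image of a `K`-point. -/
noncomputable abbrev ptOf {X : Over (Spec (CommRingCat.of k))} (x : specAlg k K ⟶ X) : X.left :=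
  x.left.base (IsLocalRing.closedPoint K)

theorem ptOf_comp {X Y : Over (Spec (CommRingCat.of k))} (x : specAlg k K ⟶ X) (f : X ⟶ Y) :
    ptOf (x ≫ f) = f.left.base (ptOf x) := rfl

variable [IsAlgClosed K]

/-- A `K`-point of the target whose image lies in the image of an open lifts into that open. -/
theorem exists_point_lift {X Y : Over (Spec (CommRingCat.of k))} [LocallyOfFiniteType X.hom]
    (f : X ⟶ Y) (y : specAlg k K ⟶ Y) (O : X.left.Opens) (h : ptOf y ∈ f.left.base '' (O : Set X.left)) :
    ∃ x : specAlg k K ⟶ X, x ≫ f = y ∧ ptOf x ∈ O := by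
  have : LocallyOfFiniteType (f.left ≫ Y.hom) := by rw [Over.w]; infer_instance
  have : LocallyOfFiniteType f.left := locallyOfFiniteType_of_comp _ Y.hom
  let g : pullback f.left y.left ⟶ Spec (CommRingCat.of K) := pullback.snd f.left y.left
  have : LocallyOfFiniteType g := MorphismProperty.pullback_snd _ _ inferInstance
  have : JacobsonSpace ↥(pullback f.left y.left) := LocallyOfFiniteType.jacobsonSpace g
  obtain ⟨a, ha, hay⟩ := h
  obtain ⟨q, hq, -⟩ := Scheme.Pullback.exists_preimage_pullback (f := f.left) (g := y.left) a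
    (IsLocalRing.closedPoint K) hay
  obtain ⟨p, hpO, hp⟩ := nonempty_inter_closedPoints
    (Z := (pullback.fst f.left y.left).base ⁻¹' (O : Set X.left)) ⟨q, by rw [Set.mem_preimage, hq]; exact ha⟩
    ((O.2.preimage (pullback.fst f.left y.left).continuous).isLocallyClosed)
  let s : Spec (CommRingCat.of K) ⟶ X.left := pointOfClosedPoint g p hp ≫ pullback.fst f.left y.left
  have hs : s ≫ f.left = y.left := by
    show (pointOfClosedPoint g p hp ≫ pullback.fst f.left y.left) ≫ f.left = _
    rw [Category.assoc, pullback.condition]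
    exact (Category.assoc _ _ _).symm.trans
      ((congrArg (· ≫ y.left) (pointOfClosedPoint_comp g p hp)).trans (Category.id_comp _))
  refine ⟨Over.homMk s (by rw [← Over.w f, ← Category.assoc, hs, Over.w y]), Over.OverMorphism.ext hs, ?_⟩
  show (pullback.fst f.left y.left).base ((pointOfClosedPoint g p hp).base _) ∈ O
  rw [pointOfClosedPoint_apply g p hp]
  exact hpO

/-- Every nonempty open contains a `K`-point. -/
theorem exists_point_mem_open {X : Over (Spec (CommRingCat.of k))} [LocallyOfFiniteType X.hom]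
    (U : Set X.left) (hU : IsOpen U) (hne : U.Nonempty) : ∃ x : specAlg k K ⟶ X, ptOf x ∈ U := by
  have := LocallyOfFiniteType.jacobsonSpace X.hom
  obtain ⟨p, hp, hpc⟩ := nonempty_inter_closedPoints hne hU.isLocallyClosed
  obtain ⟨x, hx⟩ := exists_point_over_closed K X p hpc
  exact ⟨x, show x.left.base _ ∈ U from hx.symm ▸ hp⟩

/-- A set containing every `K`-point is everything as soon as its complement is locally closed. -/
theorem eq_univ_of_points {X : Over (Spec (CommRingCat.of k))} [LocallyOfFiniteType X.hom]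
    {S : Set X.left} (hS : Topology.IsConstructible S)
    (h : ∀ x : specAlg k K ⟶ X, ptOf x ∈ S) : S = Set.univ := by
  refine Set.eq_univ_of_forall fun z => ?_
  by_contra hz
  obtain ⟨n, Z, hZ, he⟩ := Groth.SpectralTopology.exists_isLocallyClosed_pieces hS.compl
  obtain ⟨i, hi⟩ := Set.mem_iUnion.1 (he ▸ hz : z ∈ ⋃ i, Z i)
  have := LocallyOfFiniteType.jacobsonSpace X.hom
  obtain ⟨c, hc, hcc⟩ := nonempty_inter_closedPoints ⟨z, hi⟩ (hZ i)
  obtain ⟨x, hx⟩ := exists_point_over_closed K X c hcc
  exact (he ▸ Set.mem_iUnion.2 ⟨i, hc⟩ : c ∈ Sᶜ) (hx ▸ h x)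

/-- Two open sets with the same `K`-points are nested. -/
theorem subset_of_points {X : Over (Spec (CommRingCat.of k))} [LocallyOfFiniteType X.hom]
    {U : Set X.left} (V : Set X.left) (hU : IsLocallyClosed U) (hV : IsOpen V)
    (h : ∀ x : specAlg k K ⟶ X, ptOf x ∈ U → ptOf x ∈ V) : U ⊆ V := by
  intro z hz
  by_contra hzV
  have := LocallyOfFiniteType.jacobsonSpace X.hom
  obtain ⟨c, ⟨hcU, hcV⟩, hcc⟩ := nonempty_inter_closedPoints (Z := U ∩ Vᶜ) ⟨z, hz, hzV⟩
    (hU.inter hV.isClosed_compl.isLocallyClosed)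
  obtain ⟨x, hx⟩ := exists_point_over_closed K X c hcc
  exact hcV (hx ▸ h x (show x.left.base _ ∈ U from hx.symm ▸ hcU))

/-- Two slices of an open subset of a product with geometrically irreducible second factor meet. -/
theorem exists_common_slice {A B : Over (Spec (CommRingCat.of k))} [LocallyOfFiniteType B.hom]
    [GeometricallyIrreducible B.hom] (W : (A ⊗ B).left.Opens) (x x' : specAlg k K ⟶ A)
    (z₀ z₀' : specAlg k K ⟶ B) (h : ptOf (lift x z₀) ∈ W) (h' : ptOf (lift x' z₀') ∈ W) :
    ∃ z : specAlg k K ⟶ B, ptOf (lift x z) ∈ W ∧ ptOf (lift x' z) ∈ W := by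
  let P := B ⊗ specAlg k K
  let u : (specAlg k K ⟶ A) → (P ⟶ A ⊗ B) := fun y => lift (snd B (specAlg k K) ≫ y) (fst B (specAlg k K))
  have hu : ∀ (y : specAlg k K ⟶ A) (z : specAlg k K ⟶ B), lift z (𝟙 _) ≫ u y = lift y z := fun y z => by
    simp [u, comp_lift]
  have : IrreducibleSpace (specAlg k K).left := inferInstanceAs (IrreducibleSpace (Spec (CommRingCat.of K)))
  have : IrreducibleSpace P.left :=
    inferInstanceAs (IrreducibleSpace ↥(pullback B.hom (specAlg k K).hom))
  have hne : ∀ (y : specAlg k K ⟶ A) (z : specAlg k K ⟶ B), ptOf (lift y z) ∈ W →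
      ((u y).left.base ⁻¹' (W : Set (A ⊗ B).left)).Nonempty := fun y z hz =>
    ⟨ptOf (lift z (𝟙 _)), show (u y).left.base (ptOf _) ∈ W by rw [← ptOf_comp, hu]; exact hz⟩
  obtain ⟨q, hq⟩ := (PreirreducibleSpace.isPreirreducible_univ (X := P.left)) _ _
    (W.2.preimage (u x).left.continuous) (W.2.preimage (u x').left.continuous)
    (by simpa using hne x z₀ h) (by simpa using hne x' z₀' h')
  have : LocallyOfFiniteType (pullback.snd B.hom (specAlg k K).hom) :=
    MorphismProperty.pullback_snd _ _ inferInstance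
  let g : P.left ⟶ Spec (CommRingCat.of K) := pullback.snd B.hom (specAlg k K).hom
  have : JacobsonSpace P.left := LocallyOfFiniteType.jacobsonSpace g
  obtain ⟨p, ⟨hp1, hp2⟩, hp⟩ := nonempty_inter_closedPoints
    (Z := (u x).left.base ⁻¹' (W : Set (A ⊗ B).left) ∩ (u x').left.base ⁻¹' (W : Set (A ⊗ B).left))
    ⟨q, hq.2⟩ (((W.2.preimage (u x).left.continuous).inter (W.2.preimage (u x').left.continuous)).isLocallyClosed)
  let s : specAlg k K ⟶ P := Over.homMk (pointOfClosedPoint g p hp) (by
    show pointOfClosedPoint g p hp ≫ pullback.fst B.hom (specAlg k K).hom ≫ B.hom = _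
    rw [pullback.condition]
    exact (Category.assoc _ _ _).symm.trans
      ((congrArg (· ≫ (specAlg k K).hom) (pointOfClosedPoint_comp g p hp)).trans (Category.id_comp _)))
  have hs : s ≫ snd B (specAlg k K) = 𝟙 _ := Over.OverMorphism.ext (pointOfClosedPoint_comp g p hp)
  have hsp : ptOf s = p := pointOfClosedPoint_apply g p hp _
  refine ⟨s ≫ fst B (specAlg k K), ?_, ?_⟩
  · have : s ≫ u x = lift x (s ≫ fst B (specAlg k K)) := by
      simp [u, comp_lift, reassoc_of% hs]
    rw [← this, ptOf_comp, hsp]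
    exact hp1
  · have : s ≫ u x' = lift x' (s ≫ fst B (specAlg k K)) := by
      simp [u, comp_lift, reassoc_of% hs]
    rw [← this, ptOf_comp, hsp]
    exact hp2

end Groth.AlgGrp1
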