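import Groth.Agent.AlgGrp1.Basic

/-!
# Morphisms with `O_Y = f_* O_X`: base change and descent of morphisms
-/

universe u

open CategoryTheory Limits AlgebraicGeometry TopologicalSpace

namespace Groth.AlgGrp1

variable {X Y : Scheme.{u}}

/-- The opens on which `f` induces an isomorphism of sections contain a basis of affine opens. -/
def PushIso (f : X ⟶ Y) : Prop :=
  ∀ (O : Y.Opens) (y : Y), y ∈ O → ∃ B : Y.Opens, IsAffineOpen B ∧ y ∈ B ∧ B ≤ O ∧ IsIso (f.app B)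

theorem pushIso_of_isIso_app {f : X ⟶ Y} (h : ∀ U : Y.Opens, IsAffineOpen U → IsIso (f.app U)) :
    PushIso f := fun O y hy => by
  obtain ⟨_, ⟨B, hB, rfl⟩, hyB, hBO⟩ := Y.isBasis_affineOpens.exists_subset_of_mem_open hy O.2
  exact ⟨B, hB, hyB, hBO, h B hB⟩

theorem PushIso.dense_range {f : X ⟶ Y} (hf : PushIso f) : DenseRange f.base := by
  intro y
  rw [mem_closure_iff]
  intro o ho hy
  obtain ⟨B, hB, hyB, hBO, hiso⟩ := hf ⟨o, ho⟩ y hy
  by_contra hne
  have hemp : f ⁻¹ᵁ B = ⊥ := SetLike.ext' (Set.eq_empty_iff_forall_notMem.2 fun x hx =>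
    hne ⟨f.base x, hBO hx, x, rfl⟩)
  have : Subsingleton Γ(X, f ⁻¹ᵁ B) :=
    CommRingCat.subsingleton_of_isTerminal (X.sheaf.isTerminalOfEqEmpty hemp)
  have : Subsingleton Γ(Y, B) :=
    (asIso (f.app B)).commRingCatIsoToRingEquiv.toEquiv.subsingleton
  have h0 := congrArg (Y.presheaf.germ B y hyB).hom (Subsingleton.elim (1 : Γ(Y, B)) 0)
  rw [map_one, map_zero] at h0
  exact one_ne_zero h0

theorem PushIso.surjective {f : X ⟶ Y} (hf : PushIso f) [UniversallyClosed f] : Surjective f := by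
  refine ⟨fun y => ?_⟩
  have h := hf.dense_range y
  rwa [f.isClosedMap.isClosed_range.closure_eq] at h

/-- Flat base change of the sections over an affine open. -/
theorem isIso_app_baseChange {T P : Scheme.{u}} {f : X ⟶ Y} {q : T ⟶ Y} {g : P ⟶ X} {iY : P ⟶ T}
    (H : IsPullback g iY f q) [Flat q] [QuasiCompact f] [QuasiSeparated f]
    {U : Y.Opens} (hU : IsAffineOpen U) [IsIso (f.app U)] {B : T.Opens} (hB : IsAffineOpen B)
    (hBU : B ≤ q ⁻¹ᵁ U) : IsIso (iY.app B) := by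
  have hle : iY ⁻¹ᵁ B ≤ g ⁻¹ᵁ (f ⁻¹ᵁ U) := by
    intro p hp
    show f.base (g.base p) ∈ U
    have h : f.base (g.base p) = q.base (iY.base p) := congr(($(H.w)).base p)
    rw [h]
    exact hBU hp
  have hiso := isIso_pushoutSection_of_isQuasiSeparated_of_flat_right H (US := U) (UT := B)
    (UX := f ⁻¹ᵁ U) (hUST := hBU) (hUSX := le_rfl) (UY := iY ⁻¹ᵁ B) (inf_eq_right.2 hle).symm hU hB
    (f.isCompact_preimage hU.isCompact) (f.isQuasiSeparated_preimage hU.isQuasiSeparated)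
  have hpo := (isIso_pushoutSection_iff H _ _ _).1 hiso
  have : IsIso (f.appLE U (f ⁻¹ᵁ U) le_rfl) := by
    rw [Scheme.Hom.appLE_eq_app]; infer_instance
  have h := hpo.isIso_inr_of_isIso
  rw [← Scheme.Hom.appLE_eq_app]
  exact h

/-- Flat base change. -/
theorem PushIso.baseChange {T P : Scheme.{u}} {f : X ⟶ Y} {q : T ⟶ Y} {g : P ⟶ X} {iY : P ⟶ T}
    (H : IsPullback g iY f q) [Flat q] [QuasiCompact f] [QuasiSeparated f]
    (hf : ∀ U : Y.Opens, IsAffineOpen U → IsIso (f.app U)) : PushIso iY := by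
  intro O t ht
  obtain ⟨_, ⟨U, hU, rfl⟩, htU, -⟩ :=
    Y.isBasis_affineOpens.exists_subset_of_mem_open (Set.mem_univ (q.base t)) isOpen_univ
  obtain ⟨_, ⟨B, hB, rfl⟩, htB, hBO⟩ := T.isBasis_affineOpens.exists_subset_of_mem_open
    (show t ∈ O ⊓ q ⁻¹ᵁ U from ⟨ht, htU⟩) (O ⊓ q ⁻¹ᵁ U).2
  have := hf U hU
  exact ⟨B, hB, htB, fun x hx => (hBO hx).1, isIso_app_baseChange H hU hB fun x hx => (hBO hx).2⟩

theorem isIso_app_restrict (f : X ⟶ Y) (U : Y.Opens) (V : U.toScheme.Opens)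
    (hV : IsIso (f.app (U.ι ''ᵁ V))) : IsIso ((f ∣_ U).app V) := by
  have : IsIso (X.presheaf.map (eqToHom (image_morphismRestrict_preimage f U V)).op) :=
    inferInstance
  rw [morphismRestrict_app]
  exact @IsIso.comp_isIso _ _ _ _ _ _ _ hV this

theorem isIso_appTop_restrict (f : X ⟶ Y) (B : Y.Opens) [IsIso (f.app B)] :
    IsIso (f ∣_ B).appTop := by
  have : IsIso (f.app (B.ι ''ᵁ ⊤)) := by rw [Scheme.Opens.ι_image_top]; infer_instance
  exact isIso_app_restrict f B ⊤ this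

theorem PushIso.restrict {f : X ⟶ Y} (hf : PushIso f) (U : Y.Opens) : PushIso (f ∣_ U) := by
  intro O y hy
  obtain ⟨B, hB, hyB, hBO, hiso⟩ := hf (U.ι ''ᵁ O) (U.ι.base y) ⟨y, hy, rfl⟩
  have e : U.ι ''ᵁ (U.ι ⁻¹ᵁ B) = B := by
    rw [Scheme.Hom.image_preimage_eq_opensRange_inf, Scheme.Opens.opensRange_ι, inf_eq_right]
    exact hBO.trans ((U.ι.image_le_opensRange O).trans_eq U.opensRange_ι)
  refine ⟨U.ι ⁻¹ᵁ B, ?_, hyB, ?_, ?_⟩
  · rw [← Scheme.Hom.isAffineOpen_iff_of_isOpenImmersion U.ι, e]; exact hB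
  · intro z hz
    obtain ⟨z', hz', h⟩ := hBO hz
    rwa [← U.ι.isOpenEmbedding.injective h]
  · have : IsIso (f.app (U.ι ''ᵁ (U.ι ⁻¹ᵁ B))) := by rw [e]; exact hiso
    exact isIso_app_restrict f U _ this

theorem pushIso_ext_affine {f : X ⟶ Y} {W : Scheme.{u}} [IsAffine W] (B : Y.Opens) [IsIso (f.app B)]
    (b c : B.toScheme ⟶ W) (h : (f ∣_ B) ≫ b = (f ∣_ B) ≫ c) : b = c := by
  have : IsIso (f ∣_ B).appTop := by
    exact isIso_appTop_restrict f B
  apply ext_of_isAffine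
  rw [← cancel_mono (f ∣_ B).appTop, ← Scheme.Hom.comp_appTop, ← Scheme.Hom.comp_appTop, h]

/-- A surjective morphism with `O_Y = f_* O_X` is an epimorphism. -/
theorem PushIso.cancel {f : X ⟶ Y} (hf : PushIso f) [Surjective f] {W : Scheme.{u}} (b c : Y ⟶ W)
    (h : f ≫ b = f ≫ c) : b = c := by
  have hbase : ∀ y, b.base y = c.base y := fun y => by
    obtain ⟨x, rfl⟩ := f.surjective y
    exact congr(($h).base x)
  have key : ∀ y : Y, ∃ (B : Y.Opens), y ∈ B ∧ B.ι ≫ b = B.ι ≫ c := by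
    intro y
    obtain ⟨_, ⟨V, hV, rfl⟩, hyV, -⟩ :=
      W.isBasis_affineOpens.exists_subset_of_mem_open (Set.mem_univ (b.base y)) isOpen_univ
    obtain ⟨B, hB, hyB, hBV, hiso⟩ := hf (b ⁻¹ᵁ V) y hyV
    have : IsAffine (Scheme.Opens.toScheme V) := hV
    refine ⟨B, hyB, ?_⟩
    have hb : Set.range (B.ι ≫ b).base ⊆ Set.range (Scheme.Opens.ι V).base := by
      rw [Scheme.Opens.range_ι]
      rintro _ ⟨z, rfl⟩
      exact hBV z.2
    have hc : Set.range (B.ι ≫ c).base ⊆ Set.range (Scheme.Opens.ι V).base := by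
      rw [Scheme.Opens.range_ι]
      rintro _ ⟨z, rfl⟩
      show c.base _ ∈ (V : Set W)
      rw [← hbase]
      exact hBV z.2
    have := pushIso_ext_affine (f := f) B (IsOpenImmersion.lift (Scheme.Opens.ι V) (B.ι ≫ b) hb)
      (IsOpenImmersion.lift (Scheme.Opens.ι V) (B.ι ≫ c) hc) (by
        rw [← cancel_mono (Scheme.Opens.ι V)]
        simp only [Category.assoc, IsOpenImmersion.lift_fac, morphismRestrict_ι_assoc, h])
    rw [← IsOpenImmersion.lift_fac (Scheme.Opens.ι V) (B.ι ≫ b) hb, this, IsOpenImmersion.lift_fac]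
  choose B hB heq using key
  exact (Scheme.openCoverOfIsOpenCover Y B (TopologicalSpace.IsOpenCover.mk
    (eq_top_iff.2 fun y _ => Opens.mem_iSup.2 ⟨y, hB y⟩))).hom_ext _ _ heq

/-- A morphism constant on the fibres of `f` descends along a closed surjection with `O_Y = f_* O_X`. -/
theorem PushIso.exists_desc {f : X ⟶ Y} (hf : PushIso f) [Surjective f] [UniversallyClosed f]
    {W : Scheme.{u}} (h : X ⟶ W) (hfib : ∀ x x', f.base x = f.base x' → h.base x = h.base x') :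
    ∃ b : Y ⟶ W, f ≫ b = h := by
  obtain ⟨β, hβ⟩ : ∃ β : Y → W, β ∘ f.base = h.base := by
    choose s hs using f.surjective
    exact ⟨fun y => h.base (s y), funext fun x => hfib _ _ (hs _)⟩
  have hβc : Continuous β :=
    (f.isClosedMap.isQuotientMap f.continuous f.surjective).continuous_iff.2 (hβ ▸ h.continuous)
  have key : ∀ y : Y, ∃ (B : Y.Opens), y ∈ B ∧ ∃ b : B.toScheme ⟶ W, (f ∣_ B) ≫ b = (f ⁻¹ᵁ B).ι ≫ h := by
    intro y
    obtain ⟨_, ⟨V, hV, rfl⟩, hyV, -⟩ :=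
      W.isBasis_affineOpens.exists_subset_of_mem_open (Set.mem_univ (β y)) isOpen_univ
    obtain ⟨B, hB, hyB, hBV, hiso⟩ := hf ⟨β ⁻¹' V, V.2.preimage hβc⟩ y hyV
    have : IsAffine (Scheme.Opens.toScheme V) := hV
    have hr : Set.range ((f ⁻¹ᵁ B).ι ≫ h).base ⊆ Set.range (Scheme.Opens.ι V).base := by
      rw [Scheme.Opens.range_ι]
      rintro _ ⟨z, rfl⟩
      show h.base _ ∈ (V : Set W)
      rw [← hβ]
      exact hBV z.2
    let hV' := IsOpenImmersion.lift (Scheme.Opens.ι V) ((f ⁻¹ᵁ B).ι ≫ h) hr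
    have hB' : IsAffine B.toScheme := hB
    have : IsIso (f ∣_ B).appTop := isIso_appTop_restrict f B
    let bb : B.toScheme ⟶ (Scheme.Opens.toScheme V) := B.toScheme.isoSpec.hom ≫
      Spec.map (hV'.appTop ≫ inv (f ∣_ B).appTop) ≫ (Scheme.Opens.toScheme V).isoSpec.inv
    have happ : bb.appTop = hV'.appTop ≫ inv (f ∣_ B).appTop := by
      apply Spec.map_injective
      have := Scheme.isoSpec_hom_naturality bb
      rw [← cancel_epi B.toScheme.isoSpec.hom, this]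
      simp [bb]
    have hbb : (f ∣_ B) ≫ bb = hV' := by
      apply ext_of_isAffine
      rw [Scheme.Hom.comp_appTop, happ, Category.assoc, IsIso.inv_hom_id, Category.comp_id]
    exact ⟨B, hyB, bb ≫ (Scheme.Opens.ι V), by rw [← Category.assoc, hbb, IsOpenImmersion.lift_fac]⟩
  choose B hB b hb using key
  have hcov : TopologicalSpace.IsOpenCover B := TopologicalSpace.IsOpenCover.mk
    (eq_top_iff.2 fun y _ => Opens.mem_iSup.2 ⟨y, hB y⟩)
  let 𝒰 := Scheme.openCoverOfIsOpenCover Y B hcov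
  have agree : ∀ i j, pullback.fst (𝒰.f i) (𝒰.f j) ≫ b i = pullback.snd (𝒰.f i) (𝒰.f j) ≫ b j := by
    intro i j
    let g := pullback.fst (B i).ι (B j).ι ≫ (B i).ι
    let O := g.opensRange
    let e := g.isoOpensRange
    have hu : ∀ (l : Y) (v : pullback (B i).ι (B j).ι ⟶ (B l).toScheme), v ≫ (B l).ι = g →
        (f ∣_ O) ≫ e.inv ≫ v ≫ b l = (f ⁻¹ᵁ O).ι ≫ h := by
      intro l v hv
      have hw : (f ∣_ O) ≫ e.inv ≫ v ≫ (B l).ι = (f ⁻¹ᵁ O).ι ≫ f := by
        rw [hv, ← morphismRestrict_ι]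
        congr 1
        exact g.isoOpensRange_inv_comp
      let w := (isPullback_morphismRestrict f (B l)).lift ((f ∣_ O) ≫ e.inv ≫ v) (f ⁻¹ᵁ O).ι
        (by simpa only [Category.assoc] using hw)
      have w1 : w ≫ (f ∣_ B l) = (f ∣_ O) ≫ e.inv ≫ v := IsPullback.lift_fst _ _ _ _
      have w2 : w ≫ (f ⁻¹ᵁ B l).ι = (f ⁻¹ᵁ O).ι := IsPullback.lift_snd _ _ _ _
      rw [← w2, Category.assoc, ← hb l, ← Category.assoc w, w1]
      simp only [Category.assoc]
    have hs : Surjective (f ∣_ O) := MorphismProperty.of_isPullback (isPullback_morphismRestrict f O).flip ‹Surjective f›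
    have hc := (hf.restrict O).cancel (e.inv ≫ pullback.fst (B i).ι (B j).ι ≫ b i)
      (e.inv ≫ pullback.snd (B i).ι (B j).ι ≫ b j)
      ((hu i _ rfl).trans (hu j _ pullback.condition.symm).symm)
    rwa [cancel_epi] at hc
  refine ⟨𝒰.glueMorphisms b agree, ?_⟩
  have hcovX : TopologicalSpace.IsOpenCover (fun i => f ⁻¹ᵁ B i) := TopologicalSpace.IsOpenCover.mk
    (eq_top_iff.2 fun x _ => Opens.mem_iSup.2 ⟨f.base x, hB (f.base x)⟩)
  refine (Scheme.openCoverOfIsOpenCover X _ hcovX).hom_ext _ _ fun i => ?_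
  show (f ⁻¹ᵁ B i).ι ≫ f ≫ 𝒰.glueMorphisms b agree = (f ⁻¹ᵁ B i).ι ≫ h
  rw [← hb i, ← morphismRestrict_ι_assoc]
  exact congrArg ((f ∣_ B i) ≫ ·) (Scheme.Cover.ι_glueMorphisms 𝒰 b agree i)

end Groth.AlgGrp1
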