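import Groth.Agent.AlgGrp1.Rigidity
import Groth.Agent.AlgGrp1.Geom
import Groth.Agent.AlgGrp1.PushIso

/-!
# Blanchard's lemma

An action of a connected group scheme of finite type on `X` descends along a proper morphism
`f : X → Y` to a separated scheme with `O_Y = f_* O_X`.
-/

universe u

open CategoryTheory Limits MonoidalCategory CartesianMonoidalCategory MonObj AlgebraicGeometry
  TopologicalSpace

namespace Groth.AlgGrp1

section General

variable {S : Scheme.{u}} {X Y : Over S}

theorem isPullback_whiskerLeft (T : Over S) (f : X ⟶ Y) :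
    IsPullback (snd T X).left (T ◁ f).left f.left (snd T Y).left := by
  have h1 : (T ◁ f).left ≫ pullback.fst T.hom Y.hom = pullback.fst T.hom X.hom :=
    Over.whiskerLeft_left_fst f
  have h2 : (T ◁ f).left ≫ pullback.snd T.hom Y.hom = pullback.snd T.hom X.hom ≫ f.left :=
    Over.whiskerLeft_left_snd f
  have outer : IsPullback ((T ◁ f).left ≫ pullback.fst T.hom Y.hom) (pullback.snd T.hom X.hom)
      T.hom (f.left ≫ Y.hom) := by
    rw [h1, Over.w f]
    exact IsPullback.of_hasPullback T.hom X.hom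
  exact (IsPullback.of_right outer h2 (IsPullback.of_hasPullback T.hom Y.hom)).flip

theorem isPullback_whiskerRight (f : X ⟶ Y) (T : Over S) :
    IsPullback (fst X T).left (f ▷ T).left f.left (fst Y T).left := by
  have h1 : (f ▷ T).left ≫ pullback.fst Y.hom T.hom = pullback.fst X.hom T.hom ≫ f.left :=
    Over.whiskerRight_left_fst f
  have h2 : (f ▷ T).left ≫ pullback.snd Y.hom T.hom = pullback.snd X.hom T.hom :=
    Over.whiskerRight_left_snd f
  have outer : IsPullback ((f ▷ T).left ≫ pullback.snd Y.hom T.hom) (pullback.fst X.hom T.hom)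
      T.hom (f.left ≫ Y.hom) := by
    rw [h2, Over.w f]
    exact (IsPullback.of_hasPullback X.hom T.hom).flip
  exact (IsPullback.of_right outer h1 (IsPullback.of_hasPullback Y.hom T.hom).flip).flip

/-- The fibre product `X ×_Y X` as a scheme over `S`, with its two projections. -/
theorem exists_fibreSquare (f : X ⟶ Y) :
    ∃ (P : Over S) (p₁ p₂ : P ⟶ X), p₁ ≫ f = p₂ ≫ f ∧
      (∀ (T : Over S) (a b : T ⟶ X), a ≫ f = b ≫ f → ∃ m : T ⟶ P, m ≫ p₁ = a ∧ m ≫ p₂ = b) ∧
      ∀ x x', f.left.base x = f.left.base x' → ∃ p, p₁.left.base p = x ∧ p₂.left.base p = x' := by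
  let P : Over S := Over.mk (pullback.fst f.left f.left ≫ X.hom)
  let p₁ : P ⟶ X := Over.homMk (pullback.fst f.left f.left) rfl
  let p₂ : P ⟶ X := Over.homMk (pullback.snd f.left f.left) (by
    show pullback.snd _ _ ≫ X.hom = pullback.fst _ _ ≫ X.hom
    rw [← Over.w f, pullback.condition_assoc])
  refine ⟨P, p₁, p₂, ?_, fun T a b h => ?_, fun x x' h => ?_⟩
  · ext; exact pullback.condition
  · refine ⟨Over.homMk (pullback.lift a.left b.left congr(($h).left)) ?_, ?_, ?_⟩
    · show _ ≫ pullback.fst f.left f.left ≫ X.hom = _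
      rw [← Category.assoc]
      exact (congrArg (· ≫ X.hom) (pullback.lift_fst _ _ _)).trans (Over.w a)
    · exact Over.OverMorphism.ext (pullback.lift_fst _ _ _)
    · exact Over.OverMorphism.ext (pullback.lift_snd _ _ _)
  · obtain ⟨p, hp, hp'⟩ := Scheme.Pullback.exists_preimage_pullback x x' h
    exact ⟨p, hp, hp'⟩

end General

variable {k : Type u} [Field k] {G X Y : Over (Spec (CommRingCat.of k))}

theorem flat_snd (T Y : Over (Spec (CommRingCat.of k))) : Flat (snd T Y).left :=
  inferInstanceAs (Flat (pullback.snd T.hom Y.hom))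

variable {f : X ⟶ Y} [IsProper f.left]

theorem surjective_left (hf : ∀ U : Y.left.Opens, IsAffineOpen U → IsIso (f.left.app U)) :
    Surjective f.left :=
  (pushIso_of_isIso_app hf).surjective

theorem pushIso_whiskerLeft (hf : ∀ U : Y.left.Opens, IsAffineOpen U → IsIso (f.left.app U))
    (T : Over (Spec (CommRingCat.of k))) : PushIso (T ◁ f).left :=
  have := flat_snd T Y
  PushIso.baseChange (isPullback_whiskerLeft T f) hf

theorem cancel_whiskerLeft (hf : ∀ U : Y.left.Opens, IsAffineOpen U → IsIso (f.left.app U))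
    (T : Over (Spec (CommRingCat.of k))) {W : Over (Spec (CommRingCat.of k))} {b c : T ⊗ Y ⟶ W}
    (h : (T ◁ f) ≫ b = (T ◁ f) ≫ c) : b = c := by
  have : Surjective (T ◁ f).left :=
    MorphismProperty.of_isPullback (isPullback_whiskerLeft T f) (surjective_left hf)
  ext
  exact (pushIso_whiskerLeft hf T).cancel _ _ congr(($h).left)

theorem exists_desc_whiskerLeft (hf : ∀ U : Y.left.Opens, IsAffineOpen U → IsIso (f.left.app U))
    (T : Over (Spec (CommRingCat.of k))) {W : Over (Spec (CommRingCat.of k))} (h : T ⊗ X ⟶ W)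
    (hfib : ∀ p p', (T ◁ f).left.base p = (T ◁ f).left.base p' → h.left.base p = h.left.base p') :
    ∃ b : T ⊗ Y ⟶ W, (T ◁ f) ≫ b = h := by
  have : Surjective (T ◁ f).left :=
    MorphismProperty.of_isPullback (isPullback_whiskerLeft T f) (surjective_left hf)
  have : UniversallyClosed (T ◁ f).left :=
    MorphismProperty.of_isPullback (isPullback_whiskerLeft T f) (inferInstanceAs (UniversallyClosed f.left))
  obtain ⟨b, hb⟩ := (pushIso_whiskerLeft hf T).exists_desc h.left hfib
  refine ⟨Over.homMk b ?_, Over.OverMorphism.ext hb⟩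
  apply (pushIso_whiskerLeft hf T).cancel
  rw [← Category.assoc, hb, Over.w h, Over.w (T ◁ f)]

/-- At an infinitesimal neighbourhood of a rational point, `q` descends. -/
theorem exists_desc_infinitesimal (hf : ∀ U : Y.left.Opens, IsAffineOpen U → IsIso (f.left.app U))
    {T : Over (Spec (CommRingCat.of k))} (j : 𝟙_ _ ⟶ T) [Surjective j.left] (t : T ⟶ G)
    (e : 𝟙_ _ ⟶ G) (hjt : j ≫ t = e) (q : G ⊗ X ⟶ Y) (he : (e ▷ X) ≫ q = snd _ X ≫ f) :
    ∃ b : T ⊗ Y ⟶ Y, (T ◁ f) ≫ b = (t ▷ X) ≫ q := by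
  refine exists_desc_whiskerLeft hf T _ fun p p' h => ?_
  have : Surjective (j ▷ X).left :=
    MorphismProperty.of_isPullback (isPullback_whiskerRight j X) ‹Surjective j.left›
  have key : ∀ p, ((t ▷ X) ≫ q).left.base p = (snd T Y).left.base ((T ◁ f).left.base p) := by
    intro p
    obtain ⟨p₀, rfl⟩ := (j ▷ X).left.surjective p
    have h1 : (j ▷ X) ≫ (t ▷ X) ≫ q = (j ▷ X) ≫ (T ◁ f) ≫ snd T Y := by
      rw [← comp_whiskerRight_assoc, hjt, he, whiskerLeft_snd, whiskerRight_snd_assoc]
    exact congr(($h1).left.base p₀)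
  rw [key, key, h]

/-- The two composites `G × (X ×_Y X) ⇉ Y` have the same underlying map. -/
theorem base_eq_of_connected [GrpObj G] [LocallyOfFiniteType G.hom] [QuasiCompact G.hom]
    [ConnectedSpace G.left] [IsSeparated Y.hom]
    (hf : ∀ U : Y.left.Opens, IsAffineOpen U → IsIso (f.left.app U))
    (q : G ⊗ X ⟶ Y) (he : (η[G] ▷ X) ≫ q = snd _ X ≫ f)
    {P : Over (Spec (CommRingCat.of k))} (p₁ p₂ : P ⟶ X) (hp : p₁ ≫ f = p₂ ≫ f) (z : (P ⊗ G).left) :
    (lift (snd P G) (fst P G ≫ p₁) ≫ q).left.base z = (lift (snd P G) (fst P G ≫ p₂) ≫ q).left.base z := by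
  obtain ⟨E, c, _, hc⟩ := exists_equalizer (lift (snd P G) (fst P G ≫ p₁) ≫ q) (lift (snd P G) (fst P G ≫ p₂) ≫ q)
  suffices z ∈ Set.range c.left.base by
    obtain ⟨w, rfl⟩ := this
    have h := (hc E c).1 ⟨𝟙 E, Category.id_comp c⟩
    exact congr(($h).left.base w)
  have := isLocallyNoetherian_left G
  let x₀ := η[G].left.base (IsLocalRing.closedPoint k)
  let R := G.left.presheaf.stalk x₀
  obtain ⟨instR, t, ht⟩ := exists_algebra (X := G) (G.left.fromSpecStalk x₀)
  let ρ : R ⟶ CommRingCat.of k := Scheme.stalkClosedPointTo η[G].left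
  have hρ : Spec.map ρ ≫ G.left.fromSpecStalk x₀ = η[G].left :=
    Scheme.Spec_stalkClosedPointTo_fromSpecStalk η[G].left
  have : IsLocalHom ρ.hom := by
    show IsLocalHom (Scheme.stalkClosedPointTo η[G].left).hom
    infer_instance
  have hker : ∀ r ∈ IsLocalRing.maximalIdeal R, ρ.hom r = 0 := by
    intro r hr
    by_contra h
    exact hr (isUnit_of_map_unit ρ.hom r (isUnit_iff_ne_zero.2 h))
  have main : ∃ z, z ≫ c = P ◁ t := by
    refine factor_of_jointly_injective c t
      (fun n : ℕ => Ideal.Quotient.mkₐ k (IsLocalRing.maximalIdeal R ^ (n + 1))) (fun r hr => ?_) fun n => ?_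
    · have h : r ∈ (⨅ i : ℕ, IsLocalRing.maximalIdeal R ^ i : Ideal R) := by
        rw [Ideal.mem_iInf]
        intro i
        exact Ideal.pow_le_pow_right (Nat.le_succ i) (Ideal.Quotient.eq_zero_iff_mem.1 (hr i))
      rw [Ideal.iInf_pow_eq_bot_of_isLocalRing _ (IsLocalRing.maximalIdeal.isMaximal R).ne_top] at h
      exact h
    · let I := IsLocalRing.maximalIdeal R ^ (n + 1)
      let jr : R ⧸ I →+* k := Ideal.Quotient.lift I ρ.hom
        (fun r hr => hker r (Ideal.pow_le_self (Nat.succ_ne_zero n) hr))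
      let tn := specAlgMap (Ideal.Quotient.mkₐ k I) ≫ t
      have hjr : Spec.map (CommRingCat.ofHom jr) ≫ tn.left = η[G].left := by
        show Spec.map (CommRingCat.ofHom jr) ≫ Spec.map _ ≫ t.left = _
        rw [ht, ← hρ, ← Category.assoc, ← Spec.map_comp]
        rfl
      let j : 𝟙_ (Over (Spec (CommRingCat.of k))) ⟶ specAlg k (R ⧸ I) :=
        Over.homMk (Spec.map (CommRingCat.ofHom jr)) (by
          have := Over.w η[G]
          rw [← hjr, Category.assoc, Over.w tn] at this
          exact this)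
      have hsurj : Surjective j.left := by
        refine ⟨fun P' => ⟨IsLocalRing.closedPoint k, ?_⟩⟩
        have aux : ∀ Q : PrimeSpectrum (R ⧸ I),
            Q.asIdeal.comap (Ideal.Quotient.mk I) = IsLocalRing.maximalIdeal R := by
          intro Q
          refine ((IsLocalRing.maximalIdeal.isMaximal R).eq_of_le (Ideal.IsPrime.comap _).ne_top ?_).symm
          intro r hr
          refine Ideal.IsPrime.mem_of_pow_mem inferInstance (n + 1) ?_
          rw [Ideal.mem_comap, Ideal.Quotient.eq_zero_iff_mem.2 (Ideal.pow_mem_pow hr _)]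
          exact Ideal.zero_mem _
        refine PrimeSpectrum.ext (Ideal.comap_injective_of_surjective _ Ideal.Quotient.mk_surjective ?_)
        exact (aux _).trans (aux _).symm
      obtain ⟨b, hb⟩ := exists_desc_infinitesimal hf j tn η[G] (Over.OverMorphism.ext hjr) q he
      refine (hc _ _).2 ?_
      show (P ◁ tn) ≫ lift (snd P G) (fst P G ≫ p₁) ≫ q = (P ◁ tn) ≫ lift (snd P G) (fst P G ≫ p₂) ≫ q
      have fac : ∀ p : P ⟶ X, (P ◁ tn) ≫ lift (snd P G) (fst P G ≫ p) ≫ q =
          lift (snd P _) (fst P _ ≫ p ≫ f) ≫ b := by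
        intro p
        have e : (P ◁ tn) ≫ lift (snd P G) (fst P G ≫ p) = lift (snd P _) (fst P _ ≫ p) ≫ (tn ▷ X) := by
          apply CartesianMonoidalCategory.hom_ext <;> simp
        rw [reassoc_of% e, ← hb, lift_whiskerLeft_assoc, Category.assoc]
      rw [fac, fac, hp]
  obtain ⟨w, hw⟩ := main
  have := irreducibleSpace_of_connected G
  have hgen : ∀ u : (P ⊗ G).left, (snd P G).left.base u = genericPoint G.left → u ∈ Set.range c.left.base := by
    intro u hu
    have : genericPoint G.left ∈ Set.range t.left.base := by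
      rw [ht, Scheme.range_fromSpecStalk]
      exact (genericPoint_spec G.left).specializes (Set.mem_univ x₀)
    obtain ⟨v, hv⟩ := (mem_range_whiskerLeft_iff P t u).2 (hu ▸ this)
    exact ⟨w.left.base v, by rw [← hv, ← hw]; rfl⟩
  have hopen : IsOpenMap (snd P G).left.base := (pullback.snd P.hom G.hom).isOpenMap
  have hd : Dense ((snd P G).left.base ⁻¹' {genericPoint G.left}) := by
    refine Dense.preimage ?_ hopen
    rw [dense_iff_closure_eq]
    exact genericPoint_closure G.left
  exact (hd.mono (show _ ⊆ Set.range c.left.base from fun u hu => hgen u hu)).closure_eq.symm.trans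
    c.left.isClosedEmbedding.isClosed_range.closure_eq ▸ Set.mem_univ z

/-- **Blanchard's lemma**. -/
theorem existsUnique_action_descends [GrpObj G] [LocallyOfFiniteType G.hom] [QuasiCompact G.hom]
    [ConnectedSpace G.left] [IsSeparated Y.hom]
    (hf : ∀ U : Y.left.Opens, IsAffineOpen U → IsIso (f.left.app U)) (a : AlgGrp.Action G X) :
    ∃! b : AlgGrp.Action G Y, (G ◁ f) ≫ b.act = a.act ≫ f := by
  have he : (η[G] ▷ X) ≫ a.act ≫ f = snd _ X ≫ f := by
    rw [← Category.assoc, a.one_act, leftUnitor_hom]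
  obtain ⟨b, hb⟩ := exists_desc_whiskerLeft hf G (a.act ≫ f) (fun z z' h => by
    obtain ⟨Q, u₁, u₂, hu, -, hQ⟩ := exists_fibreSquare (G ◁ f)
    obtain ⟨r, hr, hr'⟩ := hQ z z' h
    obtain ⟨P, p₁, p₂, hp, hP, -⟩ := exists_fibreSquare f
    have hg : u₁ ≫ fst G X = u₂ ≫ fst G X := by
      have := congrArg (· ≫ fst G Y) hu
      simpa using this
    have hx : u₁ ≫ snd G X ≫ f = u₂ ≫ snd G X ≫ f := by
      have := congrArg (· ≫ snd G Y) hu
      simpa using this
    obtain ⟨m, hm₁, hm₂⟩ := hP Q (u₁ ≫ snd G X) (u₂ ≫ snd G X) (by simpa using hx)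
    have key := base_eq_of_connected hf (a.act ≫ f) he p₁ p₂ hp ((lift m (u₁ ≫ fst G X)).left.base r)
    have e₁ : lift m (u₁ ≫ fst G X) ≫ lift (snd P G) (fst P G ≫ p₁) = u₁ := by
      apply CartesianMonoidalCategory.hom_ext <;> simp [hm₁]
    have e₂ : lift m (u₁ ≫ fst G X) ≫ lift (snd P G) (fst P G ≫ p₂) = u₂ := by
      apply CartesianMonoidalCategory.hom_ext <;> simp [hm₂, hg]
    rw [← hr, ← hr']
    calc _ = (lift m (u₁ ≫ fst G X) ≫ lift (snd P G) (fst P G ≫ p₁) ≫ a.act ≫ f).left.base r := by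
          rw [← Category.assoc (lift m _), e₁]; rfl
      _ = (lift m (u₁ ≫ fst G X) ≫ lift (snd P G) (fst P G ≫ p₂) ≫ a.act ≫ f).left.base r := key
      _ = _ := by rw [← Category.assoc (lift m _), e₂]; rfl)
  refine ⟨⟨b, ?_, ?_⟩, hb, fun b' hb' => ?_⟩
  · apply cancel_whiskerLeft hf
    rw [whisker_exchange_assoc, hb, he, leftUnitor_hom, whiskerLeft_snd]
  · apply cancel_whiskerLeft hf
    rw [whisker_exchange_assoc, hb, ← Category.assoc, a.mul_act]
    simp only [Category.assoc]
    rw [← hb, ← whiskerLeft_comp_assoc G a.act f, ← hb, whiskerLeft_comp_assoc,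
      tensor_whiskerLeft_assoc, Iso.inv_hom_id_assoc]
  · obtain ⟨b', h1, h2⟩ := b'
    have : b' = b := cancel_whiskerLeft hf G (hb'.trans hb.symm)
    subst this
    rfl

end Groth.AlgGrp1
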