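import Groth.Agent.AlgGrp1.Basic
import Groth.Agent.AlgGrp1.Blanchard
import Groth.Agent.EtaleBase.FpqcDescent
import Mathlib.AlgebraicGeometry.Morphisms.LocalFlatDescent

/-!
A quotient homomorphism is a torsor under its kernel.
-/

universe u

open CategoryTheory Limits MonoidalCategory CartesianMonoidalCategory MonObj GrpObj AlgebraicGeometry

namespace Groth.AlgGrp1

section General

variable {S : Scheme.{u}} {N G Q : Over S} [GrpObj G] [GrpObj Q] {i : N ⟶ G} {q : G ⟶ Q}
  [IsMonHom q]

/-- `(g, n) ↦ (g, g·n)` identifies `G × N` with `G ×_Q G`. -/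
theorem IsKernel.isPullback_mul (h : AlgGrp.IsKernel i q) :
    IsPullback (fst G N) (fst G N * (snd G N ≫ i)) q q := by
  have := IsKernel.mono h
  have w : fst G N ≫ q = (fst G N * (snd G N ≫ i)) ≫ q := by
    rw [MonObj.mul_comp, Category.assoc, IsKernel.comp_eq_one h, MonObj.comp_one, _root_.mul_one]
  have key : ∀ c : PullbackCone q q, ∃ m : c.pt ⟶ G ⊗ N, m ≫ fst G N = c.fst ∧
      m ≫ (fst G N * (snd G N ≫ i)) = c.snd := by
    intro c
    obtain ⟨n, hn⟩ := IsKernel.exists_lift h (c.fst⁻¹ * c.snd) (by
      rw [MonObj.mul_comp, GrpObj.inv_comp, c.condition, inv_mul_cancel])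
    exact ⟨lift c.fst n, lift_fst _ _, by
      rw [MonObj.comp_mul, lift_fst, ← Category.assoc, lift_snd, hn, mul_inv_cancel_left]⟩
  choose m h1 h2 using key
  refine ⟨⟨w⟩, ⟨PullbackCone.IsLimit.mk w m h1 h2 fun c l hl1 hl2 => ?_⟩⟩
  apply CartesianMonoidalCategory.hom_ext
  · rw [hl1, h1]
  · rw [← cancel_mono i]
    have e1 : c.fst * ((l ≫ snd G N) ≫ i) = c.snd := by
      rw [← hl1, ← hl2, MonObj.comp_mul, Category.assoc]
    have e2 : c.fst * ((m c ≫ snd G N) ≫ i) = c.snd := by
      conv_rhs => rw [← h2 c]
      rw [MonObj.comp_mul, h1, Category.assoc]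
    exact mul_left_cancel (e1.trans e2.symm)

theorem IsKernel.isPullback_mul_left (h : AlgGrp.IsKernel i q) :
    IsPullback (fst G N * (snd G N ≫ i)).left (fst G N).left q.left q.left :=
  ((IsKernel.isPullback_mul h).map (Over.forget S)).flip

/-- A property stable under base change descends from the kernel to a quotient homomorphism. -/
theorem IsKernel.descends (h : AlgGrp.IsKernel i q) (P : MorphismProperty Scheme.{u})
    [P.IsStableUnderBaseChange] [P.DescendsAlong (@Surjective ⊓ @Flat ⊓ @QuasiCompact)]
    [Flat q.left] [Surjective q.left] [QuasiCompact q.left] (hN : P N.hom) : P q.left := by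
  refine MorphismProperty.of_isPullback_of_descendsAlong (P := P) (f := q.left) (g := q.left) (IsKernel.isPullback_mul_left h).flip
    (Q := @Surjective ⊓ @Flat ⊓ @QuasiCompact) ⟨⟨inferInstance, inferInstance⟩, inferInstance⟩ ?_
  exact MorphismProperty.of_isPullback (IsPullback.of_hasPullback G.hom N.hom).flip hN

end General

variable {k : Type u} [Field k] {N G Q : Over (Spec (CommRingCat.of k))} [GrpObj N] [GrpObj G]
  [GrpObj Q] {i : N ⟶ G} {q : G ⟶ Q} [IsMonHom q]

/-- An extension of connected group schemes is connected. -/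
theorem connectedSpace_of_extension (h : AlgGrp.IsKernel i q) [LocallyOfFiniteType G.hom]
    [LocallyOfFiniteType N.hom] [QuasiCompact N.hom] [LocallyOfFiniteType Q.hom]
    [Flat q.left] [Surjective q.left] (hN : ConnectedSpace N.left) (hQ : ConnectedSpace Q.left) :
    ConnectedSpace G.left := by
  have : GeometricallyConnected N.hom :=
    geometricallyConnected_of_point N.hom η[N].left (Over.w η[N])
  have : GeometricallyConnected (fst G N).left :=
    MorphismProperty.of_isPullback (IsPullback.of_hasPullback G.hom N.hom).flip ‹GeometricallyConnected N.hom›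
  have hfib : ∀ g, _root_.IsConnected (q.left.base ⁻¹' {q.left.base g}) := by
    intro g
    have hc : _root_.IsConnected ((fst G N).left.base ⁻¹' {g}) := (fst G N).left.isConnected_preimage_singleton g
    have sq := IsKernel.isPullback_mul_left h
    convert hc.image _ (fst G N * (snd G N ≫ i)).left.continuous.continuousOn using 1
    ext g'
    constructor
    · intro hg'
      obtain ⟨p, hp1, hp2⟩ := Scheme.Pullback.exists_preimage_pullback (f := q.left) (g := q.left) g' g hg'
      refine ⟨sq.isoPullback.inv.base p, ?_, ?_⟩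
      · exact congr(($(sq.isoPullback_inv_snd)).base p).trans hp2
      · exact congr(($(sq.isoPullback_inv_fst)).base p).trans hp1
    · rintro ⟨z, hz, rfl⟩
      exact (congr(($(sq.w)).base z)).trans (congrArg q.left.base hz)
  have := lfp_left q
  have : UniversallyOpen q.left := UniversallyOpen.of_flat q.left
  have hopen : IsOpenMap q.left.base := q.left.isOpenMap
  rw [connectedSpace_iff_univ, ← Set.preimage_univ (f := q.left.base)]
  refine Topology.IsCoinducing.isConnected_preimage_of_isClosed (fun y => ?_)
    (hopen.isQuotientMap q.left.continuous q.left.surjective).isCoinducing isClosed_univ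
    (connectedSpace_iff_univ.1 hQ)
  obtain ⟨g, rfl⟩ := q.left.surjective y
  exact hfib g

end Groth.AlgGrp1
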