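import Groth.Agent.GenericFree.Presentation
import Groth.Agent.FlatMor2.FlatComp
import Mathlib

/-!
Generic flatness: a morphism of finite type to a nonempty reduced Noetherian scheme is flat over some
nonempty open subscheme.
-/

universe u

open CategoryTheory CategoryTheory.Limits AlgebraicGeometry TensorProduct Topology

namespace Groth.AlgGrp1

theorem exists_flat_restrict_Spec {A B : CommRingCat.{u}} [IsDomain A] (φ : A ⟶ B)
    [LocallyOfFiniteType (Spec.map φ)] :
    ∃ V : (Spec A).Opens, (V : Set (Spec A)).Nonempty ∧ Flat (Spec.map φ ∣_ V) := by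
  algebraize [φ.hom]
  have : Algebra.FiniteType A B := (HasRingHomProperty.Spec_iff (P := @LocallyOfFiniteType)).1
    (inferInstance : LocallyOfFiniteType (Spec.map φ))
  obtain ⟨f, hf, hfree, -⟩ := (Groth.GenericFree.gf_of_finiteType (R := A) B B).exists_free
  have := hfree f hf dvd_rfl
  have hflat : Module.Flat (Localization.Away f) (Localization.Away f ⊗[A] B) :=
    Module.Flat.of_linearEquiv (LocalizedModule.equivTensorProduct (Submonoid.powers f) B).symm
  let l : Spec (CommRingCat.of (Localization.Away f)) ⟶ Spec A :=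
    Spec.map (CommRingCat.ofHom (algebraMap A (Localization.Away f)))
  have : IsOpenImmersion l := IsOpenImmersion.of_isLocalization f
  refine ⟨l.opensRange, ?_, ?_⟩
  · have : Nonempty (Spec (CommRingCat.of (Localization.Away f))) := by
      have : Nontrivial (Localization.Away f) :=
        (IsLocalization.injective (Localization.Away f) (powers_le_nonZeroDivisors_of_noZeroDivisors hf)).nontrivial
      exact inferInstanceAs (Nonempty (PrimeSpectrum (Localization.Away f)))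
    exact Set.range_nonempty _
  · rw [MorphismProperty.arrow_mk_iso_iff @Flat (morphismRestrictOpensRange (Spec.map φ) l)]
    show Flat (pullback.snd (Spec.map (CommRingCat.ofHom (algebraMap A B)))
      (Spec.map (CommRingCat.ofHom (algebraMap A (Localization.Away f)))))
    rw [← pullbackSpecIso_hom_snd A B (Localization.Away f),
      MorphismProperty.cancel_left_of_respectsIso @Flat, Flat.SpecMap_iff]
    have h1 : (algebraMap (Localization.Away f) (Localization.Away f ⊗[A] B)).Flat :=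
      RingHom.flat_algebraMap_iff.2 hflat
    have h2 := h1.comp (RingHom.Flat.of_bijective
      (f := (Algebra.TensorProduct.comm A (Localization.Away f) B).toRingEquiv.toRingHom)
      (Algebra.TensorProduct.comm A (Localization.Away f) B).bijective)
    exact h2

theorem flat_restrict_mono {X Y : Scheme.{u}} (f : X ⟶ Y) {V W : Y.Opens} (h : W ≤ V)
    [Flat (f ∣_ V)] : Flat (f ∣_ W) := by
  have := MorphismProperty.arrow_mk_iso_iff @Flat (morphismRestrictRestrict f V (V.ι ⁻¹ᵁ W))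
  have e : V.ι ''ᵁ V.ι ⁻¹ᵁ W = W := by
    rw [Scheme.Hom.image_preimage_eq_opensRange_inf, Scheme.Opens.opensRange_ι]
    exact inf_eq_right.2 h
  rw [← MorphismProperty.arrow_mk_iso_iff @Flat (morphismRestrictEq f e)]
  exact this.1 inferInstance

/-- **Generic flatness** over an affine integral scheme. -/
theorem exists_flat_restrict_affine {X Y : Scheme.{u}} [IsAffine Y] [IsIntegral Y] (f : X ⟶ Y)
    [LocallyOfFiniteType f] [CompactSpace X] :
    ∃ V : Y.Opens, (V : Set Y).Nonempty ∧ Flat (f ∣_ V) := by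
  let 𝒰 := X.affineCover.finiteSubcover
  have : ∀ i, IsAffine (𝒰.X i) := fun i => inferInstanceAs (IsAffine (X.affineCover.X _))
  let a : (∐ 𝒰.X) ⟶ X := Sigma.desc 𝒰.f
  have : Surjective a := ⟨fun x => by
    obtain ⟨y, hy⟩ := 𝒰.covers x
    refine ⟨(Sigma.ι 𝒰.X (𝒰.idx x)).base y, ?_⟩
    rw [← Scheme.Hom.comp_apply, Sigma.ι_desc]
    exact hy⟩
  have : Flat a := by
    refine (IsZariskiLocalAtSource.iff_of_openCover (P := @Flat) (sigmaOpenCover 𝒰.X)).2 fun i => ?_
    show Flat (Sigma.ι 𝒰.X i ≫ Sigma.desc 𝒰.f)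
    rw [Sigma.ι_desc]
    infer_instance
  have : LocallyOfFiniteType a := by
    refine (IsZariskiLocalAtSource.iff_of_openCover (P := @LocallyOfFiniteType) (sigmaOpenCover 𝒰.X)).2 fun i => ?_
    show LocallyOfFiniteType (Sigma.ι 𝒰.X i ≫ Sigma.desc 𝒰.f)
    rw [Sigma.ι_desc]
    infer_instance
  let φ := (a ≫ f).appTop
  have hnat : Spec.map φ = (∐ 𝒰.X).isoSpec.inv ≫ (a ≫ f) ≫ Y.isoSpec.hom := by
    rw [← Category.assoc, ← Scheme.isoSpec_inv_naturality]
    simp [φ]
  have : LocallyOfFiniteType (Spec.map φ) := by rw [hnat]; infer_instance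
  obtain ⟨V, hVne, hV⟩ := exists_flat_restrict_Spec φ
  refine ⟨Y.isoSpec.hom ⁻¹ᵁ V, ?_, ?_⟩
  · obtain ⟨v, hv⟩ := hVne
    obtain ⟨y, hy⟩ := Y.isoSpec.hom.surjective v
    exact ⟨y, show Y.isoSpec.hom y ∈ V from hy ▸ hv⟩
  · have heq : (a ≫ f) ≫ Y.isoSpec.hom = (∐ 𝒰.X).isoSpec.hom ≫ Spec.map φ := by
      rw [hnat, Iso.hom_inv_id_assoc]
    have h1 : Flat (((a ≫ f) ≫ Y.isoSpec.hom) ∣_ V) := by
      rw [heq, morphismRestrict_comp]
      exact (MorphismProperty.cancel_left_of_respectsIso @Flat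
        ((∐ 𝒰.X).isoSpec.hom ∣_ Spec.map φ ⁻¹ᵁ V) (Spec.map φ ∣_ V)).2 hV
    rw [morphismRestrict_comp] at h1
    have h2 := (MorphismProperty.cancel_right_of_respectsIso @Flat
      ((a ≫ f) ∣_ Y.isoSpec.hom ⁻¹ᵁ V) (Y.isoSpec.hom ∣_ V)).1 h1
    rw [morphismRestrict_comp] at h2
    have : Surjective (a ∣_ f ⁻¹ᵁ Y.isoSpec.hom ⁻¹ᵁ V) := IsZariskiLocalAtTarget.restrict (P := @Surjective) (f := a) ‹Surjective a› _
    have : Flat (a ∣_ f ⁻¹ᵁ Y.isoSpec.hom ⁻¹ᵁ V) := IsZariskiLocalAtTarget.restrict (P := @Flat) (f := a) ‹Flat a› _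
    have : Flat (a ∣_ f ⁻¹ᵁ Y.isoSpec.hom ⁻¹ᵁ V ≫ f ∣_ Y.isoSpec.hom ⁻¹ᵁ V) := h2
    exact Groth.FlatMor2.flat_of_comp_surjective (a ∣_ f ⁻¹ᵁ Y.isoSpec.hom ⁻¹ᵁ V) _

open TopologicalSpace in
/-- **Generic flatness** over a reduced Noetherian scheme. -/
theorem exists_flat_restrict {X Y : Scheme.{u}} [IsReduced Y] [AlgebraicGeometry.IsNoetherian Y]
    [Nonempty Y] (f : X ⟶ Y) [LocallyOfFiniteType f] [QuasiCompact f] :
    ∃ V : Y.Opens, (V : Set Y).Nonempty ∧ Flat (f ∣_ V) := by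
  obtain ⟨Z, hZ⟩ : ∃ Z, Z ∈ irreducibleComponents Y :=
    ⟨_, irreducibleComponent_mem_irreducibleComponents (Classical.arbitrary Y)⟩
  have hfin : (irreducibleComponents Y).Finite := NoetherianSpace.finite_irreducibleComponents
  let O : Y.Opens := ⟨(⋃ C ∈ irreducibleComponents Y \ {Z}, C)ᶜ,
    (hfin.sdiff.isClosed_biUnion fun C hC => isClosed_of_mem_irreducibleComponents C hC.1).isOpen_compl⟩
  obtain ⟨η, hη⟩ := QuasiSober.sober hZ.1 (isClosed_of_mem_irreducibleComponents Z hZ)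
  have hηO : η ∈ O := by
    intro h
    simp only [Set.mem_iUnion] at h
    obtain ⟨C, ⟨hC, hne⟩, hmem⟩ := h
    refine hne (Set.Subset.antisymm ?_ ?_ : C = Z)
    · exact hZ.2 hC.1 (hη.def ▸ closure_minimal (Set.singleton_subset_iff.2 hmem)
        (isClosed_of_mem_irreducibleComponents C hC))
    · exact hη.def ▸ closure_minimal (Set.singleton_subset_iff.2 hmem)
        (isClosed_of_mem_irreducibleComponents C hC)
  obtain ⟨_, ⟨U, hU, rfl⟩, hηU, hUO⟩ := Y.isBasis_affineOpens.exists_subset_of_mem_open hηO O.2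
  have hUZ : (U : Set Y) ⊆ Z := by
    intro y hy
    by_contra hyZ
    have := hUO hy
    refine this (Set.mem_biUnion ⟨irreducibleComponent_mem_irreducibleComponents y, ?_⟩ mem_irreducibleComponent)
    intro h
    exact hyZ ((h : irreducibleComponent y = Z) ▸ mem_irreducibleComponent)
  have hUirr : IsIrreducible (U : Set Y) := by
    refine ⟨⟨η, hηU⟩, fun u v hu hv ⟨a, ha, hau⟩ ⟨b, hb, hbv⟩ => ?_⟩
    obtain ⟨c, hcZ, ⟨⟨hcu, hcU⟩, hcv⟩⟩ := hZ.1.2 (u ∩ U) v (hu.inter U.2) hv ⟨a, hUZ ha, hau, ha⟩ ⟨b, hUZ hb, hbv⟩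
    exact ⟨c, hcU, hcu, hcv⟩
  have : IrreducibleSpace (Scheme.Opens.toScheme (X := Y) U) :=
    @IrreducibleSpace.mk _ _ (Subtype.preirreducibleSpace hUirr.2) ⟨⟨η, hηU⟩⟩
  have : IsIntegral (Scheme.Opens.toScheme (X := Y) U) := isIntegral_of_irreducibleSpace_of_isReduced _
  have : IsAffine (Scheme.Opens.toScheme (X := Y) U) := hU
  have : CompactSpace (f ⁻¹ᵁ (U : Y.Opens)).toScheme :=
    isCompact_iff_compactSpace.1 (QuasiCompact.isCompact_preimage _ (U : Y.Opens).2 hU.isCompact)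
  obtain ⟨V, hVne, hV⟩ := exists_flat_restrict_affine (f ∣_ U)
  refine ⟨(Scheme.Opens.ι (X := Y) U) ''ᵁ V, ?_, ?_⟩
  · obtain ⟨v, hv⟩ := hVne
    exact ⟨_, v, hv, rfl⟩
  · exact (MorphismProperty.arrow_mk_iso_iff @Flat (morphismRestrictRestrict f U V)).1 hV

end Groth.AlgGrp1
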