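import Groth.Agent.AlgGrp1.AffineCrit
import Groth.Agent.AlgGrp1.Extension
import Groth.Agent.AlgGrp1.GenericFlat
import Groth.Agent.AlgGrp1.KPoints
import Groth.Agent.Agf.ImageSubgroup
import Groth.Agent.Flatmor4.ImageDom
import Groth.Agent.S2266

/-!
A quasi-compact homomorphism of group schemes over a field with affine kernel is affine.
-/

set_option autoImplicit false
universe u

open CategoryTheory Limits MonoidalCategory CartesianMonoidalCategory MonObj GrpObj AlgebraicGeometry
  TopologicalSpace

noncomputable section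

namespace Groth.AlgGrp1

/-- The underlying morphism of an isomorphism over a base is an isomorphism. -/
theorem isIso_hom_left' {S : Scheme.{u}} {X Y : Over S} (e : X ≅ Y) : IsIso e.hom.left :=
  ((Over.forget S).mapIso e).isIso_hom

variable {k : Type u} [Field k] {P Q : Over (Spec (CommRingCat.of k))} [GrpObj P] [GrpObj Q]

/-- Translation by a rational point. -/
def translIso (x : 𝟙_ (Over (Spec (CommRingCat.of k))) ⟶ P) : P ≅ P where
  hom := (toUnit P ≫ x) * 𝟙 P
  inv := (toUnit P ≫ x)⁻¹ * 𝟙 P
  hom_inv_id := by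
    simp only [MonObj.comp_mul, GrpObj.comp_inv, Category.comp_id, ← Category.assoc,
      toUnit_unique (((toUnit P ≫ x) * 𝟙 P) ≫ toUnit P) (toUnit P), inv_mul_cancel_left]
  inv_hom_id := by
    simp only [MonObj.comp_mul, Category.comp_id, ← Category.assoc,
      toUnit_unique (((toUnit P ≫ x)⁻¹ * 𝟙 P) ≫ toUnit P) (toUnit P), mul_inv_cancel_left]

theorem translIso_comp (f : P ⟶ Q) [IsMonHom f] (x : 𝟙_ (Over (Spec (CommRingCat.of k))) ⟶ P) :
    (translIso x).hom ≫ f = f ≫ (translIso (x ≫ f)).hom := by
  simp only [translIso, MonObj.mul_comp, MonObj.comp_mul, Category.id_comp, Category.comp_id,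
    Category.assoc, ← Category.assoc f, toUnit_unique (f ≫ toUnit Q) (toUnit P)]

/-- A surjective quasi-compact homomorphism to a reduced group scheme over an algebraically closed
field is flat. -/
theorem flat_of_surjective_hom [IsAlgClosed k] [LocallyOfFiniteType P.hom] [LocallyOfFiniteType Q.hom]
    [IsReduced Q.left] (f : P ⟶ Q) [IsMonHom f] [QuasiCompact f.left] [Surjective f.left] : Flat f.left := by
  have := isLocallyNoetherian_left Q
  have := LocallyOfFiniteType.jacobsonSpace Q.hom
  have := lfp_left f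
  obtain ⟨V₀, hV₀, hy, -⟩ := exists_isAffineOpen_mem_and_subset
    (x := η[Q].left.base (IsLocalRing.closedPoint k)) (U := (⊤ : Q.left.Opens)) trivial
  have : IsAffine V₀.toScheme := hV₀
  have : IsNoetherianRing Γ(Q.left, V₀) := IsLocallyNoetherian.component_noetherian ⟨V₀, hV₀⟩
  have : AlgebraicGeometry.IsNoetherian V₀.toScheme :=
    { toIsLocallyNoetherian := isLocallyNoetherian_of_isOpenImmersion V₀.ι }
  have : Nonempty V₀.toScheme := ⟨⟨_, hy⟩⟩
  obtain ⟨V', hV'ne, hV'⟩ := exists_flat_restrict (f.left ∣_ V₀)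
  let V : Q.left.Opens := V₀.ι ''ᵁ V'
  have hV : Flat (f.left ∣_ V) :=
    (MorphismProperty.arrow_mk_iso_iff @Flat (morphismRestrictRestrict f.left V₀ V')).1 hV'
  obtain ⟨z, hz⟩ := hV'ne
  obtain ⟨y, hyV, hyc⟩ := nonempty_inter_closedPoints (Z := (V : Set Q.left)) ⟨V₀.ι z, z, hz, rfl⟩
    V.2.isLocallyClosed
  let S := {W : Q.left.Opens // Flat (f.left ∣_ W)}
  have htop : (⨆ W : S, W.1) = ⊤ := by
    refine Opens.ext (Set.eq_univ_of_forall fun a => ?_)
    by_contra ha
    obtain ⟨x, hx, hxc⟩ := nonempty_inter_closedPoints (Z := ((⨆ W : S, W.1 : Q.left.Opens) : Set Q.left)ᶜ)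
      ⟨a, ha⟩ (⨆ W : S, W.1).2.isClosed_compl.isLocallyClosed
    obtain ⟨qy, hqy⟩ := exists_point_over_closed k Q y hyc
    obtain ⟨qx, hqx⟩ := exists_point_over_closed k Q x hxc
    obtain ⟨py, hpy, -⟩ := exists_point_lift f qy ⊤ (by
      obtain ⟨p, hp⟩ := f.left.surjective (ptOf qy)
      exact ⟨p, trivial, hp⟩)
    obtain ⟨px, hpx, -⟩ := exists_point_lift f qx ⊤ (by
      obtain ⟨p, hp⟩ := f.left.surjective (ptOf qx)
      exact ⟨p, trivial, hp⟩)
    let i : 𝟙_ (Over (Spec (CommRingCat.of k))) ⟶ specAlg k k := Over.homMk (𝟙 _) (by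
      show 𝟙 _ ≫ Spec.map (CommRingCat.ofHom (algebraMap k k)) = 𝟙 _
      rw [Category.id_comp]; exact Spec.map_id _)
    let g : 𝟙_ (Over (Spec (CommRingCat.of k))) ⟶ P := i ≫ (py * px⁻¹)
    let a' := (translIso g).hom
    let b' := (translIso (g ≫ f)).hom
    have : IsIso a'.left := isIso_hom_left' (translIso g)
    have : IsIso b'.left := isIso_hom_left' (translIso (g ≫ f))
    have hsq : IsPullback a'.left f.left f.left b'.left := IsPullback.of_horiz_isIso ⟨by
      rw [← Over.comp_left, ← Over.comp_left, translIso_comp]⟩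
    have hflat := flat_restrict_of_isPullback hsq V
    have hmove : qx ≫ b' = qy := by
      have hi : toUnit (specAlg k k) ≫ i = 𝟙 _ := toPt_unique (X := specAlg k k) _ _
      show qx ≫ ((toUnit Q ≫ g ≫ f) * 𝟙 Q) = qy
      rw [MonObj.comp_mul, Category.comp_id, ← Category.assoc, toUnit_unique (qx ≫ toUnit Q) (toUnit _),
        show g ≫ f = i ≫ ((py * px⁻¹) ≫ f) from Category.assoc _ _ _, ← Category.assoc, hi,
        Category.id_comp, MonObj.mul_comp, GrpObj.inv_comp, hpy, hpx, inv_mul_cancel_right]
    apply hx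
    refine Opens.mem_iSup.2 ⟨⟨_, hflat⟩, ?_⟩
    show b'.left.base x ∈ V
    rw [← hqx]
    exact (congr(($hmove).left (IsLocalRing.closedPoint k))).trans hqy ▸ hyV
  exact IsZariskiLocalAtTarget.of_iSup_eq_top (P := @Flat) (fun W : S => W.1) htop fun W => W.2

/-- A morphism is affine if its composite with a surjective closed immersion into a locally Noetherian
source is. -/
theorem isAffineHom_of_thickening {X' X Y : Scheme.{u}} [IsLocallyNoetherian X] (c : X' ⟶ X)
    [IsClosedImmersion c] [Surjective c] (f : X ⟶ Y) [QuasiCompact f] (h : IsAffineHom (c ≫ f)) :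
    IsAffineHom f := by
  refine ⟨fun U hU => ?_⟩
  have : IsAffine ((c ⁻¹ᵁ f ⁻¹ᵁ U).toScheme) := h.isAffine_preimage U hU
  have : CompactSpace (f ⁻¹ᵁ U).toScheme := isCompact_iff_compactSpace.1 (f.isCompact_preimage hU.isCompact)
  have : IsLocallyNoetherian (f ⁻¹ᵁ U).toScheme := isLocallyNoetherian_of_isOpenImmersion (f ⁻¹ᵁ U).ι
  have : AlgebraicGeometry.IsNoetherian (f ⁻¹ᵁ U).toScheme := ⟨⟩
  have : Surjective (c ∣_ (f ⁻¹ᵁ U)) := IsZariskiLocalAtTarget.restrict ‹Surjective c› _
  exact Groth.FlatMor2.isAffine_of_surjective_closedImmersion (c ∣_ (f ⁻¹ᵁ U))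

/-- A quasi-compact homomorphism with affine kernel is affine, over an algebraically closed field. -/
theorem isAffineHom_of_affine_kernel_algClosed [IsAlgClosed k] [LocallyOfFiniteType P.hom]
    [LocallyOfFiniteType Q.hom] (f : P ⟶ Q) [IsMonHom f] [QuasiCompact f.left]
    {N : Over (Spec (CommRingCat.of k))} [IsAffine N.left] (n : N ⟶ P) (hn : AlgGrp.IsKernel n f) :
    IsAffineHom f.left := by
  have := isSeparated_grpObj Q
  obtain ⟨P₀, _, c, _, _, _, _, _⟩ := exists_reduced_subgroup_lft P
  have := isLocallyNoetherian_left P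
  refine isAffineHom_of_thickening c.left f.left ?_
  let F := c ≫ f
  have : QuasiCompact F.left := by simp only [F, Over.comp_left]; infer_instance
  -- the image
  have : IsSchemeTheoreticallyDominant F.left.toImage := Groth.Flatmor4.isSchemeTheoreticallyDominant_toImage F.left
  let I : Over (Spec (CommRingCat.of k)) := Over.mk (F.left.imageι ≫ Q.hom)
  let i : I ⟶ Q := Over.homMk F.left.imageι rfl
  let g : P₀ ⟶ I := Over.homMk F.left.toImage (by
    show F.left.toImage ≫ F.left.imageι ≫ Q.hom = P₀.hom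
    rw [Scheme.Hom.toImage_imageι_assoc, Over.w])
  have hgi : g ≫ i = F := Over.OverMorphism.ext F.left.toImage_imageι
  have : IsClosedImmersion i.left := inferInstanceAs (IsClosedImmersion F.left.imageι)
  have : IsSchemeTheoreticallyDominant g.left := ‹IsSchemeTheoreticallyDominant F.left.toImage›
  have : QuasiCompact (g.left ≫ i.left) := by rw [← Over.comp_left, hgi]; infer_instance
  have : QuasiCompact g.left := QuasiCompact.of_comp g.left i.left
  obtain ⟨_, hi, hg⟩ := Groth.Agf.exists_grpObj_image F i g hgi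
  have : Surjective g.left := Groth.Agf.surjective_of_dominant g
  have : IsReduced I.left := (Groth.Agent.S2266.result F.left).1
  have : LocallyOfFiniteType I.hom := by rw [← Over.w i]; infer_instance
  have : LocallyOfFiniteType P₀.hom := inferInstance
  have := flat_of_surjective_hom g
  -- its kernel
  have : IsClosedImmersion n.left := by
    have hsq : IsPullback n.left N.hom f.left η[Q].left := by
      have h2 := (show IsPullback n (toUnit N) f η[Q] from hn).map (Over.forget _)
      simpa using h2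
    have : IsClosedImmersion η[Q].left := inferInstance
    exact MorphismProperty.of_isPullback hsq.flip this
  obtain ⟨N₀, n₀, _, hN₀⟩ := Groth.Agf.exists_preimage c n
  have : Mono n₀ := Over.mono_of_mono_left n₀
  have : Mono i := Over.mono_of_mono_left i
  have : Mono n := IsKernel.mono hn
  have hk : AlgGrp.IsKernel n₀ g := IsKernel.mk' ‹_› fun T x => by
    rw [hN₀ T x]
    constructor
    · rintro ⟨b, hb⟩
      rw [← cancel_mono i, Category.assoc, hgi, MonObj.one_comp]
      show x ≫ c ≫ f = 1
      rw [← Category.assoc, hb, Category.assoc, IsKernel.comp_eq_one hn, MonObj.comp_one]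
    · intro hx
      obtain ⟨b, hb⟩ := IsKernel.exists_lift hn (x ≫ c) (by
        rw [Category.assoc, show c ≫ f = g ≫ i from hgi.symm, ← Category.assoc, hx, MonObj.one_comp])
      exact ⟨b, hb.symm⟩
  obtain ⟨b, hb⟩ := (hN₀ N₀ n₀).1 ⟨𝟙 _, Category.id_comp _⟩
  have : IsClosedImmersion b.left := by
    have : IsClosedImmersion (b.left ≫ n.left) := by
      rw [← Over.comp_left, ← hb, Over.comp_left]; infer_instance
    exact IsClosedImmersion.of_comp b.left n.left
  have : IsAffineHom N₀.hom := by
    rw [← Over.w b]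
    have : IsAffineHom N.hom := inferInstance
    infer_instance
  have : IsAffineHom g.left := IsKernel.descends hk @IsAffineHom ‹_›
  show IsAffineHom (c.left ≫ f.left)
  rw [← Over.comp_left, show c ≫ f = g ≫ i from hgi.symm, Over.comp_left]
  infer_instance

end Groth.AlgGrp1
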