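import Groth.Agent.AlgGrp1.Basic
import Mathlib.AlgebraicGeometry.Morphisms.ClosedImmersion
import Mathlib.AlgebraicGeometry.IdealSheaf.Subscheme

/-!
# Closed subschemes in `Over S`: reduced structure, equalizers, factorization
-/

universe u

open CategoryTheory Limits MonoidalCategory CartesianMonoidalCategory MonObj AlgebraicGeometry

namespace Groth.AlgGrp1

variable {S : Scheme.{u}}

/-- A morphism from a reduced scheme whose image lies in a closed subscheme factors through it. -/
theorem exists_factor_of_range_subset {T Z X : Over S} (c : Z ⟶ X) [IsClosedImmersion c.left]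
    [IsReduced T.left] (f : T ⟶ X) (h : Set.range f.left.base ⊆ Set.range c.left.base) :
    ∃ z : T ⟶ Z, z ≫ c = f := by
  have : Surjective (pullback.fst f.left c.left) := ⟨fun t => by
    have : t ∈ Set.range (pullback.fst f.left c.left).base := by
      rw [Scheme.Pullback.range_fst]; exact h ⟨t, rfl⟩
    exact this⟩
  have := isIso_of_isClosedImmersion_of_surjective (pullback.fst f.left c.left)
  refine ⟨Over.homMk (inv (pullback.fst f.left c.left) ≫ pullback.snd f.left c.left) ?_, ?_⟩
  · rw [← Over.w c, Category.assoc, ← pullback.condition_assoc, IsIso.inv_hom_id_assoc, Over.w f]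
  · ext
    simp [← pullback.condition]

/-- The reduced closed subscheme with the same underlying space. -/
theorem exists_reduced (X : Over S) : ∃ (Z : Over S) (c : Z ⟶ X),
    IsClosedImmersion c.left ∧ Surjective c.left ∧ IsReduced Z.left := by
  let I := X.left.nilradical
  refine ⟨Over.mk (I.subschemeι ≫ X.hom), Over.homMk I.subschemeι rfl,
    inferInstanceAs (IsClosedImmersion I.subschemeι), ⟨fun x => ?_⟩, ?_⟩
  · have : x ∈ Set.range I.subschemeι := by
      rw [Scheme.IdealSheafData.range_subschemeι, show I.support = ⊤ from rfl]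
      trivial
    exact this
  · have : ∀ U, IsReduced (I.subschemeCover.openCover.X U) := fun U => by
      have : _root_.IsReduced (Γ(X.left, U.1) ⧸ I.ideal U) :=
        (Ideal.isRadical_iff_quotient_reduced _).1 (Ideal.radical_isRadical _)
      exact inferInstanceAs (IsReduced (Spec (CommRingCat.of (Γ(X.left, U.1) ⧸ I.ideal U))))
    exact IsReduced.of_openCover (X := I.subscheme) I.subschemeCover.openCover

/-- Equalizers of morphisms to a separated object are closed subschemes. -/
theorem exists_equalizer {T H : Over S} [IsSeparated H.hom] (f g : T ⟶ H) :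
    ∃ (Z : Over S) (c : Z ⟶ T), IsClosedImmersion c.left ∧
      ∀ (W : Over S) (x : W ⟶ T), (∃ z : W ⟶ Z, z ≫ c = x) ↔ x ≫ f = x ≫ g := by
  let d : H ⟶ H ⊗ H := lift (𝟙 H) (𝟙 H)
  have : IsClosedImmersion d.left :=
    inferInstanceAs (IsClosedImmersion (pullback.diagonal H.hom))
  let P := pullback (lift f g).left d.left
  let Z : Over S := Over.mk (pullback.fst (lift f g).left d.left ≫ T.hom)
  let c : Z ⟶ T := Over.homMk (pullback.fst (lift f g).left d.left) rfl
  refine ⟨Z, c, inferInstanceAs (IsClosedImmersion (pullback.fst (lift f g).left d.left)), fun W x => ⟨?_, fun h => ?_⟩⟩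
  · rintro ⟨z, rfl⟩
    let e : Z ⟶ H := Over.homMk (pullback.snd (lift f g).left d.left) (by
      rw [show Z.hom = pullback.fst (lift f g).left d.left ≫ T.hom from rfl, ← Over.w (lift f g),
        pullback.condition_assoc, Over.w d])
    have hc : c ≫ lift f g = e ≫ d := by
      apply Over.OverMorphism.ext
      exact pullback.condition (f := (lift f g).left) (g := d.left)
    have h1 := congrArg (fun r => z ≫ r ≫ fst H H) hc
    have h2 := congrArg (fun r => z ≫ r ≫ snd H H) hc
    simp only [d, Category.assoc, lift_fst, lift_snd] at h1 h2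
    rw [Category.assoc, Category.assoc, h1, h2]
  · refine ⟨Over.homMk (pullback.lift x.left (x ≫ f).left ?_) ?_, ?_⟩
    · rw [← Over.comp_left, ← Over.comp_left]
      congr 1
      simp [d, comp_lift, h]
    · rw [show Z.hom = pullback.fst (lift f g).left d.left ≫ T.hom from rfl, pullback.lift_fst_assoc, Over.w x]
    · ext; exact pullback.lift_fst _ _ _

end Groth.AlgGrp1
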