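import Groth.Agent.AlgGrp1.Homogeneous
import Groth.Agent.AlgGrp1.KPoints
import Groth.Agent.AlgGrp1.Sub
import Groth.Agent.AlgGrp1.Extension
import Groth.Agent.Agf.ClosedSubgroup
import Groth.Agent.DescentBase.TopDescent
import Mathlib.AlgebraicGeometry.Morphisms.QuasiFinite

/-!
Over an algebraically closed field a homomorphism of algebraic groups with smooth source and without
nontrivial rational kernel is finite.
-/

universe u

open CategoryTheory Limits MonoidalCategory CartesianMonoidalCategory MonObj GrpObj AlgebraicGeometry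
  TopologicalSpace Topology

namespace Groth.AlgGrp1

/-- Corestriction of a pullback square along a monomorphism of the base. -/
theorem isPullback_of_comp_mono {P A B C D : Scheme.{u}} {p₁ : P ⟶ A} {p₂ : P ⟶ B} {f : A ⟶ C}
    {g : B ⟶ C} {c : C ⟶ D} [Mono c] (h : IsPullback p₁ p₂ (f ≫ c) (g ≫ c)) : IsPullback p₁ p₂ f g := by
  have w : p₁ ≫ f = p₂ ≫ g := by rw [← cancel_mono c, Category.assoc, Category.assoc, h.w]
  refine IsPullback.of_isLimit' ⟨w⟩ (PullbackCone.IsLimit.mk w
    (fun s => h.lift s.fst s.snd (by rw [reassoc_of% s.condition]))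
    (fun s => h.lift_fst _ _ _) (fun s => h.lift_snd _ _ _) fun s m hm₁ hm₂ => ?_)
  exact h.hom_ext (hm₁.trans (h.lift_fst _ _ _).symm) (hm₂.trans (h.lift_snd _ _ _).symm)

variable {k : Type u} [Field k] [IsAlgClosed k] {G H : Over (Spec (CommRingCat.of k))}
  [GrpObj G] [GrpObj H] [LocallyOfFiniteType H.hom] [QuasiCompact H.hom]

/-- A group acts on the target of a homomorphism by translation. -/
noncomputable def transAction (u : G ⟶ H) [IsMonHom u] : AlgGrp.Action G H where
  act := (fst G H ≫ u) * snd G H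
  one_act := by
    have : (toUnit (𝟙_ (Over (Spec (CommRingCat.of k))) ⊗ H)) ≫ η[H] = 1 := rfl
    rw [MonObj.comp_mul, whiskerRight_fst_assoc, IsMonHom.one_hom, whiskerRight_snd,
      toUnit_unique (fst _ H) (toUnit _), this, _root_.one_mul, leftUnitor_hom]
  mul_act := by
    have hμ : μ[G] = fst G G * snd G G := by rw [Hom.mul_def, lift_fst_snd, Category.id_comp]
    simp only [MonObj.comp_mul, whiskerRight_fst_assoc, whiskerRight_snd, hμ, MonObj.mul_comp,
      whiskerLeft_fst_assoc, whiskerLeft_snd, associator_hom_fst_assoc,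
      associator_hom_snd_fst_assoc, associator_hom_snd_snd, _root_.mul_assoc]

omit [IsAlgClosed k] [LocallyOfFiniteType H.hom] [QuasiCompact H.hom] in
theorem transAction_lift {T : Over (Spec (CommRingCat.of k))} (u : G ⟶ H) [IsMonHom u] (g : T ⟶ G) (z : T ⟶ H) :
    lift g z ≫ (transAction u).act = (g ≫ u) * z := by
  simp [transAction, MonObj.comp_mul]

theorem isClosed_range_of_hom [Smooth G.hom] [QuasiCompact G.hom] (u : G ⟶ H) [IsMonHom u] :
    IsClosed (Set.range u.left.base) := by
  have : Nonempty H.left := ⟨η[H].left.base (IsLocalRing.closedPoint k)⟩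
  obtain ⟨x, hx⟩ := exists_isClosed_range_orbitMap (transAction u)
  let R : H ⟶ H := 𝟙 H * (toUnit H ≫ x)
  let R' : H ⟶ H := 𝟙 H * (toUnit H ≫ x)⁻¹
  have hRR : R ≫ R' = 𝟙 H := by
    simp only [R, R', MonObj.comp_mul, Category.comp_id, GrpObj.comp_inv, ← Category.assoc,
      toUnit_unique ((𝟙 H * (toUnit H ≫ x)) ≫ toUnit H) (toUnit H), _root_.mul_assoc, mul_inv_cancel,
      _root_.mul_one]
  have horb : (transAction u).orbitMap x = u ≫ R := by
    rw [AlgGrp.Action.orbitMap, transAction_lift]
    simp only [R, MonObj.comp_mul, Category.comp_id, Category.id_comp]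
    rw [← Category.assoc u, toUnit_unique (u ≫ toUnit H) (toUnit G)]
  rw [horb] at hx
  have : Set.range u.left.base = R.left.base ⁻¹' Set.range (u ≫ R).left.base := by
    have hinj : ∀ a, R'.left.base (R.left.base a) = a := fun a => congr(($hRR).left.base a)
    refine Set.Subset.antisymm ?_ ?_
    · rintro _ ⟨g, rfl⟩; exact ⟨g, rfl⟩
    · rintro a ⟨g, hg⟩
      exact ⟨g, (hinj _).symm.trans ((congrArg R'.left.base hg).trans (hinj a))⟩
  rw [this]
  exact hx.preimage R.left.continuous

theorem isFinite_of_points [Smooth G.hom] [QuasiCompact G.hom] (u : G ⟶ H) [IsMonHom u]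
    (hker : ∀ g : specAlg k k ⟶ G, g ≫ u = 1 → g = 1) : IsFinite u.left := by
  have := geometricallyReduced_of_smooth_hom G
  have := isReduced_left G
  obtain ⟨C₀, c₀, _, hC₀⟩ := Groth.DescentBase.exists_closedImmersion_range (isClosed_range_of_hom u)
  obtain ⟨C, cC, _, _, _⟩ := exists_reduced (Over.mk (c₀ ≫ H.hom))
  let c : C ⟶ H := cC ≫ (Over.homMk c₀ : Over.mk (c₀ ≫ H.hom) ⟶ H)
  have : IsClosedImmersion c.left := inferInstanceAs (IsClosedImmersion (cC.left ≫ c₀))
  have hc : Set.range c.left.base = Set.range u.left.base := by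
    show Set.range (c₀.base ∘ cC.left.base) = _
    rw [Set.range_comp, cC.left.surjective.range_eq, Set.image_univ]
    exact hC₀
  obtain ⟨u', hu'⟩ := exists_factor_of_range_subset c u hc.ge
  have : LocallyOfFiniteType C.hom := by rw [← Over.w c]; infer_instance
  have : QuasiCompact C.hom := by rw [← Over.w c]; infer_instance
  have := isSeparated_grpObj H
  have : IsSeparated C.hom := by rw [← Over.w c]; infer_instance
  have : Mono c := Over.mono_of_mono_left c
  -- points of `C` come from `G`
  have hlift : ∀ z : specAlg k k ⟶ C, ∃ g : specAlg k k ⟶ G, g ≫ u = z ≫ c := fun z => by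
    obtain ⟨a, ha⟩ := hc.le ⟨ptOf z, rfl⟩
    obtain ⟨g, hg, -⟩ := exists_point_lift (K := k) u (z ≫ c) ⊤ ⟨a, trivial, ha⟩
    exact ⟨g, hg⟩
  have := isReduced_tensorObj G C
  have : LocallyOfFiniteType (G ⊗ C).hom :=
    inferInstanceAs (LocallyOfFiniteType (pullback.fst G.hom C.hom ≫ G.hom))
  obtain ⟨m, hm⟩ := exists_factor_of_range_subset c ((G ◁ c) ≫ (transAction u).act) (by
    rw [hc]
    have hcl := (isClosed_range_of_hom u).preimage ((G ◁ c) ≫ (transAction u).act).left.continuous
    rintro _ ⟨w, rfl⟩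
    show w ∈ ((G ◁ c) ≫ (transAction u).act).left.base ⁻¹' Set.range u.left.base
    by_contra hw
    obtain ⟨t, ht⟩ := exists_point_mem_open (K := k) _ hcl.isOpen_compl ⟨w, hw⟩
    obtain ⟨g, hg⟩ := hlift (t ≫ snd G C)
    refine ht ⟨ptOf ((t ≫ fst G C) * g), ?_⟩
    rw [← ptOf_comp, ← ptOf_comp, MonObj.mul_comp, hg]
    congr 1
    rw [← lift_comp_fst_snd t, lift_whiskerLeft_assoc, transAction_lift, lift_fst, lift_snd])
  let b : AlgGrp.Action G C :=
    { act := m
      one_act := by
        rw [← cancel_mono c, Category.assoc, hm, ← whisker_exchange_assoc, (transAction u).one_act]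
        simp
      mul_act := by
        rw [← cancel_mono c, Category.assoc, hm, ← whisker_exchange_assoc, (transAction u).mul_act,
          Category.assoc, Category.assoc, hm, ← MonoidalCategory.whiskerLeft_comp_assoc, hm]
        simp }
  have hb : ∀ {T : Over (Spec (CommRingCat.of k))} (g : T ⟶ G) (z : T ⟶ C),
      lift g z ≫ m ≫ c = (g ≫ u) * (z ≫ c) := fun g z => by
    rw [hm, lift_whiskerLeft_assoc, transAction_lift]
  have hf : (G ◁ u') ≫ b.act = (regularAction G).act ≫ u' := by
    rw [← cancel_mono c, Category.assoc, Category.assoc, hu',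
      show G ◁ u' = lift (fst G G) (snd G G ≫ u') by apply CartesianMonoidalCategory.hom_ext <;> simp, hb,
      Category.assoc, hu', ← MonObj.mul_comp, show fst G G * snd G G = μ[G] from by
        rw [Hom.mul_def, lift_fst_snd, Category.id_comp]]
    rfl
  have htr : ∀ y y' : specAlg k k ⟶ C, ∃ g : specAlg k k ⟶ G, lift g y ≫ b.act = y' := by
    intro y y'
    obtain ⟨g, hg⟩ := hlift y
    obtain ⟨g', hg'⟩ := hlift y'
    refine ⟨g' * g⁻¹, ?_⟩
    rw [← cancel_mono c, Category.assoc, hb, ← hg', ← hg, ← MonObj.mul_comp, inv_mul_cancel_right]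
  have : Flat u'.left := flat_of_equivariant (regularAction G) b u' hf htr
  have : Surjective u'.left := by
    refine ⟨fun z => ?_⟩
    obtain ⟨g, hg⟩ := hc.le ⟨z, rfl⟩
    exact ⟨g, c.left.isClosedEmbedding.injective ((congr(($hu').left.base g)).trans hg)⟩
  have : QuasiCompact u'.left := by
    have : QuasiCompact (u'.left ≫ C.hom) := by rw [Over.w]; infer_instance
    exact QuasiCompact.of_comp _ C.hom
  -- the kernel
  obtain ⟨N, n, _, hN⟩ := Groth.Agf.exists_preimage u η[H]
  have : Mono n := Over.mono_of_mono_left n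
  have hker' : AlgGrp.IsKernel n u := IsKernel.mk' ‹Mono n› fun T g => by
    rw [hN]
    constructor
    · rintro ⟨x, hx⟩
      rw [hx, toUnit_unique x (toUnit T)]; rfl
    · intro h
      exact ⟨toUnit T, h⟩
  have : LocallyOfFiniteType N.hom := by rw [← Over.w n]; infer_instance
  have : QuasiCompact N.hom := by rw [← Over.w n]; infer_instance
  obtain ⟨e, he⟩ := (IsKernel.exists_iff hker' (1 : specAlg k k ⟶ G)).2 (MonObj.one_comp _)
  have hpt : ∀ z : specAlg k k ⟶ N, z = e := fun z => by
    rw [← cancel_mono n, he]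
    exact hker _ ((IsKernel.exists_iff hker' _).1 ⟨z, rfl⟩)
  have hNfin : IsFinite N.hom := by
    have := LocallyOfFiniteType.jacobsonSpace N.hom
    have huniv : closedPoints N.left ⊆ {ptOf e} := fun p hp => by
      obtain ⟨s, hs⟩ := exists_point_over_closed k N p hp
      rw [Set.mem_singleton_iff, ← hs, hpt s]
    have : Finite N.left := by
      have := JacobsonSpace.discreteTopology ((Set.finite_singleton _).subset huniv)
      have : CompactSpace N.left := QuasiCompact.compactSpace_of_compactSpace N.hom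
      exact finite_of_compact_of_discrete
    have : LocallyQuasiFinite N.hom := LocallyQuasiFinite.of_finite_preimage_singleton _ fun _ => Set.toFinite _
    exact IsFinite.of_locallyQuasiFinite _
  have hsq := IsKernel.isPullback_mul_left hker'
  rw [← hu', Over.comp_left] at hsq
  have hfst : IsFinite (fst G N).left :=
    MorphismProperty.of_isPullback (IsPullback.of_hasPullback G.hom N.hom).flip hNfin
  have : IsFinite u'.left :=
    MorphismProperty.of_isPullback_of_descendsAlong (P := @IsFinite) (f := u'.left) (g := u'.left)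
      (isPullback_of_comp_mono hsq).flip (Q := @Surjective ⊓ @Flat ⊓ @QuasiCompact)
      ⟨⟨inferInstance, inferInstance⟩, inferInstance⟩ hfst
  rw [← hu', Over.comp_left]
  infer_instance

end Groth.AlgGrp1
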