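import Groth.Agent.AlgGrp1.Const
import Groth.Agent.AlgGrp1.Sub
import Mathlib.RingTheory.Filtration
import Mathlib.LinearAlgebra.TensorProduct.Basis
import Mathlib.RingTheory.Localization.Ideal
import Mathlib.AlgebraicGeometry.Morphisms.UniversallyOpen

/-!
# The rigidity lemma for a factor with only constant global functions

Let `X` be a quasi-compact quasi-separated `k`-scheme whose global functions are the constants, with
a rational point `x₀`, let `Y` be a connected locally Noetherian `k`-scheme and `Z` a separated one.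
If `f : X × Y → Z` is constant on `X × y₀` for one rational point `y₀`, then `f` factors through the
second projection.
-/

universe u

open CategoryTheory Limits MonoidalCategory CartesianMonoidalCategory MonObj AlgebraicGeometry
  TopologicalSpace
open scoped TensorProduct

namespace Groth.AlgGrp1

variable {k : Type u} [Field k]

variable (k) in
/-- The spectrum of a `k`-algebra as a `k`-scheme. -/
noncomputable abbrev specAlg (R : Type u) [CommRing R] [Algebra k R] :
    Over (Spec (CommRingCat.of k)) :=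
  Over.mk (Spec.map (CommRingCat.ofHom (algebraMap k R)))

instance (R : Type u) [CommRing R] [Algebra k R] : IsAffine (specAlg k R).left :=
  inferInstanceAs (IsAffine (Spec (CommRingCat.of R)))

/-- The morphism of spectra of a homomorphism of `k`-algebras. -/
noncomputable def specAlgMap {R R' : Type u} [CommRing R] [Algebra k R] [CommRing R'] [Algebra k R']
    (φ : R →ₐ[k] R') : specAlg k R' ⟶ specAlg k R :=
  Over.homMk (Spec.map (CommRingCat.ofHom φ.toRingHom)) (by
    show Spec.map _ ≫ Spec.map _ = Spec.map _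
    rw [← Spec.map_comp]
    congr 1
    ext r
    exact φ.commutes r)

/-- Every morphism from an affine spectrum to a `k`-scheme is a point with values in a `k`-algebra. -/
theorem exists_algebra {X : Over (Spec (CommRingCat.of k))} {R : CommRingCat.{u}}
    (a : Spec R ⟶ X.left) :
    ∃ (_ : Algebra k R) (a' : specAlg k R ⟶ X), a'.left = a := by
  let φ := Spec.preimage (a ≫ X.hom)
  let inst : Algebra k R := φ.hom.toAlgebra
  refine ⟨inst, Over.homMk a ?_, rfl⟩
  exact (Spec.map_preimage (a ≫ X.hom)).symm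

theorem tensor_map_injective {A R : Type u} [CommRing A] [Algebra k A] [CommRing R] [Algebra k R]
    {I : Type*} {R' : I → Type u} [∀ i, CommRing (R' i)] [∀ i, Algebra k (R' i)]
    (φ : ∀ i, R →ₐ[k] R' i) (hφ : ∀ r, (∀ i, φ i r = 0) → r = 0) (x : A ⊗[k] R)
    (hx : ∀ i, Algebra.TensorProduct.map (AlgHom.id k A) (φ i) x = 0) : x = 0 := by
  let b := Module.Free.chooseBasis k A
  have nat : ∀ i (z : A ⊗[k] R) j,
      TensorProduct.equivFinsuppOfBasisLeft b (Algebra.TensorProduct.map (AlgHom.id k A) (φ i) z) j =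
        φ i (TensorProduct.equivFinsuppOfBasisLeft b z j) := by
    intro i z j
    induction z with
    | zero => simp
    | tmul a r => simp
    | add z w hz hw => simp only [map_add, Finsupp.add_apply, hz, hw]
  apply (TensorProduct.equivFinsuppOfBasisLeft b).injective
  ext j
  simp only [map_zero, Finsupp.coe_zero, Pi.zero_apply]
  refine hφ _ fun i => ?_
  rw [← nat, hx i]
  simp

/-- A closed immersion into an affine scheme containing a family of points with jointly injective
restriction maps is an isomorphism. -/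
theorem isIso_of_jointly_injective {E P : Scheme.{u}} [IsAffine P] (c : E ⟶ P) [IsClosedImmersion c]
    {I : Type*} {T : I → Scheme.{u}} (h : ∀ i, T i ⟶ P)
    (hinj : ∀ a : Γ(P, ⊤), (∀ i, (h i).appTop.hom a = 0) → a = 0)
    (hfac : ∀ i, ∃ z : T i ⟶ E, z ≫ c = h i) : IsIso c := by
  refine IsClosedImmersion.isIso_of_injective_of_isAffine ?_
  change Function.Injective c.appTop.hom
  rw [injective_iff_map_eq_zero]
  intro a ha
  refine hinj a fun i => ?_
  obtain ⟨z, hz⟩ := hfac i
  rw [← hz]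
  simp only [Scheme.Hom.comp_appTop]
  show z.appTop.hom (c.appTop.hom a) = 0
  rw [ha, map_zero]

theorem box_lift_aux {A R R' : Type u} [CommRing A] [Algebra k A]
    [CommRing R] [Algebra k R] [CommRing R'] [Algebra k R'] (φ : R →ₐ[k] R') :
    (pullbackSpecIso k A R').inv ≫ (specAlg k A ◁ specAlgMap φ).left =
      Spec.map (CommRingCat.ofHom (Algebra.TensorProduct.map (AlgHom.id k A) φ).toRingHom) ≫
        (pullbackSpecIso k A R).inv := by
  refine pullback.hom_ext ?_ ?_
  · simp only [Category.assoc]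
    erw [Over.whiskerLeft_left_fst, pullbackSpecIso_inv_fst, pullbackSpecIso_inv_fst]
    rw [← Spec.map_comp]
    congr 1
    ext z
    simp
  · simp only [Category.assoc]
    erw [Over.whiskerLeft_left_snd, pullbackSpecIso_inv_snd_assoc, pullbackSpecIso_inv_snd]
    show Spec.map _ ≫ Spec.map _ = Spec.map _ ≫ Spec.map _
    rw [← Spec.map_comp, ← Spec.map_comp]
    congr 1

/-- The affine boxes: the closed subscheme pulls back to all of `Spec A × Spec R`. -/
theorem isIso_fst_box {X Y E : Over (Spec (CommRingCat.of k))} (c : E ⟶ X ⊗ Y)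
    [IsClosedImmersion c.left] {A : Type u} [CommRing A] [Algebra k A] (a : specAlg k A ⟶ X)
    {R : Type u} [CommRing R] [Algebra k R] (t : specAlg k R ⟶ Y)
    {I : Type*} {R' : I → Type u} [∀ i, CommRing (R' i)] [∀ i, Algebra k (R' i)]
    (φ : ∀ i, R →ₐ[k] R' i) (hφ : ∀ r, (∀ i, φ i r = 0) → r = 0)
    (h : ∀ i, ∃ z, z ≫ c = X ◁ (specAlgMap (φ i) ≫ t)) :
    IsIso (pullback.fst (a ⊗ₘ t).left c.left) := by
  let e : (specAlg k A ⊗ specAlg k R).left ≅ Spec (CommRingCat.of (A ⊗[k] R)) := pullbackSpecIso k A R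
  have : IsAffine (specAlg k A ⊗ specAlg k R).left := .of_isIso e.hom
  have hI : IsIso e.inv.appTop := inferInstanceAs (IsIso (Scheme.Γ.map e.inv.op))
  let hT : ∀ i, Spec (CommRingCat.of (A ⊗[k] R' i)) ⟶ (specAlg k A ⊗ specAlg k R).left := fun i =>
    Spec.map (CommRingCat.ofHom (Algebra.TensorProduct.map (AlgHom.id k A) (φ i)).toRingHom) ≫ e.inv
  refine isIso_of_jointly_injective _ hT (fun x hx => ?_) (fun i => ?_)
  · have hx' : (e.inv.appTop ≫ (Scheme.ΓSpecIso _).hom).hom x = 0 := by
      refine tensor_map_injective φ hφ _ fun i => ?_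
      have h1 := congrArg (Scheme.ΓSpecIso _).hom.hom (hx i)
      rw [map_zero] at h1
      rw [← h1]
      have hn := congr($(Scheme.ΓSpecIso_naturality
        (CommRingCat.ofHom (Algebra.TensorProduct.map (AlgHom.id k A) (φ i)).toRingHom)).hom
          (e.inv.appTop.hom x))
      simp only [hT, Scheme.Hom.comp_appTop]
      exact hn.symm
    refine (injective_iff_map_eq_zero _).1 ?_ _ hx'
    have : IsIso (e.inv.appTop ≫ (Scheme.ΓSpecIso _).hom) := inferInstance
    exact (ConcreteCategory.bijective_of_isIso (e.inv.appTop ≫ (Scheme.ΓSpecIso _).hom)).1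
  · obtain ⟨z, hz⟩ := h i
    let w : Spec (CommRingCat.of (A ⊗[k] R' i)) ⟶ (X ⊗ specAlg k (R' i)).left :=
      (pullbackSpecIso k A (R' i)).inv ≫ (a ▷ specAlg k (R' i)).left
    have hw : w ≫ (X ◁ (specAlgMap (φ i) ≫ t)).left = hT i ≫ (a ⊗ₘ t).left := by
      rw [show hT i = _ from (box_lift_aux (φ i)).symm, Category.assoc, Category.assoc,
        ← Over.comp_left, ← Over.comp_left]
      congr 2
      apply CartesianMonoidalCategory.hom_ext <;> simp
    refine ⟨pullback.lift (hT i) (w ≫ z.left) ?_, pullback.lift_fst _ _ _⟩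
    rw [Category.assoc]
    exact hw.symm.trans (congrArg (w ≫ ·) (congrArg (fun r => r.left) hz).symm)

theorem cover_member {S : Scheme.{u}} {X U : Over S} (a : U ⟶ X) (T : Over S) :
    (pullback.congrHom (Over.w a) rfl).hom ≫ (a ▷ T).left =
      pullback.map (a.left ≫ X.hom) T.hom X.hom T.hom a.left (𝟙 T.left) (𝟙 S) (Category.comp_id _) rfl := by
  refine pullback.hom_ext ?_ ?_
  · simp only [Category.assoc]
    erw [Over.whiskerRight_left_fst]
    simp only [pullback.congrHom_hom, pullback.map, Category.comp_id]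
    erw [pullback.lift_fst_assoc, pullback.lift_fst]
  · simp only [Category.assoc]
    erw [Over.whiskerRight_left_snd]
    simp only [pullback.congrHom_hom, pullback.map, Category.comp_id]
    erw [pullback.lift_snd, pullback.lift_snd]

theorem cover_member_factor {S : Scheme.{u}} {X U T : Over S} (a : U ⟶ X) {u : U.left ⟶ X.left}
    (hu : a.left = u) {E W : Scheme.{u}} (c : E ⟶ W) (q : (X ⊗ T).left ⟶ W)
    (h : ∃ m : (U ⊗ T).left ⟶ E, m ≫ c = (a ▷ T).left ≫ q) :
    ∃ m : pullback (u ≫ X.hom) T.hom ⟶ E,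
      m ≫ c = pullback.map (u ≫ X.hom) T.hom X.hom T.hom u (𝟙 T.left) (𝟙 S) (Category.comp_id _) rfl ≫ q := by
  subst hu
  obtain ⟨m, hm⟩ := h
  exact ⟨(pullback.congrHom (Over.w a) rfl).hom ≫ m, by
    rw [Category.assoc, hm, ← Category.assoc, cover_member]⟩

theorem cover_member_right {S : Scheme.{u}} {X U Y : Over S} (a : U ⟶ Y) {u : U.left ⟶ Y.left}
    (hu : a.left = u) (q : (X ⊗ U).left ⟶ (X ⊗ Y).left) (hq : q = (X ◁ a).left) :
    ∃ m : pullback X.hom (u ≫ Y.hom) ⟶ (X ⊗ U).left,
      pullback.map X.hom (u ≫ Y.hom) X.hom Y.hom (𝟙 X.left) u (𝟙 S) rfl (Category.comp_id _) = m ≫ q := by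
  subst hu hq
  refine ⟨(pullback.congrHom rfl (Over.w a)).hom, ?_⟩
  refine pullback.hom_ext ?_ ?_
  · simp only [Category.assoc]
    erw [Over.whiskerLeft_left_fst]
    simp only [pullback.congrHom_hom, pullback.map, Category.comp_id]
    erw [pullback.lift_fst, pullback.lift_fst]
  · simp only [Category.assoc]
    erw [Over.whiskerLeft_left_snd]
    simp only [pullback.congrHom_hom, pullback.map, Category.comp_id]
    erw [pullback.lift_snd, pullback.lift_snd_assoc]

/-- If a closed subscheme of `X ⊗ Y` contains the pieces `X × Spec R'ᵢ` of `X × Spec R` for a family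
of maps `R → R'ᵢ` with jointly injective product, it contains `X × Spec R`. -/
theorem factor_of_jointly_injective {X Y E : Over (Spec (CommRingCat.of k))} (c : E ⟶ X ⊗ Y)
    [IsClosedImmersion c.left] {R : Type u} [CommRing R] [Algebra k R] (t : specAlg k R ⟶ Y)
    {I : Type*} {R' : I → Type u} [∀ i, CommRing (R' i)] [∀ i, Algebra k (R' i)]
    (φ : ∀ i, R →ₐ[k] R' i) (hφ : ∀ r, (∀ i, φ i r = 0) → r = 0)
    (h : ∀ i, ∃ z, z ≫ c = X ◁ (specAlgMap (φ i) ≫ t)) : ∃ z, z ≫ c = X ◁ t := by
  let 𝒱 := X.left.affineOpenCover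
  let 𝒰 := Scheme.Pullback.openCoverOfLeft 𝒱.openCover X.hom (specAlg k R).hom
  have key : ∀ j : 𝒱.I₀, ∃ m : 𝒰.X j ⟶ E.left, m ≫ c.left = 𝒰.f j ≫ (X ◁ t).left := by
    intro j
    obtain ⟨instA, a, ha⟩ := exists_algebra (X := X) (𝒱.f j)
    have := isIso_fst_box c a t φ hφ h
    have h1 : (a ⊗ₘ t) = (a ▷ specAlg k R) ≫ (X ◁ t) := tensorHom_def _ _
    let m : (specAlg k (𝒱.X j : CommRingCat) ⊗ specAlg k R).left ⟶ E.left :=
      inv (pullback.fst (a ⊗ₘ t).left c.left) ≫ pullback.snd (a ⊗ₘ t).left c.left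
    have hm : m ≫ c.left = (a ▷ specAlg k R).left ≫ (X ◁ t).left := by
      rw [← Over.comp_left, ← h1]
      simp [m, ← pullback.condition]
    exact cover_member_factor a ha c.left (X ◁ t).left ⟨m, hm⟩
  choose mm hm using key
  let z : (X ⊗ specAlg k R).left ⟶ E.left := Scheme.Cover.glueMorphisms 𝒰 mm (fun i j => by
    refine (cancel_mono c.left).1 ?_
    rw [Category.assoc, Category.assoc]
    exact (congrArg (pullback.fst _ _ ≫ ·) (hm i)).trans ((pullback.condition_assoc _).trans
      (congrArg (pullback.snd _ _ ≫ ·) (hm j)).symm))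
  have hz : z ≫ c.left = (X ◁ t).left := by
    refine 𝒰.hom_ext _ _ fun j => ?_
    exact (Category.assoc _ _ _).symm.trans ((congrArg (· ≫ c.left) (Scheme.Cover.ι_glueMorphisms _ _ _ j)).trans (hm j))
  refine ⟨Over.homMk z ?_, ?_⟩
  · rw [← Over.w c, ← Category.assoc, hz, Over.w (X ◁ t)]
  · exact Over.OverMorphism.ext hz

/-- If `X` has only constant functions, functions on `X × T` come from `T` for affine `T`. -/
theorem isIso_appTop_snd {X T : Over (Spec (CommRingCat.of k))} (hX : HasConstFunctions X)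
    [QuasiCompact X.hom] [QuasiSeparated X.hom] [IsAffine T.left] :
    IsIso (snd X T).left.appTop := by
  have := hX.isIso_appTop
  have : CompactSpace X.left := (quasiCompact_iff_compactSpace X.hom).mp inferInstance
  have : QuasiSeparatedSpace X.left := (quasiSeparated_iff_quasiSeparatedSpace X.hom).mp inferInstance
  have H : IsPullback (pullback.fst X.hom T.hom) (pullback.snd X.hom T.hom) X.hom T.hom :=
    IsPullback.of_hasPullback _ _
  have hiso := isIso_pushoutSection_of_isQuasiSeparated_of_flat_right H (US := ⊤) (UT := ⊤) (UX := ⊤)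
    (hUST := le_of_eq (Scheme.Hom.preimage_top _).symm) (hUSX := le_of_eq (Scheme.Hom.preimage_top _).symm)
    (UY := ⊤) (by simp) (isAffineOpen_top _) (isAffineOpen_top _) CompactSpace.isCompact_univ
    ((isQuasiSeparated_univ_iff).2 inferInstance)
  have hpo := (isIso_pushoutSection_iff H _ _ _).1 hiso
  have hX' : IsIso (X.hom.appLE ⊤ ⊤ le_top) := by
    change IsIso (X.hom.appLE ⊤ (X.hom ⁻¹ᵁ ⊤) le_rfl)
    rw [Scheme.Hom.appLE_eq_app]
    exact ‹IsIso X.hom.appTop›
  have h := hpo.isIso_inr_of_isIso hX'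
  change IsIso ((pullback.snd X.hom T.hom).appLE ⊤ ((pullback.snd X.hom T.hom) ⁻¹ᵁ ⊤) le_rfl) at h
  rw [Scheme.Hom.appLE_eq_app] at h
  exact h

/-- A morphism from `X × T`, `T` affine, with image in an affine open factors through the projection. -/
theorem eq_snd_of_range_subset {X T Z : Over (Spec (CommRingCat.of k))} (hX : HasConstFunctions X)
    [QuasiCompact X.hom] [QuasiSeparated X.hom] [IsAffine T.left] (e : 𝟙_ _ ⟶ X) (f : X ⊗ T ⟶ Z)
    (U : Z.left.Opens) (hU : IsAffineOpen U) (hr : Set.range f.left.base ⊆ (U : Set Z.left)) :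
    f = snd X T ≫ lift (toUnit T ≫ e) (𝟙 T) ≫ f := by
  have := isIso_appTop_snd (T := T) hX
  have : IsAffine U.toScheme := hU
  have hr' : Set.range f.left.base ⊆ Set.range U.ι.base := by rwa [Scheme.Opens.range_ι]
  let fU := IsOpenImmersion.lift U.ι f.left hr'
  let hh : T.left ⟶ U.toScheme := T.left.isoSpec.hom ≫
    Spec.map (fU.appTop ≫ inv (snd X T).left.appTop) ≫ U.toScheme.isoSpec.inv
  have happ : hh.appTop = fU.appTop ≫ inv (snd X T).left.appTop := by
    apply Spec.map_injective
    have := Scheme.isoSpec_hom_naturality hh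
    rw [← cancel_epi T.left.isoSpec.hom, this]
    simp [hh]
  have hfU : (snd X T).left ≫ hh = fU := by
    apply ext_of_isAffine
    rw [Scheme.Hom.comp_appTop, happ, Category.assoc, IsIso.inv_hom_id, Category.comp_id]
  let s : T ⟶ X ⊗ T := lift (toUnit T ≫ e) (𝟙 T)
  have hs : s.left ≫ (snd X T).left = 𝟙 T.left := by
    rw [← Over.comp_left, lift_snd]; rfl
  have hh' : hh = s.left ≫ fU := by
    rw [← hfU, reassoc_of% hs]
  apply Over.OverMorphism.ext
  rw [Over.comp_left, Over.comp_left, ← IsOpenImmersion.lift_fac U.ι f.left hr']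
  show fU ≫ U.ι = (snd X T).left ≫ s.left ≫ fU ≫ U.ι
  rw [← Category.assoc s.left, ← hh', ← Category.assoc, hfU]

/-- A closed subset of a Noetherian sober space which is stable under generization is open. -/
theorem isOpen_of_isClosed_of_stableUnderGeneralization {α : Type*} [TopologicalSpace α]
    [NoetherianSpace α] [QuasiSober α] {W : Set α} (hW : IsClosed W)
    (hg : StableUnderGeneralization W) : IsOpen W := by
  have : Wᶜ = ⋃ C ∈ {C ∈ irreducibleComponents α | C ⊆ Wᶜ}, C := by
    refine Set.Subset.antisymm (fun x hx => ?_) (Set.iUnion₂_subset fun C hC => hC.2)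
    have hC := irreducibleComponent_mem_irreducibleComponents x
    obtain ⟨gp, hη⟩ : ∃ gp, IsGenericPoint gp (irreducibleComponent x) :=
      QuasiSober.sober hC.1 (isClosed_of_mem_irreducibleComponents _ hC)
    refine Set.mem_biUnion (x := irreducibleComponent x) ⟨hC, fun y hy hyW => ?_⟩ mem_irreducibleComponent
    have hηW : gp ∈ W := hg (hη.specializes hy) hyW
    exact hx ((hη.specializes mem_irreducibleComponent).mem_closed hW hηW)
  rw [← isClosed_compl_iff, this]
  exact (NoetherianSpace.finite_irreducibleComponents.subset fun C hC => hC.1).isClosed_biUnion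
    fun C hC => isClosed_of_mem_irreducibleComponents _ hC.1

theorem mem_range_whiskerLeft_iff (X : Over (Spec (CommRingCat.of k)))
    {T Y : Over (Spec (CommRingCat.of k))} (t : T ⟶ Y) (p : (X ⊗ Y).left) :
    p ∈ Set.range (X ◁ t).left.base ↔ (snd X Y).left.base p ∈ Set.range t.left.base := by
  have h1 : (X ◁ t).left ≫ pullback.fst X.hom Y.hom = pullback.fst X.hom T.hom :=
    Over.whiskerLeft_left_fst t
  have h2 : (X ◁ t).left ≫ pullback.snd X.hom Y.hom = pullback.snd X.hom T.hom ≫ t.left :=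
    Over.whiskerLeft_left_snd t
  have outer : IsPullback ((X ◁ t).left ≫ pullback.fst X.hom Y.hom) (pullback.snd X.hom T.hom)
      X.hom (t.left ≫ Y.hom) := by
    rw [h1, Over.w t]
    exact IsPullback.of_hasPullback X.hom T.hom
  have sq := IsPullback.of_right outer h2 (IsPullback.of_hasPullback X.hom Y.hom)
  constructor
  · rintro ⟨q, rfl⟩
    exact ⟨(snd X T).left.base q, congr(($h2.symm).base q)⟩
  · rintro ⟨b, hb⟩
    obtain ⟨q, hq, -⟩ := Scheme.Pullback.exists_preimage_pullback p b hb.symm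
    refine ⟨sq.isoPullback.inv.base q, ?_⟩
    rw [← hq]
    exact congr(($(sq.isoPullback_inv_fst)).base q)

section Main

variable {X Y Z : Over (Spec (CommRingCat.of k))}

/-- If `f` and `g ∘ pr₂` have the same image points over the closed point of a Noetherian local
`k`-algebra mapping to `Y`, they agree on `X × Spec R`. -/
theorem factor_local {E : Over (Spec (CommRingCat.of k))} (c : E ⟶ X ⊗ Y) [IsClosedImmersion c.left]
    (hX : HasConstFunctions X) [QuasiCompact X.hom] [QuasiSeparated X.hom] (x₀ : 𝟙_ _ ⟶ X)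
    (f : X ⊗ Y ⟶ Z)
    (hc : ∀ (V : Over (Spec (CommRingCat.of k))) (x : V ⟶ X ⊗ Y),
      (∃ z : V ⟶ E, z ≫ c = x) ↔ x ≫ f = x ≫ snd X Y ≫ lift (toUnit Y ≫ x₀) (𝟙 Y) ≫ f)
    {R : Type u} [CommRing R] [Algebra k R] [IsNoetherianRing R] [IsLocalRing R] (t : specAlg k R ⟶ Y)
    (ht : ∀ p, (snd X Y).left.base p = t.left.base (IsLocalRing.closedPoint R) →
      p ∈ Set.range c.left.base) : ∃ z, z ≫ c = X ◁ t := by
  have hc0 := (hc E c).1 ⟨𝟙 E, Category.id_comp c⟩
  let g : Y ⟶ Z := lift (toUnit Y ≫ x₀) (𝟙 Y) ≫ f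
  refine factor_of_jointly_injective c t
    (fun n : ℕ => Ideal.Quotient.mkₐ k (IsLocalRing.maximalIdeal R ^ (n + 1))) (fun r hr => ?_) fun n => ?_
  · have h : r ∈ (⨅ i : ℕ, IsLocalRing.maximalIdeal R ^ i : Ideal R) := by
      rw [Ideal.mem_iInf]
      intro i
      exact Ideal.pow_le_pow_right (Nat.le_succ i) (Ideal.Quotient.eq_zero_iff_mem.1 (hr i))
    rw [Ideal.iInf_pow_eq_bot_of_isLocalRing _ (IsLocalRing.maximalIdeal.isMaximal R).ne_top] at h
    exact h
  · let tn := specAlgMap (Ideal.Quotient.mkₐ k (IsLocalRing.maximalIdeal R ^ (n + 1))) ≫ t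
    refine (hc _ _).2 ?_
    obtain ⟨_, ⟨U, hU, rfl⟩, hzU, -⟩ := Z.left.isBasis_affineOpens.exists_subset_of_mem_open
      (Set.mem_univ (g.left.base (t.left.base (IsLocalRing.closedPoint R)))) isOpen_univ
    have hr : Set.range ((X ◁ tn) ≫ f).left.base ⊆ (U : Set Z.left) := by
      rintro _ ⟨p, rfl⟩
      have hp : (snd X Y).left.base ((X ◁ tn).left.base p) = t.left.base (IsLocalRing.closedPoint R) := by
        obtain ⟨b, hb⟩ := (mem_range_whiskerLeft_iff X tn _).1 ⟨p, rfl⟩
        rw [← hb]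
        show t.left.base ((specAlgMap _).left.base b) = _
        congr 1
        apply PrimeSpectrum.ext
        refine ((IsLocalRing.maximalIdeal.isMaximal R).eq_of_le ?_ ?_).symm
        · exact (PrimeSpectrum.isPrime _).ne_top
        · intro r hr
          refine Ideal.IsPrime.mem_of_pow_mem (PrimeSpectrum.isPrime _) (n + 1) ?_
          have h0 : Ideal.Quotient.mk (IsLocalRing.maximalIdeal R ^ (n + 1)) (r ^ (n + 1)) = 0 :=
            Ideal.Quotient.eq_zero_iff_mem.2 (Ideal.pow_mem_pow hr _)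
          show Ideal.Quotient.mk (IsLocalRing.maximalIdeal R ^ (n + 1)) (r ^ (n + 1)) ∈
            (b : PrimeSpectrum (R ⧸ IsLocalRing.maximalIdeal R ^ (n + 1))).asIdeal
          rw [h0]
          exact Ideal.zero_mem _
      obtain ⟨q, hq⟩ := ht _ hp
      have := congr(($hc0).left.base q)
      show f.left.base ((X ◁ tn).left.base p) ∈ _
      rw [← hq]
      change f.left.base (c.left.base q) = g.left.base ((snd X Y).left.base (c.left.base q)) at this
      rw [this, hq, hp]
      exact hzU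
    have h := eq_snd_of_range_subset hX x₀ ((X ◁ tn) ≫ f) U hU hr
    show (X ◁ tn) ≫ f = (X ◁ tn) ≫ snd X Y ≫ lift (toUnit Y ≫ x₀) (𝟙 Y) ≫ f
    rw [h, whiskerLeft_snd_assoc, ← Category.assoc tn, ← Category.assoc (lift _ _), lift_whiskerLeft,
      comp_lift, Category.id_comp, Category.comp_id, ← Category.assoc tn, toUnit_unique (tn ≫ toUnit Y) (toUnit _)]

/-- **Rigidity**: if `X` has only constant functions and `f : X × Y → Z` is constant on `X × y₀`,
then `f` factors through the projection to the connected scheme `Y`. -/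
theorem eq_snd_comp_of_const (hX : HasConstFunctions X) [QuasiCompact X.hom] [QuasiSeparated X.hom]
    [IsLocallyNoetherian Y.left] [PreconnectedSpace Y.left] [IsSeparated Z.hom]
    (x₀ : 𝟙_ _ ⟶ X) (y₀ : 𝟙_ _ ⟶ Y) (z₀ : 𝟙_ _ ⟶ Z) (f : X ⊗ Y ⟶ Z)
    (hf : (X ◁ y₀) ≫ f = toUnit _ ≫ z₀) :
    f = snd X Y ≫ lift (toUnit Y ≫ x₀) (𝟙 Y) ≫ f := by
  obtain ⟨E, c, _, hc⟩ := exists_equalizer f (snd X Y ≫ lift (toUnit Y ≫ x₀) (𝟙 Y) ≫ f)
  let W : Set Y.left := ((snd X Y).left.base '' (Set.range c.left.base)ᶜ)ᶜ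
  have hmem : ∀ y, y ∈ W ↔ ∀ p, (snd X Y).left.base p = y → p ∈ Set.range c.left.base := by
    intro y
    simp only [W, Set.mem_compl_iff, Set.mem_image, not_exists, not_and]
    exact ⟨fun h p hp => by_contra fun hn => h p hn hp, fun h p hn hp => hn (h p hp)⟩
  have hopen : IsOpenMap (snd X Y).left.base := by
    exact (pullback.snd X.hom Y.hom).isOpenMap
  have hWc : IsClosed W :=
    (hopen _ (c.left.isClosedEmbedding.isClosed_range).isOpen_compl).isClosed_compl
  let 𝒱 := Y.left.affineOpenCover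
  have hnoeth : ∀ i, IsNoetherianRing (𝒱.X i) := fun i => by
    have := isLocallyNoetherian_of_isOpenImmersion (𝒱.f i)
    exact (isNoetherian_Spec.1 ⟨⟩)
  -- the agreement on `X × Spec O_y` for `y ∈ W`
  have hloc : ∀ (i) (p : PrimeSpectrum (𝒱.X i)) (_ : Algebra k (𝒱.X i))
      (a : specAlg k (𝒱.X i : CommRingCat) ⟶ Y) (_ : a.left = 𝒱.f i), (𝒱.f i).base p ∈ W →
      ∃ z, z ≫ c = X ◁ (specAlgMap
        (IsScalarTower.toAlgHom k (𝒱.X i) (Localization.AtPrime p.asIdeal)) ≫ a) := by
    intro i p _ a ha hp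
    have := hnoeth i
    refine factor_local c hX x₀ f hc _ ?_
    refine fun q hq => (hmem _).1 hp q (hq.trans ?_)
    rw [← ha]
    show a.left.base _ = a.left.base p
    congr 1
    exact PrimeSpectrum.ext (Localization.AtPrime.under_maximalIdeal)
  have hWg : StableUnderGeneralization W := by
    intro y y' hyy hy
    obtain ⟨i, p, rfl⟩ := 𝒱.openCover.exists_eq y
    have : IsOpenImmersion (𝒱.f i) := 𝒱.map_prop i
    obtain ⟨p', rfl⟩ := hyy.mem_open (𝒱.f i).isOpenEmbedding.isOpen_range ⟨p, rfl⟩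
    change PrimeSpectrum (𝒱.X i : CommRingCat) at p p'
    have hpp : p'.asIdeal ≤ p.asIdeal :=
      (PrimeSpectrum.le_iff_specializes p' p).2 ((𝒱.f i).isOpenEmbedding.isInducing.specializes_iff.1 hyy)
    obtain ⟨_, a, ha⟩ := exists_algebra (X := Y) (𝒱.f i)
    obtain ⟨z, hz⟩ := hloc i p _ a ha hy
    rw [hmem]
    intro q hq
    obtain ⟨P, hP⟩ : ∃ P : PrimeSpectrum (Localization.AtPrime p.asIdeal),
        PrimeSpectrum.comap (algebraMap (𝒱.X i : CommRingCat) _) P = p' := by
      rw [← Set.mem_range, PrimeSpectrum.localization_comap_range _ p.asIdeal.primeCompl]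
      exact Set.disjoint_left.2 fun a ha' ha'' => ha' (hpp ha'')
    obtain ⟨r, hr⟩ := (mem_range_whiskerLeft_iff X (specAlgMap
      (IsScalarTower.toAlgHom k (𝒱.X i) (Localization.AtPrime p.asIdeal)) ≫ a) q).2 ⟨P, by
        rw [hq, ← hP, ← ha]
        rfl⟩
    exact ⟨z.left.base r, by rw [← hr, ← hz]; rfl⟩
  have hWo : IsOpen W := by
    have key : ∀ i, IsOpen ((𝒱.f i).base ⁻¹' W) := fun i => by
      have := hnoeth i
      refine isOpen_of_isClosed_of_stableUnderGeneralization (hWc.preimage (𝒱.f i).continuous) ?_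
      intro a b hab ha
      exact hWg (hab.map (𝒱.f i).continuous) ha
    rw [isOpen_iff_mem_nhds]
    intro y hy
    obtain ⟨i, p, rfl⟩ := 𝒱.openCover.exists_eq y
    have : IsOpenImmersion (𝒱.f i) := 𝒱.map_prop i
    exact Filter.mem_of_superset (((𝒱.f i).isOpenEmbedding.isOpenMap _ (key i)).mem_nhds ⟨p, hy, rfl⟩)
      (Set.image_preimage_subset _ _)
  have hWne : W.Nonempty := by
    refine ⟨y₀.left.base (IsLocalRing.closedPoint k), (hmem _).2 fun p hp => ?_⟩
    obtain ⟨q, rfl⟩ := (mem_range_whiskerLeft_iff X y₀ p).2 ⟨_, hp.symm⟩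
    obtain ⟨z, hz⟩ := (hc _ (X ◁ y₀)).2 (by
      rw [hf, whiskerLeft_snd_assoc, comp_lift_assoc]
      have := congrArg (fun r => lift x₀ (𝟙 (𝟙_ _)) ≫ r) hf
      simp only [← Category.assoc] at this
      rw [lift_whiskerLeft, Category.id_comp] at this
      rw [toUnit_unique (lift x₀ (𝟙 (𝟙_ _)) ≫ toUnit _) (𝟙 _), Category.id_comp] at this
      rw [toUnit_unique (snd X (𝟙_ _)) (toUnit _), ← Category.assoc y₀, toUnit_unique (y₀ ≫ toUnit Y) (𝟙 _),
        Category.id_comp, Category.comp_id, this])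
    exact ⟨z.left.base q, by rw [← hz]; rfl⟩
  have hWuniv : W = Set.univ := IsClopen.eq_univ ⟨hWc, hWo⟩ hWne
  have main : ∀ i, ∃ (_ : Algebra k (𝒱.X i)) (a : specAlg k (𝒱.X i : CommRingCat) ⟶ Y),
      a.left = 𝒱.f i ∧ ∃ z, z ≫ c = X ◁ a := fun i => by
    obtain ⟨_, a, ha⟩ := exists_algebra (X := Y) (𝒱.f i)
    refine ⟨_, a, ha, factor_of_jointly_injective c a
      (fun p : PrimeSpectrum (𝒱.X i) => IsScalarTower.toAlgHom k (𝒱.X i) (Localization.AtPrime p.asIdeal))
      (fun r hr => ?_) fun p => hloc i p _ a ha (hWuniv ▸ Set.mem_univ _)⟩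
    by_contra hr0
    obtain ⟨P, hP, hle⟩ := Ideal.exists_le_maximal _
      (show (LinearMap.ker (LinearMap.toSpanSingleton (𝒱.X i : CommRingCat) (𝒱.X i : CommRingCat) r)) ≠ ⊤ by
        rw [Ne, Ideal.eq_top_iff_one]; simpa using hr0)
    obtain ⟨s, hs⟩ := (IsLocalization.map_eq_zero_iff P.primeCompl (Localization.AtPrime P) r).1
      (hr ⟨P, hP.isPrime⟩)
    exact s.2 (hle (by simpa using hs))
  choose inst a ha hz using main
  apply Over.OverMorphism.ext
  refine (Scheme.Pullback.openCoverOfRight 𝒱.openCover X.hom Y.hom).hom_ext _ _ fun i => ?_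
  let := inst i
  obtain ⟨z, hz'⟩ := hz i
  have h := congrArg (fun r => r.left) ((hc _ _).1 ⟨z, hz'⟩)
  obtain ⟨m, hm⟩ := cover_member_right (a i) (ha i) (X := X) (X ◁ a i).left rfl
  have e : (Scheme.Pullback.openCoverOfRight 𝒱.openCover X.hom Y.hom).f i = m ≫ (X ◁ a i).left := hm
  rw [e]
  exact (Category.assoc _ _ _).trans ((congrArg (m ≫ ·) h).trans (Category.assoc _ _ _).symm)

end Main

end Groth.AlgGrp1
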