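import Groth.Agent.AlgGrp1.PointsAlg
import Groth.Agent.AlgGrp1.Rigidity
import Groth.Agent.AlgGrp1.Blanchard
import Groth.Agent.AlgGrp1.SmoothReduced
import Groth.Agent.VarietyBC.Reduced
import Groth.Prelude.Def_Red

/-!
# Schematic density of rational points over separably closed fields
-/

universe u

open CategoryTheory Limits MonoidalCategory CartesianMonoidalCategory MonObj AlgebraicGeometry
  TopologicalSpace
open scoped TensorProduct

namespace Groth.AlgGrp1

variable {k : Type u} [Field k]

theorem infinite_of_isSepClosed [IsSepClosed k] : Infinite k := by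
  by_contra h
  have : Finite k := not_infinite_iff_finite.1 h
  have : PerfectField k := inferInstance
  have : IsAlgClosed k := IsAlgClosed.of_exists_root k fun p _ hirr =>
    IsSepClosed.exists_root p (Polynomial.natDegree_pos_iff_degree_pos.1 hirr.natDegree_pos).ne'
      (PerfectField.separable_of_irreducible hirr)
  exact not_finite k

/-- The product of a geometrically reduced scheme and a reduced scheme is reduced. -/
theorem isReduced_tensorObj (X Y : Over (Spec (CommRingCat.of k))) [hX : GeometricallyReduced X.hom]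
    [IsReduced Y.left] : IsReduced (X ⊗ Y).left := by
  let : X.left.Over (Spec (CommRingCat.of k)) := ⟨X.hom⟩
  let : Y.left.Over (Spec (CommRingCat.of k)) := ⟨Y.hom⟩
  have h : GeometricallyReduced (X.left ↘ Spec (CommRingCat.of k)) := hX
  have : ∀ z, _root_.IsReduced ((pullback X.hom Y.hom).presheaf.stalk z) := fun z =>
    Groth.VarietyBC.isReduced_stalk_prod (Y := Y.left) (pullback.fst X.hom Y.hom z)
      (Groth.VarietyBC.geometricallyReduced_iff_forall.1 h _) z rfl
  exact isReduced_of_isReduced_stalk (pullback X.hom Y.hom)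

theorem geometricallyReduced_tensorObj (X Y : Over (Spec (CommRingCat.of k)))
    [GeometricallyReduced X.hom] [hY : GeometricallyReduced Y.hom] [LocallyOfFiniteType Y.hom] :
    GeometricallyReduced (X ⊗ Y).hom := by
  constructor
  intro K _ y Z p q H
  have hw : (pullback.fst X.hom Y.hom ≫ X.hom) = pullback.snd X.hom Y.hom ≫ Y.hom := pullback.condition
  have H' : IsPullback p q (pullback.snd X.hom Y.hom ≫ Y.hom) y := hw ▸ H
  let r : Z ⟶ pullback Y.hom y := pullback.lift (p ≫ pullback.snd X.hom Y.hom) q
    (by rw [Category.assoc]; exact H'.w)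
  have sq : IsPullback p r (pullback.snd X.hom Y.hom) (pullback.fst Y.hom y) := by
    have outer : IsPullback p (r ≫ pullback.snd Y.hom y) (pullback.snd X.hom Y.hom ≫ Y.hom) y := by
      rw [pullback.lift_snd]; exact H'
    exact outer.of_bot (pullback.lift_fst _ _ _).symm (IsPullback.of_hasPullback Y.hom y)
  have : GeometricallyReduced r := MorphismProperty.of_isPullback sq inferInstance
  have : Flat r := MorphismProperty.of_isPullback sq inferInstance
  have : IsReduced (pullback Y.hom y) :=
    hY.geometrically_isReduced y _ _ (IsPullback.of_hasPullback Y.hom y)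
  have : IsLocallyNoetherian (pullback Y.hom y) :=
    LocallyOfFiniteType.isLocallyNoetherian (pullback.snd Y.hom y)
  exact GeometricallyReduced.isReduced_of_flat_of_isLocallyNoetherian r

theorem isReduced_left (X : Over (Spec (CommRingCat.of k))) [hX : GeometricallyReduced X.hom] :
    IsReduced X.left :=
  hX.geometrically_isReduced (𝟙 _) (𝟙 _) X.hom IsPullback.of_id_fst

theorem geometricallyReduced_of_smooth_hom (X : Over (Spec (CommRingCat.of k))) [Smooth X.hom] :
    GeometricallyReduced X.hom :=
  geometricallyReduced_of_smooth X.hom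

/-- Rational points are dense in a geometrically reduced scheme over a separably closed field. -/
theorem exists_point_mem [IsSepClosed k] (X : Over (Spec (CommRingCat.of k)))
    [LocallyOfFiniteType X.hom] [hX : GeometricallyReduced X.hom] (U : X.left.Opens)
    (hU : (U : Set X.left).Nonempty) :
    ∃ s : 𝟙_ (Over (Spec (CommRingCat.of k))) ⟶ X, s.left.base (IsLocalRing.closedPoint k) ∈ U := by
  have := infinite_of_isSepClosed (k := k)
  obtain ⟨x, hx⟩ := hU
  obtain ⟨_, ⟨V, hV, rfl⟩, hxV, hVU⟩ := X.left.isBasis_affineOpens.exists_subset_of_mem_open hx U.2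
  obtain ⟨instA, a, ha⟩ := exists_algebra (X := X) hV.fromSpec
  let A := Γ(X.left, V)
  have : IsOpenImmersion a.left := by rw [ha]; exact hV.isOpenImmersion_fromSpec
  have : IsReduced X.left := isReduced_left X
  have hA : _root_.IsReduced A := inferInstanceAs (_root_.IsReduced Γ(X.left, V))
  have : LocallyOfFiniteType (specAlg k A).hom := by rw [← Over.w a]; infer_instance
  have : Algebra.FiniteType k A :=
    RingHom.finiteType_algebraMap.1
      ((HasRingHomProperty.Spec_iff (P := @LocallyOfFiniteType) (φ := CommRingCat.ofHom (algebraMap k A))).1 this)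
  have hred : _root_.IsReduced (AlgebraicClosure k ⊗[k] A) := by
    let K := AlgebraicClosure k
    have : IsReduced (X ⊗ specAlg k K).left :=
      hX.geometrically_isReduced (K := K) _ _ _ (IsPullback.of_hasPullback X.hom (specAlg k K).hom)
    have : IsOpenImmersion (a ▷ specAlg k K).left :=
      MorphismProperty.of_isPullback (isPullback_whiskerRight a (specAlg k K)) ‹IsOpenImmersion a.left›
    have : IsReduced (specAlg k A ⊗ specAlg k K).left := isReduced_of_isOpenImmersion (a ▷ specAlg k K).left
    have : IsReduced (Spec (CommRingCat.of (A ⊗[k] K))) :=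
      @isReduced_of_isOpenImmersion _ _ (pullbackSpecIso k A K).inv inferInstance this
    have : _root_.IsReduced (A ⊗[k] K) := (affine_isReduced_iff (CommRingCat.of (A ⊗[k] K))).1 this
    exact Groth.VarietyBC.isReduced_tensor_comm this
  have : Nonempty (Spec Γ(X.left, V)) := ⟨(hV.isoSpec.hom).base ⟨x, hxV⟩⟩
  have : Nontrivial A := PrimeSpectrum.nonempty_iff_nontrivial.1 this
  obtain ⟨φ, -⟩ := exists_algHom_ne_zero A hred 1 one_ne_zero
  let s₀ : 𝟙_ (Over (Spec (CommRingCat.of k))) ⟶ specAlg k A :=
    Over.homMk (Spec.map (CommRingCat.ofHom φ.toRingHom) : Spec (CommRingCat.of k) ⟶ Spec (CommRingCat.of A)) (by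
      have h : CommRingCat.ofHom (algebraMap k A) ≫ CommRingCat.ofHom φ.toRingHom = 𝟙 (CommRingCat.of k) := by
        ext c
        exact φ.commutes c
      exact (Spec.map_comp _ _).symm.trans ((congrArg Spec.map h).trans (Spec.map_id _)))
  let s := s₀ ≫ a
  refine ⟨s, hVU ?_⟩
  have : s.left.base (IsLocalRing.closedPoint k) ∈ Set.range hV.fromSpec.base := by
    rw [← ha]; exact ⟨_, rfl⟩
  rwa [hV.range_fromSpec] at this

theorem dense_points [IsSepClosed k] (X : Over (Spec (CommRingCat.of k)))
    [LocallyOfFiniteType X.hom] [GeometricallyReduced X.hom] :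
    Dense {p : ↥X.left | ∃ (s : 𝟙_ (Over (Spec (CommRingCat.of k))) ⟶ X) (t : ↥(Spec (CommRingCat.of k))),
      s.left.base t = p} := by
  rw [dense_iff_inter_open]
  intro o ho hne
  obtain ⟨s, hs⟩ := exists_point_mem X ⟨o, ho⟩ hne
  exact ⟨_, hs, s, _, rfl⟩

section Ext

variable (K : Type u) [Field K] [Algebra k K]

/-- If the `K`-points are dense in `X_K` and `X` is reduced, a closed subscheme containing all of them
is everything. -/
theorem isIso_of_dense_points (X : Over (Spec (CommRingCat.of k))) [IsReduced X.left]
    (hK : Dense {p : ↥(Red.bc (Spec.map (CommRingCat.ofHom (algebraMap k K))) X).left |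
        ∃ (s : 𝟙_ (Over (Spec (CommRingCat.of K))) ⟶ Red.bc (Spec.map (CommRingCat.ofHom (algebraMap k K))) X) (t : ↥(Spec (CommRingCat.of K))), s.left.base t = p})
    {Z : Over (Spec (CommRingCat.of k))} (c : Z ⟶ X) [IsClosedImmersion c.left]
    (hZ : ∀ x : specAlg k K ⟶ X, ∃ z : specAlg k K ⟶ Z, z ≫ c = x) : IsIso c := by
  let f : (Red.bc (Spec.map (CommRingCat.ofHom (algebraMap k K))) X).left ⟶ X.left :=
    pullback.fst X.hom (Spec.map (CommRingCat.ofHom (algebraMap k K)))
  have hsub : ∀ p, f.base p ∈ Set.range c.left.base := by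
    intro p
    have hcl : IsClosed (f.base ⁻¹' Set.range c.left.base) :=
      c.left.isClosedEmbedding.isClosed_range.preimage f.continuous
    suffices h : _ ⊆ f.base ⁻¹' Set.range c.left.base by
      have hu := (hK.mono h).closure_eq.symm.trans hcl.closure_eq
      exact hu.le (Set.mem_univ p)
    rintro _ ⟨s, t, rfl⟩
    let x : specAlg k K ⟶ X := Over.homMk (s.left ≫ f) (by
      have hs := Over.w s
      show (s.left ≫ f) ≫ X.hom = _
      rw [Category.assoc, pullback.condition, ← Category.assoc]
      exact (congrArg (· ≫ Spec.map (CommRingCat.ofHom (algebraMap k K))) hs).trans (Category.id_comp _))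
    obtain ⟨z, hz⟩ := hZ x
    exact ⟨z.left.base t, congr(($hz).left.base t)⟩
  have : Surjective c.left := ⟨fun x => by
    have : Surjective (Spec.map (CommRingCat.ofHom (algebraMap k K))) :=
      ⟨fun q => ⟨IsLocalRing.closedPoint K, Subsingleton.elim _ _⟩⟩
    obtain ⟨p, rfl⟩ := (pullback.fst X.hom (Spec.map (CommRingCat.ofHom (algebraMap k K)))).surjective x
    exact hsub p⟩
  have := isIso_of_isClosedImmersion_of_surjective c.left
  have : IsIso ((Over.forget _).map c) := this
  exact isIso_of_reflects_iso c (Over.forget _)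

/-- `K`-points of a geometrically reduced scheme are schematically dense, `K` separably closed. -/
theorem isIso_of_sepClosed_points [IsSepClosed K] (X : Over (Spec (CommRingCat.of k)))
    [LocallyOfFiniteType X.hom] [GeometricallyReduced X.hom]
    {Z : Over (Spec (CommRingCat.of k))} (c : Z ⟶ X) [IsClosedImmersion c.left]
    (hZ : ∀ x : specAlg k K ⟶ X, ∃ z : specAlg k K ⟶ Z, z ≫ c = x) : IsIso c := by
  have := isReduced_left X
  have : LocallyOfFiniteType (Red.bc (Spec.map (CommRingCat.ofHom (algebraMap k K))) X).hom :=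
    inferInstanceAs (LocallyOfFiniteType (pullback.snd X.hom (Spec.map (CommRingCat.ofHom (algebraMap k K)))))
  have : GeometricallyReduced (Red.bc (Spec.map (CommRingCat.ofHom (algebraMap k K))) X).hom :=
    inferInstanceAs (GeometricallyReduced (pullback.snd X.hom (Spec.map (CommRingCat.ofHom (algebraMap k K)))))
  exact isIso_of_dense_points K X (dense_points _) c hZ

/-- A morphism from a geometrically reduced scheme mapping all `K`-points into a closed subscheme
factors through it. -/
theorem factor_of_sepClosed_points [IsSepClosed K] {T X Z : Over (Spec (CommRingCat.of k))}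
    [LocallyOfFiniteType T.hom] [GeometricallyReduced T.hom] (c : Z ⟶ X) [IsClosedImmersion c.left]
    (f : T ⟶ X) (h : ∀ t : specAlg k K ⟶ T, ∃ z : specAlg k K ⟶ Z, z ≫ c = t ≫ f) :
    ∃ z : T ⟶ Z, z ≫ c = f := by
  let P : Over (Spec (CommRingCat.of k)) := Over.mk (pullback.fst f.left c.left ≫ T.hom)
  let p : P ⟶ T := Over.homMk (pullback.fst f.left c.left) rfl
  let q : P ⟶ Z := Over.homMk (pullback.snd f.left c.left) (by
    show pullback.snd _ _ ≫ Z.hom = pullback.fst _ _ ≫ T.hom
    rw [← Over.w c, ← Over.w f, pullback.condition_assoc])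
  have hpq : p ≫ f = q ≫ c := Over.OverMorphism.ext pullback.condition
  have : IsClosedImmersion p.left := inferInstanceAs (IsClosedImmersion (pullback.fst f.left c.left))
  have : IsIso p := isIso_of_sepClosed_points K T p fun t => by
    obtain ⟨z, hz⟩ := h t
    refine ⟨Over.homMk (pullback.lift t.left z.left congr(($hz.symm).left)) ?_, ?_⟩
    · show _ ≫ pullback.fst f.left c.left ≫ T.hom = _
      rw [← Category.assoc]
      exact (congrArg (· ≫ T.hom) (pullback.lift_fst _ _ _)).trans (Over.w t)
    · exact Over.OverMorphism.ext (pullback.lift_fst _ _ _)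
  exact ⟨inv p ≫ q, by rw [Category.assoc, ← hpq, IsIso.inv_hom_id_assoc]⟩

/-- Morphisms to a separated scheme agreeing on `K`-points are equal. -/
theorem eq_of_sepClosed_points [IsSepClosed K] {T X : Over (Spec (CommRingCat.of k))}
    [LocallyOfFiniteType T.hom] [GeometricallyReduced T.hom] [IsSeparated X.hom] (f g : T ⟶ X)
    (h : ∀ t : specAlg k K ⟶ T, t ≫ f = t ≫ g) : f = g := by
  obtain ⟨E, c, _, hc⟩ := exists_equalizer f g
  have := isIso_of_sepClosed_points K T c fun t => (hc _ t).2 (h t)
  simpa using (hc _ (𝟙 T)).1 ⟨inv c, IsIso.inv_hom_id c⟩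

end Ext

end Groth.AlgGrp1

namespace Groth.AlgGrp1

/-- Closed points lift to points in an algebraically closed extension. -/
theorem exists_point_over_closed {k : Type u} [Field k] (K : Type u) [Field K] [Algebra k K]
    [IsAlgClosed K] (X : Over (Spec (CommRingCat.of k))) [LocallyOfFiniteType X.hom]
    (x : X.left) (hx : x ∈ closedPoints X.left) :
    ∃ s : specAlg k K ⟶ X, s.left.base (IsLocalRing.closedPoint K) = x := by
  let f : (Red.bc (Spec.map (CommRingCat.ofHom (algebraMap k K))) X).left ⟶ X.left :=
    pullback.fst X.hom (Spec.map (CommRingCat.ofHom (algebraMap k K)))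
  let g : (Red.bc (Spec.map (CommRingCat.ofHom (algebraMap k K))) X).left ⟶ Spec (CommRingCat.of K) :=
    pullback.snd X.hom (Spec.map (CommRingCat.ofHom (algebraMap k K)))
  have : Surjective (Spec.map (CommRingCat.ofHom (algebraMap k K))) :=
    ⟨fun q => ⟨IsLocalRing.closedPoint K, Subsingleton.elim _ _⟩⟩
  have : Surjective f := inferInstanceAs (Surjective (pullback.fst _ _))
  have : LocallyOfFiniteType g := inferInstanceAs (LocallyOfFiniteType (pullback.snd _ _))
  have : JacobsonSpace ↥(Red.bc (Spec.map (CommRingCat.ofHom (algebraMap k K))) X).left :=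
    LocallyOfFiniteType.jacobsonSpace g
  obtain ⟨p, hp, hpc⟩ := nonempty_inter_closedPoints (Z := f.base ⁻¹' {x})
    (f.surjective x) ((IsClosed.preimage f.continuous hx).isLocallyClosed)
  let s : Spec (CommRingCat.of K) ⟶ X.left := pointOfClosedPoint g p hpc ≫ f
  refine ⟨Over.homMk s ?_, ?_⟩
  · show (pointOfClosedPoint g p hpc ≫ f) ≫ X.hom = _
    rw [Category.assoc, pullback.condition]
    exact (Category.assoc _ _ _).symm.trans
      ((congrArg (· ≫ Spec.map _) (pointOfClosedPoint_comp g p hpc)).trans (Category.id_comp _))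
  · show f.base ((pointOfClosedPoint g p hpc).base _) = x
    exact (congrArg f.base (pointOfClosedPoint_apply g p hpc _)).trans hp

end Groth.AlgGrp1
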