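import Groth.Agent.AlgGrp1.Basic
import Groth.Agent.GrpschAbsch.SmoothField
import Mathlib.AlgebraicGeometry.AlgClosed.Basic
import Mathlib.RingTheory.LocalProperties.Reduced

/-!
# Translations of closed points, reducedness at closed points
-/

universe u

open CategoryTheory Limits MonoidalCategory CartesianMonoidalCategory MonObj AlgebraicGeometry
  TopologicalSpace

namespace Groth.AlgGrp1

variable {k : Type u} [Field k]

/-- Over an algebraically closed field translations act transitively on closed points. -/
theorem exists_translation [IsAlgClosed k] (G : Over (Spec (CommRingCat.of k))) [GrpObj G]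
    [LocallyOfFiniteType G.hom] (x y : G.left) (hx : IsClosed {x}) (hy : IsClosed {y}) :
    ∃ φ : G ≅ G, φ.hom.left.base x = y := by
  let x' : 𝟙_ _ ⟶ G := Over.homMk _ ((pointEquivClosedPoint G.hom).symm ⟨x, hx⟩).2
  let y' : 𝟙_ _ ⟶ G := Over.homMk _ ((pointEquivClosedPoint G.hom).symm ⟨y, hy⟩).2
  let α := (GrpObj.mulRight (A := G) x').symm ≪≫ GrpObj.mulRight (A := G) y'
  have hα : x' ≫ α.hom = y' := by
    dsimp only [Iso.trans_hom, Iso.symm_hom, α]
    rw [← Category.assoc, ← Iso.eq_comp_inv]
    simp [comp_lift_assoc]
  refine ⟨α, ?_⟩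
  simpa [x', y', pointEquivClosedPoint] using congr(($hα).left.base (IsLocalRing.closedPoint k))

/-- A Jacobson scheme which is reduced at its closed points is reduced. -/
theorem isReduced_of_closedPoints (X : Scheme.{u}) [JacobsonSpace X]
    (h : ∀ x : X, IsClosed {x} → _root_.IsReduced (X.presheaf.stalk x)) : IsReduced X := by
  suffices H : ∀ U : X.affineOpens, _root_.IsReduced Γ(X, U) by
    let 𝒰 := X.openCoverOfIsOpenCover (fun U : X.affineOpens => U.1) (iSup_affineOpens_eq_top X)
    have : ∀ U, IsReduced (𝒰.X U) := fun U => by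
      have : IsAffine (U.1 : X.Opens).toScheme := U.2
      have : _root_.IsReduced Γ((U.1 : X.Opens).toScheme, ⊤) :=
        isReduced_of_injective (U.1 : X.Opens).topIso.hom.hom (U.1 : X.Opens).topIso.commRingCatIsoToRingEquiv.injective
      exact isReduced_of_isAffine_isReduced (X := (U.1 : X.Opens).toScheme)
    exact IsReduced.of_openCover (X := X) 𝒰
  intro U
  refine isReduced_ofLocalizationMaximal _ fun m hm => ?_
  let p : PrimeSpectrum Γ(X, U) := ⟨m, hm.isPrime⟩
  have hpU : U.2.fromSpec.base p ∈ (U.1 : X.Opens) := by
    have : U.2.fromSpec.base p ∈ Set.range U.2.fromSpec.base := ⟨p, rfl⟩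
    rwa [U.2.range_fromSpec] at this
  have hp : IsClosed ({p} : Set (PrimeSpectrum Γ(X, U))) := (PrimeSpectrum.isClosed_singleton_iff_isMaximal p).2 hm
  have hx : IsClosed ({U.2.fromSpec.base p} : Set X) := by
    have := (U.2.fromSpec.isOpenEmbedding.preimage_closedPoints).ge hp
    exact this
  have := h _ hx
  let := TopCat.Presheaf.algebra_section_stalk X.presheaf ⟨U.2.fromSpec.base p, hpU⟩
  have : IsLocalization m.primeCompl (X.presheaf.stalk (U.2.fromSpec.base p)) := U.2.isLocalization_stalk' p hpU
  exact isReduced_of_injective (IsLocalization.algEquiv m.primeCompl (Localization.AtPrime m)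
    (X.presheaf.stalk (U.2.fromSpec.base p))).toRingHom
    (IsLocalization.algEquiv m.primeCompl (Localization.AtPrime m) (X.presheaf.stalk (U.2.fromSpec.base p))).injective

/-- A group scheme over an algebraically closed field reduced at the unit is reduced. -/
theorem isReduced_of_isReduced_stalk_unit [IsAlgClosed k] (G : Over (Spec (CommRingCat.of k))) [GrpObj G]
    [LocallyOfFiniteType G.hom] (t : ↥(Spec (CommRingCat.of k)))
    (h : _root_.IsReduced (G.left.presheaf.stalk (η[G].left.base t))) : IsReduced G.left := by
  have := LocallyOfFiniteType.jacobsonSpace G.hom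
  refine isReduced_of_closedPoints _ fun x hx => ?_
  have he : IsClosed ({η[G].left.base t} : Set G.left) := by
    have := η[G].left.isClosedEmbedding.isClosedMap _ (isClosed_discrete ({t} : Set ↥(Spec (CommRingCat.of k))))
    rwa [Set.image_singleton] at this
  obtain ⟨φ, hφ⟩ := exists_translation G x _ hx he
  have : IsIso φ.hom.left := inferInstanceAs (IsIso ((Over.forget _).map φ.hom))
  rw [← hφ] at h
  exact isReduced_of_injective (inv (φ.hom.left.stalkMap x)).hom
    (ConcreteCategory.bijective_of_isIso (inv (φ.hom.left.stalkMap x))).1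

end Groth.AlgGrp1
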