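import Groth.Agent.AlgGrp1.Basic
import Groth.Prelude.Def_ChGrp

/-!
# Actions on points
-/

universe u

open CategoryTheory MonoidalCategory CartesianMonoidalCategory MonObj AlgebraicGeometry

namespace Groth.AlgGrp1

variable {S : Scheme.{u}} {G X : Over S} [GrpObj G] (a : AlgGrp.Action G X)

theorem comp_orbit {T : Over S} (g : T ⟶ G) (o : 𝟙_ (Over S) ⟶ X) :
    g ≫ a.orbitMap o = lift g (toUnit T ≫ o) ≫ a.act := by
  simp [AlgGrp.Action.orbitMap, comp_lift_assoc]

theorem comp_act {T T' : Over S} (c : T' ⟶ T) (g : T ⟶ G) (x : T ⟶ X) :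
    c ≫ lift g x ≫ a.act = lift (c ≫ g) (c ≫ x) ≫ a.act := by
  rw [comp_lift_assoc]

theorem inv_act_cancel {T : Over S} (g : T ⟶ G) (x : T ⟶ X) :
    lift g⁻¹ (lift g x ≫ a.act) ≫ a.act = x := by
  rw [← a.lift_mul_act, inv_mul_cancel, a.lift_one_act]

theorem act_inv_cancel {T : Over S} (g : T ⟶ G) (x : T ⟶ X) :
    lift g (lift g⁻¹ x ≫ a.act) ≫ a.act = x := by
  rw [← a.lift_mul_act, mul_inv_cancel, a.lift_one_act]

theorem act_eq_iff {T : Over S} (g g' : T ⟶ G) (x : T ⟶ X) :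
    lift g x ≫ a.act = lift g' x ≫ a.act ↔ lift (g'⁻¹ * g) x ≫ a.act = x := by
  constructor
  · intro h
    rw [a.lift_mul_act, h, inv_act_cancel]
  · intro h
    conv_rhs => rw [← h, ← a.lift_mul_act, mul_inv_cancel_left]

/-- The shear automorphism `(g, x) ↦ (g, g • x)` of `G ⊗ X`. -/
noncomputable def shear : G ⊗ X ≅ G ⊗ X where
  hom := lift (fst G X) a.act
  inv := lift (fst G X) (lift (fst G X)⁻¹ (snd G X) ≫ a.act)
  hom_inv_id := by
    apply AlgGrp.Action.hom_ext_lift₂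
    intro T g x
    simp [comp_lift, comp_lift_assoc, GrpObj.comp_inv, inv_act_cancel]
  inv_hom_id := by
    apply AlgGrp.Action.hom_ext_lift₂
    intro T g x
    simp [comp_lift, comp_lift_assoc, GrpObj.comp_inv, act_inv_cancel]

end Groth.AlgGrp1

namespace Groth.AlgGrp1

theorem action_ext {S : Scheme.{u}} {G X : Over S} [GrpObj G] {a b : AlgGrp.Action G X}
    (h : a.act = b.act) : a = b := by
  cases a; cases b; cases h; rfl

end Groth.AlgGrp1
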