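import Groth.Agent.AlgGrp1.Basic
import Groth.Agent.AlgGrp1.Geom
import Groth.Agent.AlgGrp1.Blanchard
import Groth.Agent.GrpschAbsch.Basic

/-!
# Open subgroups and group schemes with open unit
-/

universe u

open CategoryTheory Limits MonoidalCategory CartesianMonoidalCategory MonObj AlgebraicGeometry
  TopologicalSpace

namespace Groth.AlgGrp1

variable {k : Type u} [Field k]

/-- A morphism to a group scheme with open unit section is flat. -/
theorem flat_of_isOpenImmersion_unit {X P : Over (Spec (CommRingCat.of k))} [GrpObj P]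
    [IsOpenImmersion η[P].left] (f : X ⟶ P) : Flat f.left := by
  have : IsOpenImmersion (X ◁ η[P]).left :=
    MorphismProperty.of_isPullback (isPullback_whiskerLeft X η[P]) ‹IsOpenImmersion η[P].left›
  have : IsIso (ρ_ X).inv.left := inferInstanceAs (IsIso ((Over.forget _).map (ρ_ X).inv))
  have : IsIso (Groth.GrpschAbsch.shearL f).hom.left :=
    inferInstanceAs (IsIso ((Over.forget _).map (Groth.GrpschAbsch.shearL f).hom))
  have := flat_snd X P
  have e : f = (ρ_ X).inv ≫ (X ◁ η[P]) ≫ (Groth.GrpschAbsch.shearL f).hom ≫ snd X P := by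
    rw [Groth.GrpschAbsch.shearL_hom_snd, Groth.GrpschAbsch.whiskerRight_mul, MonObj.comp_mul,
      whiskerLeft_fst_assoc, whiskerLeft_snd, MonObj.comp_mul, rightUnitor_inv_fst_assoc,
      ← Category.assoc, toUnit_unique ((ρ_ X).inv ≫ snd X _) (toUnit X)]
    exact (mul_one f).symm
  rw [e]
  simp only [Over.comp_left]
  infer_instance

/-- The unit of the target of a cover with open kernel is open. -/
theorem isOpenImmersion_unit {N G Q : Over (Spec (CommRingCat.of k))} [GrpObj Q] {i : N ⟶ G}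
    {q : G ⟶ Q} (h : AlgGrp.IsKernel i q) [IsOpenImmersion i.left] [Flat q.left] [Surjective q.left]
    [QuasiCompact q.left] : IsOpenImmersion η[Q].left :=
  MorphismProperty.of_isPullback_of_descendsAlong (P := @IsOpenImmersion)
    (Q := @Surjective ⊓ @Flat ⊓ @QuasiCompact) (h.map (Over.forget _))
    ⟨⟨‹_›, ‹_›⟩, ‹_›⟩ ‹_›

/-- An open subgroup is closed. -/
theorem isClosed_range_of_openSubgroup {H G : Over (Spec (CommRingCat.of k))} [GrpObj H] [GrpObj G]
    (i : H ⟶ G) [IsMonHom i] [IsOpenImmersion i.left] : IsClosed (Set.range i.left.base) := by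
  rw [← closure_eq_iff_isClosed]
  refine Set.Subset.antisymm (fun x hx => ?_) subset_closure
  let L := G.left.residueField x
  obtain ⟨instL, xL, hxL⟩ := exists_algebra (X := G) (G.left.fromSpecResidueField x)
  let t := (specAlg k L ◁ i) ≫ xL ▷ G ≫ μ[G]
  have ht : t = (fst _ H ≫ xL) * (snd _ H ≫ i) := by
    rw [show t = (specAlg k L ◁ i) ≫ xL ▷ G ≫ μ[G] from rfl, Groth.GrpschAbsch.whiskerRight_mul,
      MonObj.comp_mul, whiskerLeft_fst_assoc, whiskerLeft_snd]
  have : IsOpenImmersion (specAlg k L ◁ i).left :=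
    MorphismProperty.of_isPullback (isPullback_whiskerLeft (specAlg k L) i) ‹IsOpenImmersion i.left›
  have : UniversallyOpen (xL ▷ G ≫ μ[G]).left :=
    Groth.GrpschAbsch.whiskerRight_mul_left_mem (@UniversallyOpen) xL inferInstance
  have hopen : IsOpen (Set.range t.left.base) := by
    have : UniversallyOpen t.left := by
      show UniversallyOpen ((specAlg k L ◁ i).left ≫ (xL ▷ G ≫ μ[G]).left)
      infer_instance
    exact t.left.isOpenMap.isOpen_range
  have hxt : x ∈ Set.range t.left.base := by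
    refine ⟨(lift (𝟙 (specAlg k L)) (1 : _ ⟶ H)).left.base (IsLocalRing.closedPoint L), ?_⟩
    have e : lift (𝟙 (specAlg k L)) (1 : _ ⟶ H) ≫ t = xL := by
      rw [ht, MonObj.comp_mul, lift_fst_assoc, lift_snd_assoc, Category.id_comp, MonObj.one_comp, _root_.mul_one]
    refine (congr(($e).left.base (IsLocalRing.closedPoint L))).trans ?_
    rw [hxL]
    exact Scheme.fromSpecResidueField_apply _ _
  obtain ⟨y, hyt, hyi⟩ := mem_closure_iff.1 hx _ hopen hxt
  obtain ⟨z, rfl⟩ := hyt
  obtain ⟨instΩ, zΩ, hzΩ⟩ := exists_algebra (X := specAlg k L ⊗ H) ((specAlg k L ⊗ H).left.fromSpecResidueField z)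
  have hr : Set.range (zΩ ≫ t).left.base ⊆ Set.range i.left.base := by
    rintro _ ⟨w, rfl⟩
    show t.left.base (zΩ.left.base w) ∈ _
    rw [hzΩ, Scheme.fromSpecResidueField_apply]
    exact hyi
  let h' := IsOpenImmersion.lift i.left (zΩ ≫ t).left hr
  let h'' : specAlg k _ ⟶ H := Over.homMk h' (by
    rw [← Over.w i, ← Category.assoc, IsOpenImmersion.lift_fac, Over.w])
  have hh : h'' ≫ i = zΩ ≫ t := Over.OverMorphism.ext (IsOpenImmersion.lift_fac _ _ _)
  have key : zΩ ≫ fst _ H ≫ xL = (h'' * (zΩ ≫ snd _ H)⁻¹) ≫ i := by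
    rw [MonObj.mul_comp, GrpObj.inv_comp, hh, ht, MonObj.comp_mul, ← Category.assoc zΩ (snd _ H),
      mul_inv_cancel_right]
  let w₀ := IsLocalRing.closedPoint ((specAlg k L ⊗ H).left.residueField z)
  refine ⟨(h'' * (zΩ ≫ snd _ H)⁻¹).left.base w₀, ?_⟩
  refine (congr(($key.symm).left.base w₀)).trans ?_
  show xL.left.base _ = x
  rw [hxL]
  exact Scheme.fromSpecResidueField_apply _ _

end Groth.AlgGrp1
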