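import Groth.Prelude.Def_AlgGrp
import Mathlib.AlgebraicGeometry.Sites.Fpqc
import Mathlib.AlgebraicGeometry.Morphisms.FlatMono
import Mathlib.AlgebraicGeometry.Noetherian
import Mathlib.AlgebraicGeometry.Group.Abelian

/-!
# Point-level toolkit for group schemes over a base

Homomorphisms and kernels on points, fppf covers in `Over S` and descent of morphisms along them,
separatedness of group schemes over a field, and finiteness conditions for morphisms of schemes
locally of finite type over a field.
-/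

universe u

open CategoryTheory Limits MonoidalCategory CartesianMonoidalCategory MonObj AlgebraicGeometry

namespace Groth.AlgGrp1

variable {S : Scheme.{u}}

/-- A morphism of group objects compatible with products of points is a homomorphism. -/
theorem isMonHom_of_points {G H : Over S} [GrpObj G] [GrpObj H] (f : G ⟶ H)
    (h : ∀ (T : Over S) (a b : T ⟶ G), (a * b) ≫ f = (a ≫ f) * (b ≫ f)) : IsMonHom f where
  mul_hom := by
    have h' := h (G ⊗ G) (fst G G) (snd G G)
    rw [Hom.mul_def, Hom.mul_def] at h'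
    simpa [lift_map] using h'
  one_hom := by
    have h' := h (𝟙_ _) η[G] η[G]
    have e : (η[G] : 𝟙_ _ ⟶ G) = 1 := MonObj.one_eq_one G
    have e' : (η[H] : 𝟙_ _ ⟶ H) = 1 := MonObj.one_eq_one H
    rw [e, _root_.one_mul, left_eq_mul] at h'
    rw [e, e']
    exact h'

/-! ### Kernels -/

section Kernel

variable {N G Q : Over S} [GrpObj Q] {i : N ⟶ G} {q : G ⟶ Q}

theorem IsKernel.comp_eq_one (h : AlgGrp.IsKernel i q) : i ≫ q = 1 := by
  rw [h.w]; rfl

theorem IsKernel.exists_lift (h : AlgGrp.IsKernel i q) {T : Over S} (g : T ⟶ G) (hg : g ≫ q = 1) :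
    ∃ n : T ⟶ N, n ≫ i = g :=
  ⟨h.lift g (toUnit T) hg, h.lift_fst _ _ _⟩

theorem IsKernel.exists_iff (h : AlgGrp.IsKernel i q) {T : Over S} (g : T ⟶ G) :
    (∃ n : T ⟶ N, n ≫ i = g) ↔ g ≫ q = 1 := by
  refine ⟨?_, IsKernel.exists_lift h g⟩
  rintro ⟨n, rfl⟩
  rw [Category.assoc, IsKernel.comp_eq_one h, MonObj.comp_one]

theorem IsKernel.mono (h : AlgGrp.IsKernel i q) : Mono i where
  right_cancellation a b hab := h.hom_ext hab (toUnit_unique _ _)

theorem IsKernel.mk' (hi : Mono i) (h : ∀ (T : Over S) (g : T ⟶ G), (∃ n : T ⟶ N, n ≫ i = g) ↔ g ≫ q = 1) :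
    AlgGrp.IsKernel i q := by
  have w : i ≫ q = 1 := (h _ i).1 ⟨𝟙 _, Category.id_comp _⟩
  have w' : i ≫ q = toUnit N ≫ η[Q] := w
  have cond : ∀ s : PullbackCone q η[Q], s.fst ≫ q = 1 := fun s =>
    s.condition.trans (congrArg (· ≫ η[Q]) (toUnit_unique s.snd (toUnit s.pt)))
  refine ⟨⟨w'⟩, ⟨PullbackCone.IsLimit.mk _ (fun s => ((h _ s.fst).2 (cond s)).choose) ?_ ?_ ?_⟩⟩
  · intro s; exact ((h _ s.fst).2 (cond s)).choose_spec
  · intro s; exact toUnit_unique _ _
  · intro s m hm _
    rw [← cancel_mono i, hm]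
    exact ((h _ s.fst).2 (cond s)).choose_spec.symm

end Kernel

/-! ### fppf covers -/

/-- A morphism over `S` whose underlying morphism is flat, surjective and locally of finite
presentation. -/
structure IsCover {X Y : Over S} (p : X ⟶ Y) : Prop where
  flat : Flat p.left
  surj : Surjective p.left
  lfp : LocallyOfFinitePresentation p.left

namespace IsCover

variable {X Y Z : Over S}

theorem effectiveEpi {p : X ⟶ Y} (hp : IsCover p) : EffectiveEpi p.left := by
  have := hp.flat; have := hp.surj; have := hp.lfp; infer_instance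

theorem epi {p : X ⟶ Y} (hp : IsCover p) : Epi p := by
  have := hp.effectiveEpi
  exact Over.epi_of_epi_left p

theorem cancel {p : X ⟶ Y} (hp : IsCover p) {a b : Y ⟶ Z} (h : p ≫ a = p ≫ b) : a = b := by
  have := hp.epi
  exact (cancel_epi p).1 h

theorem id (X : Over S) : IsCover (𝟙 X) := by
  exact ⟨inferInstanceAs (Flat (𝟙 X.left)), inferInstanceAs (Surjective (𝟙 X.left)), inferInstanceAs (LocallyOfFinitePresentation (𝟙 X.left))⟩

theorem comp {p : X ⟶ Y} {q : Y ⟶ Z} (hp : IsCover p) (hq : IsCover q) : IsCover (p ≫ q) := by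
  have := hp.flat; have := hp.surj; have := hp.lfp
  have := hq.flat; have := hq.surj; have := hq.lfp
  constructor <;> (rw [Over.comp_left]; infer_instance)

theorem of_isPullback {p : X ⟶ Y} (hp : IsCover p) {Z' : Over S} {q : Z ⟶ Z'}
    {f : Z'.left ⟶ Y.left} {g : Z.left ⟶ X.left} (h : IsPullback g q.left p.left f) : IsCover q :=
  ⟨MorphismProperty.of_isPullback h hp.flat, MorphismProperty.of_isPullback h hp.surj,
    MorphismProperty.of_isPullback h hp.lfp⟩

/-- Points of the target of a cover lift after a cover of the source. -/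
theorem exists_lift {p : X ⟶ Y} (hp : IsCover p) {T : Over S} (y : T ⟶ Y) :
    ∃ (T' : Over S) (c : T' ⟶ T) (x : T' ⟶ X), IsCover c ∧ x ≫ p = c ≫ y := by
  have := hp.flat; have := hp.surj; have := hp.lfp
  let T' : Over S := Over.mk (pullback.fst y.left p.left ≫ T.hom)
  let c : T' ⟶ T := Over.homMk (pullback.fst y.left p.left) rfl
  let x : T' ⟶ X := Over.homMk (pullback.snd y.left p.left) (by
    show pullback.snd _ _ ≫ X.hom = pullback.fst _ _ ≫ T.hom
    rw [← Over.w p, ← Over.w y, pullback.condition_assoc])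
  refine ⟨T', c, x, ⟨?_, ?_, ?_⟩, ?_⟩
  · exact inferInstanceAs (Flat (pullback.fst y.left p.left))
  · exact inferInstanceAs (Surjective (pullback.fst y.left p.left))
  · exact inferInstanceAs (LocallyOfFinitePresentation (pullback.fst y.left p.left))
  ext
  exact pullback.condition.symm

/-- Descent of morphisms along a cover. -/
theorem exists_desc {p : X ⟶ Y} (hp : IsCover p) (f : X ⟶ Z)
    (hf : ∀ (T : Over S) (a b : T ⟶ X), a ≫ p = b ≫ p → a ≫ f = b ≫ f) :
    ∃ g : Y ⟶ Z, p ≫ g = f := by
  have := hp.effectiveEpi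
  have hf' : ∀ {W : Scheme.{u}} (a b : W ⟶ X.left), a ≫ p.left = b ≫ p.left →
      a ≫ f.left = b ≫ f.left := by
    intro W a b hab
    have hW : b ≫ X.hom = a ≫ X.hom := by
      rw [← Over.w p, ← Category.assoc, ← hab, Category.assoc]
    exact congr(($(hf (Over.mk (a ≫ X.hom)) (Over.homMk a rfl) (Over.homMk b hW)
      (by ext; exact hab))).left)
  refine ⟨Over.homMk (EffectiveEpi.desc p.left f.left (fun a b h => hf' a b h)) ?_, ?_⟩
  · rw [← cancel_epi p.left, EffectiveEpi.fac_assoc, Over.w f, Over.w p]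
  · ext
    exact EffectiveEpi.fac p.left f.left (fun a b h => hf' a b h)

/-- The base change of a cover along a projection. -/
theorem whiskerRight {p : X ⟶ Y} (hp : IsCover p) (Z : Over S) : IsCover (p ▷ Z) := by
  have h1 : (p ▷ Z).left ≫ pullback.fst Y.hom Z.hom = pullback.fst X.hom Z.hom ≫ p.left :=
    Over.whiskerRight_left_fst p
  have h2 : (p ▷ Z).left ≫ pullback.snd Y.hom Z.hom = pullback.snd X.hom Z.hom :=
    Over.whiskerRight_left_snd p
  have outer : IsPullback ((p ▷ Z).left ≫ pullback.snd Y.hom Z.hom) (pullback.fst X.hom Z.hom)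
      Z.hom (p.left ≫ Y.hom) := by
    rw [h2, Over.w p]
    exact (IsPullback.of_hasPullback X.hom Z.hom).flip
  have := IsPullback.of_right outer h1 (IsPullback.of_hasPullback Y.hom Z.hom).flip
  exact of_isPullback hp this.flip

theorem whiskerLeft {p : X ⟶ Y} (hp : IsCover p) (Z : Over S) : IsCover (Z ◁ p) := by
  have h1 : (Z ◁ p).left ≫ pullback.fst Z.hom Y.hom = pullback.fst Z.hom X.hom :=
    Over.whiskerLeft_left_fst p
  have h2 : (Z ◁ p).left ≫ pullback.snd Z.hom Y.hom = pullback.snd Z.hom X.hom ≫ p.left :=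
    Over.whiskerLeft_left_snd p
  have outer : IsPullback ((Z ◁ p).left ≫ pullback.fst Z.hom Y.hom) (pullback.snd Z.hom X.hom)
      Z.hom (p.left ≫ Y.hom) := by
    rw [h1, Over.w p]
    exact IsPullback.of_hasPullback Z.hom X.hom
  have := IsPullback.of_right outer h2 (IsPullback.of_hasPullback Z.hom Y.hom)
  exact of_isPullback hp this.flip

end IsCover

/-! ### Over a field -/

section Field

variable {k : Type u} [Field k]

/-- A group scheme over a field is separated. -/
theorem isSeparated_grpObj (G : Over (Spec (CommRingCat.of k))) [GrpObj G] : IsSeparated G.hom := by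
  let D : G ⊗ G ⟶ G := (snd G G)⁻¹ * fst G G
  have hD : ∀ {T : Over (Spec (CommRingCat.of k))} (a b : T ⟶ G), lift a b ≫ D = b⁻¹ * a := by
    intro T a b
    simp [D, MonObj.comp_mul, GrpObj.comp_inv]
  have w : (lift (𝟙 G) (𝟙 G)) ≫ D = toUnit G ≫ η[G] := by
    rw [hD, inv_mul_cancel]; rfl
  have hp : IsPullback (lift (𝟙 G) (𝟙 G)) (toUnit G) D η[G] := by
    refine ⟨⟨w⟩, ⟨PullbackCone.IsLimit.mk _ (fun s => s.fst ≫ fst G G) ?_ ?_ ?_⟩⟩
    · intro s
      have hs := s.condition
      rw [← lift_comp_fst_snd s.fst, hD, toUnit_unique s.snd (toUnit _)] at hs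
      have : s.fst ≫ fst G G = s.fst ≫ snd G G := eq_of_inv_mul_eq_one hs.symm.symm |>.symm
      apply CartesianMonoidalCategory.hom_ext <;> simp [this]
    · intro s; exact toUnit_unique _ _
    · intro s m hm _
      simp [← hm]
  have hl := hp.map (Over.forget _)
  have : IsClosedImmersion ((Over.forget (Spec (CommRingCat.of k))).map η[G]) :=
    inferInstanceAs (IsClosedImmersion η[G].left)
  have : IsClosedImmersion (lift (𝟙 G) (𝟙 G)).left := MorphismProperty.of_isPullback hl.flip this
  exact ⟨this⟩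

theorem isLocallyNoetherian_left (X : Over (Spec (CommRingCat.of k))) [LocallyOfFiniteType X.hom] :
    IsLocallyNoetherian X.left :=
  LocallyOfFiniteType.isLocallyNoetherian X.hom

/-- A morphism between schemes locally of finite type over a field is locally of finite presentation. -/
theorem lfp_left {X Y : Over (Spec (CommRingCat.of k))} (f : X ⟶ Y) [LocallyOfFiniteType X.hom]
    [LocallyOfFiniteType Y.hom] : LocallyOfFinitePresentation f.left := by
  have := isLocallyNoetherian_left Y
  have : LocallyOfFiniteType (f.left ≫ Y.hom) := by rw [Over.w f]; infer_instance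
  have := locallyOfFiniteType_of_comp f.left Y.hom
  infer_instance

/-- A flat surjective morphism between schemes locally of finite type over a field is a cover. -/
theorem isCover {X Y : Over (Spec (CommRingCat.of k))} (f : X ⟶ Y) [LocallyOfFiniteType X.hom]
    [LocallyOfFiniteType Y.hom] [Flat f.left] [Surjective f.left] : IsCover f :=
  ⟨inferInstance, inferInstance, lfp_left f⟩

theorem isIso_of_mono_cover {X Y : Over (Spec (CommRingCat.of k))} {f : X ⟶ Y} [Mono f]
    (hf : IsCover f) : IsIso f := by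
  have := hf.flat; have := hf.surj; have := hf.lfp
  have : IsOpenImmersion f.left := IsOpenImmersion.of_flat_of_mono f.left
  have : IsIso f.left := by
    rw [isIso_iff_isOpenImmersion_and_epi_base]
    exact ⟨this, (TopCat.epi_iff_surjective _).2 hf.surj.surj⟩
  have : IsIso ((Over.forget _).map f) := this
  exact isIso_of_reflects_iso f (Over.forget _)

end Field

end Groth.AlgGrp1

namespace Groth.AlgGrp1

/-- Factorisation through a monomorphism descends along covers. -/
theorem factor_of_cover {S : Scheme.{u}} {T' T H G : Over S} {c : T' ⟶ T} (hc : IsCover c)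
    {i : H ⟶ G} [Mono i] (g : T ⟶ G) (h : ∃ x : T' ⟶ H, x ≫ i = c ≫ g) :
    ∃ x : T ⟶ H, x ≫ i = g := by
  obtain ⟨x, hx⟩ := h
  obtain ⟨y, hy⟩ := hc.exists_desc x (fun W a b hab => by
    rw [← cancel_mono i, Category.assoc, Category.assoc, hx, ← Category.assoc, hab, Category.assoc])
  exact ⟨y, hc.cancel (by rw [← Category.assoc, hy, hx])⟩

end Groth.AlgGrp1

namespace Groth.AlgGrp1

/-- Two points of the target of a cover lift after a common cover of the source. -/
theorem IsCover.exists_lift₂ {S : Scheme.{u}} {T X Y : Over S} {p : X ⟶ Y} (hp : IsCover p)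
    (y y' : T ⟶ Y) :
    ∃ (T' : Over S) (c : T' ⟶ T) (x x' : T' ⟶ X), IsCover c ∧ x ≫ p = c ≫ y ∧ x' ≫ p = c ≫ y' := by
  obtain ⟨T1, c1, x, hc1, hx⟩ := hp.exists_lift y
  obtain ⟨T2, c2, x', hc2, hx'⟩ := hp.exists_lift (c1 ≫ y')
  exact ⟨T2, c2 ≫ c1, c2 ≫ x, x', hc2.comp hc1, by rw [Category.assoc, hx, Category.assoc],
    by rw [hx', Category.assoc]⟩

end Groth.AlgGrp1
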