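import Groth.Agent.AlgGrp1.MonoHom
import Groth.Agent.AlgGrp1.Points
import Groth.Agent.Agf.SubobjGrp
import Groth.Agent.Agf.GeomRed
import Groth.Agent.Agf.SmoothRed
import Groth.Agent.GrpschAbsch.GrpEtaleRel

/-!
The image of a homomorphism from a geometrically reduced group, and its basic properties.
-/

set_option autoImplicit false
universe u

open CategoryTheory Limits MonoidalCategory CartesianMonoidalCategory MonObj GrpObj AlgebraicGeometry

noncomputable section

namespace Groth.AlgGrp1

variable {k : Type u} [Field k]

/-- A homomorphism of algebraic groups over a field factors as a faithfully flat homomorphism followed by a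
closed immersion. -/
theorem exists_image_hom {H G : Over (Spec (CommRingCat.of k))} [GrpObj H] [GrpObj G]
    [LocallyOfFiniteType H.hom] [QuasiCompact H.hom] [LocallyOfFiniteType G.hom] [QuasiCompact G.hom]
    (f : H ⟶ G) [IsMonHom f] :
    ∃ (K : Over (Spec (CommRingCat.of k))) (_ : GrpObj K) (c : K ⟶ G) (g : H ⟶ K),
      IsMonHom c ∧ IsClosedImmersion c.left ∧ IsMonHom g ∧ LocallyOfFiniteType K.hom ∧ QuasiCompact K.hom ∧
      Flat g.left ∧ Surjective g.left ∧ g ≫ c = f := by
  obtain ⟨K, b, x, c, hc, -, -, horb, hlft, hqc, hflat, hsurj⟩ := exists_orbit (transAction f) η[G]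
  rw [orbitMap_transAction_one] at horb
  set g := b.orbitMap x
  have : Mono c := Over.mono_of_mono_left c
  have hg : IsCover g := isCover g
  obtain ⟨_, hmc⟩ := Groth.Agf.exists_grpObj_of_subgroup c (fun T y => ∃ z : T ⟶ K, z ≫ c = y)
    (fun T y => Iff.rfl)
    (fun T => ⟨(1 : T ⟶ H) ≫ g, by rw [Category.assoc, horb, MonObj.one_comp]⟩)
    (fun T y y' ⟨z, hz⟩ ⟨z', hz'⟩ => by
      obtain ⟨T', e, w, w', he, hw, hw'⟩ := hg.exists_lift₂ z z'
      refine factor_of_cover he (i := c) (y * y') ⟨(w * w') ≫ g, ?_⟩
      rw [Category.assoc, horb, MonObj.mul_comp, MonObj.comp_mul, ← hz, ← hz', ← Category.assoc e, ← Category.assoc e,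
        ← hw, ← hw', Category.assoc, Category.assoc, horb])
    (fun T y ⟨z, hz⟩ => by
      obtain ⟨T', e, w, he, hw⟩ := hg.exists_lift z
      refine factor_of_cover he (i := c) y⁻¹ ⟨w⁻¹ ≫ g, ?_⟩
      rw [Category.assoc, horb, GrpObj.inv_comp, GrpObj.comp_inv, ← hz, ← Category.assoc e, ← hw, Category.assoc, horb])
  have hgm : IsMonHom g := isMonHom_of_points g fun T u v => by
    rw [← cancel_mono c, MonObj.mul_comp (u ≫ g), Category.assoc, Category.assoc, Category.assoc, horb,
      MonObj.mul_comp]
  have := isClosedImmersion_of_mono_hom c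
  exact ⟨K, _, c, g, hmc, this, hgm, hlft, hqc, hflat, hsurj, horb⟩

/-- The target of a faithfully flat morphism from a geometrically reduced scheme is geometrically
reduced. -/
theorem geometricallyReduced_of_flat_surjective {X Y : Over (Spec (CommRingCat.of k))} (g : X ⟶ Y)
    [Flat g.left] [Surjective g.left] [GeometricallyReduced X.hom] : GeometricallyReduced Y.hom := by
  constructor
  intro L _ y Z a b hZ
  have : GeometricallyReduced (g.left ≫ Y.hom) := by rw [Over.w g]; infer_instance
  have hr : IsReduced (pullback g.left a) :=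
    this.geometrically_isReduced y _ _ ((IsPullback.of_hasPullback g.left a).paste_vert hZ)
  exact Groth.Agf.isReduced_of_flat_surjective (pullback.snd g.left a)

/-- A faithfully flat homomorphic image of a smooth group is smooth. -/
theorem smooth_of_flat_surjective_hom {H K : Over (Spec (CommRingCat.of k))} [GrpObj K]
    [LocallyOfFiniteType K.hom] (g : H ⟶ K) [Flat g.left] [Surjective g.left] [Smooth H.hom] : Smooth K.hom := by
  have := geometricallyReduced_of_smooth_hom H
  have := geometricallyReduced_of_flat_surjective g
  exact Groth.GrpschAbsch.smooth_of_geometricallyReduced K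

/-- The image of a connected space is connected. -/
theorem connectedSpace_of_surjective {X Y : Over (Spec (CommRingCat.of k))} (g : X ⟶ Y) [Surjective g.left]
    [ConnectedSpace X.left] : ConnectedSpace Y.left :=
  g.left.surjective.connectedSpace g.left.continuous

end Groth.AlgGrp1
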