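import Groth.Agent.AlgGrp1.OrbitScheme
import Groth.Agent.AlgGrp1.FiniteHom
import Groth.Agent.Agf.ImageSubgroup

/-!
Monomorphisms of algebraic groups over a field are closed immersions.
-/

set_option autoImplicit false
universe u

open CategoryTheory Limits MonoidalCategory CartesianMonoidalCategory MonObj GrpObj AlgebraicGeometry

noncomputable section

namespace Groth.AlgGrp1

variable {k : Type u} [Field k] {H G : Over (Spec (CommRingCat.of k))} [GrpObj H] [GrpObj G]
  [LocallyOfFiniteType H.hom] [QuasiCompact H.hom] [LocallyOfFiniteType G.hom] [QuasiCompact G.hom]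

omit [LocallyOfFiniteType H.hom] [QuasiCompact H.hom] [LocallyOfFiniteType G.hom] [QuasiCompact G.hom] in
theorem orbitMap_transAction_one (f : H ⟶ G) [IsMonHom f] :
    (transAction f).orbitMap η[G] = f := by
  have h := comp_orbit (transAction f) (𝟙 H) η[G]
  rw [Category.id_comp] at h
  rw [h, transAction_lift, Category.id_comp, show toUnit H ≫ η[G] = 1 from rfl, _root_.mul_one]

/-- The range of a homomorphism of algebraic groups over a field is closed. -/
theorem isClosed_range_hom (f : H ⟶ G) [IsMonHom f] : IsClosed (Set.range f.left.base) := by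
  have := isLocallyNoetherian_left G
  have : CompactSpace H.left := QuasiCompact.compactSpace_of_compactSpace H.hom
  have : QuasiCompact f.left := inferInstance
  have : IsSchemeTheoreticallyDominant f.left.toImage :=
    Groth.Flatmor4.isSchemeTheoreticallyDominant_toImage f.left
  let K : Over (Spec (CommRingCat.of k)) := Over.mk (f.left.imageι ≫ G.hom)
  let c : K ⟶ G := Over.homMk f.left.imageι rfl
  let g : H ⟶ K := Over.homMk f.left.toImage (by
    show f.left.toImage ≫ f.left.imageι ≫ G.hom = H.hom
    rw [Scheme.Hom.toImage_imageι_assoc, Over.w])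
  have hgc : g ≫ c = f := Over.OverMorphism.ext f.left.toImage_imageι
  have : IsClosedImmersion c.left := inferInstanceAs (IsClosedImmersion f.left.imageι)
  have : IsSchemeTheoreticallyDominant g.left := ‹IsSchemeTheoreticallyDominant f.left.toImage›
  have : QuasiCompact (g.left ≫ c.left) := by rw [← Over.comp_left, hgc]; infer_instance
  have : QuasiCompact g.left := QuasiCompact.of_comp g.left c.left
  obtain ⟨_, _, _⟩ := Groth.Agf.exists_grpObj_image f c g hgc
  have hs := Groth.Agf.surjective_of_dominant g
  rw [← hgc, Over.comp_left, Scheme.Hom.comp_base, TopCat.coe_comp, Set.range_comp, hs.surj.range_eq, Set.image_univ]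
  exact c.left.isClosedEmbedding.isClosed_range

/-- A monomorphism of algebraic groups over a field is a closed immersion. -/
theorem isClosedImmersion_of_mono_hom (f : H ⟶ G) [IsMonHom f] [Mono f] : IsClosedImmersion f.left := by
  obtain ⟨X, b, x, j, hj, -, -, horb, hlft, hqc, hflat, hsurj⟩ := exists_orbit (transAction f) η[G]
  rw [orbitMap_transAction_one] at horb
  have : Mono (b.orbitMap x ≫ j) := by rw [horb]; infer_instance
  have : Mono (b.orbitMap x) := mono_of_mono _ j
  have := isIso_of_mono_cover (isCover (b.orbitMap x))
  have : IsIso (b.orbitMap x).left := inferInstanceAs (IsIso ((Over.forget _).map (b.orbitMap x)))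
  have himm : IsImmersion f.left := by rw [← horb, Over.comp_left]; infer_instance
  exact IsClosedImmersion.of_isPreimmersion _ (isClosed_range_hom f)

end Groth.AlgGrp1
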