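import Groth.Agent.AlgGrp1.Basic
import Groth.Agent.AlgGrp1.Act
import Groth.Prelude.Def_AGF
import Mathlib.Algebra.Group.MinimalAxioms

/-!
The quotient by a normal subgroup is a group.
-/

set_option autoImplicit false
universe u

open CategoryTheory MonoidalCategory CartesianMonoidalCategory MonObj GrpObj AlgebraicGeometry

noncomputable section

namespace Groth.AlgGrp1

variable {S : Scheme.{u}} {G N X : Over S} [GrpObj G] [GrpObj N] (i : N ⟶ G) [IsMonHom i]

/-- A cover whose kernel pair is the translation by a normal subgroup is a quotient homomorphism. -/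
theorem exists_grpObj_quotient (hi : AlgGrp.IsNormalHom i) (q : G ⟶ X) (hq : IsCover q)
    (hp : ∀ (T : Over S) (u v : T ⟶ G), u ≫ q = v ≫ q ↔ ∃ n : T ⟶ N, v = u * (n ≫ i)) :
    ∃ _ : GrpObj X, IsMonHom q ∧ ∀ (T : Over S) (g : T ⟶ G), g ≫ q = 1 ↔ ∃ n : T ⟶ N, n ≫ i = g := by
  classical
  have hqq : IsCover ((q ▷ G) ≫ (X ◁ q)) := (hq.whiskerRight G).comp (hq.whiskerLeft X)
  obtain ⟨m, hm⟩ := hqq.exists_desc ((fst G G * snd G G) ≫ q) (fun T u v huv => by
    have h1 : (u ≫ fst G G) ≫ q = (v ≫ fst G G) ≫ q := by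
      simpa using congrArg (· ≫ fst X X) huv
    have h2 : (u ≫ snd G G) ≫ q = (v ≫ snd G G) ≫ q := by
      simpa using congrArg (· ≫ snd X X) huv
    obtain ⟨n, hn⟩ := (hp _ _ _).1 h1
    obtain ⟨n', hn'⟩ := (hp _ _ _).1 h2
    rw [← Category.assoc, ← Category.assoc, MonObj.comp_mul, MonObj.comp_mul, hn, hn']
    set a := u ≫ fst G G
    set b := u ≫ snd G G
    obtain ⟨n'', hn''⟩ := hi T b⁻¹ n
    refine (hp _ _ _).2 ⟨n'' * n', ?_⟩
    rw [MonObj.mul_comp, ← hn'']
    group)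
  obtain ⟨w, hw⟩ := hq.exists_desc (ι[G] ≫ q) (fun T u v huv => by
    obtain ⟨n, hn⟩ := (hp _ _ _).1 huv
    rw [← Category.assoc, ← Category.assoc, ← Hom.inv_def, ← Hom.inv_def, hn]
    obtain ⟨n', hn'⟩ := hi T u n⁻¹
    refine (hp _ _ _).2 ⟨n', ?_⟩
    rw [← hn', GrpObj.inv_comp]
    group)
  let mulX : ∀ {T : Over S}, (T ⟶ X) → (T ⟶ X) → (T ⟶ X) := fun {T} a b => lift a b ≫ m
  let oneX : ∀ {T : Over S}, T ⟶ X := fun {T} => (1 : T ⟶ G) ≫ q
  have hmul : ∀ {T : Over S} (a b : T ⟶ G), mulX (a ≫ q) (b ≫ q) = (a * b) ≫ q := fun {T} a b => by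
    have e : lift (a ≫ q) (b ≫ q) = lift a b ≫ (q ▷ G) ≫ (X ◁ q) := by simp
    simp only [mulX]
    rw [e, Category.assoc, hm, ← Category.assoc, MonObj.comp_mul, lift_fst, lift_snd]
  have hinv : ∀ {T : Over S} (a : T ⟶ G), (a ≫ q) ≫ w = a⁻¹ ≫ q := fun {T} a => by
    rw [Category.assoc, hw, Hom.inv_def, Category.assoc]
  have hc_mul : ∀ {T T' : Over S} (c : T' ⟶ T) (a b : T ⟶ X), c ≫ mulX a b = mulX (c ≫ a) (c ≫ b) :=
    fun c a b => by simp only [mulX, ← Category.assoc, comp_lift]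
  have hc_one : ∀ {T T' : Over S} (c : T' ⟶ T), c ≫ oneX = oneX := fun c => by
    simp only [oneX]
    rw [← Category.assoc, MonObj.comp_one]
  let grp : ∀ T : Over S, Group (T ⟶ X) := fun T =>
    letI : Mul (T ⟶ X) := ⟨mulX⟩
    letI : One (T ⟶ X) := ⟨oneX⟩
    letI : Inv (T ⟶ X) := ⟨fun a => a ≫ w⟩
    Group.ofLeftAxioms
      (fun a b c => by
        show mulX (mulX a b) c = mulX a (mulX b c)
        obtain ⟨T₁, c₁, x, y, hc₁, hx, hy⟩ := hq.exists_lift₂ a b
        obtain ⟨T₂, c₂, z, hc₂, hz⟩ := hq.exists_lift (c₁ ≫ c)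
        refine (hc₂.comp hc₁).cancel ?_
        rw [hc_mul, hc_mul, hc_mul, hc_mul]
        rw [show (c₂ ≫ c₁) ≫ a = (c₂ ≫ x) ≫ q from by rw [Category.assoc, Category.assoc, hx],
          show (c₂ ≫ c₁) ≫ b = (c₂ ≫ y) ≫ q from by rw [Category.assoc, Category.assoc, hy],
          show (c₂ ≫ c₁) ≫ c = z ≫ q from by rw [Category.assoc, hz]]
        rw [hmul, hmul, hmul, hmul, _root_.mul_assoc])
      (fun a => by
        show mulX oneX a = a
        obtain ⟨T₁, c₁, x, hc₁, hx⟩ := hq.exists_lift a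
        refine hc₁.cancel ?_
        rw [hc_mul, hc_one, ← hx, hmul, _root_.one_mul])
      (fun a => by
        show mulX (a ≫ w) a = oneX
        obtain ⟨T₁, c₁, x, hc₁, hx⟩ := hq.exists_lift a
        refine hc₁.cancel ?_
        rw [hc_mul, hc_one, ← Category.assoc, ← hx, hinv, hmul, inv_mul_cancel])
  let F : (Over S)ᵒᵖ ⥤ GrpCat.{u} :=
    { obj := fun T => letI := grp T.unop; GrpCat.of (T.unop ⟶ X)
      map := fun {T T'} f =>
        letI := grp T.unop
        letI := grp T'.unop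
        GrpCat.ofHom (MonoidHom.mk' (fun a => f.unop ≫ a) (fun a b => hc_mul f.unop a b))
      map_id := fun T => by ext a; exact Category.id_comp _
      map_comp := fun f g => by ext a; exact Category.assoc _ _ _ }
  let α : (F ⋙ CategoryTheory.forget _).RepresentableBy X :=
    { homEquiv := Equiv.refl _
      homEquiv_comp := fun f g => rfl }
  letI : GrpObj X := GrpObj.ofRepresentableBy X F α
  have hμ : ∀ {T : Over S} (a b : T ⟶ X), a * b = mulX a b := fun {T} a b => by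
    rw [Hom.mul_def]
    show lift a b ≫ mulX (fst X X) (snd X X) = _
    rw [hc_mul, lift_fst, lift_snd]
  have hmon : IsMonHom q := isMonHom_of_points q fun T a b => by
    show (a * b) ≫ q = (a ≫ q) * (b ≫ q)
    rw [hμ, hmul]
  refine ⟨inferInstance, hmon, fun T g => ?_⟩
  rw [← MonObj.one_comp (X := T) q]
  constructor
  · intro h
    obtain ⟨n, hn⟩ := (hp T 1 g).1 h.symm
    exact ⟨n, by rw [hn, _root_.one_mul]⟩
  · rintro ⟨n, rfl⟩
    exact ((hp T 1 _).2 ⟨n, (_root_.one_mul _).symm⟩).symm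

end Groth.AlgGrp1
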