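import Groth.Agent.AlgGrp1.AffineRep
import Groth.Agent.AlgGrp2.AffinePts
import Groth.Agent.Agf.GeomRed
import Groth.Agent.Agf.SubobjGrp
import Groth.Agent.GrpschAbsch.SmoothField
import Groth.Agent.FlatMor2.AffineThickening
import Groth.Agent.EtaleBase.FpqcDescent

/-!
A group scheme of finite type over a field is affine as soon as its global functions separate the unit
from every other point with values in an algebraic closure.
-/

set_option autoImplicit false
universe u

open CategoryTheory Limits MonoidalCategory CartesianMonoidalCategory MonObj GrpObj AlgebraicGeometry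
open Groth.Agf (Fn pull evalPt evalPt_comp evalPt_comp_apply evalPt_ptMap)
open scoped TensorProduct Groth.Agf

noncomputable section

namespace Groth.AlgGrp1

variable {k : Type u} [Field k]

/-- Over an algebraically closed field the reduced subscheme of a group scheme is a smooth subgroup. -/
theorem exists_reduced_subgroup_lft [IsAlgClosed k] (G : Over (Spec (CommRingCat.of k))) [GrpObj G]
    [LocallyOfFiniteType G.hom] :
    ∃ (Z : Over (Spec (CommRingCat.of k))) (_ : GrpObj Z) (c : Z ⟶ G), IsMonHom c ∧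
      IsClosedImmersion c.left ∧ Surjective c.left ∧ Smooth Z.hom ∧ IsReduced Z.left := by
  obtain ⟨Z, c, _, _, hred⟩ := exists_reduced G
  have : LocallyOfFiniteType Z.hom := by rw [← Over.w c]; infer_instance
  have := LocallyOfFiniteType.jacobsonSpace Z.hom
  have : GeometricallyReduced Z.hom := by
    refine Groth.Agf.geometricallyReduced_of_dense_points Z ?_
    rw [dense_iff_closure_eq, ← Set.univ_subset_iff, ← closure_closedPoints (X := Z.left)]
    refine closure_mono fun p hp => ?_
    refine ⟨Over.homMk _ ((pointEquivClosedPoint Z.hom).symm ⟨p, hp⟩).2, IsLocalRing.closedPoint k, ?_⟩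
    exact pointOfClosedPoint_apply Z.hom p hp _
  have : IsReduced (𝟙_ (Over (Spec (CommRingCat.of k)))).left := inferInstanceAs (IsReduced (Spec (CommRingCat.of k)))
  have := isReduced_tensorObj Z Z
  have hfac : ∀ {T : Over (Spec (CommRingCat.of k))} [IsReduced T.left] (f : T ⟶ G), ∃ z : T ⟶ Z, z ≫ c = f :=
    fun f => exists_factor_of_range_subset c f (by rw [c.left.surjective.range_eq]; exact Set.subset_univ _)
  obtain ⟨o, ho⟩ := hfac (1 : 𝟙_ _ ⟶ G)
  obtain ⟨m, hm⟩ := hfac ((fst Z Z ≫ c) * (snd Z Z ≫ c))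
  obtain ⟨v, hv⟩ := hfac (c ≫ ι[G])
  have : Mono c := Over.mono_of_mono_left c
  obtain ⟨inst, hc⟩ := Groth.Agf.exists_grpObj_of_subgroup c (fun T g => ∃ z : T ⟶ Z, z ≫ c = g) (fun _ _ => Iff.rfl)
    (fun T => ⟨toUnit T ≫ o, by rw [Category.assoc, ho, MonObj.comp_one]⟩)
    (fun T a b ⟨x, hx⟩ ⟨y, hy⟩ => ⟨lift x y ≫ m, by
      rw [Category.assoc, hm, MonObj.comp_mul, lift_fst_assoc, lift_snd_assoc, hx, hy]⟩)
    (fun T a ⟨x, hx⟩ => ⟨x ≫ v, by rw [Category.assoc, hv, ← hx, Hom.inv_def, Category.assoc]⟩)
  have : GrpObj (Over.mk Z.hom) := inst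
  exact ⟨Z, inst, c, hc, inferInstance, inferInstance,
    Groth.GrpschAbsch.smooth_of_perfectField_of_isReduced Z.hom, hred⟩

/-- Over an algebraically closed field the reduced subscheme of an algebraic group is a smooth subgroup. -/
theorem exists_reduced_subgroup [IsAlgClosed k] (G : Over (Spec (CommRingCat.of k))) [GrpObj G]
    [LocallyOfFiniteType G.hom] [QuasiCompact G.hom] :
    ∃ (Z : Over (Spec (CommRingCat.of k))) (_ : GrpObj Z) (c : Z ⟶ G), IsMonHom c ∧
      IsClosedImmersion c.left ∧ Surjective c.left ∧ Smooth Z.hom ∧ QuasiCompact Z.hom := by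
  obtain ⟨Z, inst, c, hc, _, h1, h2, -⟩ := exists_reduced_subgroup_lft G
  exact ⟨Z, inst, c, hc, inferInstance, h1, h2, by rw [← Over.w c]; infer_instance⟩

theorem isAffine_of_separated_points_algClosed [IsAlgClosed k] (G : Over (Spec (CommRingCat.of k))) [GrpObj G]
    [LocallyOfFiniteType G.hom] [QuasiCompact G.hom]
    (h : ∀ g : VecGrp.pt k k ⟶ G, (∀ f : Fn G, evalPt g f = evalPt (1 : VecGrp.pt k k ⟶ G) f) → g = 1) :
    IsAffine G.left := by
  obtain ⟨Z, _, c, _, _, _, _, _⟩ := exists_reduced_subgroup G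
  have : Mono c := Over.mono_of_mono_left c
  have : IsAffine Z.left := isAffine_of_separated_points_smooth fun g hg => by
    rw [← cancel_mono c, MonObj.one_comp]
    refine h _ fun f => ?_
    rw [evalPt_comp_apply, hg, ← evalPt_comp_apply, MonObj.one_comp]
  have := isLocallyNoetherian_left G
  exact Groth.FlatMor2.isAffine_of_surjective_closedImmersion c.left

/-- **Affineness criterion**: the functions on `G` tell the unit apart from the other points with
values in an algebraically closed extension. -/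
theorem isAffine_of_separated_points (K : Type u) [Field K] [Algebra k K] [IsAlgClosed K]
    (G : Over (Spec (CommRingCat.of k))) [GrpObj G] [LocallyOfFiniteType G.hom] [QuasiCompact G.hom]
    (h : ∀ g : VecGrp.pt k K ⟶ G, (∀ f : Fn G, evalPt g f = evalPt (1 : VecGrp.pt k K ⟶ G) f) → g = 1) :
    IsAffine G.left := by
  let φ : Spec (CommRingCat.of K) ⟶ Spec (CommRingCat.of k) := Spec.map (CommRingCat.ofHom (algebraMap k K))
  let G' := Red.bc φ G
  have : LocallyOfFiniteType G'.hom := inferInstanceAs (LocallyOfFiniteType (pullback.snd G.hom φ))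
  have : QuasiCompact G'.hom := inferInstanceAs (QuasiCompact (pullback.snd G.hom φ))
  let e := Groth.AlgGrp2.mapSpIso k K K
  have hG' : IsAffine G'.left := by
    refine isAffine_of_separated_points_algClosed G' fun g hg => ?_
    apply Groth.AlgGrp2.bcPt_injective φ
    rw [Groth.AlgGrp2.bcPt_one]
    have key : ∀ (g : VecGrp.pt K K ⟶ G') (f : Fn G),
        evalPt (e.inv ≫ Groth.AlgGrp2.bcPt φ g : VecGrp.pt k K ⟶ G) f =
          evalPt g ((pullback.fst G.hom φ).appTop f) := fun g f => rfl
    have h1 : (e.inv ≫ Groth.AlgGrp2.bcPt φ g : VecGrp.pt k K ⟶ G) = 1 := h _ fun f => by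
      have e1 : (1 : VecGrp.pt k K ⟶ G) = e.inv ≫ Groth.AlgGrp2.bcPt φ (1 : VecGrp.pt K K ⟶ G') := by
        exact ((congrArg (e.inv ≫ ·) (Groth.AlgGrp2.bcPt_one φ)).trans (MonObj.comp_one e.inv)).symm
      exact (key g f).trans ((hg _).trans ((key 1 f).symm.trans (congrArg (fun t : VecGrp.pt k K ⟶ G => evalPt t f) e1.symm)))
    have h2 := congrArg (e.hom ≫ ·) h1
    exact ((Category.id_comp _).symm.trans ((congrArg (· ≫ Groth.AlgGrp2.bcPt φ g) e.hom_inv_id.symm).trans
      ((Category.assoc _ _ _).trans (h2.trans (MonObj.comp_one e.hom)))))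
  have : IsAffineHom (pullback.snd G.hom φ) :=
    (inferInstance : IsAffineHom G'.hom)
  have : IsAffineHom G.hom := MorphismProperty.of_pullback_snd_of_descendsAlong (P := @IsAffineHom)
    (Q := @Surjective ⊓ @Flat ⊓ @QuasiCompact) (f := G.hom) (g := φ) ⟨⟨inferInstance, inferInstance⟩, inferInstance⟩ this
  exact isAffine_of_isAffineHom G.hom

end Groth.AlgGrp1
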