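import Groth.Agent.AlgGrp1.Rigidity
import Mathlib.AlgebraicGeometry.Geometrically.Reduced

/-!
A reduced scheme over a field densely covered by the images of an arbitrary family of geometrically
reduced schemes is geometrically reduced.
-/

universe u

open CategoryTheory Limits MonoidalCategory CartesianMonoidalCategory AlgebraicGeometry
open scoped TensorProduct

namespace Groth.AlgGrp1

variable {k : Type u} [Field k]

theorem geometricallyReduced_of_family (X : Over (Spec (CommRingCat.of k))) [IsReduced X.left]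
    {I : Type*} (Y : I → Over (Spec (CommRingCat.of k))) (g : ∀ i, Y i ⟶ X)
    (hY : ∀ i, GeometricallyReduced (Y i).hom)
    (hd : Dense (⋃ i, Set.range (g i).left.base)) : GeometricallyReduced X.hom := by
  rw [GeometricallyReduced.eq_geometrically, geometrically_iff_of_commRing_of_isClosedUnderIsomorphisms]
  intro K _ _
  apply +allowSynthFailures @IsReduced.of_openCover
    (𝒰 := Scheme.Pullback.openCoverOfLeft X.left.affineCover X.hom (Spec.map (CommRingCat.ofHom (algebraMap k K))))
  intro i₀
  show IsReduced (pullback (X.left.affineCover.f i₀ ≫ X.hom) (Spec.map (CommRingCat.ofHom (algebraMap k K))))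
  suffices key : ∀ (A : CommRingCat.{u}) (ψ : Spec A ⟶ X.left) [IsOpenImmersion ψ],
      IsReduced (pullback (ψ ≫ X.hom) (Spec.map (CommRingCat.ofHom (algebraMap k K)))) by
    have : IsOpenImmersion (X.left.affineCover.f i₀) := X.left.affineCover.map_prop i₀
    exact @key _ (X.left.affineCover.f i₀) this
  intro A ψ _
  obtain ⟨φ, hφ⟩ := Spec.map_surjective (ψ ≫ X.hom)
  let : Algebra k A := φ.hom.toAlgebra
  have : IsReduced (Spec A) := isReduced_of_isOpenImmersion ψ
  have : _root_.IsReduced A := by rwa [← affine_isReduced_iff]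
  let J := Σ i : I, {U : (Y i).left.affineOpens //
    (U.1 : Set (Y i).left) ⊆ (g i).left.base ⁻¹' Set.range ψ.base}
  let R' : J → Type u := fun j => Γ((Y j.1).left, j.2.1.1)
  let e : ∀ j : J, Spec (CommRingCat.of (R' j)) ⟶ (Y j.1).left := fun j => j.2.1.2.fromSpec
  have he : ∀ j : J, Set.range (e j).base = (j.2.1.1 : Set (Y j.1).left) := fun j =>
    j.2.1.2.range_fromSpec
  let l : ∀ j : J, Spec (CommRingCat.of (R' j)) ⟶ Spec A := fun j =>
    IsOpenImmersion.lift ψ (e j ≫ (g j.1).left) (by
      rintro _ ⟨z, rfl⟩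
      exact j.2.2 ((he j).le ⟨z, rfl⟩))
  have hl : ∀ j, l j ≫ ψ = e j ≫ (g j.1).left := fun j => IsOpenImmersion.lift_fac _ _ _
  let alg : ∀ j : J, Algebra k (R' j) := fun j => (Spec.preimage (e j ≫ (Y j.1).hom)).hom.toAlgebra
  have halg : ∀ j, Spec.map (Spec.preimage (e j ≫ (Y j.1).hom)) = e j ≫ (Y j.1).hom :=
    fun j => Spec.map_preimage _
  let f : ∀ j : J, A →ₐ[k] R' j := fun j =>
    { (Spec.preimage (l j)).hom with
      commutes' := fun c => by
        have h : φ ≫ Spec.preimage (l j) = Spec.preimage (e j ≫ (Y j.1).hom) := Spec.map_injective (by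
          rw [Spec.map_comp, Spec.map_preimage, halg, hφ, ← Category.assoc, hl, Category.assoc, Over.w])
        exact congr($(h).hom c) }
  have hf : ∀ a, (∀ j, f j a = 0) → a = 0 := by
    intro a ha
    by_contra hne
    have hopen : (PrimeSpectrum.basicOpen a : Set (PrimeSpectrum A)).Nonempty := by
      by_contra h
      rw [Set.not_nonempty_iff_eq_empty, TopologicalSpace.Opens.coe_eq_empty,
        PrimeSpectrum.basicOpen_eq_bot_iff] at h
      exact hne h.eq_zero
    obtain ⟨_, ⟨q, hq, rfl⟩, hmem⟩ := hd.inter_open_nonempty _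
      (ψ.isOpenEmbedding.isOpenMap _ (PrimeSpectrum.basicOpen a).isOpen) (hopen.image _)
    obtain ⟨i, y, hy⟩ := Set.mem_iUnion.1 hmem
    obtain ⟨U, hU, hyU, hUW⟩ := (Y i).left.isBasis_affineOpens.exists_subset_of_mem_open
      (show y ∈ (g i).left.base ⁻¹' Set.range ψ.base from ⟨q, hy.symm⟩)
      (ψ.isOpenEmbedding.isOpen_range.preimage (g i).left.continuous)
    obtain ⟨U, hU', rfl⟩ := hU
    let j : J := ⟨i, ⟨U, hU'⟩, hUW⟩
    obtain ⟨z, hz⟩ := (he j).ge hyU
    have hlz : (l j).base z = q := ψ.isOpenEmbedding.injective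
      ((congr(($(hl j)).base z)).trans ((congrArg (g i).left.base hz).trans hy))
    rw [← hlz, ← Spec.map_preimage (l j)] at hq
    refine hq ?_
    show (f j) a ∈ (z : PrimeSpectrum (R' j)).asIdeal
    rw [ha j]
    exact zero_mem _
  have hKR : ∀ j, _root_.IsReduced (K ⊗[k] R' j) := by
    intro j
    have : IsReduced (pullback (Y j.1).hom (Spec.map (CommRingCat.ofHom (algebraMap k K)))) :=
      (hY j.1).geometrically_isReduced _ _ _ (IsPullback.of_hasPullback _ _)
    have : IsReduced (pullback (e j ≫ (Y j.1).hom) (Spec.map (CommRingCat.ofHom (algebraMap k K)))) :=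
      isReduced_of_isOpenImmersion (pullback.map (e j ≫ (Y j.1).hom) (Spec.map (CommRingCat.ofHom (algebraMap k K)))
        (Y j.1).hom (Spec.map (CommRingCat.ofHom (algebraMap k K))) (e j) (𝟙 _) (𝟙 _) (by simp) (by simp))
    rw [← halg] at this
    have h2 : IsReduced (Spec (CommRingCat.of (R' j ⊗[k] K))) :=
      isReduced_of_isOpenImmersion (pullbackSpecIso k (R' j) K).inv
    have h3 : _root_.IsReduced (R' j ⊗[k] K) := (affine_isReduced_iff _).1 h2
    exact isReduced_of_injective (Algebra.TensorProduct.comm k K (R' j)).toRingEquiv.toRingHom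
      (Algebra.TensorProduct.comm k K (R' j)).injective
  have hred : _root_.IsReduced (A ⊗[k] K) := by
    have : _root_.IsReduced (K ⊗[k] A) := ⟨fun x hx => tensor_map_injective f hf x fun j =>
      have := hKR j
      (hx.map (Algebra.TensorProduct.map (AlgHom.id k K) (f j))).eq_zero⟩
    exact isReduced_of_injective (Algebra.TensorProduct.comm k A K).toRingEquiv.toRingHom
      (Algebra.TensorProduct.comm k A K).injective
  have : IsReduced (Spec (CommRingCat.of (A ⊗[k] K))) :=
    (affine_isReduced_iff (CommRingCat.of (A ⊗[k] K))).2 hred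
  rw [← hφ]
  exact isReduced_of_isOpenImmersion (pullbackSpecIso k A K).hom

end Groth.AlgGrp1
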