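import Groth.Agent.AlgGrp1.Rigidity
import Groth.Agent.AlgGrp1.Act
import Groth.Agent.Variety2.Normal
import Mathlib.AlgebraicGeometry.AlgClosed.Basic

/-!
# Schemes with only constant functions: connectedness, points
-/

universe u

open CategoryTheory Limits MonoidalCategory CartesianMonoidalCategory MonObj AlgebraicGeometry
  TopologicalSpace

namespace Groth.AlgGrp1

variable {k : Type u} [Field k]

theorem HasConstFunctions.eq_zero_or_isUnit {X : Over (Spec (CommRingCat.of k))}
    (h : HasConstFunctions X) (e : Γ(X.left, ⊤)) : e = 0 ∨ IsUnit e := by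
  obtain ⟨a, rfl⟩ := h.2 e
  rcases eq_or_ne a 0 with rfl | ha
  · exact Or.inl (map_zero _)
  · exact Or.inr ((isUnit_iff_ne_zero.2 ha).map _)

theorem HasConstFunctions.nonempty {X : Over (Spec (CommRingCat.of k))}
    (h : HasConstFunctions X) : Nonempty X.left := by
  by_contra hX
  have : IsEmpty X.left := not_nonempty_iff.1 hX
  have : Subsingleton Γ(X.left, ⊤) := CommRingCat.subsingleton_of_isTerminal
    (X.left.sheaf.isTerminalOfEqEmpty (SetLike.ext' (Set.eq_empty_of_isEmpty _)))
  exact zero_ne_one (α := k) (h.1 (Subsingleton.elim _ _))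

/-- A scheme with only constant functions is connected. -/
theorem HasConstFunctions.connectedSpace {X : Over (Spec (CommRingCat.of k))}
    (h : HasConstFunctions X) : ConnectedSpace X.left := by
  have := h.nonempty
  have : PreconnectedSpace X.left := by
    rw [preconnectedSpace_iff_clopen]
    intro s hs
    obtain ⟨e, he⟩ := Groth.Variety2.exists_basicOpen_eq_of_isClopen (X := X.left) ⟨s, hs.isOpen⟩ hs.isClosed
    rcases h.eq_zero_or_isUnit e with rfl | hu
    · rw [Scheme.basicOpen_zero] at he
      exact Or.inl (congrArg (fun U : X.left.Opens => (U : Set X.left)) he).symm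
    · rw [Scheme.basicOpen_of_isUnit _ hu] at he
      exact Or.inr (congrArg (fun U : X.left.Opens => (U : Set X.left)) he).symm
  exact ⟨inferInstance⟩

/-- A nonempty quasi-compact scheme locally of finite type over an algebraically closed field has a
rational point. -/
theorem exists_point [IsAlgClosed k] (X : Over (Spec (CommRingCat.of k))) [LocallyOfFiniteType X.hom]
    [Nonempty X.left] : Nonempty (𝟙_ (Over (Spec (CommRingCat.of k))) ⟶ X) := by
  have : JacobsonSpace X.left := LocallyOfFiniteType.jacobsonSpace X.hom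
  obtain ⟨x, -, hx⟩ := nonempty_inter_closedPoints (Z := (Set.univ : Set X.left)) Set.univ_nonempty
    (isOpen_univ.isLocallyClosed)
  exact ⟨Over.homMk (pointOfClosedPoint X.hom x hx) (pointOfClosedPoint_comp X.hom x hx)⟩

end Groth.AlgGrp1

namespace Groth.AlgGrp1

variable {k : Type u} [Field k]

theorem quasiSeparated_of_locallyOfFiniteType (X : Over (Spec (CommRingCat.of k)))
    [LocallyOfFiniteType X.hom] : QuasiSeparated X.hom := by
  have := isLocallyNoetherian_left X
  exact (quasiSeparated_iff_quasiSeparatedSpace X.hom).2 inferInstance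

/-- A pairing from `H × G` to a group scheme which is trivial on both axes is trivial, if `H` has only
constant functions and `G` is connected. -/
theorem pairing_eq_one {H G L : Over (Spec (CommRingCat.of k))} [GrpObj L]
    (hH : HasConstFunctions H) [LocallyOfFiniteType H.hom] [QuasiCompact H.hom]
    [LocallyOfFiniteType G.hom] [PreconnectedSpace G.left]
    (e : 𝟙_ _ ⟶ H) (e' : 𝟙_ _ ⟶ G) (d : H ⊗ G ⟶ L)
    (h1 : lift (𝟙 H) (toUnit H ≫ e') ≫ d = 1) (h2 : lift (toUnit G ≫ e) (𝟙 G) ≫ d = 1) : d = 1 := by
  have := quasiSeparated_of_locallyOfFiniteType H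
  have := isLocallyNoetherian_left G
  have := isSeparated_grpObj L
  have key := eq_snd_comp_of_const hH e e' (1 : 𝟙_ _ ⟶ L) d (by
    have := congrArg (fun r => fst H (𝟙_ _) ≫ r) h1
    rw [← Category.assoc, comp_lift, Category.comp_id, MonObj.comp_one, ← Category.assoc,
      toUnit_unique (fst H _ ≫ toUnit H) (snd H _)] at this
    rw [MonObj.comp_one, ← this]
    congr 1)
  rw [key, h2, MonObj.comp_one]

/-- Points of an antiaffine group commute with the points of a connected group they map to. -/
theorem comm_of_hasConstFunctions {H G : Over (Spec (CommRingCat.of k))} [GrpObj H] [GrpObj G]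
    (hH : HasConstFunctions H) [LocallyOfFiniteType H.hom] [QuasiCompact H.hom]
    [LocallyOfFiniteType G.hom] [PreconnectedSpace G.left] (φ : H ⟶ G) [IsMonHom φ]
    {T : Over (Spec (CommRingCat.of k))} (a : T ⟶ H) (g : T ⟶ G) : (a ≫ φ) * g = g * (a ≫ φ) := by
  let d : H ⊗ G ⟶ G := (fst H G ≫ φ) * snd H G * (fst H G ≫ φ)⁻¹ * (snd H G)⁻¹
  have hd : d = 1 := by
    refine pairing_eq_one hH 1 1 d ?_ ?_
    · simp only [d, MonObj.comp_mul, GrpObj.comp_inv, lift_fst_assoc, lift_snd, Category.id_comp,
        MonObj.comp_one]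
      group
    · simp only [d, MonObj.comp_mul, GrpObj.comp_inv, lift_fst_assoc, lift_snd, MonObj.comp_one,
        MonObj.one_comp]
      group
  have h := congrArg (fun r => lift a g ≫ r) hd
  simp only [d, MonObj.comp_mul, GrpObj.comp_inv, lift_fst_assoc, lift_snd, MonObj.comp_one] at h
  rw [mul_inv_eq_one, mul_inv_eq_iff_eq_mul] at h
  exact h

end Groth.AlgGrp1
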