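import Mathlib.AlgebraicGeometry.Morphisms.ClosedImmersion

/-!
# Closed subschemes cut out by locally closed conditions

A condition on morphisms to `X`, stable under composition and local on the source, which on each
affine open is given by an ideal, is represented by a closed subscheme.
-/

universe u

open CategoryTheory Limits AlgebraicGeometry TopologicalSpace

namespace Groth.AlgGrp1

variable {X : Scheme.{u}}

theorem exists_factor_iff_of_isAffine {E P T : Scheme.{u}} [IsAffine P] [IsAffine T] (c : E ⟶ P)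
    [IsClosedImmersion c] (h : T ⟶ P) :
    (∃ z : T ⟶ E, z ≫ c = h) ↔ RingHom.ker c.appTop.hom ≤ RingHom.ker h.appTop.hom := by
  constructor
  · rintro ⟨z, rfl⟩ x hx
    rw [RingHom.mem_ker] at hx ⊢
    simp only [Scheme.Hom.comp_appTop]
    show z.appTop.hom (c.appTop.hom x) = 0
    rw [hx, map_zero]
  · intro hle
    have H : c.ker ≤ h.ker := by
      refine Scheme.IdealSheafData.le_of_isAffine ?_
      rw [Scheme.Hom.ker_apply, Scheme.Hom.ker_apply]
      exact hle
    exact ⟨IsClosedImmersion.lift c h H, IsClosedImmersion.lift_fac c h H⟩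

/-- A condition on morphisms to `X` which is given by ideals on affine opens is a closed subscheme. -/
theorem exists_closed_of_affine_ideals (P : ∀ {T : Scheme.{u}}, (T ⟶ X) → Prop)
    (hcomp : ∀ {T' T : Scheme.{u}} (g : T' ⟶ T) (f : T ⟶ X), P f → P (g ≫ f))
    (hlocal : ∀ {T : Scheme.{u}} (f : T ⟶ X) (𝒰 : Scheme.OpenCover.{u} T), (∀ i, P (𝒰.f i ≫ f)) → P f)
    (haff : ∀ U : X.affineOpens, ∃ J : Ideal Γ(X, U), ∀ (C : CommRingCat.{u}) (φ : Γ(X, U) ⟶ C),
      P (Spec.map φ ≫ U.2.fromSpec) ↔ J ≤ RingHom.ker φ.hom) :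
    ∃ (Z : Scheme.{u}) (ι : Z ⟶ X), IsClosedImmersion ι ∧
      ∀ {T : Scheme.{u}} (f : T ⟶ X), P f ↔ ∃ z : T ⟶ Z, z ≫ ι = f := by
  choose J hJ using haff
  have hcompat : ∀ (U : X.affineOpens) (r : Γ(X, U)),
      (J U).map (X.presheaf.map (homOfLE <| X.basicOpen_le r).op).hom = J (X.affineBasicOpen r) := by
    intro U r
    let res := X.presheaf.map (homOfLE <| X.basicOpen_le r).op
    have hres : Spec.map res ≫ U.2.fromSpec = (X.affineBasicOpen r).2.fromSpec :=
      U.2.map_fromSpec (X.affineBasicOpen r).2 (homOfLE (X.basicOpen_le r)).op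
    apply le_antisymm
    · let mk := CommRingCat.ofHom (Ideal.Quotient.mk (J (X.affineBasicOpen r)))
      have h := (hJ (X.affineBasicOpen r) _ mk).2 Ideal.mk_ker.ge
      have e : Spec.map mk ≫ (X.affineBasicOpen r).2.fromSpec = Spec.map (res ≫ mk) ≫ U.2.fromSpec :=
        (congrArg (Spec.map mk ≫ ·) hres.symm).trans
          ((Category.assoc _ _ _).symm.trans (congrArg (· ≫ U.2.fromSpec) (Spec.map_comp res mk).symm))
      rw [e] at h
      refine Ideal.map_le_iff_le_comap.2 fun x hx => ?_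
      have := (hJ U _ _).1 h hx
      exact (Ideal.Quotient.eq_zero_iff_mem (I := J (X.affineBasicOpen r))).1 this
    · let mk := CommRingCat.ofHom (Ideal.Quotient.mk ((J U).map res.hom))
      have h : P (Spec.map (res ≫ mk) ≫ U.2.fromSpec) := (hJ U _ _).2 fun x hx =>
        (Ideal.Quotient.eq_zero_iff_mem (I := (J U).map res.hom)).2 (Ideal.mem_map_of_mem _ hx)
      have e : Spec.map mk ≫ (X.affineBasicOpen r).2.fromSpec = Spec.map (res ≫ mk) ≫ U.2.fromSpec :=
        (congrArg (Spec.map mk ≫ ·) hres.symm).trans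
          ((Category.assoc _ _ _).symm.trans (congrArg (· ≫ U.2.fromSpec) (Spec.map_comp res mk).symm))
      rw [← e] at h
      intro x hx
      exact (Ideal.Quotient.eq_zero_iff_mem (I := (J U).map res.hom)).1 ((hJ (X.affineBasicOpen r) _ mk).1 h hx)
  let I : X.IdealSheafData := ⟨J, hcompat, _, rfl⟩
  have hι : P I.subschemeι := by
    have key : ∀ U : X.affineOpens, P (I.subschemeCover.f U ≫ I.subschemeι) := by
      intro U
      rw [I.subschemeCover_map_subschemeι, I.glueDataObjι_ι]
      exact (hJ U _ _).2 Ideal.mk_ker.ge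
    exact hlocal _ I.subschemeCover.openCover key
  refine ⟨I.subscheme, I.subschemeι, inferInstance, fun {T} f => ⟨fun hf => ?_, ?_⟩⟩
  · have H : I.subschemeι.ker ≤ f.ker := by
      rw [Scheme.IdealSheafData.ker_subschemeι]
      refine Scheme.IdealSheafData.le_ofIdeals_iff.2 fun U x hx => ?_
      rw [RingHom.mem_ker]
      apply T.IsSheaf.section_ext
      intro p hp
      obtain ⟨_, ⟨W, hW, rfl⟩, hpW, hWU⟩ :=
        T.isBasis_affineOpens.exists_subset_of_mem_open (show p ∈ f ⁻¹ᵁ U.1 from hp) (f ⁻¹ᵁ U.1).2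
      refine ⟨W, hWU, hpW, ?_⟩
      have h := hcomp hW.fromSpec f hf
      rw [← U.2.SpecMap_appLE_fromSpec f hW hWU] at h
      have := (hJ U _ _).1 h hx
      rw [RingHom.mem_ker] at this
      rw [map_zero]
      exact this
    exact ⟨IsClosedImmersion.lift _ f H, IsClosedImmersion.lift_fac _ f H⟩
  · rintro ⟨z, rfl⟩
    exact hcomp z _ hι

end Groth.AlgGrp1
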