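import Groth.Agent.Ega41Sep.Separable
import Mathlib.RingTheory.RingHom.StandardSmooth
import Mathlib.RingTheory.Smooth.StandardSmoothOfFree
import Mathlib.RingTheory.Unramified.Field
import Mathlib.RingTheory.Spectrum.Prime.Chevalley
import Mathlib.RingTheory.KrullDimension.Zero
import Mathlib.RingTheory.LocalProperties.Reduced
import Mathlib.FieldTheory.IsSepClosed
import Mathlib.Algebra.MvPolynomial.Funext

/-!
# Rational points of geometrically reduced algebras over separably closed fields
-/

universe u

open scoped TensorProduct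

namespace Groth.AlgGrp1

variable {k : Type u} [Field k]

/-- A nonzero etale algebra over a separably closed field has a rational point. -/
theorem exists_algHom_of_etale [IsSepClosed k] (T : Type u) [CommRing T] [Algebra k T]
    [Algebra.Etale k T] [Nontrivial T] : Nonempty (T →ₐ[k] k) := by
  obtain ⟨m, hm⟩ := Ideal.exists_maximal T
  let := Ideal.Quotient.field m
  have : Algebra.FormallyUnramified k (T ⧸ m) := Algebra.FormallyUnramified.comp k T (T ⧸ m)
  have : Algebra.EssFiniteType k (T ⧸ m) := inferInstance
  have : Algebra.IsSeparable k (T ⧸ m) := Algebra.FormallyUnramified.isSeparable k (T ⧸ m)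
  let e : k ≃ₐ[k] T ⧸ m := AlgEquiv.ofBijective (Algebra.ofId k (T ⧸ m))
    ⟨RingHom.injective _, IsSepClosed.algebraMap_surjective k (T ⧸ m)⟩
  exact ⟨e.symm.toAlgHom.comp (Ideal.Quotient.mkₐ k m)⟩

/-- A nonzero standard smooth algebra over a separably closed field has a rational point. -/
theorem exists_algHom_of_isStandardSmooth [IsSepClosed k] [Infinite k] (A : Type u) [CommRing A]
    [Algebra k A] [Algebra.IsStandardSmooth k A] [Nontrivial A] : Nonempty (A →ₐ[k] k) := by
  have hA : (algebraMap k A).IsStandardSmooth := RingHom.isStandardSmooth_algebraMap.2 ‹_›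
  obtain ⟨n, g, hgC, hg⟩ := hA.exists_etale_mvPolynomial
  let : Algebra (MvPolynomial (Fin n) k) A := g.toAlgebra
  have : Algebra.Etale (MvPolynomial (Fin n) k) A := hg
  have : IsScalarTower k (MvPolynomial (Fin n) k) A := .of_algebraMap_eq' hgC.symm
  have hopen : IsOpenMap (PrimeSpectrum.comap (algebraMap (MvPolynomial (Fin n) k) A)) :=
    PrimeSpectrum.isOpenMap_comap_of_hasGoingDown_of_finitePresentation
  have hne : (Set.range (PrimeSpectrum.comap (algebraMap (MvPolynomial (Fin n) k) A))).Nonempty :=
    Set.range_nonempty _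
  obtain ⟨_, ⟨_, ⟨h, rfl⟩, rfl⟩, hh, hsub⟩ :=
    PrimeSpectrum.isBasis_basic_opens.exists_subset_of_mem_open hne.some_mem hopen.isOpen_range
  have hh0 : h ≠ 0 := by
    rintro rfl
    simp at hh
  obtain ⟨a, ha⟩ : ∃ a : Fin n → k, MvPolynomial.eval a h ≠ 0 := by
    by_contra hc
    push Not at hc
    exact hh0 (MvPolynomial.funext fun x => by simpa using hc x)
  let ev : MvPolynomial (Fin n) k →ₐ[k] k := MvPolynomial.aeval a
  let : Algebra (MvPolynomial (Fin n) k) k := ev.toRingHom.toAlgebra
  have : IsScalarTower k (MvPolynomial (Fin n) k) k := .of_algebraMap_eq' ev.comp_algebraMap.symm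
  let T := k ⊗[MvPolynomial (Fin n) k] A
  have hT : Nontrivial T := by
    let p : PrimeSpectrum (MvPolynomial (Fin n) k) := ⟨RingHom.ker ev.toRingHom, RingHom.ker_isPrime _⟩
    obtain ⟨P, hP⟩ := hsub (show p ∈ (PrimeSpectrum.basicOpen h : Set _) from ha)
    let := Ideal.Quotient.nontrivial_iff.2 P.isPrime.ne_top
    have hsurj : Function.Surjective ev.toRingHom := fun x => ⟨algebraMap k _ x, ev.commutes x⟩
    have hker : ∀ x, ev x = 0 → Ideal.Quotient.mk P.asIdeal (algebraMap _ A x) = 0 := fun x hx => by
      rw [Ideal.Quotient.eq_zero_iff_mem]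
      have : x ∈ (PrimeSpectrum.comap (algebraMap (MvPolynomial (Fin n) k) A) P).asIdeal := by
        rw [hP]; exact hx
      exact this
    let r : k →+* A ⧸ P.asIdeal := (Ideal.Quotient.mk P.asIdeal).comp (algebraMap k A)
    let f₁ : k →ₐ[MvPolynomial (Fin n) k] A ⧸ P.asIdeal := ⟨r, fun x => by
      have h0 := hker (x - algebraMap k _ (ev x)) (by simp)
      rw [map_sub, map_sub, sub_eq_zero, ← IsScalarTower.algebraMap_apply k (MvPolynomial (Fin n) k) A] at h0
      exact h0.symm⟩
    exact (Algebra.TensorProduct.lift f₁ (IsScalarTower.toAlgHom (MvPolynomial (Fin n) k) A _)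
      fun _ _ => Commute.all _ _).toRingHom.domain_nontrivial
  have : Algebra.Etale k T := inferInstance
  obtain ⟨t⟩ := exists_algHom_of_etale (k := k) T
  exact ⟨t.comp ((Algebra.TensorProduct.includeRight : A →ₐ[MvPolynomial (Fin n) k] T).restrictScalars k)⟩

theorem isReduced_tensor_localization {A L K : Type u} [CommRing A] [Algebra k A] [CommRing L]
    [Algebra k L] [Algebra A L] [IsScalarTower k A L] [CommRing K] [Algebra k K] (M : Submonoid A)
    [IsLocalization M L] (hA : IsReduced (K ⊗[k] A)) : IsReduced (K ⊗[k] L) := by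
  let φ : (K ⊗[k] A) →ₐ[K] K ⊗[k] L := Algebra.TensorProduct.map (AlgHom.id K K) (IsScalarTower.toAlgHom k A L)
  let := φ.toRingHom.toAlgebra
  have : IsScalarTower K (K ⊗[k] A) (K ⊗[k] L) := .of_algebraMap_eq' φ.comp_algebraMap.symm
  have := IsLocalization.tensorProduct_tensorProduct_right (R := k) (S := K) M L (by
    ext x
    show φ (1 ⊗ₜ x) = 1 ⊗ₜ algebraMap A L x
    simp [φ])
  exact isReduced_localizationPreserves (M.map (Algebra.TensorProduct.includeRight (R := k) (A := K))) _ hA

/-- The local ring of a geometrically reduced algebra at a minimal prime is smooth. -/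
theorem isSmoothAt_minimal (A : Type u) [CommRing A] [Algebra k A] [Algebra.FiniteType k A]
    [IsReduced A] (hA : IsReduced (AlgebraicClosure k ⊗[k] A)) (P : Ideal A) [P.IsPrime]
    (hP : P ∈ minimalPrimes A) : Algebra.IsSmoothAt k P := by
  let L := Localization.AtPrime P
  have : Ring.KrullDimLE 0 L := .of_isLocalization _ hP _
  have : IsReduced L := isReduced_localizationPreserves P.primeCompl L ‹IsReduced A›
  let : Field L := Ring.KrullDimLE.isField_of_isReduced.toField
  have : Algebra.EssFiniteType k L := Algebra.EssFiniteType.comp k A L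
  have : Algebra.IsGeometricallyReduced k L :=
    (Algebra.isGeometricallyReduced_field_iff k L).2 (isReduced_tensor_localization P.primeCompl hA)
  exact (Groth.Ega41Sep.formallySmooth_iff_isGeometricallyReduced k L).2 this

/-- A geometrically reduced algebra of finite type over a separably closed field has rational points
in every nonempty basic open set. -/
theorem exists_algHom_ne_zero [IsSepClosed k] [Infinite k] (A : Type u) [CommRing A] [Algebra k A]
    [Algebra.FiniteType k A] [IsReduced A] (hA : IsReduced (AlgebraicClosure k ⊗[k] A)) (f : A)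
    (hf : f ≠ 0) : ∃ φ : A →ₐ[k] k, φ f ≠ 0 := by
  let B := Localization.Away f
  have : Nontrivial B := by
    refine not_subsingleton_iff_nontrivial.1 fun h => ?_
    obtain ⟨m, hm⟩ := (IsLocalization.subsingleton_iff (S := B) (M := Submonoid.powers f)).1 h
    exact hf (IsReduced.eq_zero f ⟨m, hm⟩)
  have : IsReduced B := isReduced_localizationPreserves (Submonoid.powers f) B ‹IsReduced A›
  have : Algebra.FiniteType A B := IsLocalization.finiteType_of_monoid_fg (Submonoid.powers f) B
  have : Algebra.FiniteType k B := Algebra.FiniteType.trans (S := A) inferInstance inferInstance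
  obtain ⟨m, hm⟩ := Ideal.exists_maximal B
  obtain ⟨P, hP⟩ := Ideal.exists_minimalPrimes_le (I := (⊥ : Ideal B)) (J := m) bot_le
  have := hP.1.1.1
  have := isSmoothAt_minimal B (isReduced_tensor_localization (Submonoid.powers f) hA) P hP.1
  have : Algebra.FinitePresentation k B := Algebra.FinitePresentation.of_finiteType.1 inferInstance
  obtain ⟨g, hg, hgs⟩ := Algebra.IsSmoothAt.exists_notMem_isStandardSmooth (R := k) P
  have : Nontrivial (Localization.Away g) := by
    refine not_subsingleton_iff_nontrivial.1 fun h => ?_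
    obtain ⟨m, hm⟩ := (IsLocalization.subsingleton_iff (S := Localization.Away g) (M := Submonoid.powers g)).1 h
    exact hg (hP.1.1.1.mem_of_pow_mem m ((show g ^ m = 0 from hm).symm ▸ P.zero_mem))
  obtain ⟨ψ⟩ := exists_algHom_of_isStandardSmooth (k := k) (Localization.Away g)
  let ψ' : B →ₐ[k] k := ψ.comp (IsScalarTower.toAlgHom k B _)
  refine ⟨ψ'.comp (IsScalarTower.toAlgHom k A B), fun h0 => ?_⟩
  exact (isUnit_iff_ne_zero.1 ((IsLocalization.Away.algebraMap_isUnit (S := B) f).map ψ')) h0

end Groth.AlgGrp1
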