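import Groth.Agent.TorusPts.Affine
import Groth.Agent.Reductive.FreeDiagDescent
import Groth.Agent.Reductive.BaseChangeMT
import Groth.Agent.Reductive2.DescendAlgClosed
import Groth.Agent.Reductive2.FieldPts

/-!
Tori over algebraically closed fields are split.
-/

set_option autoImplicit false
set_option linter.style.haveILetI false
universe u

open CategoryTheory MonoidalCategory CartesianMonoidalCategory MonObj AlgebraicGeometry TensorProduct
open Groth.AlgGrp2

noncomputable section

namespace Groth.AlgGrp1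

variable {k : Type u} [Field k]

/-- A torus over a field is split by some field extension. -/
theorem exists_split_field_of_isTorus {T : Over (Spec (CommRingCat.of k))} [GrpObj T] (hT : Red.IsTorus T) :
    ∃ (r : ℕ) (L : Type u) (_ : Field L) (_ : Algebra k L),
      Red.IsSplitTorusWith (Fin r → ℤ) (Red.bc (str k L) T) := by
  obtain ⟨S', f, -, hsurj, -, hloc⟩ := hT
  obtain ⟨s', -⟩ := hsurj.surj (⟨⊥, Ideal.isPrime_bot⟩ : PrimeSpectrum k)
  obtain ⟨U, hU, r, ⟨e⟩⟩ := hloc s'
  let L := S'.residueField s'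
  let q := S'.fromSpecResidueField s'
  obtain ⟨c, hc⟩ : ∃ c : CommRingCat.of k ⟶ L, Spec.map c = q ≫ f := ⟨_, Spec.map_preimage _⟩
  letI : Algebra k L := c.hom.toAlgebra
  have hrange : Set.range q.base ⊆ Set.range U.ι.base := by
    rw [Scheme.Opens.range_ι, Scheme.range_fromSpecResidueField]
    exact Set.singleton_subset_iff.2 hU
  let e' : Red.DS (U : Scheme.{u}) (Fin r → ℤ) ≅ Red.bc (U.ι ≫ f) T := (Grp.forget _).mapIso e.symm
  haveI : IsMonHom e'.hom := inferInstanceAs (IsMonHom e.inv.hom.hom)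
  obtain ⟨i, hi⟩ := Groth.Reductive.FreeDiag.exists_trivialisation_comp T
    (IsOpenImmersion.lift U.ι q hrange) (U.ι ≫ f) e'
  have heq : IsOpenImmersion.lift U.ι q hrange ≫ U.ι ≫ f = str k L := by
    rw [IsOpenImmersion.lift_fac_assoc, ← hc]
    rfl
  revert i
  rw [heq]
  intro i hi
  haveI := hi
  exact ⟨r, L, inferInstance, inferInstance, ⟨(Grp.mkIso' i).symm⟩⟩

variable [IsAlgClosed k]

/-- **A torus over an algebraically closed field is the spectrum of the group algebra of a free abelian
group of finite rank.** -/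
theorem exists_diag_iso_of_isTorus {T : Over (Spec (CommRingCat.of k))} [GrpObj T] (hT : Red.IsTorus T) :
    ∃ (r : ℕ) (e : CoactBr.sp k (MonoidAlgebra k (Multiplicative (Fin r → ℤ))) ≅ T), IsMonHom e.hom := by
  obtain ⟨r, L, _, _, hL⟩ := exists_split_field_of_isTorus hT
  haveI : IsAffine T.left := Groth.TorusPts.isAffine_of_split T L hL
  haveI hd : IsAffine (Red.diag k (Fin r → ℤ)).left :=
    inferInstanceAs (IsAffine (Spec (CommRingCat.of (MonoidAlgebra k (Multiplicative (Fin r → ℤ))))))
  haveI : LocallyOfFiniteType (Red.diag k (Fin r → ℤ)).hom := by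
    show LocallyOfFiniteType (Spec.map _)
    rw [HasRingHomProperty.Spec_iff (P := @LocallyOfFiniteType)]
    exact RingHom.finiteType_algebraMap.2
      (inferInstance : Algebra.FiniteType k (MonoidAlgebra k (Multiplicative (Fin r → ℤ))))
  haveI : LocallyOfFiniteType T.hom := by
    obtain ⟨A, _, _, j, hj, ⟨eL⟩⟩ := Groth.TorusPts.exists_hopf_split T L hL
    haveI : Algebra.FiniteType L (L ⊗[k] A) :=
      Algebra.FiniteType.equiv (inferInstance : Algebra.FiniteType L (MonoidAlgebra L (Multiplicative (Fin r → ℤ))))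
        (eL : L ⊗[k] A ≃ₐ[L] MonoidAlgebra L (Multiplicative (Fin r → ℤ))).symm
    haveI : Algebra.FiniteType k A := Algebra.FiniteType.of_finiteType_tensorProduct_of_faithfullyFlat L
    haveI : LocallyOfFiniteType (CoactBr.sp k A).hom := by
      show LocallyOfFiniteType (Spec.map _)
      rw [HasRingHomProperty.Spec_iff (P := @LocallyOfFiniteType)]
      exact RingHom.finiteType_algebraMap.2 inferInstance
    have : IsIso j.inv.left := inferInstanceAs (IsIso ((Over.forget _).map j.inv))
    rw [← Over.w j.inv]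
    infer_instance
  let w1 : Grp.mk (Red.bc (str k L) (Red.diag k (Fin r → ℤ))) ≅ Grp.mk (Red.diag L (Fin r → ℤ)) :=
    (Grp.mkIso' (diagBC k L (Fin r → ℤ))).symm
  let w2 : Grp.mk (Red.diag L (Fin r → ℤ)) ≅ Grp.mk (Red.bc (str k L) T) :=
    Grp.mkIso' (diagIsoOfSplit L (Fin r → ℤ) hL)
  obtain ⟨w⟩ := Groth.Reductive2.nonempty_iso_of_bc (Red.diag k (Fin r → ℤ)) T (Ω := L) ⟨w1 ≪≫ w2⟩
  exact ⟨r, (Grp.forget _).mapIso w, inferInstanceAs (IsMonHom w.hom.hom.hom)⟩

end Groth.AlgGrp1
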