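import Groth.Agent.AlgGrp1.CartanField
import Mathlib.AlgebraicGeometry.Morphisms.FlatDescent

/-!
The centralizer of a maximal torus lies in every Borel subgroup containing it.
-/

set_option autoImplicit false
set_option linter.style.haveILetI false
universe u

open CategoryTheory Limits MonoidalCategory CartesianMonoidalCategory MonObj GrpObj AlgebraicGeometry
open Groth.AlgGrp2

noncomputable section

namespace Groth.AlgGrp1

variable {k : Type u} [Field k]

/-- Factorization through a closed subscheme descends. -/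
theorem exists_factor_descend {K : Type u} [Field K] (φ : Spec (CommRingCat.of K) ⟶ Spec (CommRingCat.of k))
    {C B G : Over (Spec (CommRingCat.of k))} (c : C ⟶ G) (i : B ⟶ G) [IsClosedImmersion i.left]
    (f : Red.bc φ C ⟶ Red.bc φ B) (hf : f ≫ (Over.pullback φ).map i = (Over.pullback φ).map c) :
    ∃ g : C ⟶ B, g ≫ i = c := by
  let P : Over (Spec (CommRingCat.of k)) := Over.mk (pullback.fst c.left i.left ≫ C.hom)
  let p : P ⟶ C := Over.homMk (pullback.fst c.left i.left) rfl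
  let q : P ⟶ B := Over.homMk (pullback.snd c.left i.left) (by
    show pullback.snd _ _ ≫ B.hom = pullback.fst _ _ ≫ C.hom
    rw [← Over.w i, ← Over.w c, pullback.condition_assoc])
  have hpq : p ≫ c = q ≫ i := Over.OverMorphism.ext pullback.condition
  have : IsClosedImmersion p.left := inferInstanceAs (IsClosedImmersion (pullback.fst c.left i.left))
  have := isClosedImmersion_bc φ p
  have hmono : Mono ((Over.pullback φ).map p) := Over.mono_of_mono_left _
  have h1 : bcPt φ f ≫ i = bcPt φ (𝟙 (Red.bc φ C)) ≫ c := by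
    rw [← bcPt_comp_map, hf, ← bcPt_comp_map, Category.id_comp]
  have h1' : (bcPt φ (𝟙 (Red.bc φ C))).left ≫ c.left = (bcPt φ f).left ≫ i.left := by
    rw [← Over.comp_left, ← Over.comp_left, h1]
  let r : (Over.map φ).obj (Red.bc φ C) ⟶ P :=
    Over.homMk (pullback.lift (bcPt φ (𝟙 (Red.bc φ C))).left (bcPt φ f).left h1')
      (by
        show _ ≫ pullback.fst c.left i.left ≫ C.hom = _
        rw [← Category.assoc]
        exact (congrArg (· ≫ C.hom) (pullback.lift_fst _ _ _)).trans (Over.w (bcPt φ (𝟙 _))))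
  have hr : r ≫ p = bcPt φ (𝟙 (Red.bc φ C)) := Over.OverMorphism.ext (pullback.lift_fst _ _ _)
  have hse : bcPtInv φ r ≫ (Over.pullback φ).map p = 𝟙 _ := bcPt_injective φ (by
    rw [bcPt_comp_map, bcPt_bcPtInv, hr])
  have : IsSplitEpi ((Over.pullback φ).map p) := IsSplitEpi.mk' ⟨_, hse⟩
  have : IsIso ((Over.pullback φ).map p) := isIso_of_mono_of_isSplitEpi _
  have : IsIso ((Over.pullback φ).map p).left := inferInstanceAs (IsIso ((Over.forget (Spec (CommRingCat.of K))).map ((Over.pullback φ).map p)))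
  have hh := fpqc_fieldMap φ
  have hQ : (@Surjective ⊓ @Flat ⊓ @QuasiCompact : MorphismProperty Scheme.{u}) (pullback.fst C.hom φ) :=
    MorphismProperty.pullback_fst (P := (@Surjective ⊓ @Flat ⊓ @QuasiCompact : MorphismProperty Scheme.{u}))
      C.hom φ ⟨⟨hh.1.1, hh.1.2⟩, hh.2⟩
  have : IsIso p.left := MorphismProperty.of_isPullback_of_descendsAlong
    (P := MorphismProperty.isomorphisms Scheme.{u}) (Q := @Surjective ⊓ @Flat ⊓ @QuasiCompact)
    (isPullback_bc_map φ p).flip hQ (inferInstance : IsIso ((Over.pullback φ).map p).left)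
  have : IsIso ((Over.forget _).map p) := this
  have : IsIso p := isIso_of_reflects_iso p (Over.forget _)
  exact ⟨inv p ≫ q, by rw [Category.assoc, ← hpq, IsIso.inv_hom_id_assoc]⟩

/-- Nilpotent groups are solvable. -/
theorem isSolvableGrp_of_nilpotent {S : Scheme.{u}} {G : Over S} [GrpObj G] (h : AGF.IsNilpotentGrp G) :
    Red.IsSolvableGrp G := by
  obtain ⟨n, hn⟩ := h
  refine ⟨n, fun X => le_bot_iff.1 ((Subgroup.derived_le_lower_central n).trans ?_)⟩
  have : Group.IsNilpotent (X ⟶ G) := ⟨⟨n, hn X⟩⟩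
  rw [Subgroup.lowerCentralSeries_eq_bot_iff_upperCentralSeries_eq_top.2 (hn X)]

/-- Conjugation by a point normalizing a torus preserves its centralizer. -/
theorem exists_conj_centralizer {S : Scheme.{u}} {G T C : Over S} [GrpObj G] [GrpObj T] [GrpObj C] {iT : T ⟶ G}
    {c : C ⟶ G} (hc : Red.IsCentralizerOf iT c) (h : 𝟙_ (Over S) ⟶ G) (e : T ≅ T)
    (he : e.hom ≫ iT = AGF.conjBy h iT) : ∃ f : C ⟶ C, f ≫ c = AGF.conjBy h c := by
  refine (hc.2.2 C (AGF.conjBy h c)).2 fun X x y => ?_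
  have h1 : y ≫ iT = (toUnit X ≫ h) * ((y ≫ e.inv) ≫ iT) * (toUnit X ≫ h)⁻¹ := by
    have h0 := congrArg ((y ≫ e.inv) ≫ ·) he
    simp only [comp_conjBy'] at h0
    rw [Category.assoc, Iso.inv_hom_id_assoc] at h0
    exact h0
  have h2 := (hc.2.2 X (x ≫ c)).1 ⟨x, rfl⟩ X (𝟙 X) (y ≫ e.inv)
  rw [Category.id_comp] at h2
  unfold AGF.conjBy
  rw [MonObj.comp_mul, MonObj.comp_mul, GrpObj.comp_inv, ← Category.assoc x, toUnit_unique (x ≫ toUnit C) (toUnit X), h1]
  generalize toUnit X ≫ h = a at *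
  generalize x ≫ c = p at *
  generalize (y ≫ e.inv) ≫ iT = q at *
  calc a * p * a⁻¹ * (a * q * a⁻¹) = a * (p * q) * a⁻¹ := by group
    _ = a * (q * p) * a⁻¹ := by rw [h2]
    _ = a * q * a⁻¹ * (a * p * a⁻¹) := by group

/-- The centralizer of a maximal torus lies in the Borel subgroups containing it. -/
theorem centralizer_le_borelOver [IsAlgClosed k] {G T C B : Over (Spec (CommRingCat.of k))} [GrpObj G] [GrpObj T]
    [GrpObj C] [GrpObj B] [IsAffine G.left] [Smooth G.hom] [ConnectedSpace G.left] {iT : T ⟶ G}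
    (hT : AGF.IsMaxTorus iT) {c : C ⟶ G} (hc : Red.IsCentralizerOf iT c) {iB : B ⟶ G}
    (hB : Red.IsBorelOver k iB) (t : T ⟶ B) (ht : t ≫ iB = iT) : ∃ f : C ⟶ B, f ≫ iB = c := by
  obtain ⟨hs, hcl, hcn, hnil⟩ := isNilpotentGrp_centralizer_maxTorus hT hc
  haveI := hs; haveI := hcl; haveI := hcn
  haveI := hc.1
  haveI := hT.1
  obtain ⟨B₀, _, i₀, _, X, a, o, hB₀, hX, hp⟩ := exists_borel_proper (G := G)
  haveI := hp
  obtain ⟨x, f, hf⟩ := exists_conj_le hX c (isSolvableGrp_of_nilpotent hnil)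
  obtain ⟨tC, htC⟩ := (hc.2.2 T iT).2 fun X' p q => by
    rw [← MonObj.mul_comp, ← MonObj.mul_comp, Groth.Reductive2.torus_mul_comm hT.2.2.1 p q]
  obtain ⟨g, fB, fT, h1, h2⟩ := borelPair_conj hB hB₀ hT (isMaxTorus_conjBy hT x) t ht (tC ≫ f)
    (by rw [Category.assoc, hf, comp_conjBy', htC])
  obtain ⟨e, he⟩ := exists_conj_centralizer hc (x⁻¹ * g) fT (by
    rw [← conjBy_conjBy, ← h2, ← comp_conjBy', conjBy_conjBy, inv_mul_cancel, conjBy_one])
  refine ⟨e ≫ f ≫ fB.inv, ?_⟩
  have e1 : AGF.conjBy g⁻¹ (f ≫ i₀) = (f ≫ fB.inv) ≫ iB := by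
    have : i₀ = fB.inv ≫ AGF.conjBy g iB := by rw [← h1, Iso.inv_hom_id_assoc]
    rw [this, ← Category.assoc, ← comp_conjBy', conjBy_conjBy, inv_mul_cancel, conjBy_one]
  rw [Category.assoc, ← e1, hf, conjBy_conjBy, comp_conjBy', he, conjBy_conjBy,
    _root_.mul_assoc, _root_.mul_inv_cancel_left, inv_mul_cancel, conjBy_one]

/-- **The centralizer of a maximal torus lies in the Borel subgroups containing it, over any field.** -/
theorem centralizer_le_borel {G T C B : Over (Spec (CommRingCat.of k))} [GrpObj G] [GrpObj T] [GrpObj C] [GrpObj B]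
    [IsAffine G.left] [Smooth G.hom] [ConnectedSpace G.left] {iT : T ⟶ G} (hT : Red.IsMaximalTorus iT)
    {c : C ⟶ G} (hc : Red.IsCentralizerOf iT c) {iB : B ⟶ G} (hB : Red.IsBorel iB) (t : T ⟶ B)
    (ht : t ≫ iB = iT) : ∃ f : C ⟶ B, f ≫ iB = c := by
  let ψ := Red.geomPt (spt k)
  have := smooth_bc ψ G
  have := isAffine_bc ψ G
  have := connectedSpace_bc ψ G
  have := hB.2.1
  obtain ⟨f, hf⟩ := centralizer_le_borelOver (isMaxTorus_geom hT (spt k)) (isCentralizerOf_bc ψ hc)
    (hB.2.2.2 (spt k)) ((Over.pullback ψ).map t) (by rw [← Functor.map_comp, ht])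
  exact exists_factor_descend ψ c iB f hf

end Groth.AlgGrp1
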