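import Groth.Agent.AlgGrp1.ActAffine
import Groth.Agent.AlgGrp1.Geom
import Groth.Agent.AlgGrp1.KPoints
import Groth.Agent.GrpschAbsch.Basic
import Groth.Prelude.Def_ActBC

/-!
A group scheme acting faithfully on a connected group scheme by automorphisms is affine.
-/

set_option autoImplicit false
universe u

open CategoryTheory Limits MonoidalCategory CartesianMonoidalCategory MonObj GrpObj AlgebraicGeometry
open Groth.Agf (Fn pull evalPt)
open scoped Groth.Agf

noncomputable section

namespace Groth.AlgGrp1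

variable {k : Type u} [Field k]

/-- Two morphisms agreeing on all infinitesimal neighbourhoods of a point agree on an open
neighbourhood. -/
theorem exists_localization_of_agree {X Y : Over (Spec (CommRingCat.of k))} [IsSeparated Y.hom]
    {R : Type u} [CommRing R] [Algebra k R] [IsNoetherianRing R] (t : specAlg k R ⟶ X) (f₁ f₂ : X ⟶ Y)
    (m : Ideal R) [m.IsMaximal]
    (h : ∀ n : ℕ, specAlgMap (Ideal.Quotient.mkₐ k (m ^ (n + 1))) ≫ t ≫ f₁ =
      specAlgMap (Ideal.Quotient.mkₐ k (m ^ (n + 1))) ≫ t ≫ f₂) :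
    ∃ r ∉ m, specAlgMap (IsScalarTower.toAlgHom k R (Localization.Away r)) ≫ t ≫ f₁ =
      specAlgMap (IsScalarTower.toAlgHom k R (Localization.Away r)) ≫ t ≫ f₂ := by
  obtain ⟨E, c, hc, hE⟩ := exists_equalizer (t ≫ f₁) (t ≫ f₂)
  obtain ⟨I, e, he⟩ := (IsClosedImmersion.Spec_iff (R := CommRingCat.of R) (f := c.left)).1 hc
  have hI : ∀ n, I ≤ m ^ (n + 1) := by
    intro n x hx
    obtain ⟨z, hz⟩ := (hE _ _).2 (h n)
    have h1 : Spec.map (CommRingCat.ofHom (Ideal.Quotient.mk (m ^ (n + 1)))) =
        (z.left ≫ e.hom) ≫ Spec.map (CommRingCat.ofHom (Ideal.Quotient.mk I)) := by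
      rw [Category.assoc, ← he, ← Over.comp_left, hz]
      rfl
    obtain ⟨ψ, hψ⟩ := Spec.map_surjective (z.left ≫ e.hom)
    rw [← hψ, ← Spec.map_comp] at h1
    have h2 := congr($(Spec.map_injective h1) x)
    refine Ideal.Quotient.eq_zero_iff_mem.1 (h2.trans ?_)
    show ψ.hom (Ideal.Quotient.mk I x) = 0
    rw [Ideal.Quotient.eq_zero_iff_mem.2 hx, map_zero]
  obtain ⟨N, hN⟩ := m.exists_pow_inf_eq_pow_smul (I : Submodule R R)
  have hle : I ≤ m • I := by
    intro x hx
    have h1 : x ∈ m ^ (N + 1) • (⊤ : Submodule R R) ⊓ I :=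
      ⟨by simpa using hI N hx, hx⟩
    rw [hN _ N.le_succ, show N + 1 - N = 1 by omega, pow_one] at h1
    exact Submodule.smul_mono le_rfl inf_le_right h1
  obtain ⟨r, hr1, hr⟩ := Submodule.exists_sub_one_mem_and_smul_eq_zero_of_fg_of_le_smul m I
    (IsNoetherian.noetherian _) hle
  have hrm : r ∉ m := fun hr' => ‹m.IsMaximal›.ne_top ((Ideal.eq_top_iff_one m).2
    (by simpa using sub_mem hr' hr1))
  refine ⟨r, hrm, (hE _ _).1 ?_⟩
  have hI0 : ∀ x ∈ I, algebraMap R (Localization.Away r) x = 0 := fun x hx =>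
    (IsLocalization.map_eq_zero_iff (Submonoid.powers r) _ _).2
      ⟨⟨r, Submonoid.mem_powers r⟩, hr x hx⟩
  let ψ := Ideal.Quotient.lift I (algebraMap R (Localization.Away r)) hI0
  have hz : (Spec.map (CommRingCat.ofHom ψ) ≫ e.inv) ≫ c.left =
      (specAlgMap (IsScalarTower.toAlgHom k R (Localization.Away r))).left := by
    rw [he, Category.assoc, Iso.inv_hom_id_assoc, ← Spec.map_comp]
    rfl
  refine ⟨Over.homMk (Spec.map (CommRingCat.ofHom ψ) ≫ e.inv) ?_, Over.OverMorphism.ext hz⟩
  rw [← Over.w c, ← Category.assoc, hz, Over.w]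

/-- Multiplication from two copies of a nonempty open of an irreducible group over an algebraically
closed field is an fppf cover. -/
theorem isCover_mul_open [IsAlgClosed k] {G W : Over (Spec (CommRingCat.of k))} [GrpObj G]
    [LocallyOfFiniteType G.hom] [IrreducibleSpace G.left] (j : W ⟶ G) [IsOpenImmersion j.left]
    [Nonempty W.left] : IsCover ((fst W W ≫ j) * (snd W W ≫ j)) := by
  have : LocallyOfFiniteType W.hom := by rw [← Over.w j]; infer_instance
  have : LocallyOfFiniteType (W ⊗ W).hom :=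
    inferInstanceAs (LocallyOfFiniteType (pullback.fst W.hom W.hom ≫ W.hom))
  set p := (fst W W ≫ j) * (snd W W ≫ j) with hp
  have hμ : p = (W ◁ j) ≫ (j ▷ G) ≫ μ[G] := by
    rw [hp, Groth.GrpschAbsch.whiskerRight_mul, MonObj.comp_mul]
    simp
  have : IsOpenImmersion (W ◁ j).left :=
    MorphismProperty.of_isPullback (isPullback_whiskerLeft W j) ‹IsOpenImmersion j.left›
  have : Flat G.hom := inferInstance
  have : IsOpenImmersion (j ▷ G).left :=
    MorphismProperty.of_isPullback (isPullback_whiskerRight j G) ‹IsOpenImmersion j.left›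
  have : Flat μ[G].left := by
    have e : μ[G] = (Groth.GrpschAbsch.shearR (𝟙 G)).hom ≫ fst G G := by
      rw [Groth.GrpschAbsch.shearR_hom_fst, MonoidalCategory.whiskerLeft_id, Category.id_comp]
    have : Flat (fst G G).left := inferInstanceAs (Flat (pullback.fst G.hom G.hom))
    rw [e, Over.comp_left]
    infer_instance
  have : Flat p.left := by rw [hμ, Over.comp_left, Over.comp_left]; infer_instance
  have hlfp : LocallyOfFinitePresentation p.left := lfp_left p
  have ho : IsOpen (Set.range p.left) := p.left.isOpenMap.isOpen_range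
  have : Surjective p.left := ⟨by
    rw [← Set.range_eq_univ]
    have := LocallyOfFiniteType.jacobsonSpace G.hom
    by_contra hne
    obtain ⟨x, hx, hxc⟩ := nonempty_inter_closedPoints (Set.nonempty_compl.2 hne) ho.isClosed_compl.isLocallyClosed
    apply hx
    let x' : 𝟙_ _ ⟶ G := Over.homMk _ ((pointEquivClosedPoint G.hom).symm ⟨x, hxc⟩).2
    let α : G ⟶ G := (toUnit G ≫ x') * (𝟙 G)⁻¹
    let β : G ⟶ G := (𝟙 G)⁻¹ * (toUnit G ≫ x')
    have hW : IsOpen (Set.range j.left) := j.left.isOpenEmbedding.isOpen_range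
    have h2 : (α.left.base ⁻¹' Set.range j.left).Nonempty := by
      refine ⟨β.left.base (j.left (Classical.arbitrary W.left)), Classical.arbitrary W.left, ?_⟩
      have hβ : β ≫ α = 𝟙 G := by
        simp only [α, MonObj.comp_mul, GrpObj.comp_inv, Category.comp_id, ← Category.assoc]
        rw [toUnit_unique (β ≫ toUnit G) (toUnit G)]
        simp [β]
      exact (congr(($hβ).left (j.left (Classical.arbitrary W.left)))).symm
    obtain ⟨y, hy, hyc⟩ := nonempty_inter_closedPoints
      (nonempty_preirreducible_inter hW (hW.preimage α.left.continuous) (Set.range_nonempty _) h2)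
      (hW.inter (hW.preimage α.left.continuous)).isLocallyClosed
    let y' : 𝟙_ _ ⟶ G := Over.homMk _ ((pointEquivClosedPoint G.hom).symm ⟨y, hyc⟩).2
    have hy' : ∀ t, y'.left.base t = y := fun t =>
      (congrArg y'.left.base (Subsingleton.elim (α := ↥(Spec (CommRingCat.of k))) t (IsLocalRing.closedPoint k))).trans
        (pointOfClosedPoint_apply G.hom y hyc _)
    have lft : ∀ u : 𝟙_ _ ⟶ G, (∀ t, u.left.base t ∈ Set.range j.left) → ∃ v : 𝟙_ _ ⟶ W, v ≫ j = u := by
      intro u hu
      refine ⟨Over.homMk (IsOpenImmersion.lift j.left u.left (by rintro _ ⟨t, rfl⟩; exact hu t)) ?_, ?_⟩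
      · rw [← Over.w j, IsOpenImmersion.lift_fac_assoc, Over.w u]
      · exact Over.OverMorphism.ext (IsOpenImmersion.lift_fac _ _ _)
    obtain ⟨v₁, hv₁⟩ := lft (y' ≫ α) fun t => by
      rw [Over.comp_left, Scheme.Hom.comp_apply, hy']
      exact hy.2
    obtain ⟨v₂, hv₂⟩ := lft y' fun t => by rw [hy']; exact hy.1
    refine ⟨(lift v₁ v₂).left.base (IsLocalRing.closedPoint k), ?_⟩
    have h3 : lift v₁ v₂ ≫ p = x' := by
      simp [hp, MonObj.comp_mul, hv₁, hv₂, α, GrpObj.comp_inv]
    have h4 := congr(($h3).left (IsLocalRing.closedPoint k))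
    exact h4.trans (pointOfClosedPoint_apply G.hom x hxc _)⟩
  exact ⟨inferInstance, inferInstance, hlfp⟩

/-- A rational point at which every function takes its value at the unit acts trivially on a connected
group on which the group acts by automorphisms. -/
theorem act_eq_of_invisible [IsAlgClosed k]
    (Q G : Over (Spec (CommRingCat.of k))) [GrpObj Q] [LocallyOfFiniteType Q.hom] [QuasiCompact Q.hom]
    [GrpObj G] [LocallyOfFiniteType G.hom] [QuasiCompact G.hom] [ConnectedSpace G.left]
    (a : AlgGrp.Action Q G)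
    (hmul : ∀ (T : Over (Spec (CommRingCat.of k))) (g : T ⟶ Q) (x y : T ⟶ G),
      lift g (x * y) ≫ a.act = (lift g x ≫ a.act) * (lift g y ≫ a.act))
    (g : VecGrp.pt k k ⟶ Q) (hg : ∀ f : Fn Q, evalPt g f = evalPt (1 : VecGrp.pt k k ⟶ Q) f) :
    lift (toPt G ≫ g) (𝟙 G) ≫ a.act = 𝟙 G := by
  have := isSeparated_grpObj G
  have := irreducibleSpace_of_connected G
  have := isLocallyNoetherian_left G
  have := isSeparated_grpObj Q
  have hone : ∀ (T : Over (Spec (CommRingCat.of k))) (h : T ⟶ Q), lift h (1 : T ⟶ G) ≫ a.act = 1 := fun T h => by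
    have := hmul T h 1 1
    rwa [_root_.one_mul, left_eq_mul] at this
  let φ : G ⟶ G := lift (toPt G ≫ g) (𝟙 G) ≫ a.act
  have hφ : ∀ (T : Over (Spec (CommRingCat.of k))) (x : T ⟶ G), x ≫ φ = lift (toPt T ≫ g) x ≫ a.act := by
    intro T x
    rw [show φ = lift (toPt G ≫ g) (𝟙 G) ≫ a.act from rfl, comp_lift_assoc, Category.comp_id, ← Category.assoc,
      toPt_unique (x ≫ toPt G) (toPt T)]
  -- an affine neighbourhood of the unit
  let p := η[G].left.base (IsLocalRing.closedPoint k)
  obtain ⟨_, ⟨U, hU, rfl⟩, hpU, -⟩ := G.left.isBasis_affineOpens.exists_subset_of_mem_open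
    (Set.mem_univ p) isOpen_univ
  obtain ⟨_, aU, haU⟩ := exists_algebra (X := G) hU.fromSpec
  have : IsOpenImmersion aU.left := haU ▸ inferInstance
  have hrU : Set.range aU.left = (U : Set G.left) := haU ▸ hU.range_fromSpec
  set A : Type u := Γ(G.left, U)
  have : IsNoetherianRing A := IsLocallyNoetherian.component_noetherian ⟨U, hU⟩
  obtain ⟨ψ, hψ⟩ : ∃ ψ : A →ₐ[k] k, specAlgMap ψ ≫ aU = (1 : specAlg k k ⟶ G) := by
    have hr : Set.range (1 : specAlg k k ⟶ G).left ⊆ Set.range aU.left := by
      rw [hrU]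
      rintro _ ⟨t, rfl⟩
      have e : (1 : specAlg k k ⟶ G).left.base t = η[G].left.base ((toUnit (specAlg k k)).left.base t) := rfl
      rw [e, Subsingleton.elim (α := ↥(Spec (CommRingCat.of k))) ((toUnit (specAlg k k)).left.base t) (IsLocalRing.closedPoint k)]
      exact hpU
    let P₀ : specAlg k k ⟶ specAlg k A := Over.homMk (IsOpenImmersion.lift aU.left _ hr) (by
      rw [← Over.w aU, IsOpenImmersion.lift_fac_assoc, Over.w (1 : specAlg k k ⟶ G)])
    have hw : CommRingCat.ofHom (algebraMap k A) ≫ Spec.preimage P₀.left = CommRingCat.ofHom (algebraMap k k) := by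
      apply Spec.map_injective
      rw [Spec.map_comp, Spec.map_preimage]
      exact Over.w P₀
    refine ⟨{ (Spec.preimage P₀.left).hom with commutes' := fun c => congr($(hw).hom c) }, ?_⟩
    apply Over.OverMorphism.ext
    exact (congrArg (· ≫ aU.left) (Spec.map_preimage P₀.left)).trans (IsOpenImmersion.lift_fac _ _ _)
  let m : Ideal A := RingHom.ker ψ
  have hm : m.IsMaximal := RingHom.ker_isMaximal_of_surjective ψ fun c => ⟨algebraMap k A c, ψ.commutes c⟩
  -- `g` fixes the infinitesimal neighbourhoods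
  have hn : ∀ n : ℕ, specAlgMap (Ideal.Quotient.mkₐ k (m ^ (n + 1))) ≫ aU ≫ φ =
      specAlgMap (Ideal.Quotient.mkₐ k (m ^ (n + 1))) ≫ aU ≫ 𝟙 G := by
    intro n
    set j := specAlgMap (Ideal.Quotient.mkₐ k (m ^ (n + 1))) ≫ aU with hj
    let F : Q ⊗ specAlg k (A ⧸ m ^ (n + 1)) ⟶ G := (Q ◁ j) ≫ a.act
    have hsub : Set.range F.left ⊆ Set.range aU.left := by
      let ψn : A ⧸ m ^ (n + 1) →ₐ[k] k :=
        Ideal.Quotient.liftₐ _ ψ (Ideal.pow_le_self (I := m) (Nat.succ_ne_zero n))
      let s : specAlg k k ⟶ specAlg k (A ⧸ m ^ (n + 1)) := specAlgMap ψn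
      have hs : s ≫ j = 1 := by
        rw [hj, ← hψ, ← Category.assoc]
        congr 1
        apply Over.OverMorphism.ext
        exact (Spec.map_comp _ _).symm
      have : Subsingleton (specAlg k (A ⧸ m ^ (n + 1))).left := by
        constructor
        intro x y
        have key : ∀ x : PrimeSpectrum (A ⧸ m ^ (n + 1)), x.asIdeal.comap (Ideal.Quotient.mk _) = m := fun x => by
          refine (hm.eq_of_le (Ideal.IsPrime.ne_top inferInstance) ?_).symm
          refine Ideal.IsPrime.le_of_pow_le (n := n + 1) (fun r hr => ?_)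
          rw [Ideal.mem_comap, Ideal.Quotient.eq_zero_iff_mem.2 hr]
          exact zero_mem _
        exact PrimeSpectrum.ext (Ideal.comap_injective_of_surjective _ Ideal.Quotient.mk_surjective
          ((key x).trans (key y).symm))
      have : Surjective s.left := ⟨fun x => ⟨IsLocalRing.closedPoint k, Subsingleton.elim _ _⟩⟩
      have : Surjective (Q ◁ s).left :=
        MorphismProperty.of_isPullback (P := @Surjective) (isPullback_whiskerLeft Q s) inferInstance
      rintro _ ⟨z, rfl⟩
      obtain ⟨z', rfl⟩ := (Q ◁ s).left.surjective z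
      refine ⟨((toPt (Q ⊗ specAlg k k)) ≫ specAlgMap ψ).left z', ?_⟩
      have e : (Q ◁ s) ≫ F = (toPt (Q ⊗ specAlg k k) ≫ specAlgMap ψ) ≫ aU := by
        rw [Category.assoc, hψ, MonObj.comp_one]
        simp only [F]
        rw [← MonoidalCategory.whiskerLeft_comp_assoc, hs,
          show Q ◁ (1 : specAlg k k ⟶ G) = lift (fst _ _) 1 by
            apply CartesianMonoidalCategory.hom_ext <;> simp]
        exact hone _ _
      exact (congr(($e).left z')).symm
    let F₀ : Q ⊗ specAlg k (A ⧸ m ^ (n + 1)) ⟶ specAlg k A := Over.homMk (IsOpenImmersion.lift aU.left F.left hsub) (by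
      rw [← Over.w aU, IsOpenImmersion.lift_fac_assoc, Over.w F])
    have hF₀ : F₀ ≫ aU = F := Over.OverMorphism.ext (IsOpenImmersion.lift_fac _ _ _)
    let T := specAlg k (A ⧸ m ^ (n + 1))
    have hlift : lift (toPt T ≫ g) (𝟙 T) ≫ F₀ = lift (toPt T ≫ (1 : VecGrp.pt k k ⟶ Q)) (𝟙 T) ≫ F₀ :=
      lift_comp_eq_of_appTop F₀ _ _ _ (by
        rw [Over.comp_left, Over.comp_left, Scheme.Hom.comp_appTop, Scheme.Hom.comp_appTop,
          appTop_eq_of_evalPt hg])
    have := congrArg (· ≫ aU) hlift
    simp only [Category.assoc, hF₀, F, lift_whiskerLeft_assoc] at this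
    rw [MonObj.comp_one, a.lift_one_act] at this
    rw [← Category.assoc, ← hj, hφ, Category.comp_id]
    simpa [T, hj] using this
  obtain ⟨r, hr, hrr⟩ := exists_localization_of_agree aU φ (𝟙 G) m hn
  -- hence an open set, hence everything
  let W := specAlg k (Localization.Away r)
  let j : W ⟶ G := specAlgMap (IsScalarTower.toAlgHom k A (Localization.Away r)) ≫ aU
  have hjW : j ≫ φ = j := by simpa [j, W] using hrr
  have : IsOpenImmersion (specAlgMap (IsScalarTower.toAlgHom k A (Localization.Away r))).left :=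
    inferInstanceAs (IsOpenImmersion (Spec.map (CommRingCat.ofHom (algebraMap A (Localization.Away r)))))
  have : IsOpenImmersion j.left := by simp only [j, Over.comp_left]; infer_instance
  have : Nonempty W.left := by
    obtain ⟨x, -⟩ : (⟨m, hm.isPrime⟩ : PrimeSpectrum A) ∈ Set.range (PrimeSpectrum.comap (algebraMap A (Localization.Away r))) := by
      rw [PrimeSpectrum.localization_away_comap_range (Localization.Away r) r]
      exact hr
    exact ⟨x⟩
  apply (isCover_mul_open j).cancel
  rw [Category.comp_id, hφ, hmul, ← hφ, ← hφ, Category.assoc (fst W W) j φ, Category.assoc (snd W W) j φ, hjW]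

/-- A group acting on a connected group by automorphisms, faithfully on rational points, is affine. -/
theorem isAffine_of_autAct_algClosed [IsAlgClosed k]
    (Q G : Over (Spec (CommRingCat.of k))) [GrpObj Q] [LocallyOfFiniteType Q.hom] [QuasiCompact Q.hom]
    [GrpObj G] [LocallyOfFiniteType G.hom] [QuasiCompact G.hom] [ConnectedSpace G.left]
    (a : AlgGrp.Action Q G)
    (hmul : ∀ (T : Over (Spec (CommRingCat.of k))) (g : T ⟶ Q) (x y : T ⟶ G),
      lift g (x * y) ≫ a.act = (lift g x ≫ a.act) * (lift g y ≫ a.act))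
    (hf : ∀ g : VecGrp.pt k k ⟶ Q, lift (toPt G ≫ g) (𝟙 G) ≫ a.act = 𝟙 G → g = 1) :
    IsAffine Q.left :=
  isAffine_of_separated_points k Q fun g hg => hf g (act_eq_of_invisible Q G a hmul g hg)

/-- A group acting on a connected group by automorphisms, faithfully on geometric points, is affine. -/
theorem isAffine_of_autAct (K : Type u) [Field K] [Algebra k K] [IsAlgClosed K]
    (Q G : Over (Spec (CommRingCat.of k))) [GrpObj Q] [LocallyOfFiniteType Q.hom] [QuasiCompact Q.hom]
    [GrpObj G] [LocallyOfFiniteType G.hom] [QuasiCompact G.hom] [ConnectedSpace G.left]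
    (a : AlgGrp.Action Q G)
    (hmul : ∀ (T : Over (Spec (CommRingCat.of k))) (g : T ⟶ Q) (x y : T ⟶ G),
      lift g (x * y) ≫ a.act = (lift g x ≫ a.act) * (lift g y ≫ a.act))
    (hf : ∀ g : VecGrp.pt k K ⟶ Q, (∀ (T : Over (Spec (CommRingCat.of k))) (t : T ⟶ VecGrp.pt k K) (x : T ⟶ G),
      lift (t ≫ g) x ≫ a.act = x) → g = 1) :
    IsAffine Q.left := by
  let φ : Spec (CommRingCat.of K) ⟶ Spec (CommRingCat.of k) := Spec.map (CommRingCat.ofHom (algebraMap k K))
  let Q' := Red.bc φ Q
  let G' := Red.bc φ G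
  have : LocallyOfFiniteType Q'.hom := inferInstanceAs (LocallyOfFiniteType (pullback.snd Q.hom φ))
  have : QuasiCompact Q'.hom := inferInstanceAs (QuasiCompact (pullback.snd Q.hom φ))
  have : LocallyOfFiniteType G'.hom := inferInstanceAs (LocallyOfFiniteType (pullback.snd G.hom φ))
  have : QuasiCompact G'.hom := inferInstanceAs (QuasiCompact (pullback.snd G.hom φ))
  have : GeometricallyConnected G.hom := geometricallyConnected_of_point G.hom η[G].left (Over.w η[G])
  have : ConnectedSpace G'.left := inferInstanceAs (ConnectedSpace ↥(pullback G.hom φ))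
  have hact : ∀ (T : Over (Spec (CommRingCat.of K))) (g : T ⟶ Q') (x : T ⟶ G'),
      Groth.AlgGrp2.bcPt φ (lift g x ≫ (a.bc φ).act) =
        lift (Groth.AlgGrp2.bcPt φ g) (Groth.AlgGrp2.bcPt φ x) ≫ a.act := by
    intro T g x
    have := a.lift_homEquiv_bc_act φ (Groth.AlgGrp2.bcPt φ g) (Groth.AlgGrp2.bcPt φ x)
    rw [Groth.AlgGrp2.bcPt, Groth.AlgGrp2.bcPt, Equiv.apply_symm_apply, Equiv.apply_symm_apply] at this
    rw [Groth.AlgGrp2.bcPt, this, Equiv.symm_apply_apply]
    rfl
  have hQ' : IsAffine Q'.left := by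
    refine isAffine_of_autAct_algClosed Q' G' (a.bc φ) (fun T g x y => ?_) fun g hg => ?_
    · apply Groth.AlgGrp2.bcPt_injective φ
      rw [hact, Groth.AlgGrp2.bcPt_mul, hmul, Groth.AlgGrp2.bcPt_mul, hact, hact]
    · let e := Groth.AlgGrp2.mapSpIso k K K
      apply Groth.AlgGrp2.bcPt_injective φ
      rw [Groth.AlgGrp2.bcPt_one]
      have h1 : (e.inv ≫ Groth.AlgGrp2.bcPt φ g : VecGrp.pt k K ⟶ Q) = 1 := hf _ fun T t x => by
        let T' : Over (Spec (CommRingCat.of K)) := Over.mk t.left
        let i : T ⟶ (Over.map φ).obj T' := Over.homMk (𝟙 T.left) (by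
          show 𝟙 _ ≫ t.left ≫ φ = T.hom
          rw [Category.id_comp]
          exact Over.w t)
        let i' : (Over.map φ).obj T' ⟶ T := Over.homMk (𝟙 T.left) (by
          show 𝟙 _ ≫ T.hom = t.left ≫ φ
          rw [Category.id_comp]
          exact (Over.w t).symm)
        have hii : i ≫ i' = 𝟙 T := Over.OverMorphism.ext (Category.id_comp _)
        let x' : T' ⟶ G' := Groth.AlgGrp2.bcPtInv φ (i' ≫ x)
        have h2 := congrArg (Groth.AlgGrp2.bcPt φ) ((congrArg (x' ≫ ·) hg).trans (Category.comp_id x'))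
        rw [comp_lift_assoc, Category.comp_id, ← Category.assoc, toPt_unique (x' ≫ toPt G') (toPt T'),
          hact, Groth.AlgGrp2.bcPt_comp, Groth.AlgGrp2.bcPt_bcPtInv] at h2
        have h3 := congrArg (i ≫ ·) h2
        rw [comp_lift_assoc, ← Category.assoc i i', hii, Category.id_comp] at h3
        have h4 : i ≫ (Over.map φ).map (toPt T') = t ≫ e.inv := by
          apply Over.OverMorphism.ext
          show 𝟙 _ ≫ (toPt T').left = t.left ≫ 𝟙 _
          rw [Category.id_comp, Category.comp_id]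
          rw [toPt_unique (toPt T') (Over.homMk t.left (by
            show t.left ≫ Spec.map (CommRingCat.ofHom (algebraMap K K)) = t.left
            exact (congrArg (t.left ≫ ·) (Spec.map_id _)).trans (Category.comp_id _)))]
          rfl
        refine Eq.trans ?_ h3
        refine congrArg (fun z => lift z x ≫ a.act) ?_
        exact ((Category.assoc t e.inv (Groth.AlgGrp2.bcPt φ g)).symm.trans ((congrArg (· ≫ Groth.AlgGrp2.bcPt φ g) h4).symm.trans
          (Category.assoc _ _ _)))
      have h2 := congrArg (e.hom ≫ ·) h1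
      exact ((Category.id_comp _).symm.trans ((congrArg (· ≫ Groth.AlgGrp2.bcPt φ g) e.hom_inv_id.symm).trans
        ((Category.assoc _ _ _).trans (h2.trans (MonObj.comp_one e.hom)))))
  have : IsAffineHom (pullback.snd Q.hom φ) := (inferInstance : IsAffineHom Q'.hom)
  have : IsAffineHom Q.hom := MorphismProperty.of_pullback_snd_of_descendsAlong (P := @IsAffineHom)
    (Q := @Surjective ⊓ @Flat ⊓ @QuasiCompact) (f := Q.hom) (g := φ) ⟨⟨inferInstance, inferInstance⟩, inferInstance⟩ this
  exact isAffine_of_isAffineHom Q.hom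

/-- The quotient of a connected group by its centre is affine. -/
theorem isAffine_quotient_centre (G : Over (Spec (CommRingCat.of k))) [GrpObj G] [LocallyOfFiniteType G.hom]
    [QuasiCompact G.hom] [ConnectedSpace G.left] {Z : Over (Spec (CommRingCat.of k))} [GrpObj Z] {j : Z ⟶ G}
    (hZ : Red.IsCentre j) {Q : Over (Spec (CommRingCat.of k))} [GrpObj Q] [LocallyOfFiniteType Q.hom]
    [QuasiCompact Q.hom] {q : G ⟶ Q} [IsMonHom q] [Surjective q.left] [Flat q.left]
    (hker : AlgGrp.IsKernel j q) : IsAffine Q.left := by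
  have := isSeparated_grpObj G
  have hc : IsCover q := isCover q
  have hcG : IsCover (q ▷ G) := hc.whiskerRight G
  let conj : G ⊗ G ⟶ G := fst G G * snd G G * (fst G G)⁻¹
  have hconj : ∀ {T : Over (Spec (CommRingCat.of k))} (g x : T ⟶ G), lift g x ≫ conj = g * x * g⁻¹ := fun g x => by
    simp [conj, MonObj.comp_mul, GrpObj.comp_inv]
  have hcentral : ∀ {T : Over (Spec (CommRingCat.of k))} (z : T ⟶ G), (∃ m : T ⟶ Z, m ≫ j = z) →
      ∀ x : T ⟶ G, x * z = z * x := fun z hz x => by
    have := (hZ.2.2 _ z).1 hz _ (𝟙 _) x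
    simpa using this.symm
  obtain ⟨bact, hbact⟩ := hcG.exists_desc conj (fun T u v huv => by
    rw [← lift_comp_fst_snd u, ← lift_comp_fst_snd v] at huv ⊢
    simp only [lift_whiskerRight] at huv
    have h1 := congrArg (· ≫ fst Q G) huv
    have h2 := congrArg (· ≫ snd Q G) huv
    simp only [lift_fst, lift_snd] at h1 h2
    obtain ⟨m, hm⟩ := IsKernel.exists_lift hker ((v ≫ fst G G)⁻¹ * (u ≫ fst G G))
      (by rw [MonObj.mul_comp, GrpObj.inv_comp, h1, inv_mul_cancel])
    rw [hconj, hconj, h2]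
    have := hcentral _ ⟨m, hm⟩ (v ≫ snd G G)
    rw [show u ≫ fst G G = (v ≫ fst G G) * ((v ≫ fst G G)⁻¹ * (u ≫ fst G G)) from (mul_inv_cancel_left _ _).symm]
    generalize (v ≫ fst G G)⁻¹ * (u ≫ fst G G) = z at *
    rw [show (v ≫ fst G G) * z * (v ≫ snd G G) = (v ≫ fst G G) * (v ≫ snd G G) * z by
      rw [_root_.mul_assoc, ← this, _root_.mul_assoc]]
    group)
  have hb : ∀ {T : Over (Spec (CommRingCat.of k))} (g y : T ⟶ G),
      lift (g ≫ q) y ≫ bact = g * y * g⁻¹ := fun g y => by
    rw [← hconj, ← hbact, lift_whiskerRight_assoc]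
  have hb1 : ∀ {T : Over (Spec (CommRingCat.of k))} (y : T ⟶ G), lift (1 : T ⟶ Q) y ≫ bact = y := fun y => by
    rw [← MonObj.one_comp q, hb]
    simp
  let b : AlgGrp.Action Q G :=
    { act := bact
      one_act := by
        have := hb1 (T := 𝟙_ _ ⊗ G) (snd _ _)
        have e : (η[Q] ▷ G) = lift (1 : 𝟙_ _ ⊗ G ⟶ Q) (snd _ _) := by
          apply CartesianMonoidalCategory.hom_ext
          · rw [whiskerRight_fst, lift_fst, Hom.one_def, toUnit_unique (fst _ _) (toUnit _)]
          · simp
        rw [e, this]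
        exact (CartesianMonoidalCategory.leftUnitor_hom G).symm
      mul_act := mulAct_of_points _ fun T g g' y => by
        obtain ⟨T', c, u, u', hc', hu, hu'⟩ := hc.exists_lift₂ g g'
        apply hc'.cancel
        rw [comp_lift_assoc, MonObj.comp_mul, ← hu, ← hu', ← MonObj.mul_comp, hb,
          comp_lift_assoc, ← hu, ← Category.assoc, comp_lift, ← hu', hb, hb]
        group }
  refine isAffine_of_autAct (AlgebraicClosure k) Q G b (fun T g x y => ?_) fun g hg => ?_
  · obtain ⟨T', c, g', hc', hg'⟩ := hc.exists_lift g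
    apply hc'.cancel
    rw [MonObj.comp_mul, comp_lift_assoc, comp_lift_assoc, comp_lift_assoc, ← hg', hb, hb, hb, MonObj.comp_mul]
    group
  · obtain ⟨T', c, g', hc', hg'⟩ := hc.exists_lift g
    apply hc'.cancel
    obtain ⟨m, rfl⟩ := (hZ.2.2 _ g').2 fun T'' t y => by
      have h := hg T'' (t ≫ c) y
      rw [Category.assoc, ← hg', ← Category.assoc] at h
      have h' := (hb _ _).symm.trans h
      simpa [mul_inv_eq_iff_eq_mul] using h'
    rw [← hg', Category.assoc, IsKernel.comp_eq_one hker, MonObj.comp_one, MonObj.comp_one]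

end Groth.AlgGrp1
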