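import Groth.Agent.AlgGrp1.AffineKernel
import Groth.Agent.AlgGrp1.AutAct
import Groth.Agent.AlgGrp1.OpenSub

/-!
Homomorphisms with affine kernel are affine; groups whose invisible points lie in an affine closed
subscheme are affine; a group with connected component having affine centre is affine.
-/

set_option autoImplicit false
universe u

open CategoryTheory Limits MonoidalCategory CartesianMonoidalCategory MonObj GrpObj AlgebraicGeometry
open Groth.Agf (Fn pull evalPt evalPt_comp evalPt_comp_apply evalPt_ptMap)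
open scoped Groth.Agf

noncomputable section

namespace Groth.AlgGrp1

variable {k : Type u} [Field k]

section BC

variable {S S' : Scheme.{u}} (φ : S' ⟶ S)

/-- Kernels are stable under base change. -/
theorem IsKernel.bc {N P Q : Over S} [GrpObj Q] {n : N ⟶ P} {f : P ⟶ Q} (h : AlgGrp.IsKernel n f) :
    AlgGrp.IsKernel ((Over.pullback φ).map n) ((Over.pullback φ).map f) := by
  have := IsKernel.mono h
  refine IsKernel.mk' inferInstance fun T g => ?_
  rw [← (Groth.AlgGrp2.bcPt_injective φ (G := Q) (T := T)).eq_iff, Groth.AlgGrp2.bcPt_comp_map,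
    Groth.AlgGrp2.bcPt_one, ← IsKernel.exists_iff h]
  constructor
  · rintro ⟨m, rfl⟩
    exact ⟨Groth.AlgGrp2.bcPt φ m, (Groth.AlgGrp2.bcPt_comp_map φ m n).symm⟩
  · rintro ⟨m, hm⟩
    refine ⟨Groth.AlgGrp2.bcPtInv φ m, Groth.AlgGrp2.bcPt_injective φ ?_⟩
    rw [Groth.AlgGrp2.bcPt_comp_map, Groth.AlgGrp2.bcPt_bcPtInv, hm]

theorem isPullback_bc_map {P Q : Over S} (f : P ⟶ Q) :
    IsPullback (pullback.fst P.hom φ) ((Over.pullback φ).map f).left f.left (pullback.fst Q.hom φ) := by
  have h1 : ((Over.pullback φ).map f).left ≫ pullback.fst Q.hom φ = pullback.fst P.hom φ ≫ f.left :=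
    pullback.lift_fst _ _ _
  have h2 : ((Over.pullback φ).map f).left ≫ pullback.snd Q.hom φ = pullback.snd P.hom φ :=
    pullback.lift_snd _ _ _
  have outer : IsPullback (((Over.pullback φ).map f).left ≫ pullback.snd Q.hom φ) (pullback.fst P.hom φ)
      φ (f.left ≫ Q.hom) := by
    rw [h2, Over.w f]
    exact (IsPullback.of_hasPullback P.hom φ).flip
  exact (IsPullback.of_right outer h1 (IsPullback.of_hasPullback Q.hom φ).flip).flip

end BC

/-- A quasi-compact homomorphism of group schemes over a field with affine kernel is affine. -/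
theorem isAffineHom_of_affine_kernel {P Q : Over (Spec (CommRingCat.of k))} [GrpObj P] [GrpObj Q]
    [LocallyOfFiniteType P.hom] [LocallyOfFiniteType Q.hom] (f : P ⟶ Q) [IsMonHom f] [QuasiCompact f.left]
    {N : Over (Spec (CommRingCat.of k))} [IsAffine N.left] (n : N ⟶ P) (hn : AlgGrp.IsKernel n f) :
    IsAffineHom f.left := by
  let K := AlgebraicClosure k
  let φ : Spec (CommRingCat.of K) ⟶ Spec (CommRingCat.of k) := Spec.map (CommRingCat.ofHom (algebraMap k K))
  have : LocallyOfFiniteType (Red.bc φ P).hom := inferInstanceAs (LocallyOfFiniteType (pullback.snd P.hom φ))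
  have : LocallyOfFiniteType (Red.bc φ Q).hom := inferInstanceAs (LocallyOfFiniteType (pullback.snd Q.hom φ))
  have sq := isPullback_bc_map φ f
  have : QuasiCompact ((Over.pullback φ).map f).left := MorphismProperty.of_isPullback sq ‹QuasiCompact f.left›
  have : IsAffine (Red.bc φ N).left := inferInstanceAs (IsAffine (pullback N.hom φ))
  have h : IsAffineHom ((Over.pullback φ).map f).left :=
    isAffineHom_of_affine_kernel_algClosed (P := Red.bc φ P) (Q := Red.bc φ Q) ((Over.pullback φ).map f) _
      (IsKernel.bc φ hn)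
  exact MorphismProperty.of_isPullback_of_descendsAlong (P := @IsAffineHom)
    (Q := @Surjective ⊓ @Flat ⊓ @QuasiCompact) sq.flip
    ⟨⟨inferInstance, inferInstance⟩, inferInstance⟩ h

/-- An algebraic group whose invisible rational points lie in an affine closed subscheme is affine. -/
theorem isAffine_of_invisible_affine [IsAlgClosed k] (G : Over (Spec (CommRingCat.of k))) [GrpObj G]
    [LocallyOfFiniteType G.hom] [QuasiCompact G.hom] {V : Over (Spec (CommRingCat.of k))} [IsAffine V.left]
    (v : V ⟶ G) [IsClosedImmersion v.left]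
    (h : ∀ g : VecGrp.pt k k ⟶ G, (∀ f : Fn G, evalPt g f = evalPt (1 : VecGrp.pt k k ⟶ G) f) →
      ptOf g ∈ Set.range v.left) :
    IsAffine G.left := by
  obtain ⟨G₁, _, c, _, _, _, _, _⟩ := exists_reduced_subgroup G
  have := isLocallyNoetherian_left G
  have : IsAffine G₁.left := by
    obtain ⟨H, _, u, _, _, _, _, hu⟩ := exists_rep G₁
    have := isSeparated_grpObj H
    have : QuasiCompact (u.left ≫ H.hom) := by rw [Over.w]; infer_instance
    have : QuasiCompact u.left := QuasiCompact.of_comp _ H.hom
    obtain ⟨N, n, _, hN⟩ := Groth.Agf.exists_preimage u η[H]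
    have hk : AlgGrp.IsKernel n u := IsKernel.mk' (Over.mono_of_mono_left n) fun T g => by
      rw [hN]
      constructor
      · rintro ⟨x, hx⟩
        rw [hx, toUnit_unique x (toUnit T)]; rfl
      · intro hg
        exact ⟨toUnit T, hg⟩
    have : IsAffine N.left := by
      have : LocallyOfFiniteType N.hom := by rw [← Over.w n]; infer_instance
      have : QuasiCompact N.hom := by rw [← Over.w n]; infer_instance
      have := isLocallyNoetherian_left N
      obtain ⟨M, m, _, _, _⟩ := exists_reduced N
      have : LocallyOfFiniteType M.hom := by rw [← Over.w m]; infer_instance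
      obtain ⟨w, hw⟩ := exists_factor_of_range_subset v (m ≫ n ≫ c) (by
        have hcl := v.left.isClosedEmbedding.isClosed_range.preimage (m ≫ n ≫ c).left.continuous
        rintro _ ⟨z, rfl⟩
        by_contra hz
        obtain ⟨t, ht⟩ := exists_point_mem_open (K := k) _ hcl.isOpen_compl ⟨z, hz⟩
        refine ht (h (t ≫ m ≫ n ≫ c) fun f => ?_)
        have := hu (t ≫ m ≫ n) ((IsKernel.exists_iff hk _).1 ⟨t ≫ m, Category.assoc _ _ _⟩) (pull c f)
        rw [← evalPt_comp_apply, ← evalPt_comp_apply, MonObj.one_comp] at this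
        simpa only [Category.assoc] using this)
      have : IsClosedImmersion (w.left ≫ v.left) := by
        rw [← Over.comp_left, hw, Over.comp_left, Over.comp_left]; infer_instance
      have : IsClosedImmersion w.left := IsClosedImmersion.of_comp w.left v.left
      have : IsAffine M.left := (IsClosedImmersion.isAffine_surjective_of_isAffine w.left).1
      exact Groth.FlatMor2.isAffine_of_surjective_closedImmersion m.left
    have := isAffineHom_of_affine_kernel_algClosed u n hk
    exact isAffine_of_isAffineHom u.left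
  exact Groth.FlatMor2.isAffine_of_surjective_closedImmersion c.left

/-- A connected algebraic group with affine centre is affine. -/
theorem isAffine_of_affine_centre (G : Over (Spec (CommRingCat.of k))) [GrpObj G] [LocallyOfFiniteType G.hom]
    [QuasiCompact G.hom] [ConnectedSpace G.left] {Z : Over (Spec (CommRingCat.of k))} [GrpObj Z]
    [LocallyOfFiniteType Z.hom] [QuasiCompact Z.hom] {z : Z ⟶ G} (hZ : Red.IsCentre z) [IsAffine Z.left] :
    IsAffine G.left := by
  let K := AlgebraicClosure k
  let φ : Spec (CommRingCat.of K) ⟶ Spec (CommRingCat.of k) := Spec.map (CommRingCat.ofHom (algebraMap k K))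
  let G' := Red.bc φ G
  let Z' := Red.bc φ Z
  have : IsMonHom z := hZ.1
  have : Mono z := hZ.2.1
  let z' : Z' ⟶ G' := (Over.pullback φ).map z
  have : IsMonHom z' := inferInstanceAs (IsMonHom ((Over.pullback φ).map z))
  have : Mono z' := inferInstanceAs (Mono ((Over.pullback φ).map z))
  have : LocallyOfFiniteType G'.hom := inferInstanceAs (LocallyOfFiniteType (pullback.snd G.hom φ))
  have : QuasiCompact G'.hom := inferInstanceAs (QuasiCompact (pullback.snd G.hom φ))
  have : LocallyOfFiniteType Z'.hom := inferInstanceAs (LocallyOfFiniteType (pullback.snd Z.hom φ))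
  have : QuasiCompact Z'.hom := inferInstanceAs (QuasiCompact (pullback.snd Z.hom φ))
  have : IsAffine Z'.left := inferInstanceAs (IsAffine (pullback Z.hom φ))
  have : GeometricallyConnected G.hom := geometricallyConnected_of_point G.hom η[G].left (Over.w η[G])
  have : ConnectedSpace G'.left := inferInstanceAs (ConnectedSpace ↥(pullback G.hom φ))
  -- the centre is closed
  obtain ⟨Z₁, _, c, _, _, _, _, _⟩ := exists_reduced_subgroup Z'
  let v := c ≫ z'
  have : Mono c := Over.mono_of_mono_left c
  have : IsFinite v.left := isFinite_of_points v fun g hg => by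
    rw [← cancel_mono v, MonObj.one_comp]; exact hg
  have : Mono v.left := inferInstanceAs (Mono ((Over.forget _).map v))
  have : IsClosedImmersion v.left := (IsClosedImmersion.iff_isFinite_and_mono v.left).2 ⟨inferInstance, inferInstance⟩
  have : IsAffine Z₁.left := (IsClosedImmersion.isAffine_surjective_of_isAffine c.left).1
  have hG' : IsAffine G'.left := by
    refine isAffine_of_invisible_affine G' v fun g hg => ?_
    -- conjugation
    let a : AlgGrp.Action G' G' :=
      { act := fst G' G' * snd G' G' * (fst G' G')⁻¹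
        one_act := by
          have e : (η[G'] ▷ G') = lift (1 : 𝟙_ _ ⊗ G' ⟶ G') (snd _ _) := by
            apply CartesianMonoidalCategory.hom_ext
            · rw [whiskerRight_fst, lift_fst, Hom.one_def, toUnit_unique (fst _ _) (toUnit _)]
            · simp
          rw [e, MonObj.comp_mul, MonObj.comp_mul, GrpObj.comp_inv, lift_fst, lift_snd, _root_.one_mul,
            inv_one, _root_.mul_one]
          exact (CartesianMonoidalCategory.leftUnitor_hom G').symm
        mul_act := mulAct_of_points _ fun T g g' y => by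
          simp only [MonObj.comp_mul, GrpObj.comp_inv, lift_fst, lift_snd]
          group }
    have ha : ∀ {T : Over (Spec (CommRingCat.of K))} (g x : T ⟶ G'), lift g x ≫ a.act = g * x * g⁻¹ := fun g x => by
      simp [a, MonObj.comp_mul, GrpObj.comp_inv]
    have htriv := act_eq_of_invisible G' G' a (fun T g x y => by rw [ha, ha, ha]; group) g hg
    have hcomm : ∀ (T : Over (Spec (CommRingCat.of K))) (x : T ⟶ G'), (toPt T ≫ g) * x = x * (toPt T ≫ g) := by
      intro T x
      have := congrArg (x ≫ ·) htriv
      rw [comp_lift_assoc, Category.comp_id, ha, ← Category.assoc, toPt_unique (x ≫ toPt G') (toPt T)] at this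
      exact mul_inv_eq_iff_eq_mul.1 this
    obtain ⟨m, hm⟩ := (hZ.2.2 _ (Groth.AlgGrp2.bcPt φ g)).2 fun T s x => by
      let T' : Over (Spec (CommRingCat.of K)) := Over.mk s.left
      let i : T ⟶ (Over.map φ).obj T' := Over.homMk (𝟙 T.left) (by
        show 𝟙 _ ≫ s.left ≫ φ = T.hom
        rw [Category.id_comp]
        refine Eq.trans ?_ (Over.w s)
        exact congrArg (s.left ≫ ·) ((congrArg (· ≫ φ) (Spec.map_id _)).trans (Category.id_comp _)).symm)
      let i' : (Over.map φ).obj T' ⟶ T := Over.homMk (𝟙 T.left) (by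
        show 𝟙 _ ≫ T.hom = s.left ≫ φ
        rw [Category.id_comp]
        refine (Over.w s).symm.trans ?_
        exact congrArg (s.left ≫ ·) ((congrArg (· ≫ φ) (Spec.map_id _)).trans (Category.id_comp _)))
      have hii : i ≫ i' = 𝟙 T := Over.OverMorphism.ext (Category.id_comp _)
      have hs : i ≫ (Over.map φ).map (toPt T') = s := by
        apply Over.OverMorphism.ext
        show 𝟙 _ ≫ (toPt T').left = s.left
        rw [Category.id_comp, toPt_unique (toPt T') (Over.homMk s.left (by
          show s.left ≫ Spec.map (CommRingCat.ofHom (algebraMap K K)) = s.left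
          exact (congrArg (s.left ≫ ·) (Spec.map_id _)).trans (Category.comp_id _)))]
        rfl
      have h2 := congrArg (Groth.AlgGrp2.bcPt φ) (hcomm T' (Groth.AlgGrp2.bcPtInv φ (i' ≫ x)))
      rw [Groth.AlgGrp2.bcPt_mul, Groth.AlgGrp2.bcPt_mul, Groth.AlgGrp2.bcPt_bcPtInv,
        Groth.AlgGrp2.bcPt_comp] at h2
      have h3 := congrArg (i ≫ ·) h2
      simp only [MonObj.comp_mul, ← Category.assoc, hii, Category.id_comp, hs] at h3
      simpa using h3
    have hgz : Groth.AlgGrp2.bcPtInv φ m ≫ z' = g := Groth.AlgGrp2.bcPt_injective φ (by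
      rw [Groth.AlgGrp2.bcPt_comp_map, Groth.AlgGrp2.bcPt_bcPtInv, hm])
    rw [← hgz, ptOf_comp]
    obtain ⟨p, hp⟩ := c.left.surjective (ptOf (Groth.AlgGrp2.bcPtInv φ m))
    exact ⟨p, by show z'.left (c.left p) = _; rw [hp]⟩
  have : IsAffineHom (pullback.snd G.hom φ) := (inferInstance : IsAffineHom G'.hom)
  have : IsAffineHom G.hom := MorphismProperty.of_pullback_snd_of_descendsAlong (P := @IsAffineHom)
    (Q := @Surjective ⊓ @Flat ⊓ @QuasiCompact) (f := G.hom) (g := φ) ⟨⟨inferInstance, inferInstance⟩, inferInstance⟩ this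
  exact isAffine_of_isAffineHom G.hom

/-- Functions on an open and closed subscheme extend. -/
theorem exists_extend_fn {X : Scheme.{u}} (U V : X.Opens) (hd : U ⊓ V = ⊥) (hc : U ⊔ V = ⊤)
    (s : Γ(X, U)) : ∃ t : Γ(X, ⊤), X.presheaf.map (homOfLE le_top).op t = s ∧
      X.presheaf.map (homOfLE (le_top : V ≤ ⊤)).op t = 0 := by
  let W : Bool → X.Opens := fun b => if b then U else V
  let sf : ∀ b, Γ(X, W b) := fun b => match b with
    | true => s
    | false => 0
  have hcompat : TopCat.Presheaf.IsCompatible X.presheaf W sf := by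
    intro a b
    match a, b with
    | true, true => rfl
    | false, false => rfl
    | true, false =>
      have : Subsingleton Γ(X, U ⊓ V) := by rw [hd]; exact CommRingCat.subsingleton_of_isTerminal X.sheaf.isTerminalOfEmpty
      exact Subsingleton.elim (α := Γ(X, U ⊓ V)) _ _
    | false, true =>
      have : Subsingleton Γ(X, V ⊓ U) := by rw [inf_comm, hd]; exact CommRingCat.subsingleton_of_isTerminal X.sheaf.isTerminalOfEmpty
      exact Subsingleton.elim (α := Γ(X, V ⊓ U)) _ _
  obtain ⟨t, ht, -⟩ := X.sheaf.existsUnique_gluing' W ⊤ (fun b => homOfLE le_top)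
    (by rw [← hc]; exact sup_le (le_iSup W true) (le_iSup W false)) sf hcompat
  exact ⟨t, ht true, ht false⟩

/-- An algebraic group with an affine open subgroup is affine. -/
theorem isAffine_of_openSubgroup {G H : Over (Spec (CommRingCat.of k))} [GrpObj G] [GrpObj H]
    [LocallyOfFiniteType G.hom] [QuasiCompact G.hom] (i : H ⟶ G) [IsMonHom i] [IsOpenImmersion i.left]
    [IsAffine H.left] : IsAffine G.left := by
  let K := AlgebraicClosure k
  let U : G.left.Opens := i.left.opensRange
  let V : G.left.Opens := ⟨(Set.range i.left)ᶜ, (isClosed_range_of_openSubgroup i).isOpen_compl⟩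
  have hd : U ⊓ V = ⊥ := TopologicalSpace.Opens.ext (Set.inter_compl_self _)
  have hc : U ⊔ V = ⊤ := TopologicalSpace.Opens.ext (Set.union_compl_self _)
  have hUi : i.left ''ᵁ ⊤ = U := i.left.image_top_eq_opensRange
  have hext : ∀ f : Fn H, ∃ t : Fn G, pull i t = f ∧ G.left.presheaf.map (homOfLE (le_top : V ≤ ⊤)).op t = 0 := by
    intro f
    obtain ⟨t, ht, ht0⟩ := exists_extend_fn (i.left ''ᵁ ⊤) V (by rw [hUi, hd]) (by rw [hUi, hc])
      ((i.left.appIso ⊤).inv.hom f)
    refine ⟨t, ?_, ht0⟩
    show i.left.appTop t = f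
    rw [show i.left.appTop t = i.left.appLE ⊤ ⊤ le_rfl t by rw [Scheme.Hom.appLE]; simp]
    rw [← Scheme.Hom.map_appLE i.left (show ⊤ ≤ i.left ⁻¹ᵁ (i.left ''ᵁ ⊤) by simp)
      (homOfLE le_top).op, CommRingCat.comp_apply, ht, ← CommRingCat.comp_apply, Scheme.Hom.appIso_inv_appLE]
    simp
  refine isAffine_of_separated_points K G fun g hg => ?_
  have hmem : ∀ x, g.left x ∈ U := by
    intro x
    by_contra hx
    obtain ⟨t, ht, ht0⟩ := hext 1
    have h1 : evalPt g t = 1 := by
      rw [hg, ← MonObj.one_comp i, evalPt_comp_apply, ht, map_one]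
    have hgV : (⊤ : (VecGrp.pt k K).left.Opens) ≤ g.left ⁻¹ᵁ V := fun y _ => by
      rw [Subsingleton.elim (α := ↥(Spec (CommRingCat.of K))) y x]
      exact hx
    have h0 : g.left.appLE ⊤ ⊤ le_rfl t = 0 := by
      rw [← Scheme.Hom.map_appLE g.left hgV (homOfLE le_top).op, CommRingCat.comp_apply, ht0, map_zero]
    have h2 : evalPt g t = 0 := by
      show (Scheme.ΓSpecIso (CommRingCat.of K)).hom.hom (g.left.appTop t) = 0
      rw [show g.left.appTop t = g.left.appLE ⊤ ⊤ le_rfl t by rw [Scheme.Hom.appLE]; simp, h0, map_zero]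
    exact one_ne_zero (h1.symm.trans h2)
  let g₀ : VecGrp.pt k K ⟶ H := Over.homMk (IsOpenImmersion.lift i.left g.left (by
    rintro _ ⟨x, rfl⟩; exact hmem x)) (by rw [← Over.w i, IsOpenImmersion.lift_fac_assoc, Over.w g])
  have hg₀ : g₀ ≫ i = g := Over.OverMorphism.ext (IsOpenImmersion.lift_fac _ _ _)
  rw [← hg₀, show g₀ = 1 from ?_, MonObj.one_comp]
  apply Over.OverMorphism.ext
  apply ext_of_isAffine
  refine appTop_eq_of_evalPt fun f => ?_
  obtain ⟨t, rfl, -⟩ := hext f
  rw [← evalPt_comp_apply, ← evalPt_comp_apply, hg₀, MonObj.one_comp, hg]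

end Groth.AlgGrp1
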