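import Groth.Agent.AlgGrp1.BorelConj
import Groth.Agent.Abvar.Rigidity
import Groth.Agent.AlgGrp1.ImageHom

/-!
Morphisms invariant under a subgroup with proper quotient.
-/

set_option autoImplicit false
universe u

open CategoryTheory Limits MonoidalCategory CartesianMonoidalCategory MonObj GrpObj AlgebraicGeometry

noncomputable section

namespace Groth.AlgGrp1

variable {k : Type u} [Field k] [IsAlgClosed k] {G H X : Over (Spec (CommRingCat.of k))} [GrpObj G] [GrpObj H]
  [Smooth G.hom] [QuasiCompact G.hom] {i : H ⟶ G}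
  {a : AlgGrp.Action G X} {o : 𝟙_ (Over (Spec (CommRingCat.of k))) ⟶ X}

/-- A proper irreducible quotient of a smooth group has constant functions. -/
theorem hasConstFunctions_quotient (hX : AGF.IsQuotient i X a o) [IsProper X.hom] [IrreducibleSpace X.left] :
    HasConstFunctions X := by
  have := hX.1; have := hX.2.1; have := hX.2.2.1
  have := geometricallyReduced_of_smooth_hom G
  have := geometricallyReduced_of_flat_surjective (a.orbitMap o)
  have := isReduced_left X
  have : IsIntegral X.left := isIntegral_of_irreducibleSpace_of_isReduced X.left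
  exact hasConstFunctions_of_isIntegral o

/-- The quotient of a connected group is irreducible. -/
theorem irreducibleSpace_quotient [ConnectedSpace G.left] (hX : AGF.IsQuotient i X a o) : IrreducibleSpace X.left := by
  have := hX.1; have := hX.2.1; have := hX.2.2.1
  have := irreducibleSpace_of_connected G
  have hirr : IsIrreducible (Set.univ : Set X.left) := by
    rw [← (a.orbitMap o).left.surjective.range_eq, ← Set.image_univ]
    exact (IrreducibleSpace.isIrreducible_univ _).image _ (a.orbitMap o).left.continuous.continuousOn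
  have : PreirreducibleSpace X.left := ⟨hirr.2⟩
  exact { toNonempty := ⟨hirr.1.some⟩ }

/-- An invariant morphism to an affine scheme, parametrised by an affine scheme, does not depend on the group. -/
theorem eq_snd_of_invariant_affine (hX : AGF.IsQuotient i X a o) [IsProper X.hom] [IrreducibleSpace X.left] {T Z : Over (Spec (CommRingCat.of k))}
    [IsAffine T.left] [IsAffine Z.left] (f : G ⊗ T ⟶ Z)
    (hf : ∀ (W : Over (Spec (CommRingCat.of k))) (g : W ⟶ G) (h : W ⟶ H) (t : W ⟶ T),
      lift (g * (h ≫ i)) t ≫ f = lift g t ≫ f) :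
    f = snd G T ≫ lift (toUnit T ≫ 1) (𝟙 T) ≫ f := by
  have := hX.1; have := hX.2.1; have := hX.2.2.1
  set p := a.orbitMap o
  have sq := isPullback_whiskerRight p T
  have : Flat (p ▷ T).left := MorphismProperty.of_isPullback sq ‹Flat p.left›
  have : Surjective (p ▷ T).left := MorphismProperty.of_isPullback sq ‹Surjective p.left›
  have := lfp_left p
  have : LocallyOfFinitePresentation (p ▷ T).left :=
    MorphismProperty.of_isPullback sq ‹LocallyOfFinitePresentation p.left›
  let P := pullback (p ▷ T) (p ▷ T)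
  let s : P ⟶ G ⊗ T := pullback.fst _ _
  let t : P ⟶ G ⊗ T := pullback.snd _ _
  obtain ⟨f', hf'⟩ := Groth.Agf.exists_desc_of_fppf (p ▷ T) s t (IsPullback.of_hasPullback _ _) f (by
    have e := pullback.condition (f := p ▷ T) (g := p ▷ T)
    have e1 : (s ≫ fst G T) ≫ p = (t ≫ fst G T) ≫ p := by
      have := congrArg (· ≫ fst X T) e
      simpa [s, t] using this
    have e2 : s ≫ snd G T = t ≫ snd G T := by
      have := congrArg (· ≫ snd X T) e
      simpa [s, t] using this
    obtain ⟨h, hh⟩ := (comp_orbit_eq_iff hX _ _ _).1 e1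
    rw [← CartesianMonoidalCategory.lift_comp_fst_snd s, ← CartesianMonoidalCategory.lift_comp_fst_snd t, hh, hf, ← e2])
  have := eq_snd_of_range_subset (hasConstFunctions_quotient hX) o f' ⊤ (isAffineOpen_top _) (fun _ _ => trivial)
  conv_lhs => rw [← hf', this, whiskerRight_snd_assoc]
  rw [← hf']
  congr 1
  rw [← Category.assoc, lift_whiskerRight, Category.assoc, comp_orbit, a.lift_one_act, toUnit_unique (toUnit (𝟙_ _)) (𝟙 _), Category.id_comp]

/-- An invariant morphism to an affine scheme does not depend on the group. -/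
theorem eq_snd_of_invariant' (hX : AGF.IsQuotient i X a o) [IsProper X.hom] [IrreducibleSpace X.left] {T Z : Over (Spec (CommRingCat.of k))}
    [IsAffine Z.left] (f : G ⊗ T ⟶ Z)
    (hf : ∀ (W : Over (Spec (CommRingCat.of k))) (g : W ⟶ G) (h : W ⟶ H) (t : W ⟶ T),
      lift (g * (h ≫ i)) t ≫ f = lift g t ≫ f) :
    f = snd G T ≫ lift (toUnit T ≫ 1) (𝟙 T) ≫ f := by
  refine Groth.GrassRep.hom_ext _ _ fun A p => ?_
  have : IsAffine (Groth.GrassRep.Pt A).left := inferInstanceAs (IsAffine (Spec _))
  have e := eq_snd_of_invariant_affine hX ((G ◁ (p ≫ snd G T)) ≫ f) fun W g h t => by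
    rw [lift_whiskerLeft_assoc, lift_whiskerLeft_assoc, hf]
  have e1 := congrArg (lift (p ≫ fst G T) (𝟙 _) ≫ ·) e
  simp only [lift_whiskerLeft_assoc, lift_snd_assoc, Category.id_comp, CartesianMonoidalCategory.lift_comp_fst_snd] at e1
  rw [e1, ← Category.assoc p, ← Category.assoc (p ≫ snd G T), comp_lift, Category.comp_id, ← Category.assoc (p ≫ snd G T),
    toUnit_unique ((p ≫ snd G T) ≫ toUnit T) (toUnit _)]

/-- An invariant morphism to an affine scheme does not depend on the connected group. -/
theorem eq_snd_of_invariant [ConnectedSpace G.left] (hX : AGF.IsQuotient i X a o) [IsProper X.hom]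
    {T Z : Over (Spec (CommRingCat.of k))} [IsAffine Z.left] (f : G ⊗ T ⟶ Z)
    (hf : ∀ (W : Over (Spec (CommRingCat.of k))) (g : W ⟶ G) (h : W ⟶ H) (t : W ⟶ T),
      lift (g * (h ≫ i)) t ≫ f = lift g t ≫ f) :
    f = snd G T ≫ lift (toUnit T ≫ 1) (𝟙 T) ≫ f :=
  have := irreducibleSpace_quotient hX
  eq_snd_of_invariant' hX f hf

/-- Commuting with a subgroup with proper quotient means being central. -/
theorem commute_of_invariant [ConnectedSpace G.left] (hX : AGF.IsQuotient i X a o) [IsProper X.hom] [IsAffine G.left]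
    {T : Over (Spec (CommRingCat.of k))} (x : T ⟶ G)
    (hx : ∀ (W : Over (Spec (CommRingCat.of k))) (t : W ⟶ T) (h : W ⟶ H), (h ≫ i) * (t ≫ x) = (t ≫ x) * (h ≫ i))
    (W : Over (Spec (CommRingCat.of k))) (t : W ⟶ T) (g : W ⟶ G) : g * (t ≫ x) = (t ≫ x) * g := by
  let f : G ⊗ T ⟶ G := fst G T * (snd G T ≫ x) * (fst G T)⁻¹
  have hfl : ∀ {W : Over (Spec (CommRingCat.of k))} (g : W ⟶ G) (t : W ⟶ T), lift g t ≫ f = g * (t ≫ x) * g⁻¹ :=
    fun g t => by simp [f, MonObj.comp_mul, GrpObj.comp_inv]
  have e := eq_snd_of_invariant hX f fun W g h t => by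
    rw [hfl, hfl, _root_.mul_inv_rev, _root_.mul_assoc g (h ≫ i), hx W t h]
    group
  have := congrArg (lift g t ≫ ·) e
  simp only [hfl, lift_snd_assoc] at this
  simp only [MonObj.comp_one, Category.id_comp, _root_.one_mul, inv_one, _root_.mul_one] at this
  exact mul_inv_eq_iff_eq_mul.1 this

end Groth.AlgGrp1
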