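import Groth.Agent.AlgGrp1.BorelLift
import Groth.Agent.AlgGrp1.BorelRigid
import Groth.Agent.AlgGrp1.AffineKernelBC
import Groth.Agent.AlgGrp2.AffinePts

/-!
Borel and parabolic subgroups over arbitrary fields.
-/

set_option autoImplicit false
universe u

open CategoryTheory Limits MonoidalCategory CartesianMonoidalCategory MonObj GrpObj AlgebraicGeometry
open Groth.AlgGrp2 (bcPt bcPtInv bcPt_injective bcPt_comp bcPt_comp_map bcPt_mul bcPt_bcPtInv)

noncomputable section

namespace Groth.AlgGrp1

variable {k : Type u} [Field k] {K : Type u} [Field K] (φ : Spec (CommRingCat.of K) ⟶ Spec (CommRingCat.of k))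

theorem flat_fieldMap : Flat φ := by
  obtain ⟨ψ, rfl⟩ := Spec.map_surjective φ
  rw [HasRingHomProperty.Spec_iff (P := @Flat)]
  algebraize [ψ.hom]
  exact Module.Flat.of_free

theorem fpqc_fieldMap : Groth.EtaleBase.Fpqc φ :=
  ⟨⟨⟨fun x => ⟨IsLocalRing.closedPoint K, Subsingleton.elim _ _⟩⟩, flat_fieldMap φ⟩, inferInstance⟩

theorem smooth_bc (G : Over (Spec (CommRingCat.of k))) [Smooth G.hom] : Smooth (Red.bc φ G).hom :=
  inferInstanceAs (Smooth (pullback.snd G.hom φ))

theorem isAffine_bc (G : Over (Spec (CommRingCat.of k))) [IsAffine G.left] : IsAffine (Red.bc φ G).left :=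
  inferInstanceAs (IsAffine (pullback G.hom φ))

theorem connectedSpace_bc (G : Over (Spec (CommRingCat.of k))) [GrpObj G] [LocallyOfFiniteType G.hom]
    [ConnectedSpace G.left] : ConnectedSpace (Red.bc φ G).left := by
  have := geometricallyConnected_of_point G.hom η[G].left (Over.w η[G])
  have := GeometricallyConnected.geometrically_connectedSpace (f := G.hom) φ _ _ (IsPullback.of_hasPullback G.hom φ)
  exact this

theorem isClosedImmersion_bc {H G : Over (Spec (CommRingCat.of k))} (i : H ⟶ G) [IsClosedImmersion i.left] :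
    IsClosedImmersion ((Over.pullback φ).map i).left :=
  MorphismProperty.of_isPullback (isPullback_bc_map φ i) ‹IsClosedImmersion i.left›

theorem surjective_bc {H G : Over (Spec (CommRingCat.of k))} (i : H ⟶ G) [Surjective i.left] :
    Surjective ((Over.pullback φ).map i).left :=
  MorphismProperty.of_isPullback (isPullback_bc_map φ i) ‹Surjective i.left›

/-- Properness of a quotient may be tested after extending the field. -/
theorem isProper_quotient_bc_iff [IsAlgClosed K] {G H X : Over (Spec (CommRingCat.of k))} [GrpObj G] [GrpObj H]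
    [LocallyOfFiniteType G.hom] {i : H ⟶ G} [IsMonHom i] {a : AlgGrp.Action G X}
    {o : 𝟙_ (Over (Spec (CommRingCat.of k))) ⟶ X} (hX : AGF.IsQuotient i X a o)
    {X₁ : Over (Spec (CommRingCat.of K))} {a₁ : AlgGrp.Action (Red.bc φ G) X₁}
    {o₁ : 𝟙_ (Over (Spec (CommRingCat.of K))) ⟶ X₁}
    (hX₁ : AGF.IsQuotient ((Over.pullback φ).map i) X₁ a₁ o₁) : IsProper X.hom ↔ IsProper X₁.hom := by
  have := hX.1; have := hX.2.1; have := hX.2.2.1
  have := hX₁.1; have := hX₁.2.1; have := hX₁.2.2.1
  have : LocallyOfFiniteType (Red.bc φ G).hom := inferInstanceAs (LocallyOfFiniteType (pullback.snd G.hom φ))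
  have : LocallyOfFiniteType (Red.bc φ X).hom := inferInstanceAs (LocallyOfFiniteType (pullback.snd X.hom φ))
  let p : Red.bc φ G ⟶ Red.bc φ X := (Over.pullback φ).map (a.orbitMap o)
  have : Flat p.left := MorphismProperty.of_isPullback (isPullback_bc_map φ (a.orbitMap o)) ‹Flat (a.orbitMap o).left›
  have : Surjective p.left := surjective_bc φ (a.orbitMap o)
  obtain ⟨e, -⟩ := exists_iso_of_covers (a₁.orbitMap o₁) p fun T s t => by
    rw [comp_orbit_eq_iff hX₁, ← (bcPt_injective φ).eq_iff (a := s ≫ p), bcPt_comp_map, bcPt_comp_map,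
      comp_orbit_eq_iff hX]
    constructor
    · rintro ⟨h, rfl⟩
      exact ⟨bcPt φ h, by rw [bcPt_mul, bcPt_comp_map]⟩
    · rintro ⟨h, hh⟩
      exact ⟨bcPtInv φ h, bcPt_injective φ (by rw [bcPt_mul, bcPt_comp_map, bcPt_bcPtInv, hh])⟩
  have : IsIso e.hom.left := inferInstanceAs (IsIso ((Over.forget _).map e.hom))
  have : IsIso e.inv.left := inferInstanceAs (IsIso ((Over.forget _).map e.inv))
  constructor
  · intro _
    have : IsProper (Red.bc φ X).hom := inferInstanceAs (IsProper (pullback.snd X.hom φ))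
    rw [← Over.w e.hom]; infer_instance
  · intro _
    have : IsProper (pullback.snd X.hom φ) := by
      show IsProper (Red.bc φ X).hom
      rw [← Over.w e.inv]; infer_instance
    exact MorphismProperty.of_isPullback_of_descendsAlong (P := @IsProper) (Q := Groth.EtaleBase.Fpqc)
      (IsPullback.of_hasPullback X.hom φ).flip (fpqc_fieldMap φ) ‹_›

variable (k) in
/-- The point of the spectrum of a field. -/
abbrev spt : (Spec (CommRingCat.of k) : Scheme.{u}) := IsLocalRing.closedPoint k

/-- The image of a Borel subgroup over any field. -/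
theorem isBorel_image {G Q : Over (Spec (CommRingCat.of k))} [GrpObj G] [IsAffine G.left] [Smooth G.hom]
    [ConnectedSpace G.left] [GrpObj Q] [IsAffine Q.left] [Smooth Q.hom] [ConnectedSpace Q.left]
    (q : G ⟶ Q) [IsMonHom q] [Surjective q.left] {B B' : Over (Spec (CommRingCat.of k))} [GrpObj B] [GrpObj B']
    {iB : B ⟶ G} (hB : Red.IsBorel iB) {iB' : B' ⟶ Q} [IsMonHom iB'] [IsClosedImmersion iB'.left] [IsReduced B'.left]
    (p : B ⟶ B') [Surjective p.left] (hp : p ≫ iB' = iB ≫ q) : Red.IsBorel iB' := by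
  obtain ⟨hm, hc, hs, hgeo⟩ := hB
  have : LocallyOfFiniteType B'.hom := by rw [← Over.w iB']; infer_instance
  have : IsSeparated B'.hom := by rw [← Over.w iB']; infer_instance
  have : QuasiCompact B.hom := by rw [← Over.w iB]; infer_instance
  have : QuasiCompact (p.left ≫ B'.hom) := by rw [Over.w]; infer_instance
  have : QuasiCompact p.left := QuasiCompact.of_comp p.left B'.hom
  have := geometricallyReduced_of_surjective_reduced p
  have hs' : Smooth B'.hom := Groth.GrpschAbsch.smooth_of_geometricallyReduced B'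
  refine ⟨‹_›, ‹_›, hs', fun s => ?_⟩
  let ψ := Red.geomPt s
  have := smooth_bc ψ G
  have := isAffine_bc ψ G
  have := connectedSpace_bc ψ G
  have := smooth_bc ψ Q
  have := isAffine_bc ψ Q
  have := connectedSpace_bc ψ Q
  have := smooth_bc ψ B'
  have := geometricallyReduced_of_smooth_hom (Red.bc ψ B')
  have := isReduced_left (Red.bc ψ B')
  have := isClosedImmersion_bc ψ iB'
  have := surjective_bc ψ q
  have := surjective_bc ψ p
  exact isBorelOver_image (q := (Over.pullback ψ).map q) (hgeo s) ((Over.pullback ψ).map p)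
    (by rw [← Functor.map_comp, ← Functor.map_comp, hp])

/-- The image of a parabolic subgroup over any field. -/
theorem isParabolic_image {G Q : Over (Spec (CommRingCat.of k))} [GrpObj G] [IsAffine G.left] [Smooth G.hom]
    [ConnectedSpace G.left] [GrpObj Q] [IsAffine Q.left] [Smooth Q.hom] [ConnectedSpace Q.left]
    (q : G ⟶ Q) [IsMonHom q] [Surjective q.left] {B B' : Over (Spec (CommRingCat.of k))} [GrpObj B] [GrpObj B']
    {iB : B ⟶ G} (hB : Red.IsParabolic iB) {iB' : B' ⟶ Q} [IsMonHom iB'] [IsClosedImmersion iB'.left]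
    [IsReduced B'.left] (p : B ⟶ B') [Surjective p.left] (hp : p ≫ iB' = iB ≫ q) : Red.IsParabolic iB' := by
  obtain ⟨hm, hc, hs, hgeo⟩ := hB
  have : LocallyOfFiniteType B'.hom := by rw [← Over.w iB']; infer_instance
  have : IsSeparated B'.hom := by rw [← Over.w iB']; infer_instance
  have : QuasiCompact B.hom := by rw [← Over.w iB]; infer_instance
  have : QuasiCompact (p.left ≫ B'.hom) := by rw [Over.w]; infer_instance
  have : QuasiCompact p.left := QuasiCompact.of_comp p.left B'.hom
  have := geometricallyReduced_of_surjective_reduced p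
  have hs' : Smooth B'.hom := Groth.GrpschAbsch.smooth_of_geometricallyReduced B'
  refine ⟨‹_›, ‹_›, hs', fun s => ?_⟩
  let ψ := Red.geomPt s
  have := smooth_bc ψ G
  have := isAffine_bc ψ G
  have := connectedSpace_bc ψ G
  have := smooth_bc ψ Q
  have := isAffine_bc ψ Q
  have := connectedSpace_bc ψ Q
  have := smooth_bc ψ B'
  have := geometricallyReduced_of_smooth_hom (Red.bc ψ B')
  have := isReduced_left (Red.bc ψ B')
  have := isClosedImmersion_bc ψ iB'
  have := surjective_bc ψ q
  have := surjective_bc ψ p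
  exact isParabolicOver_image (q := (Over.pullback ψ).map q) (hgeo s) ((Over.pullback ψ).map p)
    (by rw [← Functor.map_comp, ← Functor.map_comp, hp])

/-- A smooth subgroup has proper quotient exactly when it is parabolic. -/
theorem isProper_quotient_iff_isParabolic {G P X : Over (Spec (CommRingCat.of k))} [GrpObj G] [IsAffine G.left]
    [Smooth G.hom] [ConnectedSpace G.left] [GrpObj P] (iP : P ⟶ G) [IsMonHom iP] [IsClosedImmersion iP.left]
    [Smooth P.hom] {a : AlgGrp.Action G X} {o : 𝟙_ (Over (Spec (CommRingCat.of k))) ⟶ X} (hX : AGF.IsQuotient iP X a o) :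
    IsProper X.hom ↔ Red.IsParabolic iP := by
  have hone : ∀ s : (Spec (CommRingCat.of k) : Scheme.{u}),
      IsProper X.hom ↔ Red.IsParabolicOver (AlgebraicClosure ((Spec (CommRingCat.of k)).residueField s))
        ((Over.pullback (Red.geomPt s)).map iP) := by
    intro s
    let ψ := Red.geomPt s
    have := smooth_bc ψ G
    have := isAffine_bc ψ G
    have := connectedSpace_bc ψ G
    have := smooth_bc ψ P
    have := isClosedImmersion_bc ψ iP
    have : Mono ((Over.pullback ψ).map iP) := Over.mono_of_mono_left _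
    have : LocallyOfFiniteType (Red.bc ψ P).hom := inferInstance
    have : QuasiCompact (Red.bc ψ P).hom := by rw [← Over.w ((Over.pullback ψ).map iP)]; infer_instance
    obtain ⟨X₁, a₁, o₁, h₁⟩ := Groth.Agent.S3279.result _ (Red.bc ψ G) (Red.bc ψ P) ((Over.pullback ψ).map iP)
    have h₁' : AGF.IsQuotient ((Over.pullback ψ).map iP) X₁ a₁ o₁ := ⟨h₁.1, h₁.2.2.1, h₁.2.2.2.1, h₁.2.2.2.2⟩
    rw [isProper_quotient_bc_iff ψ hX h₁', isProper_quotient_iff _ h₁']
  exact ⟨fun h => ⟨‹_›, ‹_›, ‹_›, fun s => (hone s).1 h⟩, fun h => (hone (spt k)).2 (h.2.2.2 _)⟩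

/-- Commuting with a Borel subgroup means being central. -/
theorem commute_of_borel {G B : Over (Spec (CommRingCat.of k))} [GrpObj G] [IsAffine G.left] [Smooth G.hom]
    [ConnectedSpace G.left] [GrpObj B] {iB : B ⟶ G} (hB : Red.IsBorel iB)
    {T : Over (Spec (CommRingCat.of k))} (x : T ⟶ G)
    (hx : ∀ (W : Over (Spec (CommRingCat.of k))) (t : W ⟶ T) (h : W ⟶ B), (t ≫ x) * (h ≫ iB) = (h ≫ iB) * (t ≫ x))
    (W : Over (Spec (CommRingCat.of k))) (t : W ⟶ T) (g : W ⟶ G) : (t ≫ x) * g = g * (t ≫ x) := by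
  let ψ := Red.geomPt (spt k)
  have hgeo := hB.2.2.2 (spt k)
  have := hB.1
  have := smooth_bc ψ G
  have := isAffine_bc ψ G
  have := connectedSpace_bc ψ G
  have := hgeo.1
  have := hgeo.2.1
  have := hgeo.2.2.1
  have : Mono ((Over.pullback ψ).map iB) := Over.mono_of_mono_left _
  have : LocallyOfFiniteType (Red.bc ψ B).hom := inferInstance
  have : QuasiCompact (Red.bc ψ B).hom := by rw [← Over.w ((Over.pullback ψ).map iB)]; infer_instance
  obtain ⟨X₁, a₁, o₁, h₁⟩ := Groth.Agent.S3279.result _ (Red.bc ψ G) (Red.bc ψ B) ((Over.pullback ψ).map iB)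
  have h₁' : AGF.IsQuotient ((Over.pullback ψ).map iB) X₁ a₁ o₁ := ⟨h₁.1, h₁.2.2.1, h₁.2.2.2.1, h₁.2.2.2.2⟩
  have := isProper_quotient_borel hgeo h₁'
  have key := commute_of_invariant h₁' ((Over.pullback ψ).map x) (fun W' t' h' => bcPt_injective ψ (by
    rw [bcPt_mul, bcPt_mul, bcPt_comp_map, bcPt_comp_map]
    exact (hx _ (bcPt ψ t') (bcPt ψ h')).symm)) _ ((Over.pullback ψ).map t) ((Over.pullback ψ).map g)
  rw [← Functor.map_comp, ← Functor.map_mul, ← Functor.map_mul] at key
  have h2 := congrArg (fun m => m.left ≫ pullback.fst G.hom ψ) key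
  have e : ∀ m : W ⟶ G, ((Over.pullback ψ).map m).left ≫ pullback.fst G.hom ψ = pullback.fst W.hom ψ ≫ m.left :=
    fun m => pullback.lift_fst _ _ _
  rw [e, e] at h2
  have : Flat ψ := flat_fieldMap ψ
  have : Surjective ψ := (fpqc_fieldMap ψ).1.1
  have : Epi (pullback.fst W.hom ψ) := Flat.epi_of_flat_of_surjective _
  exact Over.OverMorphism.ext ((cancel_epi _).1 h2).symm

end Groth.AlgGrp1
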