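import Groth.Agent.AlgGrp1.NormalizerBorel

/-!
A Borel subgroup is its own normalizer.
-/

set_option autoImplicit false
set_option linter.style.haveILetI false
universe u

open CategoryTheory Limits MonoidalCategory CartesianMonoidalCategory MonObj GrpObj AlgebraicGeometry
open Groth.AlgGrp2 (bcPt bcPtInv bcPt_injective bcPt_comp bcPt_comp_map bcPt_mul bcPt_inv bcPt_bcPtInv)
open scoped DualNumber

noncomputable section

namespace Groth.AlgGrp1

/-- An ideal killed by all tangent vectors, with formally smooth quotient, is zero. -/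
theorem eq_bot_of_tangents {k : Type u} [Field k] [IsAlgClosed k] {A : Type u} [CommRing A] [Algebra k A]
    [Algebra.FiniteType k A] (I : Ideal A) [Algebra.FormallySmooth k (A ⧸ I)]
    (h : ∀ P : A →ₐ[k] k[ε], ∀ a ∈ I, P a = 0) : I = ⊥ := by
  haveI : IsNoetherianRing A := Algebra.FiniteType.isNoetherianRing k A
  have hsurj : Function.Surjective (Ideal.Quotient.factorₐ k (Ideal.pow_le_self two_ne_zero : I ^ 2 ≤ I)) := by
    intro x
    obtain ⟨a, rfl⟩ := Ideal.Quotient.mk_surjective x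
    exact ⟨Ideal.Quotient.mk _ a, rfl⟩
  have hnil : IsNilpotent (RingHom.ker (Ideal.Quotient.factorₐ k (Ideal.pow_le_self two_ne_zero : I ^ 2 ≤ I) : A ⧸ I ^ 2 →+* A ⧸ I)) := ⟨2, by
      refine (pow_two _).trans (eq_bot_iff.2 (Ideal.mul_le.2 ?_))
      intro x hx y hy
      obtain ⟨a, rfl⟩ := Ideal.Quotient.mk_surjective x
      obtain ⟨b, rfl⟩ := Ideal.Quotient.mk_surjective y
      have ha : a ∈ I := Ideal.Quotient.eq_zero_iff_mem.1 hx
      have hb : b ∈ I := Ideal.Quotient.eq_zero_iff_mem.1 hy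
      rw [Ideal.mem_bot, ← map_mul, Ideal.Quotient.eq_zero_iff_mem, pow_two]
      exact Ideal.mul_mem_mul ha hb⟩
  let σ : A ⧸ I →ₐ[k] A ⧸ I ^ 2 := Algebra.FormallySmooth.liftOfSurjective (AlgHom.id k (A ⧸ I))
    (Ideal.Quotient.factorₐ k (Ideal.pow_le_self two_ne_zero)) hsurj hnil
  have hσ : ∀ a : A, ∃ b : A, Ideal.Quotient.mk (I ^ 2) b = σ (Ideal.Quotient.mk I a) ∧ a - b ∈ I := by
    intro a
    obtain ⟨b, hb⟩ := Ideal.Quotient.mk_surjective (σ (Ideal.Quotient.mk I a))
    refine ⟨b, hb, Ideal.Quotient.eq.1 ?_⟩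
    have := Algebra.FormallySmooth.liftOfSurjective_apply (AlgHom.id k (A ⧸ I))
      (Ideal.Quotient.factorₐ k (Ideal.pow_le_self two_ne_zero : I ^ 2 ≤ I)) hsurj hnil (Ideal.Quotient.mk I a)
    exact this.symm.trans (congrArg (Ideal.Quotient.factorₐ k (Ideal.pow_le_self two_ne_zero)) hb.symm)
  by_contra hI
  set J := Submodule.annihilator (I : Submodule A A) with hJ
  obtain ⟨m, hm, hJm⟩ := Ideal.exists_le_maximal J (fun e => hI (by
    rw [eq_bot_iff]
    intro x hx
    have := Submodule.mem_annihilator.1 (show (1 : A) ∈ J by rw [e]; trivial) x hx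
    simpa using this))
  obtain ⟨p, hp⟩ : ∃ p : A →ₐ[k] k, RingHom.ker p = m := by
    letI := Ideal.Quotient.field m
    have : Algebra.FiniteType k (A ⧸ m) :=
      Algebra.FiniteType.of_surjective (Ideal.Quotient.mkₐ k m) Ideal.Quotient.mk_surjective
    have : Module.Finite k (A ⧸ m) := finite_of_finite_type_of_isJacobsonRing k (A ⧸ m)
    have hb : Function.Bijective (Algebra.ofId k (A ⧸ m)) := IsAlgClosed.algebraMap_bijective_of_isIntegral
    refine ⟨(AlgEquiv.ofBijective _ hb).symm.toAlgHom.comp (Ideal.Quotient.mkₐ k m), ?_⟩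
    ext a
    rw [RingHom.mem_ker, AlgHom.comp_apply]
    exact (map_eq_zero_iff _ (AlgEquiv.ofBijective _ hb).symm.injective).trans Ideal.Quotient.eq_zero_iff_mem
  have hpI : ∀ a ∈ I, p a = 0 := fun a ha => by
    simpa using congrArg TrivSqZeroExt.fst (h ((TrivSqZeroExt.inlAlgHom k k k).comp p) a ha)
  -- the conormal space at the point vanishes
  have key : (I : Submodule A A) ≤ m • (I : Submodule A A) := by
    by_contra hle
    obtain ⟨a₀, ha₀, ha₀'⟩ := SetLike.not_le_iff_exists.1 hle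
    have hmI : (m • (I : Submodule A A) : Submodule A A) = m * I := rfl
    rw [hmI] at ha₀'
    obtain ⟨φ, hφ, hker⟩ := Submodule.exists_dual_map_eq_bot_of_notMem (R := k)
      (p := (m * I : Ideal A).restrictScalars k) (x := a₀) ha₀' inferInstance
    have hφ0 : ∀ z ∈ m * I, φ z = 0 := fun z hz => by
      have h2 : φ z ∈ ((m * I : Ideal A).restrictScalars k).map φ := Submodule.mem_map_of_mem hz
      rw [hker] at h2
      exact h2
    have hI2 : I ^ 2 ≤ m * I := by
      rw [pow_two]
      exact Ideal.mul_mono_left fun a ha => by rw [← hp, RingHom.mem_ker]; exact hpI a ha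
    choose s hs hs' using hσ
    let D : A → k := fun x => φ (x - s x)
    have hDwd : ∀ x y : A, Ideal.Quotient.mk (I ^ 2) y = σ (Ideal.Quotient.mk I x) → D x = φ (x - y) := by
      intro x y hy
      refine sub_eq_zero.1 ?_
      show φ (x - s x) - φ (x - y) = 0
      rw [← map_sub]
      refine hφ0 _ (hI2 ?_)
      rw [sub_sub_sub_cancel_left, ← Ideal.Quotient.eq, hy, hs]
    have hlin : ∀ x z : A, z ∈ I → φ (x * z) = p x * φ z := fun x z hz => by
      refine sub_eq_zero.1 ?_
      rw [← smul_eq_mul (a := p x), ← map_smul, ← map_sub, Algebra.smul_def, ← sub_mul]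
      refine hφ0 _ (Ideal.mul_mem_mul ?_ hz)
      rw [← hp, RingHom.mem_ker, map_sub, AlgHom.commutes, Algebra.algebraMap_self, RingHom.id_apply, sub_self]
    have hps : ∀ x, p (s x) = p x := fun x => by
      have := hpI _ (hs' x)
      rw [map_sub, sub_eq_zero] at this
      exact this.symm
    have hmul : ∀ x y, D (x * y) = p x * D y + D x * p y := fun x y => by
      rw [hDwd (x * y) (s x * s y) (by rw [map_mul, hs, hs, ← map_mul, ← map_mul])]
      show φ _ = p x * φ _ + φ _ * p y
      rw [show x * y - s x * s y = x * (y - s y) + s y * (x - s x) by ring, map_add, hlin _ _ (hs' y),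
        hlin _ _ (hs' x), hps, _root_.mul_comm (p y)]
    have hadd : ∀ x y, D (x + y) = D x + D y := fun x y => by
      rw [hDwd (x + y) (s x + s y) (by rw [map_add, hs, hs, ← map_add, ← map_add])]
      show φ _ = φ _ + φ _
      rw [← map_add φ]
      congr 1
      ring
    have hcst : ∀ r : k, D (algebraMap k A r) = 0 := fun r => by
      rw [hDwd (algebraMap k A r) (algebraMap k A r) (by
        rw [Ideal.Quotient.mk_algebraMap, Ideal.Quotient.mk_algebraMap, AlgHom.commutes]), sub_self, map_zero]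
    let P : A →ₐ[k] k[ε] :=
      { toFun := fun x => TrivSqZeroExt.inl (p x) + TrivSqZeroExt.inr (D x)
        map_one' := by
          have := hcst 1
          rw [map_one] at this
          exact TrivSqZeroExt.ext (by simp) (by simp [this])
        map_mul' := fun x y => TrivSqZeroExt.ext (by simp) (by simp [hmul x y, _root_.mul_comm (D x)])
        map_zero' := by
          have := hcst 0
          rw [map_zero] at this
          exact TrivSqZeroExt.ext (by simp) (by simp [this])
        map_add' := fun x y => TrivSqZeroExt.ext (by simp) (by simp [hadd x y])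
        commutes' := fun r => TrivSqZeroExt.ext (by simp [TrivSqZeroExt.algebraMap_eq_inl])
          (by simp [hcst r, TrivSqZeroExt.algebraMap_eq_inl]) }
    have h1 := congrArg TrivSqZeroExt.snd (h P a₀ ha₀)
    simp only [P, AlgHom.coe_mk, RingHom.coe_mk, MonoidHom.coe_mk, OneHom.coe_mk, TrivSqZeroExt.snd_add,
      TrivSqZeroExt.snd_inl, TrivSqZeroExt.snd_inr, zero_add, TrivSqZeroExt.snd_zero] at h1
    rw [hDwd a₀ 0 (by rw [map_zero, Ideal.Quotient.eq_zero_iff_mem.2 ha₀, map_zero]), sub_zero] at h1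
    exact hφ h1
  obtain ⟨r, hr, hrI⟩ := Submodule.exists_sub_one_mem_and_smul_eq_zero_of_fg_of_le_smul m (I : Submodule A A)
    (IsNoetherian.noetherian _) key
  have hrJ : r ∈ m := hJm (Submodule.mem_annihilator.2 hrI)
  exact hm.ne_top ((Ideal.eq_top_iff_one m).2 (by simpa using m.sub_mem hrJ hr))

variable {k : Type u} [Field k]

/-- Base change of a normalizing point normalizes. -/
theorem normalizes_bc {K : Type u} [Field K] (φ : Spec (CommRingCat.of K) ⟶ Spec (CommRingCat.of k))
    {G H : Over (Spec (CommRingCat.of k))} [GrpObj G] [GrpObj H] {i : H ⟶ G} {X : Over (Spec (CommRingCat.of k))}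
    {g : X ⟶ G} (hg : Normalizes i g) : Normalizes ((Over.pullback φ).map i) ((Over.pullback φ).map g) := by
  intro X' x h
  obtain ⟨⟨a, ha⟩, ⟨b, hb⟩⟩ := hg _ (bcPt φ x) (bcPt φ h)
  refine ⟨⟨bcPtInv φ a, bcPt_injective φ ?_⟩, ⟨bcPtInv φ b, bcPt_injective φ ?_⟩⟩ <;>
    simp only [bcPt_mul, bcPt_inv, bcPt_comp_map, bcPt_bcPtInv, ha, hb]

variable [IsAlgClosed k]

/-- A closed smooth subscheme through which all tangent vectors factor is everything. -/
theorem isIso_of_tangents {B N : Over (Spec (CommRingCat.of k))} [GrpObj N] [IsAffine N.left]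
    [LocallyOfFiniteType N.hom] [Smooth B.hom] (f : B ⟶ N) [IsClosedImmersion f.left]
    (h : ∀ v : CoactBr.sp k k[ε] ⟶ N, ∃ w, w ≫ f = v) : IsIso f := by
  obtain ⟨A, _, _, _, e, he⟩ := exists_hopf_iso N
  have hci : IsClosedImmersion (f ≫ e.inv).left := by
    have : IsIso e.inv.left := inferInstanceAs (IsIso ((Over.forget _).map e.inv))
    rw [Over.comp_left]; infer_instance
  obtain ⟨I, eB, hI⟩ := IsClosedImmersion.Spec_iff.1 hci
  let eB' : B ≅ CoactBr.sp k (A ⧸ I) := Over.isoMk eB (by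
    show eB.hom ≫ Spec.map (CommRingCat.ofHom (algebraMap k (A ⧸ I))) = B.hom
    rw [← Over.w (f ≫ e.inv), hI]
    refine Eq.trans ?_ (Category.assoc _ _ _).symm
    refine congrArg (eB.hom ≫ ·) ?_
    refine Eq.trans ?_ (Spec.map_comp (CommRingCat.ofHom (algebraMap k A)) (CommRingCat.ofHom (Ideal.Quotient.mk I)))
    rfl)
  have hf : f ≫ e.inv = eB'.hom ≫ CoactBr.pt (Ideal.Quotient.mkₐ k I) := Over.OverMorphism.ext hI
  haveI : Algebra.Smooth k (A ⧸ I) := by
    have hiso : IsIso eB'.inv.left := ((Over.forget _).mapIso eB').isIso_inv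
    have h1 : Smooth (Spec.map (CommRingCat.ofHom (algebraMap k (A ⧸ I)))) := by
      change Smooth (CoactBr.sp k (A ⧸ I)).hom
      rw [← Over.w eB'.inv]
      infer_instance
    rw [HasRingHomProperty.Spec_iff (P := @Smooth)] at h1
    exact RingHom.smooth_algebraMap.1 h1
  have hbot : I = ⊥ := eq_bot_of_tangents I fun P a ha => by
    obtain ⟨w, hw⟩ := h (CoactBr.pt P ≫ e.hom)
    obtain ⟨Q, hQ⟩ := Groth.AlgGrp2.pt_surjective (w ≫ eB'.hom)
    have : P = Q.comp (Ideal.Quotient.mkₐ k I) := CoactBr.pt_injective (by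
      rw [CoactBr.pt_comp, hQ, Category.assoc, ← hf, ← Category.assoc, hw, Category.assoc, e.hom_inv_id,
        Category.comp_id])
    rw [this, AlgHom.comp_apply, Ideal.Quotient.mkₐ_eq_mk, Ideal.Quotient.eq_zero_iff_mem.2 ha, map_zero]
  subst hbot
  let io : A ≃ₐ[k] A ⧸ (⊥ : Ideal A) := AlgEquiv.ofBijective (Ideal.Quotient.mkₐ k ⊥)
    ⟨fun x y hxy => sub_eq_zero.1 ((Ideal.mem_bot).1 (Ideal.Quotient.eq.1 hxy)), Ideal.Quotient.mk_surjective⟩
  have hι : IsIso (CoactBr.pt (Ideal.Quotient.mkₐ k (⊥ : Ideal A))) :=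
    ⟨CoactBr.pt io.symm.toAlgHom, by
      rw [← CoactBr.pt_comp, ← CoactBr.pt_id]
      exact congrArg CoactBr.pt (AlgHom.ext fun x => io.apply_symm_apply x), by
      rw [← CoactBr.pt_comp, ← CoactBr.pt_id]
      exact congrArg CoactBr.pt (AlgHom.ext fun x => io.symm_apply_apply x)⟩
  have hf' : f = (eB'.hom ≫ CoactBr.pt (Ideal.Quotient.mkₐ k (⊥ : Ideal A))) ≫ e.hom := by
    rw [← hf, Category.assoc, e.inv_hom_id, Category.comp_id]
  rw [hf']; infer_instance

variable {G P T : Over (Spec (CommRingCat.of k))} [GrpObj G] [GrpObj P] [GrpObj T] [IsAffine G.left]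
  [Smooth G.hom]

/-- A smooth connected subgroup containing the centralizer of a maximal torus, and all the rational
points normalizing it, is its own normalizer. -/
theorem isNormalizerOf_self_of_points (iP : P ⟶ G) [IsMonHom iP] [IsClosedImmersion iP.left] [Smooth P.hom]
    [ConnectedSpace P.left] {iT : T ⟶ G} (hT : AGF.IsMaxTorus iT) (t : T ⟶ P) (ht : t ≫ iP = iT)
    (hC : ∀ (C : Over (Spec (CommRingCat.of k))) [GrpObj C] (c : C ⟶ G), Red.IsCentralizerOf iT c →
      ∃ f : C ⟶ P, f ≫ iP = c)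
    (hpts : ∀ g : 𝟙_ (Over (Spec (CommRingCat.of k))) ⟶ G, Normalizes iP g → ∃ b, b ≫ iP = g) :
    Red.IsNormalizerOf iP iP := by
  haveI := hT.1; haveI := hT.2.1
  haveI : Mono iP := Over.mono_of_mono_left iP
  haveI : QuasiCompact P.hom := by rw [← Over.w iP]; infer_instance
  haveI : QuasiSeparated P.hom := by rw [← Over.w iP]; infer_instance
  obtain ⟨N, _, nP, hN, hNc, -⟩ := Groth.Agent.S5260.result G P (fun s => by
    have : Subsingleton (Spec (CommRingCat.of k) : Scheme.{u}) := inferInstanceAs (Subsingleton (PrimeSpectrum k))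
    have e : P.hom ⁻¹' {s} = Set.univ := Set.eq_univ_of_forall fun _ => Subsingleton.elim _ _
    haveI : ConnectedSpace (P.hom ⁻¹' {s} : Set P.left) := isConnected_iff_connectedSpace.1 (e ▸ isConnected_univ)
    exact (P.hom.fiberHomeo s).symm.surjective.connectedSpace (P.hom.fiberHomeo s).symm.continuous) iP
  haveI := hNc; haveI := hN.1; haveI : Mono nP := hN.2.1
  haveI : IsAffine N.left := isAffine_of_isAffineHom nP.left
  haveI : LocallyOfFiniteType N.hom := by rw [← Over.w nP]; infer_instance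
  obtain ⟨f, hf⟩ := (hN.2.2 P iP).2 (by
    have := normalizes_of_factor iP (𝟙 P)
    rwa [Category.id_comp] at this)
  haveI : IsMonHom t := isMonHom_of_points _ fun W p q => by
    rw [← cancel_mono iP, MonObj.mul_comp (p ≫ t), Category.assoc, Category.assoc, Category.assoc, ht,
      MonObj.mul_comp]
  haveI : IsMonHom f := isMonHom_of_points _ fun W p q => by
    rw [← cancel_mono nP, MonObj.mul_comp (p ≫ f), Category.assoc, Category.assoc, Category.assoc, hf,
      MonObj.mul_comp]
  haveI : IsClosedImmersion f.left := by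
    have : IsClosedImmersion (f.left ≫ nP.left) := by rw [← Over.comp_left, hf]; infer_instance
    exact IsClosedImmersion.of_comp f.left nP.left
  obtain ⟨⟨C, _, c, hc, -, -⟩, -⟩ := Groth.Agent.S3006.result _ G T iT (isClosedImmersion_of_isTorus iT hT.2.2.1) hT.2.2.1
  obtain ⟨fC, hfC⟩ := hC C c hc
  obtain ⟨t₀, -, htan⟩ := exists_generic_point (t ≫ f) hT.2.2.1
  let base : CoactBr.sp k k ⟶ CoactBr.sp k k[ε] := CoactBr.pt (TrivSqZeroExt.fstHom k k k)
  have : IsIso f := isIso_of_tangents f fun v => by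
    -- translate to the generic point
    obtain ⟨p, hp⟩ := hpts (unitSp.hom ≫ base ≫ v ≫ nP)
      ((hN.2.2 _ _).1 ⟨unitSp.hom ≫ base ≫ v, by simp only [Category.assoc]⟩)
    set b₀ : 𝟙_ (Over (Spec (CommRingCat.of k))) ⟶ N := p ≫ f with hb₀
    have hv : base ≫ v = toUnit _ ≫ b₀ := by
      rw [← cancel_epi (unitSp (k := k)).hom, ← Category.assoc (unitSp (k := k)).hom (toUnit _),
        toUnit_unique ((unitSp (k := k)).hom ≫ toUnit _) (𝟙 _), Category.id_comp, ← cancel_mono nP, hb₀,
        Category.assoc p, hf, hp]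
      simp only [Category.assoc]
    set w : CoactBr.sp k k[ε] ⟶ N := (toUnit _ ≫ b₀)⁻¹ * v * (toUnit _ ≫ t₀ ≫ t ≫ f) with hw
    have hwb : base ≫ w = toUnit _ ≫ t₀ ≫ t ≫ f := by
      rw [hw, MonObj.comp_mul, MonObj.comp_mul, GrpObj.comp_inv, hv, ← Category.assoc base,
        ← Category.assoc base, toUnit_unique (base ≫ toUnit _) (toUnit _), inv_mul_cancel, _root_.one_mul]
    obtain ⟨x, z, -, -, hz, hxz⟩ := htan w hwb
    obtain ⟨zC, hzC⟩ := (hc.2.2 _ (z ≫ nP)).2 fun W a s => by
      have h0 := congrArg (· ≫ nP) (hz W a s)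
      simp only [MonObj.mul_comp, Category.assoc, hf, ht] at h0
      exact h0
    obtain ⟨⟨y, hy⟩, -⟩ := (hN.2.2 _ (x ≫ nP)).1 ⟨x, rfl⟩ _ (𝟙 _) (zC ≫ fC)
    rw [Category.id_comp, Category.assoc, hfC, hzC] at hy
    refine ⟨(toUnit _ ≫ p) * y * (toUnit _ ≫ t₀ ≫ t)⁻¹, ?_⟩
    have hyw : y ≫ f = w := by
      rw [← cancel_mono nP, Category.assoc, hf, ← hy, ← hxz, MonObj.mul_comp, MonObj.mul_comp,
        GrpObj.inv_comp]
    rw [MonObj.mul_comp, MonObj.mul_comp, GrpObj.inv_comp, hyw, hw]
    simp only [Category.assoc, hb₀]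
    group
  refine ⟨inferInstance, inferInstance, fun X g => ⟨fun ⟨z, hz⟩ => hz ▸ normalizes_of_factor iP z, fun hg => ?_⟩⟩
  obtain ⟨z, hz⟩ := (hN.2.2 X g).2 hg
  exact ⟨z ≫ inv f, by rw [Category.assoc, ← hf, IsIso.inv_hom_id_assoc, hz]⟩

/-- A Borel subgroup is its own normalizer. -/
theorem isNormalizerOf_borelOver [ConnectedSpace G.left] {B : Over (Spec (CommRingCat.of k))} [GrpObj B]
    {iB : B ⟶ G} (hB : Red.IsBorelOver k iB) : Red.IsNormalizerOf iB iB := by
  obtain ⟨T, _, t, hT⟩ := exists_maxTorus_of_borel hB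
  have := hB.1; have := hB.2.1; have := hB.2.2.1; have := hB.2.2.2.1
  exact isNormalizerOf_self_of_points iB hT t rfl
    (fun C _ c hc => centralizer_le_borelOver hT hc hB t rfl) (fun g hg => mem_borel_of_normalizes hB g hg)

end Groth.AlgGrp1
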