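import Groth.Agent.AlgGrp2.AffinePts
import Groth.Agent.Misc7.AffineGroupPoints
import Groth.Agent.AlgGrp1.MonoHom
import Groth.Agent.GrassRep.Pts
import Mathlib.RingTheory.HopfAlgebra.Quotient

/-!
Affine algebraic groups as spectra of Hopf algebras; closed subgroups as Hopf ideals.
-/

set_option autoImplicit false
universe u

open CategoryTheory MonoidalCategory CartesianMonoidalCategory MonObj GrpObj AlgebraicGeometry
open scoped TensorProduct

noncomputable section

namespace Groth.AlgGrp1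

variable {k : Type u} [Field k]

/-- An affine algebraic group is the spectrum of a Hopf algebra of finite type. -/
theorem exists_hopf_iso (G : Over (Spec (CommRingCat.of k))) [GrpObj G] [IsAffine G.left]
    [LocallyOfFiniteType G.hom] :
    ∃ (A : Type u) (_ : CommRing A) (_ : HopfAlgebra k A) (_ : Algebra.FiniteType k A)
      (e : CoactBr.sp k A ≅ G), IsMonHom e.hom := by
  obtain ⟨A, ⟨f⟩⟩ := Groth.Misc7.AffineGroupPoints.exists_hopf G
  let e : CoactBr.sp k A ≅ G := (Grp.forget _).mapIso f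
  refine ⟨A, inferInstance, inferInstance, ?_, e, inferInstanceAs (IsMonHom f.hom.hom.hom)⟩
  have : IsIso e.hom.left := inferInstanceAs (IsIso ((Over.forget _).map e.hom))
  have h : LocallyOfFiniteType (CoactBr.sp k A).hom := by
    rw [← Over.w e.hom]; infer_instance
  exact RingHom.finiteType_algebraMap.1 ((HasRingHomProperty.Spec_iff (P := @LocallyOfFiniteType)).1 h)

variable {A : Type u} [CommRing A] [HopfAlgebra k A]

/-- A closed subgroup of a spectrum of a Hopf algebra is cut out by a Hopf ideal. -/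
theorem exists_hopfIdeal {H : Over (Spec (CommRingCat.of k))} [GrpObj H] (u : H ⟶ CoactBr.sp k A)
    [IsMonHom u] [IsClosedImmersion u.left] :
    ∃ (I : Ideal A) (_ : I.IsHopfIdeal k), ∀ (R : Type u) [CommRing R] [Algebra k R] (g : A →ₐ[k] R),
      (∀ a ∈ I, g a = 0) ↔ ∃ x : CoactBr.sp k R ⟶ H, x ≫ u = CoactBr.pt g := by
  obtain ⟨I, e, he⟩ := (IsClosedImmersion.Spec_iff (R := CommRingCat.of A) (f := u.left)).1 (by assumption)
  have hpts : ∀ (R : Type u) [CommRing R] [Algebra k R] (g : A →ₐ[k] R),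
      (∀ a ∈ I, g a = 0) ↔ ∃ x : CoactBr.sp k R ⟶ H, x ≫ u = CoactBr.pt g := by
    intro R _ _ g
    constructor
    · intro h
      let q : (A ⧸ I) →+* R := Ideal.Quotient.lift I g.toRingHom h
      let x₀ : Spec (CommRingCat.of R) ⟶ H.left := Spec.map (CommRingCat.ofHom q) ≫ e.inv
      have hx : x₀ ≫ u.left = Spec.map (CommRingCat.ofHom g.toRingHom) := by
        change (Spec.map (CommRingCat.ofHom q) ≫ e.inv) ≫ u.left = _
        erw [he, Category.assoc, Iso.inv_hom_id_assoc, ← Spec.map_comp]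
        rfl
      refine ⟨Over.homMk x₀ ?_, Over.OverMorphism.ext (by rw [CoactBr.pt_left]; exact hx)⟩
      show x₀ ≫ H.hom = _
      rw [← Over.w u, ← Category.assoc]
      erw [hx]
      exact (Over.w (CoactBr.pt g))
    · rintro ⟨x, hx⟩ a ha
      obtain ⟨q, hq⟩ : ∃ q : CommRingCat.of (A ⧸ I) ⟶ CommRingCat.of R, Spec.map q = x.left ≫ e.hom :=
        ⟨Spec.preimage _, Spec.map_preimage _⟩
      have h1 : Spec.map (CommRingCat.ofHom g.toRingHom) = Spec.map (CommRingCat.ofHom (Ideal.Quotient.mk I) ≫ q) := by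
        rw [← CoactBr.pt_left, ← hx, Over.comp_left, Spec.map_comp, hq]
        exact (congrArg (x.left ≫ ·) he).trans (Category.assoc _ _ _).symm
      have h2 := congrArg (fun f : CommRingCat.of A ⟶ CommRingCat.of R => f.hom a) (Spec.map_injective h1)
      change g a = q.hom (Ideal.Quotient.mk I a) at h2
      rw [h2, Ideal.Quotient.eq_zero_iff_mem.2 ha, map_zero]
  refine ⟨I, ?_, hpts⟩
  let Q : A →ₐ[k] A ⧸ I := Ideal.Quotient.mkₐ k I
  have hQ : ∀ a ∈ I, Q a = 0 := fun a ha => Ideal.Quotient.eq_zero_iff_mem.2 ha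
  obtain ⟨x, hx⟩ := (hpts (A ⧸ I) Q).1 hQ
  have hco : (I.restrictScalars k).IsCoideal := by
    refine ⟨fun a ha => ?_, fun a ha => ?_⟩
    · have h := (hpts k ((Algebra.ofId k k).comp (Bialgebra.counitAlgHom k A))).2
        ⟨1, by rw [MonObj.one_comp, CoactBr.one_eq_pt]⟩ a ha
      exact h
    · let R := (A ⧸ I) ⊗[k] (A ⧸ I)
      obtain ⟨x₁, hx₁⟩ := (hpts R ((Algebra.TensorProduct.includeLeft (S := k)).comp Q)).1 fun b hb => by
        simp [hQ b hb]
      obtain ⟨x₂, hx₂⟩ := (hpts R ((Algebra.TensorProduct.includeRight).comp Q)).1 fun b hb => by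
        simp [hQ b hb]
      have h := (hpts R _).2 ⟨x₁ * x₂, by rw [MonObj.mul_comp, hx₁, hx₂, CoactBr.pt_mul_pt]⟩ a ha
      refine Eq.trans ?_ h
      simp only [AlgHom.comp_apply, Bialgebra.comulAlgHom_apply]
      generalize Coalgebra.comul (R := k) a = z
      induction z using TensorProduct.induction_on with
      | zero => rw [map_zero, map_zero]; rfl
      | tmul b c => simp [Q, R]; rfl
      | add b c hb hc => simp only [map_add, hb, hc]; rfl
  refine { hco with antipode_mem := fun a ha => ?_ }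
  have h := (hpts (A ⧸ I) (Q.comp (HopfAlgebra.antipodeAlgHom k A))).2
    ⟨x⁻¹, by rw [GrpObj.inv_comp, hx, CoactBr.pt_inv]⟩ a ha
  exact Ideal.Quotient.eq_zero_iff_mem.1 h

/-- A factorisation through a monomorphism can be tested on points. -/
theorem exists_factor_of_pts {H G T : Over (Spec (CommRingCat.of k))} (i : H ⟶ G) [Mono i] (u : T ⟶ G)
    (h : ∀ (R : CommAlgCat.{u} k) (t : GrassRep.Pt R ⟶ T), ∃ z : GrassRep.Pt R ⟶ H, z ≫ i = t ≫ u) :
    ∃ w : T ⟶ H, w ≫ i = u := by
  choose F hF using h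
  obtain ⟨w, hw⟩ := GrassRep.exists_hom_of_pts F fun R S φ t => by
    rw [← cancel_mono i, hF, Category.assoc, Category.assoc, hF]
  exact ⟨w, GrassRep.hom_ext _ _ fun R t => by rw [← Category.assoc, hw, hF]⟩

end Groth.AlgGrp1
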