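import Groth.Agent.AlgGrp1.OrbitFlat
import Groth.Agent.Agf.SubobjGrp
import Groth.Prelude.Def_AGF
import Mathlib.Topology.LocallyClosed

/-!
Orbits of algebraic groups over a field as quotient schemes embedded by immersions.
-/

set_option autoImplicit false
universe u

open CategoryTheory Limits MonoidalCategory CartesianMonoidalCategory MonObj GrpObj AlgebraicGeometry

noncomputable section

namespace Groth.AlgGrp1

variable {k : Type u} [Field k] {G Y : Over (Spec (CommRingCat.of k))} [GrpObj G]
  [LocallyOfFiniteType G.hom] [QuasiCompact G.hom] [LocallyOfFiniteType Y.hom] [QuasiCompact Y.hom]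

/-- The orbit of a rational point of a scheme with an action of an algebraic group: a scheme with an
action, immersed equivariantly, with flat surjective orbit map. -/
theorem exists_orbit (a : AlgGrp.Action G Y) (o : 𝟙_ (Over (Spec (CommRingCat.of k))) ⟶ Y) :
    ∃ (X : Over (Spec (CommRingCat.of k))) (b : AlgGrp.Action G X) (x : 𝟙_ (Over (Spec (CommRingCat.of k))) ⟶ X)
      (j : X ⟶ Y), IsImmersion j.left ∧ (G ◁ j) ≫ a.act = b.act ≫ j ∧ x ≫ j = o ∧
      b.orbitMap x ≫ j = a.orbitMap o ∧ LocallyOfFiniteType X.hom ∧ QuasiCompact X.hom ∧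
      Flat (b.orbitMap x).left ∧ Surjective (b.orbitMap x).left := by
  have := isLocallyNoetherian_left Y
  have : CompactSpace Y.left := QuasiCompact.compactSpace_of_compactSpace Y.hom
  have : AlgebraicGeometry.IsNoetherian Y.left := ⟨⟩
  set f := a.orbitMap o
  set O := Set.range f.left.base with hO
  have hlc : IsLocallyClosed O := isLocallyClosed_range_orbitMap a o
  let U : Y.left.Opens := ⟨coborder O, hlc.isOpen_coborder⟩
  have hOU : O ⊆ (U : Set Y.left) := subset_coborder
  let UO : Over (Spec (CommRingCat.of k)) := Over.mk (U.ι ≫ Y.hom)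
  let io : UO ⟶ Y := Over.homMk U.ι rfl
  have : IsOpenImmersion io.left := inferInstanceAs (IsOpenImmersion U.ι)
  have lft : ∀ {T : Over (Spec (CommRingCat.of k))} (g : T ⟶ Y), Set.range g.left.base ⊆ (U : Set Y.left) →
      ∃ g' : T ⟶ UO, g' ≫ io = g := by
    intro T g hg
    have hg' : Set.range g.left ⊆ Set.range U.ι := by rwa [Scheme.Opens.range_ι]
    refine ⟨Over.homMk (IsOpenImmersion.lift U.ι g.left hg') ?_, Over.OverMorphism.ext (IsOpenImmersion.lift_fac _ _ _)⟩
    show IsOpenImmersion.lift U.ι g.left hg' ≫ U.ι ≫ Y.hom = T.hom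
    rw [IsOpenImmersion.lift_fac_assoc, Over.w g]
  obtain ⟨f₀, hf₀⟩ := lft f hOU
  have : IsLocallyNoetherian UO.left := isLocallyNoetherian_of_isOpenImmersion U.ι
  have : QuasiCompact f₀.left := by
    have : CompactSpace G.left := QuasiCompact.compactSpace_of_compactSpace G.hom
    infer_instance
  -- the scheme-theoretic image in the open
  have : IsSchemeTheoreticallyDominant f₀.left.toImage :=
    Groth.Flatmor4.isSchemeTheoreticallyDominant_toImage f₀.left
  let X : Over (Spec (CommRingCat.of k)) := Over.mk (f₀.left.imageι ≫ UO.hom)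
  let c : X ⟶ UO := Over.homMk f₀.left.imageι rfl
  let g : G ⟶ X := Over.homMk f₀.left.toImage (by
    show f₀.left.toImage ≫ f₀.left.imageι ≫ UO.hom = G.hom
    rw [Scheme.Hom.toImage_imageι_assoc, Over.w])
  have hgc : g ≫ c = f₀ := Over.OverMorphism.ext f₀.left.toImage_imageι
  have : IsClosedImmersion c.left := inferInstanceAs (IsClosedImmersion f₀.left.imageι)
  have : IsSchemeTheoreticallyDominant g.left := ‹IsSchemeTheoreticallyDominant f₀.left.toImage›
  have : QuasiCompact (g.left ≫ c.left) := by rw [← Over.comp_left, hgc]; infer_instance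
  have : QuasiCompact g.left := QuasiCompact.of_comp g.left c.left
  let j : X ⟶ Y := c ≫ io
  have hgj : g ≫ j = f := by simp [j, reassoc_of% hgc, hf₀]
  have : IsImmersion j.left := by simp only [j, Over.comp_left]; infer_instance
  have : LocallyOfFiniteType X.hom := by rw [← Over.w j]; infer_instance
  have : QuasiCompact X.hom := by
    have : CompactSpace U.toScheme := isCompact_iff_compactSpace.1 (TopologicalSpace.NoetherianSpace.isCompact _)
    have : CompactSpace UO.left := ‹CompactSpace U.toScheme›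
    have : CompactSpace X.left := c.left.isClosedEmbedding.compactSpace
    exact (quasiCompact_iff_compactSpace X.hom).2 ‹_›
  -- its range is the orbit
  have hrange : Set.range j.left.base ⊆ O := by
    rintro _ ⟨z, rfl⟩
    have hz : c.left.base z ∈ closure (Set.range f₀.left.base) := by
      have h1 : z ∈ closure (Set.range g.left.base) := by
        rw [g.left.denseRange.closure_range]; trivial
      refine map_mem_closure c.left.continuous h1 ?_
      rintro _ ⟨w, rfl⟩
      exact ⟨w, (congr(($hgc).left w)).symm⟩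
    have h2 : j.left.base z ∈ closure O := by
      show io.left.base (c.left.base z) ∈ closure O
      refine map_mem_closure io.left.continuous hz ?_
      rintro _ ⟨w, rfl⟩
      exact ⟨w, (congr(($hf₀).left w)).symm⟩
    have h3 : j.left.base z ∈ coborder O := (c.left.base z).2
    exact coborder_inter_closure.le ⟨h3, h2⟩
  have hsurj : Surjective g.left := ⟨fun z => by
    obtain ⟨w, hw⟩ := hrange ⟨z, rfl⟩
    exact ⟨w, j.left.isEmbedding.injective ((congr(($hgj).left w)).trans hw)⟩⟩
  -- the action
  have hinv := isInvariant_range (regularAction G) a f (orbitMap_equivariant a o)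
  obtain ⟨m₀, hm₀⟩ := lft ((G ◁ j) ≫ a.act) (by
    rintro _ ⟨z, rfl⟩
    apply hOU
    have h1 : (G ◁ j).left.base z ∈ (snd G Y).left.base ⁻¹' O := by
      show (snd G Y).left.base ((G ◁ j).left.base z) ∈ O
      rw [show (snd G Y).left.base ((G ◁ j).left.base z) = ((G ◁ j) ≫ snd G Y).left.base z from rfl, whiskerLeft_snd]
      exact hrange ⟨_, rfl⟩
    rw [← hinv] at h1
    exact h1)
  obtain ⟨hd, hq⟩ := Groth.Agf.dominant_whiskerLeft g G
  have : Mono io := Over.mono_of_mono_left io
  have : Mono c := Over.mono_of_mono_left c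
  obtain ⟨m, hm⟩ := Groth.Agf.exists_lift_of_dominant_over c m₀ (G ◁ g) (μ[G] ≫ g) (by
    rw [← cancel_mono io, Category.assoc, Category.assoc, Category.assoc, reassoc_of% hgc, hm₀, hf₀,
      ← MonoidalCategory.whiskerLeft_comp_assoc, hgj]
    exact (orbitMap_equivariant a o).symm)
  have hmj : m ≫ j = (G ◁ j) ≫ a.act := by simp [j, reassoc_of% hm, hm₀]
  have : Mono j := inferInstanceAs (Mono (c ≫ io))
  let b : AlgGrp.Action G X :=
    { act := m
      one_act := by
        rw [← cancel_mono j, Category.assoc, hmj, ← whisker_exchange_assoc, a.one_act]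
        simp
      mul_act := by
        rw [← cancel_mono j, Category.assoc, hmj, ← whisker_exchange_assoc, a.mul_act,
          Category.assoc, Category.assoc, hmj, ← MonoidalCategory.whiskerLeft_comp_assoc, hmj]
        simp }
  let x : 𝟙_ (Over (Spec (CommRingCat.of k))) ⟶ X := η[G] ≫ g
  have hxj : x ≫ j = o := by
    rw [Category.assoc, hgj, comp_orbit, show η[G] = (1 : 𝟙_ _ ⟶ G) from MonObj.one_eq_one G, a.lift_one_act, toUnit_unique (toUnit _) (𝟙 _), Category.id_comp]
  have horb : b.orbitMap x = g := by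
    rw [← cancel_mono j, hgj, AlgGrp.Action.orbitMap, Category.assoc, hmj, lift_whiskerLeft_assoc, Category.assoc, hxj]
    rfl
  have hflat : Flat g.left := by
    -- the stabilizer
    obtain ⟨P, p₁, p₂, sq⟩ : ∃ (P : Over (Spec (CommRingCat.of k))) (p₁ : P ⟶ G) (p₂ : P ⟶ 𝟙_ _),
        IsPullback p₁ p₂ g x := ⟨_, _, _, IsPullback.of_hasPullback g x⟩
    have : Mono p₁ := by
      constructor
      intro T u v h
      exact sq.hom_ext h (toUnit_unique _ _)
    have hx1 : ∀ {T : Over (Spec (CommRingCat.of k))} (u : T ⟶ G),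
        u ≫ g = toUnit T ≫ x ↔ lift u (toUnit T ≫ x) ≫ b.act = toUnit T ≫ x := fun u => by
      rw [← horb, comp_orbit]
    obtain ⟨_, hp⟩ := Groth.Agf.exists_grpObj_of_subgroup p₁ (fun T u => u ≫ g = toUnit T ≫ x)
      (fun T u => ⟨fun ⟨z, hz⟩ => by rw [← hz, Category.assoc, sq.w, ← Category.assoc, toUnit_unique (z ≫ p₂) (toUnit T)],
        fun hu => ⟨sq.lift u (toUnit T) hu, sq.lift_fst _ _ _⟩⟩)
      (fun T => by rw [hx1, b.lift_one_act])
      (fun T u v hu hv => by
        rw [hx1] at hu hv ⊢
        rw [b.lift_mul_act, hv, hu])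
      (fun T u hu => by
        rw [hx1] at hu ⊢
        conv_lhs => rw [← hu]
        rw [← b.lift_mul_act, inv_mul_cancel, b.lift_one_act])
    have hsq : IsPullback p₁ (toUnit P) (b.orbitMap x) x := by
      rw [horb, toUnit_unique (toUnit P) p₂]; exact sq
    have hpb := (Groth.Agf.isPullback_of_stabilizer b x p₁ hsq).map (Over.forget _)
    have : QuasiCompact (b.orbitMap x).left := horb ▸ inferInstance
    have : IsSchemeTheoreticallyDominant (b.orbitMap x).left := horb ▸ inferInstance
    have h := flat_orbitMap b x (by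
      refine (MorphismProperty.cancel_left_of_respectsIso @Flat hpb.isoPullback.hom _).1 ?_
      erw [IsPullback.isoPullback_hom_fst]
      exact inferInstanceAs (Flat (pullback.fst G.hom P.hom)))
    rwa [horb] at h
  exact ⟨X, b, x, j, inferInstance, hmj.symm, hxj, by rw [horb, hgj], inferInstance, inferInstance,
    by rw [horb]; exact hflat, by rw [horb]; exact hsurj⟩

/-- The orbit is the quotient by the stabilizer. -/
theorem exists_isQuotient_stabilizer (a : AlgGrp.Action G Y) (o : 𝟙_ (Over (Spec (CommRingCat.of k))) ⟶ Y)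
    {Go : Over (Spec (CommRingCat.of k))} [GrpObj Go] (i : Go ⟶ G) [IsMonHom i]
    (hGo : IsPullback i (toUnit Go) (a.orbitMap o) o) :
    ∃ (X : Over (Spec (CommRingCat.of k))) (b : AlgGrp.Action G X) (x : 𝟙_ (Over (Spec (CommRingCat.of k))) ⟶ X)
      (j : X ⟶ Y), IsImmersion j.left ∧ (G ◁ j) ≫ a.act = b.act ≫ j ∧ x ≫ j = o ∧
      QuasiCompact X.hom ∧ AGF.IsQuotient i X b x ∧ b.orbitMap x ≫ j = a.orbitMap o := by
  obtain ⟨X, b, x, j, hj, heq, hx, horb, hlft, hqc, hflat, hsurj⟩ := exists_orbit a o
  have : Mono j := Over.mono_of_mono_left j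
  refine ⟨X, b, x, j, hj, heq, hx, hqc, ⟨hlft, hflat, hsurj, Groth.Agf.isPullback_of_stabilizer b x i ?_⟩, horb⟩
  refine ⟨⟨?_⟩, ⟨PullbackCone.IsLimit.mk _ (fun s => hGo.lift s.fst s.snd ?_) ?_ ?_ ?_⟩⟩
  · rw [← cancel_mono j, Category.assoc, Category.assoc, horb, hx, hGo.w]
  · rw [← horb, ← hx, ← Category.assoc, s.condition, Category.assoc]
  · intro s; exact hGo.lift_fst _ _ _
  · intro s; exact toUnit_unique _ _
  · intro s m hm _
    exact hGo.hom_ext (hm.trans (hGo.lift_fst _ _ _).symm) (toUnit_unique _ _)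

end Groth.AlgGrp1
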