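import Groth.Agent.AlgGrp1.InfConj
import Groth.Agent.AlgGrp1.AutAct
import Groth.Agent.AlgGrp1.OrbitScheme
import Groth.Agent.AlgGrp1.QuotGrp
import Groth.Agent.AlgGrp1.AffineGrp
import Groth.Agent.Agf.ClosedSubgroup
import Groth.Agent.Agf.SubobjGrp
import Groth.Agent.PropsBasic2.NoethScheme

/-!
The centre of a connected algebraic group is the stabilizer of an action and the quotient by it exists.
-/

set_option autoImplicit false
universe u

open CategoryTheory Limits MonoidalCategory CartesianMonoidalCategory MonObj GrpObj AlgebraicGeometry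
open Groth.GrassRep Groth.AlgGrp1.InfConj
open scoped TensorProduct

noncomputable section

namespace Groth.AlgGrp1

variable {k : Type u} [Field k] {G : Over (Spec (CommRingCat.of k))}

/-- factor a point through an open immersion -/
theorem exists_pt_lift {A : CommAlgCat.{u} k} {T : CommAlgCat.{u} k} (aU : Pt A ⟶ G) [IsOpenImmersion aU.left]
    (y : Pt T ⟶ G) (h : Set.range y.left ⊆ Set.range aU.left) : ∃ χ : A ⟶ T, ptMap χ ≫ aU = y := by
  let l : Pt T ⟶ Pt A := Over.homMk (IsOpenImmersion.lift aU.left y.left h) (by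
    rw [← Over.w aU, IsOpenImmersion.lift_fac_assoc, Over.w y])
  obtain ⟨χ, hχ⟩ := exists_ptMap l
  exact ⟨χ, by rw [← hχ]; exact Over.OverMorphism.ext (IsOpenImmersion.lift_fac _ _ _)⟩

/-- a surjection of algebras with nilpotent kernel is surjective on spectra -/
theorem surjective_ptMap {T R : CommAlgCat.{u} k} (s : T ⟶ R) (hs : Function.Surjective s.hom)
    (hk : RingHom.ker s.hom ≤ nilradical T) : Surjective (ptMap s).left := by
  refine ⟨fun p => ?_⟩
  have hp : p ∈ PrimeSpectrum.zeroLocus (RingHom.ker s.hom.toRingHom : Set T) :=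
    fun x hx => nilradical_le_prime p.asIdeal (hk hx)
  rw [← range_comap_of_surjective _ _ hs] at hp
  exact hp

variable [GrpObj G]

section Chart

variable {A : CommAlgCat.{u} k} (aU : Pt A ⟶ G) (ψ : A ⟶ CommAlgCat.of k k)

/-- the infinitesimal neighbourhoods -/
abbrev nb (n : ℕ) : CommAlgCat.{u} k := CommAlgCat.of k (A ⧸ (RingHom.ker ψ.hom) ^ (n + 1))

/-- their projections -/
abbrev nbPr (n : ℕ) : A ⟶ nb ψ n := CommAlgCat.ofHom (Ideal.Quotient.mkₐ k _)

/-- their inclusions in `G` -/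
abbrev nbIn (n : ℕ) : Pt (nb ψ n) ⟶ G := ptMap (nbPr ψ n) ≫ aU

omit [GrpObj G] in
theorem mono_nbIn [IsOpenImmersion aU.left] (n : ℕ) : Mono (nbIn aU ψ n) := by
  have : IsClosedImmersion (ptMap (nbPr ψ n)).left := IsClosedImmersion.spec_of_surjective _ Ideal.Quotient.mk_surjective
  have : Mono (nbIn aU ψ n).left := by rw [Over.comp_left]; infer_instance
  exact Over.mono_of_mono_left _

theorem exists_conj_lift [IsOpenImmersion aU.left] (hψ : ptMap ψ ≫ aU = 1) (n : ℕ) (R : CommAlgCat.{u} k)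
    (g : Pt R ⟶ G) : ∃ a : nb ψ n ⟶ tens R (nb ψ n), ptMap a ≫ nbIn aU ψ n = cnj (nbIn aU ψ n) R g := by
  let B := nb ψ n
  set m : Ideal A := RingHom.ker ψ.hom
  let ψn : B ⟶ CommAlgCat.of k k := CommAlgCat.ofHom
    (Ideal.Quotient.liftₐ (m ^ (n + 1)) ψ.hom (fun x hx => Ideal.pow_le_self (Nat.succ_ne_zero n) hx))
  have hψn : nbPr ψ n ≫ ψn = ψ := by ext x; rfl
  let uR : CommAlgCat.of k k ⟶ R := CommAlgCat.ofHom (Algebra.ofId k R)
  let s : tens R B ⟶ R := CommAlgCat.ofHom
    (Algebra.TensorProduct.lift (AlgHom.id k R) ((Algebra.ofId k R).comp ψn.hom) fun _ _ => .all ..)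
  have hsL : inL R B ≫ s = 𝟙 R := by ext x; simp [s]
  have hsR : inR R B ≫ s = ψn ≫ uR := by ext x; simp [s, uR]
  have h1 : ptMap s ≫ cnj (nbIn aU ψ n) R g = 1 := by
    simp only [cnj, MonObj.comp_mul, GrpObj.comp_inv, ← Category.assoc, ← GrassRep.ptMap_comp, hsL, ptMap_id,
      Category.id_comp]
    rw [show ((nbPr ψ n ≫ inR R B) ≫ s) = ψ ≫ uR by rw [Category.assoc, hsR, ← Category.assoc, hψn],
      GrassRep.ptMap_comp, Category.assoc, hψ, MonObj.comp_one]
    group
  -- the kernel of `s` is nilpotent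
  let J : Ideal (tens R B) := (m.map (Ideal.Quotient.mk (m ^ (n + 1)))).map (inR R B).hom.toRingHom
  have hJ : J ^ (n + 1) = ⊥ := by
    rw [← Ideal.map_pow, ← Ideal.map_pow, Ideal.map_quotient_self, Ideal.map_bot]
  have hker : RingHom.ker s.hom ≤ J := by
    intro z hz
    suffices h : z - (inL R B).hom (s.hom z) ∈ J by
      rwa [RingHom.mem_ker.1 hz, map_zero, sub_zero] at h
    clear hz
    induction z using TensorProduct.induction_on with
    | zero => simp
    | tmul r b =>
      have e : r ⊗ₜ[k] b - (inL R B).hom (s.hom (r ⊗ₜ[k] b)) =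
          (r ⊗ₜ[k] (1 : B)) * (inR R B).hom (b - algebraMap k B (ψn.hom b)) := by
        simp [s, mul_sub, Algebra.smul_def, _root_.mul_comm r, TensorProduct.tmul_sub]
        rw [Algebra.algebraMap_eq_smul_one (A := B), TensorProduct.tmul_smul, TensorProduct.smul_tmul', Algebra.smul_def, _root_.mul_comm]
      rw [e]
      refine Ideal.mul_mem_left _ _ (Ideal.mem_map_of_mem _ ?_)
      obtain ⟨a, rfl⟩ := Ideal.Quotient.mk_surjective b
      rw [← Ideal.Quotient.mk_algebraMap, ← map_sub]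
      refine Ideal.mem_map_of_mem _ ?_
      show ψ.hom (a - algebraMap k A (ψn.hom (Ideal.Quotient.mk _ a))) = 0
      rw [map_sub, AlgHom.commutes]
      exact sub_self _
    | add x y hx hy =>
      rw [map_add, map_add, add_sub_add_comm]
      exact add_mem hx hy
  have hnil : RingHom.ker s.hom ≤ nilradical (tens R B) := fun z hz =>
    mem_nilradical.2 ⟨n + 1, by rw [← Ideal.mem_bot, ← hJ]; exact Ideal.pow_mem_pow (hker hz) _⟩
  have := surjective_ptMap s (fun r => ⟨(inL R B).hom r, congr($(hsL).hom r)⟩) hnil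
  obtain ⟨χ, hχ⟩ := exists_pt_lift aU (cnj (nbIn aU ψ n) R g) (by
    rintro _ ⟨t, rfl⟩
    obtain ⟨t', rfl⟩ := (ptMap s).left.surjective t
    rw [← Scheme.Hom.comp_apply, ← Over.comp_left, h1, ← MonObj.comp_one (ptMap uR), ← hψ, ← Category.assoc,
      Over.comp_left, Scheme.Hom.comp_apply]
    exact ⟨_, rfl⟩)
  have : Mono aU := Over.mono_of_mono_left _
  have hsχ : χ ≫ s = ψ ≫ uR := by
    obtain h := congrArg CommaMorphism.left ((cancel_mono aU).1
      (show ptMap (χ ≫ s) ≫ aU = ptMap (ψ ≫ uR) ≫ aU by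
        rw [GrassRep.ptMap_comp, GrassRep.ptMap_comp, Category.assoc, Category.assoc, hχ, h1, hψ, MonObj.comp_one]))
    ext x
    exact congr($(Spec.map_injective h).hom x)
  have hz : ∀ x ∈ m ^ (n + 1), χ.hom x = 0 := by
    have hle : m ≤ J.comap χ.hom.toRingHom := fun x hx => hker (by
      have := congr($(hsχ).hom x)
      exact this.trans (by simp [RingHom.mem_ker.1 hx]))
    intro x hx
    have : χ.hom.toRingHom x ∈ J ^ (n + 1) := by
      refine Ideal.pow_right_mono (Ideal.map_le_iff_le_comap.2 hle) _ ?_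
      rw [← Ideal.map_pow]
      exact Ideal.mem_map_of_mem _ hx
    simpa [hJ] using this
  refine ⟨CommAlgCat.ofHom (Ideal.Quotient.liftₐ (m ^ (n + 1)) χ.hom hz), ?_⟩
  rw [← hχ, ← Category.assoc, ← GrassRep.ptMap_comp]
  rfl

end Chart

/-- An affine neighbourhood of the unit. -/
theorem exists_chart_one [LocallyOfFiniteType G.hom] :
    ∃ (A : CommAlgCat.{u} k) (aU : Pt A ⟶ G) (ψ : A ⟶ CommAlgCat.of k k),
      IsOpenImmersion aU.left ∧ Algebra.FiniteType k A ∧ ptMap ψ ≫ aU = 1 := by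
  obtain ⟨S₀, A, f, hf, hcov⟩ := exists_cover G
  let e : Pt (CommAlgCat.of k k) ⟶ G := 1
  obtain ⟨i, hi⟩ := hcov (e.left (IsLocalRing.closedPoint k))
  have := hf i
  obtain ⟨ψ, hψ⟩ := exists_pt_lift (f i) e (by
    rintro _ ⟨t, rfl⟩
    rwa [Subsingleton.elim (α := ↥(Spec (CommRingCat.of k))) t (IsLocalRing.closedPoint k)])
  refine ⟨A i, f i, ψ, this, ?_, hψ⟩
  have h : LocallyOfFiniteType (Pt (A i)).hom := by rw [← Over.w (f i)]; infer_instance
  exact RingHom.finiteType_algebraMap.1 ((HasRingHomProperty.Spec_iff (P := @LocallyOfFiniteType)).1 h)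

end Groth.AlgGrp1
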