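import Groth.Agent.AlgGrp1.ImageHom
import Groth.Agent.AlgGrp1.CentreQuot
import Groth.Agent.AlgGrp1.GenericFlat
import Groth.Agent.AlgGrp1.Geom
import Groth.Agent.Agf.ImageSubgroup
import Groth.Agent.Flatmor4.ImageDom

/-!
The subgroup generated by the image of an irreducible variety.
-/

set_option autoImplicit false
universe u

open CategoryTheory Limits MonoidalCategory CartesianMonoidalCategory MonObj GrpObj AlgebraicGeometry
open TopologicalSpace

noncomputable section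

namespace Groth.AlgGrp1

variable {k : Type u} [Field k]

/-- Powers of `Q`. -/
def powObj (Q : Over (Spec (CommRingCat.of k))) : ℕ → Over (Spec (CommRingCat.of k))
  | 0 => 𝟙_ _
  | n + 1 => Q ⊗ powObj Q n

variable {G : Over (Spec (CommRingCat.of k))} [GrpObj G]

/-- The multiplication map of powers. -/
def powHom {Q : Over (Spec (CommRingCat.of k))} (f : Q ⟶ G) : ∀ n, powObj Q n ⟶ G
  | 0 => 1
  | n + 1 => (fst Q (powObj Q n) ≫ f) * (snd Q (powObj Q n) ≫ powHom f n)

/-- a point of the next power -/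
def powCons {Q T : Over (Spec (CommRingCat.of k))} {n : ℕ} (a : T ⟶ Q) (b : T ⟶ powObj Q n) : T ⟶ powObj Q (n + 1) :=
  lift a b

/-- first component -/
def powHead {Q T : Over (Spec (CommRingCat.of k))} {n : ℕ} (t : T ⟶ powObj Q (n + 1)) : T ⟶ Q :=
  t ≫ fst Q (powObj Q n)

/-- remaining components -/
def powTail {Q T : Over (Spec (CommRingCat.of k))} {n : ℕ} (t : T ⟶ powObj Q (n + 1)) : T ⟶ powObj Q n :=
  t ≫ snd Q (powObj Q n)

theorem comp_powHom_zero {Q T : Over (Spec (CommRingCat.of k))} (f : Q ⟶ G) (t : T ⟶ powObj Q 0) :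
    t ≫ powHom f 0 = 1 :=
  MonObj.comp_one t

theorem comp_powHom_succ {Q T : Over (Spec (CommRingCat.of k))} (f : Q ⟶ G) {n : ℕ} (t : T ⟶ powObj Q (n + 1)) :
    t ≫ powHom f (n + 1) = (powHead t ≫ f) * (powTail t ≫ powHom f n) :=
  (MonObj.comp_mul (show T ⟶ Q ⊗ powObj Q n from t) _ _).trans
    (congr_arg₂ (· * ·) (Category.assoc _ _ _).symm (Category.assoc _ _ _).symm)

theorem powCons_powHom {Q T : Over (Spec (CommRingCat.of k))} (f : Q ⟶ G) {n : ℕ} (a : T ⟶ Q)
    (b : T ⟶ powObj Q n) : powCons a b ≫ powHom f (n + 1) = (a ≫ f) * (b ≫ powHom f n) :=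
  (MonObj.comp_mul (lift a b) _ _).trans (congr_arg₂ (· * ·) (lift_fst_assoc _ _ _) (lift_snd_assoc _ _ _))

variable {Q : Over (Spec (CommRingCat.of k))} (f : Q ⟶ G)

local notation "pt" => 𝟙_ (Over (Spec (CommRingCat.of k)))

theorem powHom_mem (n : ℕ) : ∀ t : pt ⟶ powObj Q n,
    t ≫ powHom f n ∈ Subgroup.closure (Set.range fun q : pt ⟶ Q => q ≫ f) := by
  induction n with
  | zero => intro t; rw [comp_powHom_zero]; exact one_mem _
  | succ n ih =>
    intro t
    rw [comp_powHom_succ]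
    exact mul_mem (Subgroup.subset_closure ⟨_, rfl⟩) (ih _)

theorem powHom_one (q₁ : pt ⟶ Q) (hq₁ : q₁ ≫ f = 1) (n : ℕ) : ∃ t : pt ⟶ powObj Q n, t ≫ powHom f n = 1 := by
  induction n with
  | zero => exact ⟨𝟙 _, comp_powHom_zero f _⟩
  | succ n ih =>
    obtain ⟨t, ht⟩ := ih
    exact ⟨powCons q₁ t, by rw [powCons_powHom, hq₁, ht, _root_.mul_one]⟩

theorem powHom_mul (m : ℕ) : ∀ (n : ℕ) (s : pt ⟶ powObj Q m) (t : pt ⟶ powObj Q n),
    ∃ r : pt ⟶ powObj Q (m + n), r ≫ powHom f (m + n) = (s ≫ powHom f m) * (t ≫ powHom f n) := by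
  induction m with
  | zero =>
    intro n s t
    rw [Nat.zero_add]
    exact ⟨t, by rw [comp_powHom_zero, _root_.one_mul]⟩
  | succ m ih =>
    intro n s t
    obtain ⟨r, hr⟩ := ih n (powTail s) t
    rw [Nat.add_right_comm]
    exact ⟨powCons (powHead s) r, by rw [powCons_powHom, hr, comp_powHom_succ f s, _root_.mul_assoc]⟩

theorem powHom_inv (hinv : ∀ q : pt ⟶ Q, ∃ q' : pt ⟶ Q, q' ≫ f = (q ≫ f)⁻¹) (n : ℕ) :
    ∀ t : pt ⟶ powObj Q n, ∃ r : pt ⟶ powObj Q n, r ≫ powHom f n = (t ≫ powHom f n)⁻¹ := by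
  induction n with
  | zero => intro t; exact ⟨t, by rw [comp_powHom_zero, inv_one]⟩
  | succ n ih =>
    intro t
    obtain ⟨r, hr⟩ := ih (powTail t)
    obtain ⟨q', hq'⟩ := hinv (powHead t)
    obtain ⟨x, hx⟩ := powHom_mul f n 1 r (powCons q' (𝟙 _))
    refine ⟨x, ?_⟩
    rw [hx, powCons_powHom, comp_powHom_zero, _root_.mul_one, hr, hq', comp_powHom_succ f t, _root_.mul_inv_rev]

theorem powHom_gen (q₁ : pt ⟶ Q) (hq₁ : q₁ ≫ f = 1) (hinv : ∀ q : pt ⟶ Q, ∃ q' : pt ⟶ Q, q' ≫ f = (q ≫ f)⁻¹)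
    (g : pt ⟶ G) (hg : g ∈ Subgroup.closure (Set.range fun q : pt ⟶ Q => q ≫ f)) :
    ∃ n, ∃ t : pt ⟶ powObj Q n, t ≫ powHom f n = g := by
  induction hg using Subgroup.closure_induction with
  | mem g hg =>
    obtain ⟨q, rfl⟩ := hg
    exact ⟨1, powCons q (𝟙 _), by rw [powCons_powHom, comp_powHom_zero, _root_.mul_one]⟩
  | one => exact ⟨0, powHom_one f q₁ hq₁ 0⟩
  | mul g g' _ _ hg hg' =>
    obtain ⟨m, s, rfl⟩ := hg
    obtain ⟨n, t, rfl⟩ := hg'
    exact ⟨_, powHom_mul f m n s t⟩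
  | inv g _ hg =>
    obtain ⟨n, t, rfl⟩ := hg
    exact ⟨n, powHom_inv f hinv n t⟩

variable [IsAlgClosed k]

/-- the image of a rational point -/
abbrev rpt {X : Over (Spec (CommRingCat.of k))} (x : 𝟙_ (Over (Spec (CommRingCat.of k))) ⟶ X) : X.left :=
  x.left.base (IsLocalRing.closedPoint k)

theorem exists_rpt {X : Over (Spec (CommRingCat.of k))} [LocallyOfFiniteType X.hom] {p : X.left}
    (hp : IsClosed ({p} : Set X.left)) : ∃ x : 𝟙_ (Over (Spec (CommRingCat.of k))) ⟶ X, rpt x = p :=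
  ⟨Over.homMk _ ((pointEquivClosedPoint X.hom).symm ⟨p, hp⟩).2, pointOfClosedPoint_apply X.hom p hp _⟩

theorem rpt_closed {X : Over (Spec (CommRingCat.of k))} [LocallyOfFiniteType X.hom]
    (x : 𝟙_ (Over (Spec (CommRingCat.of k))) ⟶ X) : IsClosed ({rpt x} : Set X.left) :=
  (pointEquivClosedPoint X.hom ⟨x.left, Over.w x⟩).2

theorem rpt_injective {X : Over (Spec (CommRingCat.of k))} [LocallyOfFiniteType X.hom]
    {x y : 𝟙_ (Over (Spec (CommRingCat.of k))) ⟶ X} (h : rpt x = rpt y) : x = y :=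
  Over.OverMorphism.ext (congr($((pointEquivClosedPoint X.hom).injective
    (a₁ := ⟨x.left, Over.w x⟩) (a₂ := ⟨y.left, Over.w y⟩) (Subtype.ext h)).1))

/-- A rational point in the image lifts. -/
theorem exists_rpt_lift {X Y : Over (Spec (CommRingCat.of k))} [LocallyOfFiniteType X.hom]
    [LocallyOfFiniteType Y.hom] (f : X ⟶ Y) (y : 𝟙_ (Over (Spec (CommRingCat.of k))) ⟶ Y)
    (h : rpt y ∈ Set.range f.left) : ∃ x : 𝟙_ (Over (Spec (CommRingCat.of k))) ⟶ X, x ≫ f = y := by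
  have := LocallyOfFiniteType.jacobsonSpace X.hom
  obtain ⟨a, ha⟩ := h
  obtain ⟨p, hp, hpc⟩ := nonempty_inter_closedPoints (Z := f.left ⁻¹' {rpt y}) ⟨a, ha⟩
    ((rpt_closed y).preimage f.left.continuous).isLocallyClosed
  obtain ⟨x, hx⟩ := exists_rpt hpc
  refine ⟨x, rpt_injective ?_⟩
  rw [← hp, ← hx]
  rfl

/-- A closed set is determined by its rational points. -/
theorem subset_of_rpt {X : Over (Spec (CommRingCat.of k))} [LocallyOfFiniteType X.hom] {A B : Set X.left}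
    (hA : IsLocallyClosed A) (hB : IsClosed B)
    (h : ∀ x : 𝟙_ (Over (Spec (CommRingCat.of k))) ⟶ X, rpt x ∈ A → rpt x ∈ B) : A ⊆ B := by
  intro z hz
  by_contra hzB
  have := LocallyOfFiniteType.jacobsonSpace X.hom
  obtain ⟨c, ⟨hcA, hcB⟩, hcc⟩ := nonempty_inter_closedPoints (Z := A ∩ Bᶜ) ⟨z, hz, hzB⟩
    (hA.inter hB.isOpen_compl.isLocallyClosed)
  obtain ⟨x, rfl⟩ := exists_rpt hcc
  exact hcB (h x hcA)

variable [LocallyOfFiniteType G.hom] [QuasiCompact G.hom]

/-- **The subgroup generated by an irreducible variety**: a smooth connected closed subgroup whose rational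
points are the subgroup generated by the images of the rational points. -/
theorem exists_generated_subgroup [Smooth Q.hom] [QuasiCompact Q.hom] [GeometricallyIrreducible Q.hom]
    (h1 : ∃ q : 𝟙_ (Over (Spec (CommRingCat.of k))) ⟶ Q, q ≫ f = 1)
    (hinv : ∀ q : 𝟙_ (Over (Spec (CommRingCat.of k))) ⟶ Q, ∃ q' : 𝟙_ (Over (Spec (CommRingCat.of k))) ⟶ Q,
      q' ≫ f = (q ≫ f)⁻¹) :
    ∃ (D : Over (Spec (CommRingCat.of k))) (_ : GrpObj D) (c : D ⟶ G), IsMonHom c ∧ IsClosedImmersion c.left ∧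
      Smooth D.hom ∧ ConnectedSpace D.left ∧
      Set.range (fun d : 𝟙_ (Over (Spec (CommRingCat.of k))) ⟶ D => d ≫ c) =
        (Subgroup.closure (Set.range fun q : 𝟙_ (Over (Spec (CommRingCat.of k))) ⟶ Q => q ≫ f) :
          Set (𝟙_ (Over (Spec (CommRingCat.of k))) ⟶ G)) := by
  classical
  let S := Over (Spec (CommRingCat.of k))
  have := isSeparated_grpObj G
  have := isLocallyNoetherian_left G
  obtain ⟨q₁, hq₁⟩ := h1
  let Γ₀ := Subgroup.closure (Set.range fun q : 𝟙_ S ⟶ Q => q ≫ f)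
  -- the powers
  have hP : ∀ n, Smooth (powObj Q n).hom ∧ QuasiCompact (powObj Q n).hom ∧ IrreducibleSpace (powObj Q n).left := by
    intro n
    induction n with
    | zero =>
      exact ⟨inferInstanceAs (Smooth (𝟙 _)), inferInstanceAs (QuasiCompact (𝟙 _)),
        inferInstanceAs (IrreducibleSpace ↥(Spec (CommRingCat.of k)))⟩
    | succ n ih =>
      obtain ⟨_, _, _⟩ := ih
      exact ⟨inferInstanceAs (Smooth (pullback.fst Q.hom (powObj Q n).hom ≫ Q.hom)),
        inferInstanceAs (QuasiCompact (pullback.fst Q.hom (powObj Q n).hom ≫ Q.hom)),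
        inferInstanceAs (IrreducibleSpace ↥(pullback Q.hom (powObj Q n).hom))⟩
  have hlft : ∀ n, LocallyOfFiniteType (powObj Q n).hom := fun n => by
    have := (hP n).1; infer_instance
  have hqc : ∀ n, QuasiCompact (powObj Q n).hom := fun n => (hP n).2.1
  have hirr : ∀ n, IrreducibleSpace (powObj Q n).left := fun n => (hP n).2.2
  have hmem : ∀ n (t : 𝟙_ S ⟶ powObj Q n), t ≫ powHom f n ∈ Γ₀ := powHom_mem f
  have hone := powHom_one f q₁ hq₁
  have hmul := powHom_mul f
  have hgen := powHom_gen f q₁ hq₁ hinv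
  -- the largest closure
  let C : ℕ → Set G.left := fun n => closure (Set.range (powHom f n).left)
  have hrange : ∀ n, Set.range (powHom f n).left ⊆ C n := fun n => subset_closure
  have hmem' : ∀ n (t : 𝟙_ S ⟶ powObj Q n), rpt (t ≫ powHom f n) ∈ C n := fun n t => hrange n ⟨rpt t, rfl⟩
  have hmono : ∀ n d, C n ⊆ C (n + d) := fun n d => closure_minimal (by
    rintro _ ⟨z, rfl⟩
    suffices h : Set.univ ⊆ (powHom f n).left ⁻¹' C (n + d) from h (Set.mem_univ z)
    refine subset_of_rpt isOpen_univ.isLocallyClosed (isClosed_closure.preimage (powHom f n).left.continuous) fun x _ => ?_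
    obtain ⟨t, ht⟩ := hone d
    obtain ⟨r, hr⟩ := hmul n d x t
    rw [ht, _root_.mul_one] at hr
    exact (show rpt (x ≫ powHom f n) ∈ C (n + d) from hr ▸ hmem' _ r)) isClosed_closure
  have hCirr : ∀ n, IsIrreducible (C n) := fun n => by
    refine IsIrreducible.closure ?_
    rw [← Set.image_univ]
    exact (IrreducibleSpace.isIrreducible_univ _).image _ (powHom f n).left.continuous.continuousOn
  obtain ⟨A, aU, ψ, hU, hA, hψ⟩ := exists_chart_one (G := G)
  have : IsNoetherianRing A := Algebra.FiniteType.isNoetherianRing k A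
  let pr : ℕ → Ideal A := fun n => PrimeSpectrum.vanishingIdeal (aU.left ⁻¹' C n)
  have hne : ∀ n, (aU.left ⁻¹' C n).Nonempty := fun n => by
    obtain ⟨t, ht⟩ := hone n
    refine ⟨(Groth.GrassRep.ptMap ψ).left (IsLocalRing.closedPoint k), ?_⟩
    rw [Set.mem_preimage, ← Scheme.Hom.comp_apply, ← Over.comp_left, hψ, ← MonObj.comp_one (toUnit _), ← ht,
      ← Category.assoc]
    exact hrange n ⟨_, rfl⟩
  have hprime : ∀ n, (pr n).IsPrime := fun n =>
    PrimeSpectrum.isIrreducible_iff_vanishingIdeal_isPrime.1 ⟨hne n, (hCirr n).2.preimage aU.left.isOpenEmbedding⟩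
  obtain ⟨_, ⟨N, rfl⟩, hmin⟩ := (wellFounded_lt (α := ℕ∞)).has_min
    (Set.range fun n => (pr n).height) ⟨_, 0, rfl⟩
  have hmax : ∀ m, C m ⊆ C N := by
    intro m
    refine (show C m ⊆ C (N + m) from Nat.add_comm N m ▸ hmono m N).trans ?_
    have := hprime N
    have := hprime (N + m)
    have heq : pr (N + m) = pr N := by
      refine eq_of_le_of_not_lt (PrimeSpectrum.vanishingIdeal_anti_mono (Set.preimage_mono (hmono N m))) fun hlt => ?_
      exact hmin _ ⟨N + m, rfl⟩ (Ideal.height_strict_mono_of_isPrime_of_isPrime hlt)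
    have h1 : aU.left ⁻¹' C (N + m) ⊆ aU.left ⁻¹' C N :=
      (PrimeSpectrum.vanishingIdeal_anti_mono_iff (isClosed_closure.preimage aU.left.continuous)).2 heq.ge
    have h2 : C (N + m) ⊆ closure (C (N + m) ∩ Set.range aU.left) :=
      subset_closure_inter_of_isPreirreducible_of_isOpen (hCirr _).2 aU.left.isOpenEmbedding.isOpen_range (by
        obtain ⟨x, hx⟩ := hne (N + m)
        exact ⟨aU.left x, hx, x, rfl⟩)
    refine h2.trans (closure_minimal ?_ isClosed_closure)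
    rintro _ ⟨hy, x, rfl⟩
    exact h1 hy
  have hΓC : ∀ g ∈ Γ₀, rpt g ∈ C N := fun g hg => by
    obtain ⟨n, t, rfl⟩ := hgen g hg
    exact hmax n (hmem' n t)
  -- the scheme
  let P := powObj Q N
  let fN : P ⟶ G := powHom f N
  have : Smooth P.hom := (hP N).1
  have : QuasiCompact P.hom := (hP N).2.1
  have : IrreducibleSpace P.left := (hP N).2.2
  have := geometricallyReduced_of_smooth_hom P
  have : QuasiCompact (fN.left ≫ G.hom) := by rw [Over.w]; infer_instance
  have : QuasiCompact fN.left := QuasiCompact.of_comp _ G.hom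
  have : IsSchemeTheoreticallyDominant fN.left.toImage :=
    Groth.Flatmor4.isSchemeTheoreticallyDominant_toImage fN.left
  let D : Over (Spec (CommRingCat.of k)) := Over.mk (fN.left.imageι ≫ G.hom)
  let c : D ⟶ G := Over.homMk fN.left.imageι rfl
  let g : P ⟶ D := Over.homMk fN.left.toImage (by
    show fN.left.toImage ≫ fN.left.imageι ≫ G.hom = P.hom
    rw [Scheme.Hom.toImage_imageι_assoc, Over.w])
  have hgc : g ≫ c = fN := Over.OverMorphism.ext fN.left.toImage_imageι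
  have : IsClosedImmersion c.left := inferInstanceAs (IsClosedImmersion fN.left.imageι)
  have : Mono c := Over.mono_of_mono_left c
  have : IsSchemeTheoreticallyDominant g.left := ‹IsSchemeTheoreticallyDominant fN.left.toImage›
  have : QuasiCompact (g.left ≫ c.left) := by rw [← Over.comp_left, hgc]; infer_instance
  have : QuasiCompact g.left := QuasiCompact.of_comp g.left c.left
  have : LocallyOfFiniteType D.hom := by rw [← Over.w c]; infer_instance
  have : QuasiCompact D.hom := by rw [← Over.w c]; infer_instance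
  have : GeometricallyReduced (g.left ≫ D.hom) := by rw [Over.w]; infer_instance
  have : GeometricallyReduced D.hom := Groth.Agf.geometricallyReduced_of_dominant g.left D.hom
  have := isReduced_left D
  have hrc : Set.range c.left = C N := by
    refine subset_antisymm ?_ (closure_minimal ?_ c.left.isClosedEmbedding.isClosed_range)
    · rintro _ ⟨z, rfl⟩
      have : c.left z ∈ c.left '' closure (Set.range g.left) :=
        ⟨z, by rw [g.left.denseRange.closure_range]; trivial, rfl⟩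
      refine closure_mono ?_ (image_closure_subset_closure_image c.left.continuous this)
      rintro _ ⟨_, ⟨w, rfl⟩, rfl⟩
      exact ⟨w, by rw [← Scheme.Hom.comp_apply, ← Over.comp_left, hgc]⟩
    · rintro _ ⟨w, rfl⟩
      exact ⟨g.left w, by rw [← Scheme.Hom.comp_apply, ← Over.comp_left, hgc]⟩
  have hpts : ∀ x : 𝟙_ S ⟶ G, rpt x ∈ C N ↔ ∃ d : 𝟙_ S ⟶ D, d ≫ c = x := fun x => by
    rw [← hrc]
    exact ⟨exists_rpt_lift c x, fun ⟨d, hd⟩ => ⟨rpt d, hd ▸ rfl⟩⟩
  -- the group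
  obtain ⟨hd1, hq1⟩ := Groth.Agf.dominant_whiskerRight g P
  obtain ⟨hd2, hq2⟩ := Groth.Agf.dominant_whiskerLeft g D
  have : IsSchemeTheoreticallyDominant (g ▷ P ≫ D ◁ g).left := by rw [Over.comp_left]; infer_instance
  have : LocallyOfFiniteType (P ⊗ P).hom :=
    inferInstanceAs (LocallyOfFiniteType (pullback.fst P.hom P.hom ≫ P.hom))
  have : Smooth (P ⊗ P).hom := inferInstanceAs (Smooth (pullback.fst P.hom P.hom ≫ P.hom))
  have hred : ∀ (T : Over (Spec (CommRingCat.of k))) [Smooth T.hom] [LocallyOfFiniteType T.hom] (u : T ⟶ G),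
      (∀ t : 𝟙_ S ⟶ T, rpt (t ≫ u) ∈ C N) → ∃ z : T ⟶ D, z ≫ c = u := fun T _ _ u hu => by
    have := geometricallyReduced_of_smooth_hom T
    have := isReduced_left T
    refine exists_factor_of_range_subset c u ?_
    rw [hrc]
    rintro _ ⟨z, rfl⟩
    suffices h : Set.univ ⊆ u.left ⁻¹' C N from h (Set.mem_univ z)
    exact subset_of_rpt isOpen_univ.isLocallyClosed (isClosed_closure.preimage u.left.continuous) fun x _ => hu x
  have hgΓ : ∀ t : 𝟙_ S ⟶ P, t ≫ fN ∈ Γ₀ := hmem N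
  obtain ⟨z, hz⟩ := hred (P ⊗ P) ((fst P P ≫ fN) * (snd P P ≫ fN)) fun t => hΓC _ (by
    rw [MonObj.comp_mul, ← Category.assoc, ← Category.assoc]
    exact mul_mem (hgΓ _) (hgΓ _))
  obtain ⟨m, hm⟩ := Groth.Agf.exists_lift_of_dominant_over c ((fst D D ≫ c) * (snd D D ≫ c)) (g ▷ P ≫ D ◁ g) z (by
    rw [hz, MonObj.comp_mul, ← hgc]
    simp)
  obtain ⟨z', hz'⟩ := hred P fN⁻¹ fun t => hΓC _ (by rw [GrpObj.comp_inv]; exact inv_mem (hgΓ _))
  obtain ⟨v, hv⟩ := Groth.Agf.exists_lift_of_dominant_over c c⁻¹ g z' (by rw [hz', GrpObj.comp_inv, hgc])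
  obtain ⟨o, ho⟩ := (hpts 1).1 (hΓC 1 (one_mem _))
  obtain ⟨_, hmc⟩ := Groth.Agf.exists_grpObj_of_subgroup c (fun T y => ∃ z : T ⟶ D, z ≫ c = y) (fun _ _ => Iff.rfl)
    (fun T => ⟨toUnit T ≫ o, by rw [Category.assoc, ho, MonObj.comp_one]⟩)
    (fun T a b ⟨x, hx⟩ ⟨y, hy⟩ => ⟨lift x y ≫ m, by
      rw [Category.assoc, hm, MonObj.comp_mul, lift_fst_assoc, lift_snd_assoc, hx, hy]⟩)
    (fun T a ⟨x, hx⟩ => ⟨x ≫ v, by rw [Category.assoc, hv, GrpObj.comp_inv, hx]⟩)
  have hgd : DenseRange g.left := g.left.denseRange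
  have hDirr : IrreducibleSpace D.left := by
    have h : IsIrreducible (Set.univ : Set D.left) := by
      rw [← hgd.closure_range, ← Set.image_univ]
      exact ((IrreducibleSpace.isIrreducible_univ _).image _ g.left.continuous.continuousOn).closure
    have : PreirreducibleSpace D.left := ⟨h.2⟩
    exact { toNonempty := ⟨h.1.some⟩ }
  refine ⟨D, _, c, ‹_›, ‹_›, Groth.GrpschAbsch.smooth_of_geometricallyReduced D, inferInstance,
    subset_antisymm ?_ fun x hx => (hpts x).1 (hΓC x hx)⟩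
  rintro _ ⟨d, rfl⟩
  -- an open subset of the image
  have := isLocallyNoetherian_left D
  have : CompactSpace D.left := QuasiCompact.compactSpace_of_compactSpace D.hom
  have : AlgebraicGeometry.IsNoetherian D.left := ⟨⟩
  have := lfp_left g
  obtain ⟨V, hVne, hV⟩ := exists_flat_restrict g.left
  have hO : IsOpen (Set.range g.left ∩ (V : Set D.left)) := by
    have h := V.ι.isOpenMap _ (g.left ∣_ V).isOpenMap.isOpen_range
    convert h using 1
    ext y
    constructor
    · rintro ⟨⟨x, rfl⟩, hy⟩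
      exact ⟨(g.left ∣_ V) ⟨x, hy⟩, ⟨_, rfl⟩, by
        rw [← Scheme.Hom.comp_apply, morphismRestrict_ι]; rfl⟩
    · rintro ⟨_, ⟨x, rfl⟩, rfl⟩
      refine ⟨⟨(g.left ⁻¹ᵁ V).ι x, ?_⟩, ((g.left ∣_ V) x).2⟩
      rw [← Scheme.Hom.comp_apply, ← Scheme.Hom.comp_apply, morphismRestrict_ι]
  set O := Set.range g.left ∩ (V : Set D.left)
  have hOne : O.Nonempty := by
    obtain ⟨y, hy, hy'⟩ := hgd.inter_open_nonempty _ V.2 hVne |>.imp fun y h => (⟨h.2, h.1⟩ : y ∈ O)
    exact ⟨y, hy, hy'⟩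
  let α : D ⟶ D := (toUnit D ≫ d) * (𝟙 D)⁻¹
  let β : D ⟶ D := (𝟙 D)⁻¹ * (toUnit D ≫ d)
  have hβα : β ≫ α = 𝟙 D := by
    simp only [α, MonObj.comp_mul, GrpObj.comp_inv, Category.comp_id, ← Category.assoc]
    rw [toUnit_unique (β ≫ toUnit D) (toUnit D)]
    simp [β]
  have h2 : (α.left ⁻¹' O).Nonempty := by
    obtain ⟨y, hy⟩ := hOne
    refine ⟨β.left y, ?_⟩
    rw [Set.mem_preimage, ← Scheme.Hom.comp_apply, ← Over.comp_left, hβα]
    exact hy
  have := LocallyOfFiniteType.jacobsonSpace D.hom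
  obtain ⟨y, ⟨hy1, hy2⟩, hyc⟩ := nonempty_inter_closedPoints
    (nonempty_preirreducible_inter hO (hO.preimage α.left.continuous) hOne h2)
    (hO.inter (hO.preimage α.left.continuous)).isLocallyClosed
  obtain ⟨y', rfl⟩ := exists_rpt hyc
  have hy2' : rpt (y' ≫ α) ∈ O := hy2
  obtain ⟨s, hs⟩ := exists_rpt_lift g y' hy1.1
  obtain ⟨t, ht⟩ := exists_rpt_lift g (y' ≫ α) hy2'.1
  have hd' : d = (y' ≫ α) * y' := by
    simp only [α, MonObj.comp_mul, GrpObj.comp_inv, Category.comp_id, ← Category.assoc]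
    rw [toUnit_unique (y' ≫ toUnit D) (𝟙 _), Category.id_comp, inv_mul_cancel_right]
  show d ≫ c ∈ Γ₀
  rw [hd', MonObj.mul_comp, ← ht, ← hs, Category.assoc, Category.assoc, hgc]
  exact mul_mem (hgΓ _) (hgΓ _)

end Groth.AlgGrp1
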