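import Groth.Agent.Variety2.CotangentAlg
import Mathlib.Algebra.DualNumber
import Mathlib.RingTheory.Smooth.Locus
import Mathlib.RingTheory.Spectrum.Prime.Chevalley
import Mathlib.RingTheory.Localization.AtPrime.Basic

/-!
A map from a smooth variety which is surjective on tangent vectors at one point has image containing a
nonempty open set.
-/

set_option autoImplicit false
universe u

open TensorProduct IsLocalRing
open scoped DualNumber

noncomputable section

namespace Groth.AlgGrp1.TangentOpen

variable {k : Type u} [Field k]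

/-- An element killed by all tangent vectors at a rational point lies in the square of its ideal. -/
theorem mem_sq_of_tangent {A : Type u} [CommRing A] [Algebra k A] (p : A →ₐ[k] k) {a : A} (ha : p a = 0)
    (h : ∀ P : A →ₐ[k] k[ε], (∀ x, (P x).fst = p x) → P a = 0) : a ∈ RingHom.ker p ^ 2 := by
  classical
  set I := RingHom.ker p ^ 2 with hI
  by_contra hna
  have hne : Ideal.Quotient.mk I a ≠ 0 := fun e => hna (Ideal.Quotient.eq_zero_iff_mem.1 e)
  obtain ⟨ψ, hψ⟩ : ∃ ψ : Module.Dual k (A ⧸ I), ψ (Ideal.Quotient.mk I a) ≠ 0 := by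
    by_contra hall
    push Not at hall
    exact hne ((Module.forall_dual_apply_eq_zero_iff k _).1 hall)
  let φ : A → k := fun x => ψ (Ideal.Quotient.mk I (x - algebraMap k A (p x)))
  have hmem : ∀ x, x - algebraMap k A (p x) ∈ RingHom.ker p := fun x => by
    rw [RingHom.mem_ker, map_sub, AlgHom.commutes, Algebra.algebraMap_self, RingHom.id_apply, sub_self]
  have hmul : ∀ x y, φ (x * y) = p x * φ y + φ x * p y := by
    intro x y
    have e : x * y - algebraMap k A (p (x * y)) - (p x • (y - algebraMap k A (p y)) +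
        p y • (x - algebraMap k A (p x))) = (x - algebraMap k A (p x)) * (y - algebraMap k A (p y)) := by
      rw [map_mul, map_mul, Algebra.smul_def, Algebra.smul_def]
      ring
    have e' : Ideal.Quotient.mk I (x * y - algebraMap k A (p (x * y))) =
        Ideal.Quotient.mkₐ k I (p x • (y - algebraMap k A (p y)) + p y • (x - algebraMap k A (p x))) := by
      rw [Ideal.Quotient.mkₐ_eq_mk, Ideal.Quotient.eq, e, hI, pow_two]
      exact Ideal.mul_mem_mul (hmem x) (hmem y)
    show ψ _ = p x * ψ _ + ψ _ * p y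
    rw [e', map_add, map_smul, map_smul, map_add, map_smul, map_smul, smul_eq_mul, smul_eq_mul,
      mul_comm (p y), Ideal.Quotient.mkₐ_eq_mk]
  let P : A →ₐ[k] k[ε] :=
    { toFun := fun x => TrivSqZeroExt.inl (p x) + TrivSqZeroExt.inr (φ x)
      map_one' := by
        refine TrivSqZeroExt.ext (by simp) ?_
        simp [φ]
      map_mul' := fun x y => by
        refine TrivSqZeroExt.ext (by simp) ?_
        simp [hmul x y, mul_comm (φ x)]
      map_zero' := by
        refine TrivSqZeroExt.ext (by simp) ?_
        simp [φ]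
      map_add' := fun x y => by
        refine TrivSqZeroExt.ext (by simp) ?_
        have e : φ (x + y) = φ x + φ y := by
          show ψ _ = ψ _ + ψ _
          rw [← map_add ψ, ← map_add (Ideal.Quotient.mk I), map_add p, map_add (algebraMap k A)]
          congr 2
          ring
        simp [e]
      commutes' := fun r => by
        refine TrivSqZeroExt.ext (by simp [TrivSqZeroExt.algebraMap_eq_inl]) ?_
        simp [φ, TrivSqZeroExt.algebraMap_eq_inl] }
  have h1 := congrArg TrivSqZeroExt.snd (h P fun x => by simp [P])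
  simp only [P, AlgHom.coe_mk, RingHom.coe_mk, MonoidHom.coe_mk, OneHom.coe_mk, TrivSqZeroExt.snd_add,
    TrivSqZeroExt.snd_inl, TrivSqZeroExt.snd_inr, zero_add, TrivSqZeroExt.snd_zero, φ, ha, map_zero,
    sub_zero] at h1
  exact hψ h1

/-- A tangent vector kills the square of the ideal of its point. -/
theorem apply_eq_zero_of_mem_sq {A : Type u} [CommRing A] [Algebra k A] {p : A →ₐ[k] k} {P : A →ₐ[k] k[ε]}
    (hP : ∀ x, (P x).fst = p x) {a : A} (ha : a ∈ RingHom.ker p ^ 2) : P a = 0 := by
  have h1 : RingHom.ker p ≤ (Ideal.span {(DualNumber.eps : k[ε])}).comap P := by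
    intro x hx
    rw [Ideal.mem_comap, Ideal.mem_span_singleton']
    refine ⟨TrivSqZeroExt.inl (P x).snd, TrivSqZeroExt.ext ?_ ?_⟩
    · simp [hP x, RingHom.mem_ker.1 hx]
    · simp
  have h2 : RingHom.ker p ^ 2 ≤ ((Ideal.span {(DualNumber.eps : k[ε])}) ^ 2).comap P :=
    (pow_le_pow_left' h1 2).trans (Ideal.le_comap_pow _ 2)
  have h3 := h2 ha
  rw [Ideal.mem_comap, Ideal.span_singleton_pow, pow_two, DualNumber.eps_mul_eps,
    Ideal.span_singleton_eq_bot.2 rfl, Ideal.mem_bot] at h3
  exact h3

variable [IsAlgClosed k]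

/-- **A map from a smooth variety which is surjective on tangent vectors at a rational point has image
containing a nonempty open set.** -/
theorem exists_open_range {A D : Type u} [CommRing A] [Algebra k A] [Algebra.FiniteType k A] [CommRing D]
    [Algebra k D] [Algebra.Smooth k D] (f : A →ₐ[k] D) (p : D →ₐ[k] k)
    (h : ∀ P : A →ₐ[k] k[ε], (∀ x, (P x).fst = p (f x)) →
      ∃ Q : D →ₐ[k] k[ε], (∀ y, (Q y).fst = p y) ∧ Q.comp f = P) :
    ∃ U : Set (PrimeSpectrum A), IsOpen U ∧ U.Nonempty ∧ U ⊆ Set.range (PrimeSpectrum.comap (f : A →+* D)) := by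
  letI : Algebra A D := f.toRingHom.toAlgebra
  haveI : IsScalarTower k A D := IsScalarTower.of_algebraMap_eq fun r => (f.commutes r).symm
  haveI : IsNoetherianRing A := Algebra.FiniteType.isNoetherianRing k A
  haveI : Algebra.FiniteType A D := Algebra.FiniteType.of_restrictScalars_finiteType k A D
  haveI : Algebra.FinitePresentation A D := Algebra.FinitePresentation.of_finiteType.1 inferInstance
  let q : A →ₐ[k] k := p.comp f
  have hqs : Function.Surjective q := fun r => ⟨algebraMap k A r, q.commutes r⟩
  have hps : Function.Surjective p := fun r => ⟨algebraMap k D r, p.commutes r⟩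
  let 𝔭 : Ideal D := RingHom.ker p
  let 𝔮 : Ideal A := RingHom.ker q
  haveI h𝔭 : 𝔭.IsMaximal := RingHom.ker_isMaximal_of_surjective p hps
  haveI h𝔮 : 𝔮.IsMaximal := RingHom.ker_isMaximal_of_surjective q hqs
  let Aq := Localization.AtPrime 𝔮
  let Dp := Localization.AtPrime 𝔭
  letI : Algebra Aq Dp := (Localization.localRingHom 𝔮 𝔭 (algebraMap A D) rfl).toAlgebra
  haveI : IsScalarTower A Aq Dp := IsScalarTower.of_algebraMap_eq fun a => by
    rw [RingHom.algebraMap_toAlgebra, Localization.localRingHom_to_map, ← IsScalarTower.algebraMap_apply A D Dp]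
  haveI : IsScalarTower k Aq Dp := IsScalarTower.of_algebraMap_eq fun r => by
    rw [IsScalarTower.algebraMap_apply k A Aq, ← IsScalarTower.algebraMap_apply A Aq Dp,
      ← IsScalarTower.algebraMap_apply k A Dp]
  haveI : IsLocalHom (algebraMap Aq Dp) := by
    rw [RingHom.algebraMap_toAlgebra]
    exact Localization.isLocalHom_localRingHom _ _ _ _
  haveI : Algebra.EssFiniteType k Aq := inferInstance
  haveI : Algebra.EssFiniteType k Dp := inferInstance
  haveI : Algebra.FormallySmooth k Dp := by
    have h := Algebra.smoothLocus_eq_univ (R := k) (A := D)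
    exact (Set.eq_univ_iff_forall.1 h ⟨𝔭, inferInstance⟩ :)
  have hres : ∀ {E : Type u} [CommRing E] [Algebra k E] (e : E →ₐ[k] k) [(RingHom.ker e).IsPrime],
      Function.Bijective (algebraMap k (ResidueField (Localization.AtPrime (RingHom.ker e)))) := by
    intro E _ _ e _
    refine ⟨RingHom.injective _, fun y => ?_⟩
    obtain ⟨y, rfl⟩ := IsLocalRing.residue_surjective y
    obtain ⟨a, s, rfl⟩ := IsLocalization.exists_mk'_eq (RingHom.ker e).primeCompl y
    have hs : e s.1 ≠ 0 := fun h => s.2 (RingHom.mem_ker.2 h)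
    have key : ∀ x : E, residue (Localization.AtPrime (RingHom.ker e)) (algebraMap E _ x) =
        algebraMap k (ResidueField (Localization.AtPrime (RingHom.ker e))) (e x) := by
      intro x
      rw [IsScalarTower.algebraMap_apply k (Localization.AtPrime (RingHom.ker e)), ResidueField.algebraMap_eq,
        IsScalarTower.algebraMap_apply k E (Localization.AtPrime (RingHom.ker e)), ← sub_eq_zero, ← map_sub,
        ← map_sub, residue_eq_zero_iff, IsLocalization.AtPrime.to_map_mem_maximal_iff _ (RingHom.ker e),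
        RingHom.mem_ker, map_sub, AlgHom.commutes, Algebra.algebraMap_self, RingHom.id_apply, sub_self]
    refine ⟨e a / e s.1, mul_right_cancel₀ (b := algebraMap k (ResidueField (Localization.AtPrime (RingHom.ker e))) (e s.1))
      ((map_ne_zero _).2 hs) ?_⟩
    rw [← map_mul, div_mul_cancel₀ _ hs, ← key s.1, ← map_mul, IsLocalization.mk'_spec, key]
  haveI : Algebra.FormallySmooth Aq Dp := by
    refine (Groth.Variety2.CotAlg.formallySmooth_iff (A := Aq) (B := Dp) k (hres q) (hres p)).2 ?_
    refine (injective_iff_map_eq_zero _).2 fun v hv => ?_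
    obtain ⟨⟨x, hx⟩, rfl⟩ := Ideal.toCotangent_surjective _ v
    rw [Ideal.mapCotangent_toCotangent, Ideal.toCotangent_eq_zero] at hv
    rw [Ideal.toCotangent_eq_zero]
    obtain ⟨a, s, rfl⟩ := IsLocalization.exists_mk'_eq 𝔮.primeCompl x
    have hA : IsUnit (algebraMap A Aq s.1) := IsLocalization.map_units Aq s
    have ha : a ∈ 𝔮 := (IsLocalization.AtPrime.mk'_mem_maximal_iff (S := Aq) 𝔮 a s).1 hx
    have hfa : algebraMap D Dp (f a) ∈ maximalIdeal Dp ^ 2 := by
      have e : algebraMap D Dp (f a) = algebraMap Aq Dp (IsLocalization.mk' Aq a s) * algebraMap Aq Dp (algebraMap A Aq s.1) := by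
        rw [← map_mul, IsLocalization.mk'_spec, ← IsScalarTower.algebraMap_apply A Aq Dp,
          IsScalarTower.algebraMap_apply A D Dp]
        rfl
      rw [e]
      exact Ideal.mul_mem_right _ _ hv
    rw [← IsLocalization.AtPrime.map_eq_maximalIdeal 𝔭 Dp, ← Ideal.map_pow,
      IsLocalization.algebraMap_mem_map_algebraMap_iff 𝔭.primeCompl Dp] at hfa
    obtain ⟨t, ht, htf⟩ := hfa
    have hsq : a ∈ RingHom.ker q ^ 2 := mem_sq_of_tangent q ha fun P hP => by
      obtain ⟨Q, hQ, hQP⟩ := h P hP
      have hz := apply_eq_zero_of_mem_sq hQ htf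
      rw [map_mul] at hz
      have hu : IsUnit (Q t) := TrivSqZeroExt.isUnit_iff_isUnit_fst.2 (by
        rw [hQ]
        exact isUnit_iff_ne_zero.2 fun e0 => ht (RingHom.mem_ker.2 e0))
      rw [← hQP, AlgHom.comp_apply]
      exact hu.mul_right_eq_zero.1 hz
    obtain ⟨u, hu⟩ := hA
    have hx' : (IsLocalization.mk' Aq a s : Aq) = algebraMap A Aq a * (u⁻¹ : Aqˣ) := by
      rw [Units.eq_mul_inv_iff_mul_eq, hu, IsLocalization.mk'_spec]
    show (IsLocalization.mk' Aq a s : Aq) ∈ maximalIdeal Aq ^ 2
    simp only [hx']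
    refine Ideal.mul_mem_right _ _ ?_
    rw [← IsLocalization.AtPrime.map_eq_maximalIdeal 𝔮 Aq, ← Ideal.map_pow]
    exact Ideal.mem_map_of_mem _ hsq
  haveI : Algebra.FormallySmooth A Aq := Algebra.FormallySmooth.of_isLocalization 𝔮.primeCompl
  haveI : Algebra.IsSmoothAt A 𝔭 := Algebra.FormallySmooth.comp A Aq Dp
  obtain ⟨g, hg, hgs⟩ := Algebra.IsSmoothAt.exists_notMem_smooth (R := A) 𝔭
  have hopen : IsOpenMap (PrimeSpectrum.comap (algebraMap A (Localization.Away g))) :=
    PrimeSpectrum.isOpenMap_comap_of_hasGoingDown_of_finitePresentation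
  refine ⟨_, hopen.isOpen_range, ?_, ?_⟩
  · have : Nontrivial (Localization.Away g) :=
      (IsLocalization.Away.lift g (g := (p : D →+* k))
        (isUnit_iff_ne_zero.2 fun e => hg (RingHom.mem_ker.2 e)) : Localization.Away g →+* k).domain_nontrivial
    exact Set.range_nonempty _
  · rintro _ ⟨z, rfl⟩
    refine ⟨PrimeSpectrum.comap (algebraMap D (Localization.Away g)) z, ?_⟩
    rw [IsScalarTower.algebraMap_eq A D (Localization.Away g), PrimeSpectrum.comap_comp]
    rfl

end Groth.AlgGrp1.TangentOpen
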