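import Groth.Agent.AlgGrp1.CentTorus
import Groth.Agent.AlgGrp1.BorelField
import Groth.Agent.Reductive.BaseChangeMT

/-!
Tori and centralizers under extensions of the ground field.
-/

set_option autoImplicit false
set_option linter.style.haveILetI false
universe u

open CategoryTheory Limits MonoidalCategory CartesianMonoidalCategory MonObj GrpObj AlgebraicGeometry
open TensorProduct
open Groth.AlgGrp2

noncomputable section

namespace Groth.AlgGrp1

variable {k : Type u} [Field k] {K : Type u} [Field K] (φ : Spec (CommRingCat.of K) ⟶ Spec (CommRingCat.of k))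

/-- A torus stays a torus after extending the field. -/
theorem isTorus_bc {T : Over (Spec (CommRingCat.of k))} [GrpObj T] (hT : Red.IsTorus T) :
    Red.IsTorus (Red.bc φ T) := by
  obtain ⟨r, L, _, _, ⟨hL⟩⟩ := exists_split_field_of_isTorus hT
  obtain ⟨ψ, rfl⟩ := Spec.map_surjective φ
  letI : Algebra k K := ψ.hom.toAlgebra
  obtain ⟨m, hm⟩ := Ideal.exists_maximal (L ⊗[k] K)
  letI : Field ((L ⊗[k] K) ⧸ m) := Ideal.Quotient.field m
  let Ω := (L ⊗[k] K) ⧸ m
  let a : L →+* Ω := (Ideal.Quotient.mk m).comp Algebra.TensorProduct.includeLeftRingHom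
  let b : K →+* Ω :=
    (Ideal.Quotient.mk m).comp (Algebra.TensorProduct.includeRight : K →ₐ[k] L ⊗[k] K).toRingHom
  let f : Spec (CommRingCat.of Ω) ⟶ Spec (CommRingCat.of K) := Spec.map (CommRingCat.ofHom b)
  let j : Spec (CommRingCat.of Ω) ⟶ Spec (CommRingCat.of L) := Spec.map (CommRingCat.ofHom a)
  have hab : j ≫ str k L = f ≫ Spec.map ψ := by
    show Spec.map _ ≫ Spec.map _ = Spec.map _ ≫ Spec.map _
    rw [← Spec.map_comp, ← Spec.map_comp]
    congr 1
    ext c
    simp only [CommRingCat.hom_comp, CommRingCat.hom_ofHom, RingHom.comp_apply, a, b]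
    change Ideal.Quotient.mk m (algebraMap k L c ⊗ₜ[k] (1 : K)) =
      Ideal.Quotient.mk m ((1 : L) ⊗ₜ[k] algebraMap k K c)
    rw [Algebra.algebraMap_eq_smul_one, Algebra.algebraMap_eq_smul_one, TensorProduct.smul_tmul]
  let e₀ : Red.DS (Spec (CommRingCat.of L)) (Fin r → ℤ) ≅ Red.bc (str k L) T :=
    (Grp.forget _).mapIso hL.symm
  haveI : IsMonHom e₀.hom := inferInstanceAs (IsMonHom hL.inv.hom.hom)
  obtain ⟨i, hi⟩ := Groth.Reductive.FreeDiag.exists_trivialisation_comp T j (str k L) e₀
  obtain ⟨i', hi'⟩ := Groth.Reductive.FreeDiag.exists_bc_comp_iso T f (Spec.map ψ)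
  haveI := hi'
  revert i
  rw [hab]
  intro i hi
  haveI := hi
  let e' : Red.DS (Spec (CommRingCat.of Ω)) (Fin r → ℤ) ≅ Red.bc f (Red.bc (Spec.map ψ) T) := i ≪≫ i'.symm
  haveI : IsMonHom i'.symm.hom := inferInstanceAs (IsMonHom i'.inv)
  haveI : IsMonHom e'.hom := by
    simp only [e', Iso.trans_hom]
    infer_instance
  have hs : Surjective f := ⟨fun x => ⟨IsLocalRing.closedPoint Ω, Subsingleton.elim _ _⟩⟩
  refine ⟨Spec (CommRingCat.of Ω), f, flat_fieldMap f, hs, fun V hV => ⟨_,
    (hV.preimage f).isCompact, Set.image_preimage_eq _ hs.surj⟩, fun s' => ⟨⊤, trivial, r, ?_⟩⟩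
  obtain ⟨i'', hi''⟩ := Groth.Reductive.FreeDiag.exists_trivialisation_comp (Red.bc (Spec.map ψ) T)
    (⊤ : (Spec (CommRingCat.of Ω)).Opens).ι f e'
  haveI := hi''
  exact ⟨(Grp.mkIso' i'').symm⟩

/-- The base change of a monomorphism is a monomorphism. -/
theorem mono_bc {H G : Over (Spec (CommRingCat.of k))} (i : H ⟶ G) [Mono i] :
    Mono ((Over.pullback φ).map i) := inferInstance

/-- Centralizers are stable under extensions of the field. -/
theorem isCentralizerOf_bc {G H Z : Over (Spec (CommRingCat.of k))} [GrpObj G] [GrpObj H] [GrpObj Z]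
    {i : H ⟶ G} {j : Z ⟶ G} (h : Red.IsCentralizerOf i j) :
    Red.IsCentralizerOf ((Over.pullback φ).map i) ((Over.pullback φ).map j) := by
  obtain ⟨hm, hmono, hp⟩ := h
  refine ⟨Groth.Abvar.isMonHom_map (f := φ) j, inferInstance, fun X g => ?_⟩
  constructor
  · rintro ⟨z, rfl⟩ X' x y
    refine bcPt_injective φ ?_
    have h1 := (hp ((Over.map φ).obj X) (bcPt φ z ≫ j)).1 ⟨_, rfl⟩ _ ((Over.map φ).map x) (bcPt φ y)
    rw [bcPt_mul, bcPt_mul, bcPt_comp φ x (z ≫ _), bcPt_comp_map, bcPt_comp_map]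
    exact h1
  · intro hg
    obtain ⟨z, hz⟩ := (hp ((Over.map φ).obj X) (bcPt φ g)).2 fun W x y => by
      let W' : Over (Spec (CommRingCat.of K)) := Over.mk (x.left ≫ X.hom)
      let x' : W' ⟶ X := Over.homMk x.left rfl
      let e : W ⟶ (Over.map φ).obj W' := Over.homMk (𝟙 _) (by
        show 𝟙 _ ≫ (x.left ≫ X.hom) ≫ φ = W.hom
        rw [Category.id_comp, Category.assoc]
        exact Over.w x)
      let e' : (Over.map φ).obj W' ⟶ W := Over.homMk (𝟙 _) (by
        show 𝟙 _ ≫ W.hom = (x.left ≫ X.hom) ≫ φ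
        rw [Category.id_comp, Category.assoc]
        exact (Over.w x).symm)
      have h1 := congrArg (fun t => e ≫ bcPt φ t) (hg W' x' (bcPtInv φ (e' ≫ y)))
      simp only [bcPt_mul] at h1
      rw [bcPt_comp φ x' g, bcPt_comp_map, bcPt_bcPtInv, MonObj.comp_mul, MonObj.comp_mul] at h1
      have hx : e ≫ (Over.map φ).map x' = x := Over.OverMorphism.ext (Category.id_comp _)
      have he : e ≫ e' = 𝟙 W := Over.OverMorphism.ext (Category.id_comp _)
      simp only [← Category.assoc, hx, he, Category.id_comp] at h1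
      exact h1
    exact ⟨bcPtInv φ z, bcPt_injective φ (by rw [bcPt_comp_map, bcPt_bcPtInv, hz])⟩

/-- Connectedness descends. -/
theorem connectedSpace_of_bc {X : Over (Spec (CommRingCat.of k))} [ConnectedSpace (Red.bc φ X).left] :
    ConnectedSpace X.left := by
  have : Surjective φ := ⟨fun x => ⟨IsLocalRing.closedPoint K, Subsingleton.elim _ _⟩⟩
  have hs : Surjective (pullback.fst X.hom φ) := MorphismProperty.pullback_fst _ _ ‹_›
  have : ConnectedSpace ↥(pullback X.hom φ) := ‹ConnectedSpace (Red.bc φ X).left›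
  exact hs.surj.connectedSpace (pullback.fst X.hom φ).continuous

/-- **Centralizers of tori in connected affine groups over a field are connected.** -/
theorem connectedSpace_centralizer_torus' {G T C : Over (Spec (CommRingCat.of k))} [GrpObj G] [GrpObj T]
    [GrpObj C] [IsAffine G.left] [LocallyOfFiniteType G.hom] [ConnectedSpace G.left] (iT : T ⟶ G) [IsMonHom iT]
    (hT : Red.IsTorus T) (c : C ⟶ G) (hc : Red.IsCentralizerOf iT c) : ConnectedSpace C.left := by
  let ψ : Spec (CommRingCat.of (AlgebraicClosure k)) ⟶ Spec (CommRingCat.of k) :=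
    Spec.map (CommRingCat.ofHom (algebraMap k (AlgebraicClosure k)))
  haveI := isAffine_bc ψ G
  haveI := connectedSpace_bc ψ G
  haveI : LocallyOfFiniteType (Red.bc ψ G).hom := inferInstanceAs (LocallyOfFiniteType (pullback.snd G.hom ψ))
  haveI := Groth.Abvar.isMonHom_map (f := ψ) iT
  haveI := connectedSpace_centralizer_torus ((Over.pullback ψ).map iT) (isTorus_bc ψ hT)
    ((Over.pullback ψ).map c) (isCentralizerOf_bc ψ hc)
  exact connectedSpace_of_bc ψ

end Groth.AlgGrp1
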