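import Groth.Agent.AlgGrp1.GenericPoint
import Groth.Agent.AlgGrp1.TangentOpen
import Groth.Agent.AlgGrp1.TorusField
import Groth.Agent.AlgGrp1.GenSubgroup
import Groth.Agent.S3006

/-!
Generic points of tori; the conjugates of the centralizer of a torus are dense.
-/

set_option autoImplicit false
set_option linter.style.haveILetI false
universe u

open CategoryTheory Limits MonoidalCategory CartesianMonoidalCategory MonObj GrpObj AlgebraicGeometry
open TensorProduct WithConv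
open Groth.Misc1.Dyn (post)
open scoped DualNumber

noncomputable section

namespace Groth.AlgGrp1

variable {k : Type u} [Field k]

/-- Two centralizers of the same subgroup are isomorphic. -/
theorem exists_iso_centralizer {G H Z Z' : Over (Spec (CommRingCat.of k))} [GrpObj G] [GrpObj H] [GrpObj Z]
    [GrpObj Z'] {i : H ⟶ G} {j : Z ⟶ G} {j' : Z' ⟶ G} (h : Red.IsCentralizerOf i j)
    (h' : Red.IsCentralizerOf i j') : ∃ e : Z ≅ Z', e.hom ≫ j' = j := by
  obtain ⟨-, hm, hp⟩ := h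
  obtain ⟨-, hm', hp'⟩ := h'
  obtain ⟨f, hf⟩ := (hp' Z j).2 ((hp Z j).1 ⟨𝟙 Z, Category.id_comp j⟩)
  obtain ⟨g, hg⟩ := (hp Z' j').2 ((hp' Z' j').1 ⟨𝟙 Z', Category.id_comp j'⟩)
  exact ⟨⟨f, g, by rw [← cancel_mono j, Category.assoc, hg, hf, Category.id_comp],
    by rw [← cancel_mono j', Category.assoc, hf, hg, Category.id_comp]⟩, hf⟩

/-- Centralizers of tori in smooth groups are closed and smooth. -/
theorem smooth_centralizer_torus {G T C : Over (Spec (CommRingCat.of k))} [GrpObj G] [GrpObj T] [GrpObj C]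
    [Smooth G.hom] [QuasiCompact G.hom] (iT : T ⟶ G) [IsMonHom iT] (hcl : IsClosedImmersion iT.left)
    (hT : Red.IsTorus T) (c : C ⟶ G) (hc : Red.IsCentralizerOf iT c) :
    Smooth C.hom ∧ IsClosedImmersion c.left := by
  have := isSeparated_grpObj G
  obtain ⟨⟨Z, _, z, hz, hzc, hzs⟩, -⟩ :=
    Groth.Agent.S3006.result (Spec (CommRingCat.of k)) G T iT hcl hT
  obtain ⟨e, he⟩ := exists_iso_centralizer hc hz
  have : IsIso e.hom.left := ((Over.forget _).mapIso e).isIso_hom
  constructor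
  · rw [← Over.w e.hom]; infer_instance
  · rw [← he, Over.comp_left]; infer_instance

theorem comm_aux {M : Type*} [Monoid M] {s g : M} (h : s * g = g * s) : g * s * s = s * (g * s) := by
  rw [← _root_.mul_assoc s g s, h]

/-- The unit of the monoidal structure as a spectrum. -/
def unitSp : 𝟙_ (Over (Spec (CommRingCat.of k))) ≅ CoactBr.sp k k :=
  Over.isoMk (Iso.refl _) (by
    change Spec.map (CommRingCat.ofHom (algebraMap k k)) = 𝟙 _
    rw [Algebra.algebraMap_self, CommRingCat.ofHom_id, Spec.map_id])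

theorem toUnit_unitSp (R : Type u) [CommRing R] [Algebra k R] :
    toUnit (CoactBr.sp k R) ≫ unitSp.hom = CoactBr.pt (Algebra.ofId k R) := by
  rw [← cancel_mono unitSp.inv]
  exact toUnit_unique _ _

variable {A : Type u} [CommRing A] [HopfAlgebra k A] {r : ℕ}
  (φ : A →ₐc[k] MonoidAlgebra k (Multiplicative (Fin r → ℤ)))
  (χ : MonoidAlgebra k (Multiplicative (Fin r → ℤ)) →ₐ[k] k)

theorem pt_sPt (R : Type u) [CommRing R] [Algebra k R] :
    ptMonoidHom R (sPt φ χ R) = toUnit (CoactBr.sp k R) ≫ unitSp.hom ≫ CoactBr.pt χ ≫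
      CoactBr.pt (φ : A →ₐ[k] MonoidAlgebra k (Multiplicative (Fin r → ℤ))) := by
  rw [← Category.assoc, toUnit_unitSp, ← CoactBr.pt_comp, ← CoactBr.pt_comp]
  rfl

variable [IsAlgClosed k] {G T : Over (Spec (CommRingCat.of k))} [GrpObj G] [GrpObj T]

/-- **Generic points of tori.** A point of a torus whose centralizer is the centralizer of the torus,
such that tangent vectors of the group at that point come from conjugation and from the centralizer. -/
theorem exists_generic_point [IsAffine G.left] [LocallyOfFiniteType G.hom] (iT : T ⟶ G) [IsMonHom iT]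
    (hT : Red.IsTorus T) :
    ∃ t : 𝟙_ (Over (Spec (CommRingCat.of k))) ⟶ T,
      (∀ (X : Over (Spec (CommRingCat.of k))) (g : X ⟶ G),
        g * (toUnit X ≫ t ≫ iT) = (toUnit X ≫ t ≫ iT) * g ↔
          ∀ (X' : Over (Spec (CommRingCat.of k))) (x : X' ⟶ X) (h : X' ⟶ T),
            (x ≫ g) * (h ≫ iT) = (h ≫ iT) * (x ≫ g)) ∧
      ∀ v : CoactBr.sp k k[ε] ⟶ G,
        CoactBr.pt (TrivSqZeroExt.fstHom k k k) ≫ v = toUnit _ ≫ t ≫ iT →
        ∃ x z : CoactBr.sp k k[ε] ⟶ G, CoactBr.pt (TrivSqZeroExt.fstHom k k k) ≫ x = 1 ∧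
          CoactBr.pt (TrivSqZeroExt.fstHom k k k) ≫ z = toUnit _ ≫ t ≫ iT ∧
          (∀ (X' : Over (Spec (CommRingCat.of k))) (w : X' ⟶ CoactBr.sp k k[ε]) (h : X' ⟶ T),
            (w ≫ z) * (h ≫ iT) = (h ≫ iT) * (w ≫ z)) ∧
          x * z * x⁻¹ = v := by
  classical
  obtain ⟨A, _, _, _, e, he⟩ := exists_hopf_iso G
  obtain ⟨r, eT, heT⟩ := exists_diag_iso_of_isTorus hT
  haveI := heT
  obtain ⟨φ, hφ⟩ := exists_bialgHom_of_isMonHom (eT.hom ≫ iT ≫ e.inv)
  obtain ⟨s, hs⟩ := (inferInstance : Algebra.FiniteType k A).out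
  obtain ⟨χ, hgen⟩ := exists_isGeneric φ s
  let t : 𝟙_ (Over (Spec (CommRingCat.of k))) ⟶ T := unitSp.hom ≫ CoactBr.pt χ ≫ eT.hom
  have hiT : eT.hom ≫ iT = CoactBr.pt (φ : A →ₐ[k] MonoidAlgebra k (Multiplicative (Fin r → ℤ))) ≫ e.hom := by
    rw [hφ]; simp
  have ht : ∀ (R : Type u) [CommRing R] [Algebra k R],
      toUnit (CoactBr.sp k R) ≫ t ≫ iT = ptMonoidHom R (sPt φ χ R) ≫ e.hom := by
    intro R _ _
    rw [pt_sPt]
    simp only [t, Category.assoc, hiT]
  have hpt : ∀ {R : Type u} [CommRing R] [Algebra k R] (y : CoactBr.sp k R ⟶ G),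
      ∃ g : A →ₐ[k] R, ptMonoidHom R (toConv g) ≫ e.hom = y := fun {R} _ _ y => by
    obtain ⟨g, hg⟩ := Groth.AlgGrp2.pt_surjective (y ≫ e.inv)
    exact ⟨g, by show CoactBr.pt g ≫ e.hom = y; rw [hg]; simp⟩
  -- commuting on affine points
  have haff : ∀ {R : Type u} [CommRing R] [Algebra k R] (y : CoactBr.sp k R ⟶ G),
      y * (toUnit _ ≫ t ≫ iT) = (toUnit _ ≫ t ≫ iT) * y ↔
        ∀ (X' : Over (Spec (CommRingCat.of k))) (w : X' ⟶ CoactBr.sp k R) (h : X' ⟶ T),
          (w ≫ y) * (h ≫ iT) = (h ≫ iT) * (w ≫ y) := by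
    intro R _ _ y
    obtain ⟨g, rfl⟩ := hpt y
    have h1 : ∀ a b : WithConv (A →ₐ[k] R), (ptMonoidHom R a ≫ e.hom) * (ptMonoidHom R b ≫ e.hom) =
        (ptMonoidHom R b ≫ e.hom) * (ptMonoidHom R a ≫ e.hom) ↔ a * b = b * a := fun a b => by
      rw [← MonObj.mul_comp, ← MonObj.mul_comp, cancel_mono, ← map_mul, ← map_mul,
        (ptMonoidHom_injective R).eq_iff]
    rw [ht R, h1, eq_comm (a := toConv g * sPt φ χ R), ← mul_inv_eq_iff_eq_mul,
      commute_sPt_iff φ χ hs hgen g, ← commutes_iff_torOrbit φ g]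
    constructor
    · intro H X' w h
      have h2 := congrArg (· ≫ e.hom) (H X' w (h ≫ eT.inv))
      simp only [MonObj.mul_comp, Category.assoc] at h2
      rw [hφ] at h2
      simpa [ptMonoidHom, Category.assoc] using h2
    · intro H X' w h
      have h2 := H X' w (h ≫ eT.hom)
      rw [← cancel_mono e.hom, MonObj.mul_comp, MonObj.mul_comp]
      simp only [Category.assoc] at h2 ⊢
      rw [hφ]
      simpa [ptMonoidHom, Category.assoc] using h2
  refine ⟨t, fun X g => ⟨fun H X' x h => ?_, fun H => ?_⟩, fun v hv => ?_⟩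
  · refine Groth.GrassRep.hom_ext _ _ fun R y => ?_
    rw [MonObj.comp_mul, MonObj.comp_mul, ← Category.assoc, ← Category.assoc y h]
    have hy : ((y ≫ x) ≫ g) * (toUnit _ ≫ t ≫ iT) = (toUnit _ ≫ t ≫ iT) * ((y ≫ x) ≫ g) := by
      have := congrArg ((y ≫ x) ≫ ·) H
      simpa only [MonObj.comp_mul, ← Category.assoc, toUnit_unique ((y ≫ x) ≫ toUnit X) (toUnit _)] using this
    have := (haff (R := (R : Type u)) ((y ≫ x) ≫ g)).1 hy _ (𝟙 _) (y ≫ h)
    simp only [Category.id_comp] at this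
    exact this
  · refine Groth.GrassRep.hom_ext _ _ fun R y => ?_
    rw [MonObj.comp_mul, MonObj.comp_mul, ← Category.assoc y (toUnit X), toUnit_unique (y ≫ toUnit X) (toUnit _)]
    refine (haff (R := (R : Type u)) (y ≫ g)).2 fun X' w h => ?_
    rw [← Category.assoc]
    exact H X' (w ≫ y) h
  · obtain ⟨P, hP⟩ := hpt v
    have hP' : post (TrivSqZeroExt.fstHom k k k) (toConv P) = sPt φ χ k := by
      apply ptMonoidHom_injective k
      rw [← cancel_mono e.hom, ptMonoidHom_post, Category.assoc, hP, hv, ← ht k]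
    let s' : WithConv (A →ₐ[k] k[ε]) := sPt φ χ k[ε]
    have hs' : post (TrivSqZeroExt.fstHom k k k) s' = sPt φ χ k := by
      refine WithConv.ofConv_injective (AlgHom.ext fun a => ?_)
      exact (TrivSqZeroExt.fstHom k k k).commutes _
    let g : WithConv (A →ₐ[k] k[ε]) := toConv P * s'⁻¹
    have hg : ∀ a, (g.ofConv a).fst = Coalgebra.counit (R := k) a := by
      intro a
      have h1 : post (TrivSqZeroExt.fstHom k k k) g = 1 := by
        rw [map_mul, map_inv, hP', hs', mul_inv_cancel]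
      exact DFunLike.congr_fun (congrArg WithConv.ofConv h1) a
    obtain ⟨x, g₀, hx, hg₀, hfix, heq⟩ := exists_conj_decomp φ χ g.ofConv hg
    have hone : ∀ f : WithConv (A →ₐ[k] k[ε]), (∀ a, (f.ofConv a).fst = Coalgebra.counit (R := k) a) →
        post (TrivSqZeroExt.fstHom k k k) f = 1 := fun f hf =>
      WithConv.ofConv_injective (AlgHom.ext hf)
    refine ⟨ptMonoidHom _ x ≫ e.hom, ptMonoidHom _ (g₀ * s') ≫ e.hom, ?_, ?_, ?_, ?_⟩
    · rw [← Category.assoc, ← ptMonoidHom_post, hone x hx, map_one, MonObj.one_comp]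
    · rw [← Category.assoc, ← ptMonoidHom_post, map_mul, hone g₀ hg₀, _root_.one_mul, hs', ht k]
    · refine (haff _).1 ?_
      rw [ht k[ε], ← MonObj.mul_comp, ← MonObj.mul_comp, ← map_mul, ← map_mul]
      congr 2
      rw [mul_inv_eq_iff_eq_mul] at hfix
      exact comm_aux (M := WithConv (A →ₐ[k] k[ε])) hfix
    · rw [← GrpObj.inv_comp, ← MonObj.mul_comp, ← MonObj.mul_comp, ← map_inv, ← map_mul, ← map_mul, heq]
      exact (congrArg (fun z => ptMonoidHom k[ε] z ≫ e.hom) (inv_mul_cancel_right (toConv P) s')).trans hP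

/-- **The conjugates of the centralizer of a torus contain a nonempty open set.** -/
theorem exists_open_conj_centralizer [IsAffine G.left] [Smooth G.hom] (iT : T ⟶ G) [IsMonHom iT] [Mono iT]
    (hT : Red.IsTorus T) {C : Over (Spec (CommRingCat.of k))} [GrpObj C] (c : C ⟶ G)
    (hc : Red.IsCentralizerOf iT c) :
    ∃ U : G.left.Opens, (U : Set G.left).Nonempty ∧
      (U : Set G.left) ⊆ Set.range (fst G C * (snd G C ≫ c) * (fst G C)⁻¹).left.base := by
  obtain ⟨hCs, hcc⟩ := smooth_centralizer_torus iT (isClosedImmersion_of_isTorus iT hT) hT c hc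
  obtain ⟨hcm, hcmono, hcp⟩ := hc
  haveI : IsAffine C.left := isAffine_of_isAffineHom c.left
  obtain ⟨t, ht1, ht2⟩ := exists_generic_point iT hT
  obtain ⟨tC, htC⟩ := (hcp _ (t ≫ iT)).2 ((ht1 _ (t ≫ iT)).1 (by
    rw [toUnit_unique (toUnit (𝟙_ (Over (Spec (CommRingCat.of k))))) (𝟙 _), Category.id_comp]))
  obtain ⟨A, _, _, _, e, he⟩ := exists_hopf_iso G
  let W := G ⊗ C
  haveI : IsAffine W.left := inferInstanceAs (IsAffine (pullback G.hom C.hom))
  haveI : Smooth W.hom := inferInstanceAs (Smooth (pullback.fst G.hom C.hom ≫ G.hom))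
  obtain ⟨D, ⟨eW⟩⟩ := Groth.GrassRep.exists_pt_iso W
  let μ' : W ⟶ G := fst G C * (snd G C ≫ c) * (fst G C)⁻¹
  obtain ⟨f, hf⟩ := Groth.AlgGrp2.pt_surjective (R := k) (K := (D : Type u)) (B := A) (eW.hom ≫ μ' ≫ e.inv)
  let w₀ : 𝟙_ (Over (Spec (CommRingCat.of k))) ⟶ W := lift 1 tC
  obtain ⟨p, hp⟩ := Groth.AlgGrp2.pt_surjective (R := k) (K := k) (B := (D : Type u))
    (unitSp.inv ≫ w₀ ≫ eW.inv)
  haveI : Algebra.Smooth k (D : Type u) := by
    have hiso : IsIso eW.hom.left := ((Over.forget _).mapIso eW).isIso_hom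
    have h1 : Smooth (Spec.map (CommRingCat.ofHom (algebraMap k (D : Type u)))) := by
      change Smooth (Groth.GrassRep.Pt D).hom
      rw [← Over.w eW.hom]
      infer_instance
    rw [HasRingHomProperty.Spec_iff (P := @Smooth)] at h1
    exact RingHom.smooth_algebraMap.1 h1
  have hμ : ∀ {X : Over (Spec (CommRingCat.of k))} (a : X ⟶ G) (b : X ⟶ C),
      lift a b ≫ μ' = a * (b ≫ c) * a⁻¹ := fun a b => by
    simp [μ', MonObj.comp_mul, GrpObj.comp_inv]
  have hp0 : CoactBr.pt (p.comp f) ≫ e.hom = unitSp.inv ≫ t ≫ iT := by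
    rw [CoactBr.pt_comp, hp, Category.assoc, hf]
    simp [w₀, hμ, htC]
  have htu : toUnit (CoactBr.sp k k) = unitSp.inv := toUnit_unique _ _
  obtain ⟨U, hUo, hUne, hU⟩ := TangentOpen.exists_open_range f p fun P hP => by
    have hP' : CoactBr.pt (TrivSqZeroExt.fstHom k k k) ≫ CoactBr.pt P ≫ e.hom = toUnit _ ≫ t ≫ iT := by
      rw [← Category.assoc, ← CoactBr.pt_comp, htu, ← hp0]
      congr 2
      exact AlgHom.ext hP
    obtain ⟨x, z, hx, hz, hzc, heq⟩ := ht2 (CoactBr.pt P ≫ e.hom) hP'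
    obtain ⟨y, hy⟩ := (hcp _ z).2 hzc
    obtain ⟨Q, hQ⟩ := Groth.AlgGrp2.pt_surjective (R := k) (K := k[ε]) (B := (D : Type u)) (lift x y ≫ eW.inv)
    refine ⟨Q, fun d => ?_, CoactBr.pt_injective ?_⟩
    · refine DFunLike.congr_fun (CoactBr.pt_injective (?_ :
        CoactBr.pt ((TrivSqZeroExt.fstHom k k k).comp Q) = CoactBr.pt p)) d
      rw [CoactBr.pt_comp, hQ, hp, ← Category.assoc, comp_lift, ← Category.assoc]
      refine congrArg (· ≫ eW.inv) (CartesianMonoidalCategory.hom_ext _ _ ?_ ?_)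
      · simp [w₀, hx]
      · rw [lift_snd, Category.assoc, lift_snd, ← cancel_mono c, Category.assoc, Category.assoc, htC, hy, hz, htu]
    · rw [CoactBr.pt_comp, hQ, hf, ← cancel_mono e.hom]
      simp only [Category.assoc, Iso.inv_hom_id, Category.comp_id, Iso.inv_hom_id_assoc, hμ, hy, heq]
  have hiso : IsIso e.inv.left := ((Over.forget _).mapIso e.symm).isIso_hom
  let U' : G.left.Opens := ⟨e.inv.left.base ⁻¹' U, hUo.preimage e.inv.left.continuous⟩
  refine ⟨U', ?_, ?_⟩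
  · obtain ⟨u, hu⟩ := hUne
    obtain ⟨g, rfl⟩ := e.inv.left.surjective u
    exact ⟨g, hu⟩
  · rintro g hg
    obtain ⟨d, hd⟩ := hU hg
    refine ⟨eW.hom.left.base d, e.inv.left.homeomorph.injective ?_⟩
    have h1 := congrArg (fun q : CoactBr.sp k (D : Type u) ⟶ CoactBr.sp k A => q.left.base d) hf
    simp only [CoactBr.pt_left] at h1
    exact (h1.symm.trans hd)

end Groth.AlgGrp1
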