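import Groth.Agent.AlgGrp1.BorelExist

/-!
Conjugacy of Borel subgroups and properness of the quotient by a Borel subgroup.
-/

set_option autoImplicit false
universe u

open CategoryTheory Limits MonoidalCategory CartesianMonoidalCategory MonObj GrpObj AlgebraicGeometry

noncomputable section

namespace Groth.AlgGrp1

variable {k : Type u} [Field k] [IsAlgClosed k] {G : Over (Spec (CommRingCat.of k))} [GrpObj G]
  [IsAffine G.left] [Smooth G.hom]

/-- A solvable subgroup is conjugate into every subgroup with proper quotient. -/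
theorem exists_conj_le {H B' X : Over (Spec (CommRingCat.of k))} [GrpObj H] [GrpObj B'] {i : H ⟶ G} [IsMonHom i]
    {a : AlgGrp.Action G X} {o : 𝟙_ (Over (Spec (CommRingCat.of k))) ⟶ X} (hX : AGF.IsQuotient i X a o) [IsProper X.hom]
    (i' : B' ⟶ G) [IsMonHom i'] [IsClosedImmersion i'.left] [Smooth B'.hom] [ConnectedSpace B'.left]
    (hs : Red.IsSolvableGrp B') :
    ∃ (x : 𝟙_ (Over (Spec (CommRingCat.of k))) ⟶ G) (f : B' ⟶ H), f ≫ i = AGF.conjBy x i' := by
  obtain ⟨n, hn⟩ := hs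
  have : IsAffine B'.left := isAffine_of_isAffineHom i'.left
  have : Nonempty X.left := ⟨rpt o⟩
  obtain ⟨p, hp⟩ := exists_fixedPt_of_derivedSeries n B' (hn _) X (a.restrict i')
  obtain ⟨g, rfl⟩ := exists_rpt_lift (a.orbitMap o) p (hX.2.2.1.surj _)
  have h1 := hp B' (𝟙 B')
  rw [AlgGrp.Action.lift_restrict_act, Category.id_comp] at h1
  have h2 : (i' * (toUnit B' ≫ g)) ≫ a.orbitMap o = (toUnit B' ≫ g) ≫ a.orbitMap o := by
    rw [Category.assoc]
    refine Eq.trans ?_ h1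
    rw [comp_orbit a (i' * (toUnit B' ≫ g)), a.lift_mul_act, ← comp_orbit a (toUnit B' ≫ g), Category.assoc]
  obtain ⟨f, hf⟩ := (comp_orbit_eq_iff hX _ _ _).1 h2.symm
  refine ⟨g⁻¹, f, ?_⟩
  unfold AGF.conjBy
  rw [GrpObj.comp_inv, _root_.inv_inv, _root_.mul_assoc, hf, inv_mul_cancel_left]

/-- A smooth connected solvable subgroup with proper quotient is a Borel subgroup. -/
theorem isBorelOver_of_proper {H X : Over (Spec (CommRingCat.of k))} [GrpObj H] (i : H ⟶ G) [IsMonHom i]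
    [IsClosedImmersion i.left] [Smooth H.hom] [ConnectedSpace H.left] (hs : Red.IsSolvableGrp H)
    {a : AlgGrp.Action G X} {o : 𝟙_ (Over (Spec (CommRingCat.of k))) ⟶ X} (hX : AGF.IsQuotient i X a o) [IsProper X.hom] :
    Red.IsBorelOver k i := by
  refine ⟨‹_›, ‹_›, ‹_›, ‹_›, hs, fun B' _ i' _ f _ _ _ hs' hf => ?_⟩
  obtain ⟨x, φ, hφ⟩ := exists_conj_le hX i' hs'
  have hψ : (f ≫ φ) ≫ i = AGF.conjBy x i := by rw [Category.assoc, hφ, comp_conjBy', hf]
  have := isClosedImmersion_conjBy x i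
  have : IsClosedImmersion (f ≫ φ).left := by
    have : IsClosedImmersion ((f ≫ φ).left ≫ i.left) := by rw [← Over.comp_left, hψ]; infer_instance
    exact IsClosedImmersion.of_comp (f ≫ φ).left i.left
  have := geometricallyReduced_of_smooth_hom H
  have := isReduced_left H
  have : QuasiCompact H.hom := by rw [← Over.w i]; infer_instance
  have := isLocallyNoetherian_left H
  have : CompactSpace H.left := QuasiCompact.compactSpace_of_compactSpace H.hom
  have : AlgebraicGeometry.IsNoetherian H.left := ⟨⟩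
  have : IsIso (f ≫ φ).left := isIso_of_closedImmersion_endo _
  have : IsIso ((Over.forget _).map (f ≫ φ)) := this
  have : IsIso (f ≫ φ) := isIso_of_reflects_iso (f ≫ φ) (Over.forget _)
  have := isClosedImmersion_conjBy x i'
  have : IsClosedImmersion φ.left := by
    have : IsClosedImmersion (φ.left ≫ i.left) := by rw [← Over.comp_left, hφ]; infer_instance
    exact IsClosedImmersion.of_comp φ.left i.left
  have : Mono φ := Over.mono_of_mono_left φ
  have : IsSplitEpi φ := IsSplitEpi.mk' ⟨inv (f ≫ φ) ≫ f, by rw [Category.assoc, IsIso.inv_hom_id]⟩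
  have : IsIso φ := isIso_of_mono_of_isSplitEpi φ
  exact IsIso.of_isIso_comp_right f φ

variable [ConnectedSpace G.left]

/-- A Borel subgroup with proper quotient exists. -/
theorem exists_borel_proper :
    ∃ (B : Over (Spec (CommRingCat.of k))) (_ : GrpObj B) (i : B ⟶ G) (_ : IsMonHom i)
      (X : Over (Spec (CommRingCat.of k))) (a : AlgGrp.Action G X) (o : 𝟙_ (Over (Spec (CommRingCat.of k))) ⟶ X),
      Red.IsBorelOver k i ∧ AGF.IsQuotient i X a o ∧ IsProper X.hom := by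
  obtain ⟨B, iB, i, hi, X, a, o, hci, hsm, hc, hs, hX, hp⟩ := exists_solvable_proper (G := G)
  exact ⟨B, iB, i, hi, X, a, o, isBorelOver_of_proper i hs hX, hX, hp⟩

/-- A Borel subgroup is conjugate to any smooth connected solvable subgroup with proper quotient. -/
theorem exists_iso_conj {B B₀ X₀ : Over (Spec (CommRingCat.of k))} [GrpObj B] [GrpObj B₀] {iB : B ⟶ G}
    (hB : Red.IsBorelOver k iB) {i₀ : B₀ ⟶ G} (hB₀ : Red.IsBorelOver k i₀)
    {a : AlgGrp.Action G X₀} {o : 𝟙_ (Over (Spec (CommRingCat.of k))) ⟶ X₀} (hX : AGF.IsQuotient i₀ X₀ a o)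
    [IsProper X₀.hom] :
    ∃ (x : 𝟙_ (Over (Spec (CommRingCat.of k))) ⟶ G) (f : B ≅ B₀), f.hom ≫ i₀ = AGF.conjBy x iB := by
  obtain ⟨hm, hc, hsm, hcn, hs, hmax⟩ := hB
  obtain ⟨hm₀, hc₀, hsm₀, hcn₀, hs₀, -⟩ := hB₀
  obtain ⟨x, f, hf⟩ := exists_conj_le hX iB hs
  have := isMonHom_conjBy x⁻¹ i₀
  have := hmax B₀ (AGF.conjBy x⁻¹ i₀) f (isClosedImmersion_conjBy _ _) hsm₀ hcn₀ hs₀
    (by rw [comp_conjBy', hf, conjBy_conjBy, inv_mul_cancel, conjBy_one])
  exact ⟨x, asIso f, hf⟩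

/-- **Borel subgroups are conjugate.** -/
theorem borel_conj {B B' : Over (Spec (CommRingCat.of k))} [GrpObj B] [GrpObj B'] {iB : B ⟶ G} {iB' : B' ⟶ G}
    (hB : Red.IsBorelOver k iB) (hB' : Red.IsBorelOver k iB') :
    ∃ (g : 𝟙_ (Over (Spec (CommRingCat.of k))) ⟶ G) (f : B ≅ B'), f.hom ≫ iB' = AGF.conjBy g iB := by
  obtain ⟨B₀, _, i₀, _, X₀, a, o, hB₀, hX, _⟩ := exists_borel_proper (G := G)
  obtain ⟨x, f, hf⟩ := exists_iso_conj hB hB₀ hX
  obtain ⟨y, g, hg⟩ := exists_iso_conj hB' hB₀ hX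
  refine ⟨y⁻¹ * x, f ≪≫ g.symm, ?_⟩
  have e : g.inv ≫ AGF.conjBy y iB' = i₀ := by rw [← hg, Iso.inv_hom_id_assoc]
  rw [← conjBy_conjBy, ← hf, ← comp_conjBy', ← e, ← comp_conjBy', conjBy_conjBy, inv_mul_cancel, conjBy_one]
  simp

/-- A subgroup conjugate to one with proper quotient has proper quotient. -/
theorem isProper_quotient_conj {H H₀ X X₀ : Over (Spec (CommRingCat.of k))} [GrpObj H] [GrpObj H₀]
    {i : H ⟶ G} {i₀ : H₀ ⟶ G} (f : H ≅ H₀) (x : 𝟙_ (Over (Spec (CommRingCat.of k))) ⟶ G)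
    (hf : f.hom ≫ i₀ = AGF.conjBy x i)
    {a : AlgGrp.Action G X} {o : 𝟙_ (Over (Spec (CommRingCat.of k))) ⟶ X} (hX : AGF.IsQuotient i X a o)
    {a₀ : AlgGrp.Action G X₀} {o₀ : 𝟙_ (Over (Spec (CommRingCat.of k))) ⟶ X₀} (hX₀ : AGF.IsQuotient i₀ X₀ a₀ o₀)
    [IsProper X₀.hom] : IsProper X.hom := by
  have := hX.1; have := hX.2.1; have := hX.2.2.1
  have := hX₀.1; have := hX₀.2.1; have := hX₀.2.2.1
  let r : G ⟶ G := 𝟙 G * (toUnit G ≫ x⁻¹)
  have hr : ∀ {T : Over (Spec (CommRingCat.of k))} (s : T ⟶ G), s ≫ r = s * (toUnit T ≫ x)⁻¹ := fun {T} s => by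
    simp only [r, MonObj.comp_mul, Category.comp_id, GrpObj.comp_inv, ← Category.assoc,
      toUnit_unique (s ≫ toUnit G) (toUnit T)]
  let r' : G ⟶ G := 𝟙 G * (toUnit G ≫ x)
  have hr' : ∀ {T : Over (Spec (CommRingCat.of k))} (s : T ⟶ G), s ≫ r' = s * (toUnit T ≫ x) := fun {T} s => by
    simp only [r', MonObj.comp_mul, Category.comp_id, ← Category.assoc, toUnit_unique (s ≫ toUnit G) (toUnit T)]
  have : IsIso r := ⟨r', by rw [← Category.id_comp r, Category.assoc, ← Category.assoc, hr, hr', inv_mul_cancel_right],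
    by rw [← Category.id_comp r', Category.assoc, ← Category.assoc, hr', hr, mul_inv_cancel_right]⟩
  have : IsIso r.left := inferInstanceAs (IsIso ((Over.forget _).map r))
  have : Flat (r ≫ a₀.orbitMap o₀).left := by rw [Over.comp_left]; infer_instance
  have : Surjective (r ≫ a₀.orbitMap o₀).left := by rw [Over.comp_left]; infer_instance
  obtain ⟨φ, -⟩ := exists_iso_of_covers (a.orbitMap o) (r ≫ a₀.orbitMap o₀) fun T s t => by
    rw [comp_orbit_eq_iff hX, ← Category.assoc, ← Category.assoc, comp_orbit_eq_iff hX₀, hr, hr]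
    constructor
    · rintro ⟨h, rfl⟩
      refine ⟨h ≫ f.hom, ?_⟩
      rw [Category.assoc, hf, comp_conjBy]
      group
    · rintro ⟨h, hh⟩
      refine ⟨h ≫ f.inv, ?_⟩
      have e : (h ≫ f.inv) ≫ AGF.conjBy x i = h ≫ i₀ := by
        rw [← hf, Category.assoc, Iso.inv_hom_id_assoc]
      rw [comp_conjBy] at e
      rw [← e] at hh
      calc t = (t * (toUnit T ≫ x)⁻¹) * (toUnit T ≫ x) := by rw [inv_mul_cancel_right]
        _ = _ := by rw [hh]; group
  have : IsIso φ.hom.left := inferInstanceAs (IsIso ((Over.forget _).map φ.hom))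
  rw [← Over.w φ.hom]
  infer_instance

/-- **The quotient by a Borel subgroup is proper.** -/
theorem isProper_quotient_borel {B X : Over (Spec (CommRingCat.of k))} [GrpObj B] {iB : B ⟶ G}
    (hB : Red.IsBorelOver k iB) {a : AlgGrp.Action G X} {o : 𝟙_ (Over (Spec (CommRingCat.of k))) ⟶ X}
    (hX : AGF.IsQuotient iB X a o) : IsProper X.hom := by
  obtain ⟨B₀, _, i₀, _, X₀, a₀, o₀, hB₀, hX₀, _⟩ := exists_borel_proper (G := G)
  obtain ⟨x, f, hf⟩ := exists_iso_conj hB hB₀ hX₀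
  exact isProper_quotient_conj f x hf hX hX₀

/-- A smooth subgroup has proper quotient exactly when it contains a Borel subgroup. -/
theorem isProper_quotient_iff {P X : Over (Spec (CommRingCat.of k))} [GrpObj P] (iP : P ⟶ G) [IsMonHom iP]
    [IsClosedImmersion iP.left] [Smooth P.hom]
    {a : AlgGrp.Action G X} {o : 𝟙_ (Over (Spec (CommRingCat.of k))) ⟶ X} (hX : AGF.IsQuotient iP X a o) :
    IsProper X.hom ↔ Red.IsParabolicOver k iP := by
  constructor
  · intro _
    obtain ⟨B₀, iB₀, i₀, _, X₀, a₀, o₀, hB₀, hX₀, _⟩ := exists_borel_proper (G := G)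
    obtain ⟨-, hc₀, hsm₀, hcn₀, hs₀, -⟩ := hB₀
    obtain ⟨x, f, hf⟩ := exists_conj_le hX i₀ hs₀
    refine ⟨‹_›, ‹_›, ‹_›, B₀, iB₀, f, ?_⟩
    rw [hf]
    have := isMonHom_conjBy x i₀
    have := isClosedImmersion_conjBy x i₀
    have : Mono (AGF.conjBy x i₀) := Over.mono_of_mono_left _
    have : LocallyOfFiniteType B₀.hom := by have := hsm₀; infer_instance
    have : QuasiCompact B₀.hom := by rw [← Over.w i₀]; infer_instance
    obtain ⟨X₁, a₁, o₁, hX₁⟩ := Groth.Agent.S3279.result k G B₀ (AGF.conjBy x i₀)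
    have hX₁' : AGF.IsQuotient (AGF.conjBy x i₀) X₁ a₁ o₁ := ⟨hX₁.1, hX₁.2.2.1, hX₁.2.2.2.1, hX₁.2.2.2.2⟩
    have := isProper_quotient_conj (Iso.refl B₀) x⁻¹
      (by rw [Iso.refl_hom, Category.id_comp, conjBy_conjBy, inv_mul_cancel, conjBy_one]) hX₁' hX₀
    exact isBorelOver_of_proper _ hs₀ hX₁'
  · rintro ⟨-, -, -, B, _, b, hB⟩
    have := hX.1; have := hX.2.1; have := hX.2.2.1
    have := quasiCompact_quotient hX
    have : IsMonHom (b ≫ iP) := hB.1
    have : IsClosedImmersion (b ≫ iP).left := hB.2.1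
    have : Mono (b ≫ iP) := Over.mono_of_mono_left _
    have : LocallyOfFiniteType B.hom := by rw [← Over.w (b ≫ iP)]; infer_instance
    have : QuasiCompact B.hom := by rw [← Over.w (b ≫ iP)]; infer_instance
    obtain ⟨X', a', o', hX'⟩ := Groth.Agent.S3279.result k G B (b ≫ iP)
    have hX'' : AGF.IsQuotient (b ≫ iP) X' a' o' := ⟨hX'.1, hX'.2.2.1, hX'.2.2.2.1, hX'.2.2.2.2⟩
    have := isProper_quotient_borel hB hX''
    have := hX''.1; have := hX''.2.1; have := hX''.2.2.1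
    have := lfp_left (a'.orbitMap o')
    obtain ⟨π, hπ⟩ := Groth.Agf.exists_desc_of_fppf (a'.orbitMap o') _ _
      (IsPullback.of_hasPullback (a'.orbitMap o') (a'.orbitMap o')) (a.orbitMap o) (by
        obtain ⟨h, hh⟩ := (comp_orbit_eq_iff hX'' _ _ _).1 pullback.condition
        exact (comp_orbit_eq_iff hX _ _ _).2 ⟨h ≫ b, by rw [hh, Category.assoc]⟩)
    have := isSeparated_quotient hX
    have : Surjective π.left := by
      have : Surjective ((a'.orbitMap o').left ≫ π.left) := by rw [← Over.comp_left, hπ]; infer_instance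
      exact Surjective.of_comp (a'.orbitMap o').left π.left
    have : IsProper (π.left ≫ X.hom) := by rw [Over.w]; infer_instance
    have : UniversallyClosed X.hom := UniversallyClosed.of_comp_surjective π.left X.hom
    exact ⟨⟩

end Groth.AlgGrp1
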