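import Groth.Agent.AlgGrp1.MaxTorusSolv
import Groth.Agent.AlgGrp1.BorelConj
import Groth.Agent.AlgGrp1.MonoHom
import Groth.Agent.Reductive2.TorusBasic
import Groth.Agent.Reductive2.FieldPts
import Groth.Agent.PropsBasic.HopfRed

/-!
Conjugacy of maximal tori in affine groups over algebraically closed fields.
-/

set_option autoImplicit false
set_option linter.style.haveILetI false
universe u

open CategoryTheory Limits MonoidalCategory CartesianMonoidalCategory MonObj GrpObj AlgebraicGeometry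

noncomputable section

namespace Groth.AlgGrp1

variable {k : Type u} [Field k] [IsAlgClosed k]

theorem mono_of_closedImmersion_left {X Y : Over (Spec (CommRingCat.of k))} (f : X ⟶ Y)
    (hf : IsClosedImmersion f.left) : Mono f :=
  Over.mono_of_mono_left f

/-- Tori are affine, smooth and connected. -/
theorem isAffine_smooth_connected_of_isTorus {T : Over (Spec (CommRingCat.of k))} [GrpObj T]
    (hT : Red.IsTorus T) : IsAffine T.left ∧ Smooth T.hom ∧ ConnectedSpace T.left := by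
  refine ⟨?_, ?_, Groth.Reductive2.connectedSpace_of_isTorus hT⟩
  · obtain ⟨r, e, -⟩ := exists_diag_iso_of_isTorus hT
    have : IsIso e.inv.left := inferInstanceAs (IsIso ((Over.forget _).map e.inv))
    have : IsAffine (CoactBr.sp k (MonoidAlgebra k (Multiplicative (Fin r → ℤ)))).left :=
      inferInstanceAs (IsAffine (Spec (CommRingCat.of (MonoidAlgebra k (Multiplicative (Fin r → ℤ))))))
    exact IsAffine.of_isIso e.inv.left
  · obtain ⟨r, e, -⟩ := exists_diag_iso_of_isTorus hT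
    let C := MonoidAlgebra k (Multiplicative (Fin r → ℤ))
    have := Groth.HopfDim.formallySmooth_of_isReduced k C
    have : Algebra.FinitePresentation k C :=
      Algebra.FinitePresentation.of_finiteType.1 inferInstance
    have : Algebra.Smooth k C := ⟨inferInstance, inferInstance⟩
    have : Smooth (CoactBr.sp k C).hom := by
      show Smooth (Spec.map _)
      rw [HasRingHomProperty.Spec_iff (P := @Smooth)]
      exact RingHom.smooth_algebraMap.2 inferInstance
    have : IsIso e.inv.left := inferInstanceAs (IsIso ((Over.forget _).map e.inv))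
    rw [← Over.w e.inv]
    infer_instance

/-- A torus is solvable. -/
theorem isSolvableGrp_of_isTorus {T : Over (Spec (CommRingCat.of k))} [GrpObj T] (hT : Red.IsTorus T) :
    Red.IsSolvableGrp T := by
  refine ⟨1, fun X => le_bot_iff.1 ?_⟩
  rw [derivedSeries_one, commutator_def, Subgroup.commutator_le]
  intro p _ q _
  rw [Subgroup.mem_bot, commutatorElement_def, Groth.Reductive2.torus_mul_comm hT p q]
  group

/-- A subtorus is a closed subgroup. -/
theorem isClosedImmersion_of_isTorus {G T : Over (Spec (CommRingCat.of k))} [GrpObj G] [GrpObj T]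
    [LocallyOfFiniteType G.hom] [QuasiCompact G.hom] (j : T ⟶ G) [IsMonHom j] [Mono j] (hT : Red.IsTorus T) :
    IsClosedImmersion j.left := by
  obtain ⟨_, _, _⟩ := isAffine_smooth_connected_of_isTorus hT
  have : QuasiCompact T.hom := inferInstance
  exact isClosedImmersion_of_mono_hom j

/-- An injective endomorphism of a torus is an isomorphism. -/
theorem isIso_torus_endo {S : Over (Spec (CommRingCat.of k))} [GrpObj S] (hS : Red.IsTorus S) (φ : S ⟶ S)
    [IsClosedImmersion φ.left] : IsIso φ := by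
  obtain ⟨_, _, _⟩ := isAffine_smooth_connected_of_isTorus hS
  have := geometricallyReduced_of_smooth_hom S
  have := isReduced_left S
  have := isLocallyNoetherian_left S
  have : CompactSpace S.left := QuasiCompact.compactSpace_of_compactSpace S.hom
  have : AlgebraicGeometry.IsNoetherian S.left := ⟨⟩
  have : IsIso φ.left := isIso_of_closedImmersion_endo φ.left
  have : IsIso ((Over.forget _).map φ) := this
  exact isIso_of_reflects_iso φ (Over.forget _)

section

variable {G : Over (Spec (CommRingCat.of k))} [GrpObj G]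

theorem mono_conjBy {H : Over (Spec (CommRingCat.of k))} (g : 𝟙_ (Over (Spec (CommRingCat.of k))) ⟶ G)
    (i : H ⟶ G) [Mono i] : Mono (AGF.conjBy g i) := by
  have := conjBy_id_iso g
  rw [show AGF.conjBy g i = i ≫ AGF.conjBy g (𝟙 G) by rw [comp_conjBy', Category.comp_id]]
  infer_instance

/-- A conjugate of a maximal torus is a maximal torus. -/
theorem isMaxTorus_conjBy {T : Over (Spec (CommRingCat.of k))} [GrpObj T] {iT : T ⟶ G}
    (hT : AGF.IsMaxTorus iT) (g : 𝟙_ (Over (Spec (CommRingCat.of k))) ⟶ G) :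
    AGF.IsMaxTorus (AGF.conjBy g iT) := by
  obtain ⟨hm, hmono, htor, hmax⟩ := hT
  refine ⟨isMonHom_conjBy g iT, mono_conjBy g iT, htor, fun T' _ j _ _ f htor' hf => ?_⟩
  have := isMonHom_conjBy g⁻¹ j
  have := mono_conjBy g⁻¹ j
  exact hmax T' (AGF.conjBy g⁻¹ j) f htor'
    (by rw [comp_conjBy', hf, conjBy_conjBy, inv_mul_cancel, conjBy_one])

/-- If every subtorus is conjugate into the subtorus `S`, then `S` is a maximal torus and every maximal
torus is conjugate to it. -/
theorem isMaxTorus_of_absorbing [LocallyOfFiniteType G.hom] [QuasiCompact G.hom]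
    {S : Over (Spec (CommRingCat.of k))} [GrpObj S] (iS : S ⟶ G) [IsMonHom iS] [IsClosedImmersion iS.left]
    (hS : Red.IsTorus S)
    (habs : ∀ (T : Over (Spec (CommRingCat.of k))) [GrpObj T] (j : T ⟶ G) [IsMonHom j] [Mono j],
      Red.IsTorus T → ∃ (g : 𝟙_ (Over (Spec (CommRingCat.of k))) ⟶ G) (f : T ⟶ S), f ≫ iS = AGF.conjBy g j) :
    AGF.IsMaxTorus iS ∧
      ∀ (T : Over (Spec (CommRingCat.of k))) [GrpObj T] (iT : T ⟶ G), AGF.IsMaxTorus iT →
        ∃ (g : 𝟙_ (Over (Spec (CommRingCat.of k))) ⟶ G) (f : T ≅ S), f.hom ≫ iS = AGF.conjBy g iT := by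
  have : Mono iS := Over.mono_of_mono_left iS
  refine ⟨⟨inferInstance, inferInstance, hS, fun T' _ j _ _ f hT' hf => ?_⟩, fun T _ iT hiT => ?_⟩
  · obtain ⟨g, φ, hφ⟩ := habs T' j hT'
    have hj : IsClosedImmersion j.left := isClosedImmersion_of_isTorus j hT'
    have : IsClosedImmersion f.left := by
      have : IsClosedImmersion (f.left ≫ j.left) := by rw [← Over.comp_left, hf]; infer_instance
      exact IsClosedImmersion.of_comp f.left j.left
    have hc := isClosedImmersion_conjBy g j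
    have : IsClosedImmersion φ.left := by
      have : IsClosedImmersion (φ.left ≫ iS.left) := by rw [← Over.comp_left, hφ]; exact hc
      exact IsClosedImmersion.of_comp φ.left iS.left
    have : IsClosedImmersion (f ≫ φ).left := by rw [Over.comp_left]; infer_instance
    have := isIso_torus_endo hS (f ≫ φ)
    have : Mono φ := Over.mono_of_mono_left φ
    have : IsSplitEpi φ := IsSplitEpi.mk' ⟨inv (f ≫ φ) ≫ f, by rw [Category.assoc, IsIso.inv_hom_id]⟩
    have : IsIso φ := isIso_of_mono_of_isSplitEpi φ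
    exact IsIso.of_isIso_comp_right f φ
  · obtain ⟨hm, hmono, htor, hmax⟩ := hiT
    obtain ⟨g, f, hf⟩ := habs T iT htor
    have := isMonHom_conjBy g⁻¹ iS
    have := mono_conjBy g⁻¹ iS
    have := hmax S (AGF.conjBy g⁻¹ iS) f hS
      (by rw [comp_conjBy', hf, conjBy_conjBy, inv_mul_cancel, conjBy_one])
    exact ⟨g, asIso f, hf⟩

variable [IsAffine G.left] [Smooth G.hom]

/-- The absorbing torus of a Borel subgroup absorbs all tori of the group. -/
theorem exists_torus_absorbing_of_borel [ConnectedSpace G.left] {B : Over (Spec (CommRingCat.of k))} [GrpObj B]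
    {iB : B ⟶ G} (hB : Red.IsBorelOver k iB) :
    ∃ (S : Over (Spec (CommRingCat.of k))) (_ : GrpObj S) (s : S ⟶ B),
      IsMonHom s ∧ IsClosedImmersion s.left ∧ Red.IsTorus S ∧
      (∀ (T : Over (Spec (CommRingCat.of k))) [GrpObj T] (j : T ⟶ B) [IsMonHom j],
        Red.IsTorus T → ∃ (b : 𝟙_ (Over (Spec (CommRingCat.of k))) ⟶ B) (f : T ⟶ S),
          f ≫ s = AGF.conjBy b j) ∧
      ∀ (T : Over (Spec (CommRingCat.of k))) [GrpObj T] (j : T ⟶ G) [IsMonHom j] [Mono j],
        Red.IsTorus T → ∃ (g : 𝟙_ (Over (Spec (CommRingCat.of k))) ⟶ G) (f : T ⟶ S),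
          f ≫ s ≫ iB = AGF.conjBy g j := by
  obtain ⟨hm, hc, hsm, hcn, hs, hmax⟩ := hB
  have hmB : Mono iB := mono_of_closedImmersion_left iB hc
  have : IsAffine B.left := isAffine_of_isAffineHom iB.left
  obtain ⟨S, iS', s, hsm', hsc, hS, habs⟩ := exists_torus_absorbing B hs
  refine ⟨S, iS', s, hsm', hsc, hS, habs, fun T _ j _ _ hT => ?_⟩
  obtain ⟨B₀, iB₀, i₀, hm₀, X₀, a, o, hB₀, hX, hp⟩ := exists_borel_proper (G := G)
  obtain ⟨y, e, he⟩ := borel_conj hB₀ (iB' := iB) ⟨hm, hc, hsm, hcn, hs, hmax⟩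
  obtain ⟨haT, hsT, hcT⟩ := isAffine_smooth_connected_of_isTorus hT
  have := isClosedImmersion_of_isTorus j hT
  obtain ⟨x, f₀, hf₀⟩ := exists_conj_le hX j (isSolvableGrp_of_isTorus hT)
  have h1 : (f₀ ≫ e.hom) ≫ iB = AGF.conjBy (y * x) j := by
    rw [Category.assoc, he, comp_conjBy', hf₀, conjBy_conjBy]
  have := isMonHom_conjBy (y * x) j
  have hjm : IsMonHom (f₀ ≫ e.hom) := by
    refine isMonHom_of_points _ fun W p q => ?_
    rw [← cancel_mono iB, Category.assoc, h1, MonObj.mul_comp, MonObj.mul_comp, Category.assoc, h1,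
      Category.assoc, h1]
  obtain ⟨b, f, hf⟩ := habs T (f₀ ≫ e.hom) hT
  refine ⟨(b ≫ iB) * (y * x), f, ?_⟩
  rw [← Category.assoc, hf, ← conjBy_conjBy, ← h1]
  unfold AGF.conjBy
  rw [MonObj.mul_comp, MonObj.mul_comp, GrpObj.inv_comp, Category.assoc]

/-- **Maximal tori are conjugate.** -/
theorem maxTorus_conj [ConnectedSpace G.left] {T T' : Over (Spec (CommRingCat.of k))} [GrpObj T] [GrpObj T']
    {iT : T ⟶ G} {iT' : T' ⟶ G} (hT : AGF.IsMaxTorus iT) (hT' : AGF.IsMaxTorus iT') :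
    ∃ (g : 𝟙_ (Over (Spec (CommRingCat.of k))) ⟶ G) (f : T ≅ T'), f.hom ≫ iT' = AGF.conjBy g iT := by
  obtain ⟨B, _, i, _, X, a, o, hB, -, -⟩ := exists_borel_proper (G := G)
  have hc : IsClosedImmersion i.left := hB.2.1
  obtain ⟨S, _, s, hsm', hsc, hS, -, habs⟩ := exists_torus_absorbing_of_borel hB
  have : IsClosedImmersion (s ≫ i).left := by rw [Over.comp_left]; infer_instance
  obtain ⟨-, hall⟩ := isMaxTorus_of_absorbing (s ≫ i) hS habs
  obtain ⟨x, f, hf⟩ := hall T iT hT
  obtain ⟨y, g, hg⟩ := hall T' iT' hT'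
  refine ⟨y⁻¹ * x, f ≪≫ g.symm, ?_⟩
  have e : g.inv ≫ AGF.conjBy y iT' = s ≫ i := by rw [← hg, Iso.inv_hom_id_assoc]
  rw [← conjBy_conjBy, ← hf, ← comp_conjBy', ← e, ← comp_conjBy', conjBy_conjBy, inv_mul_cancel, conjBy_one]
  simp

/-- **Borel pairs are conjugate.** -/
theorem borelPair_conj [ConnectedSpace G.left] {B B' T T' : Over (Spec (CommRingCat.of k))} [GrpObj B] [GrpObj B']
    [GrpObj T] [GrpObj T'] {iB : B ⟶ G} {iB' : B' ⟶ G} (hB : Red.IsBorelOver k iB)
    (hB' : Red.IsBorelOver k iB') {iT : T ⟶ G} {iT' : T' ⟶ G} (hT : AGF.IsMaxTorus iT)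
    (hT' : AGF.IsMaxTorus iT') (t : T ⟶ B) (ht : t ≫ iB = iT) (t' : T' ⟶ B') (ht' : t' ≫ iB' = iT') :
    ∃ (g : 𝟙_ (Over (Spec (CommRingCat.of k))) ⟶ G) (f : B ≅ B') (f' : T ≅ T'),
      f.hom ≫ iB' = AGF.conjBy g iB ∧ f'.hom ≫ iT' = AGF.conjBy g iT := by
  obtain ⟨x, e, he⟩ := borel_conj hB hB'
  obtain ⟨hm', hc', hsm', hcn', hs', -⟩ := hB'
  have : IsAffine B'.left := isAffine_of_isAffineHom iB'.left
  have : Mono iB' := Over.mono_of_mono_left iB'
  obtain ⟨S, _, s, hs1, hs2, hS, habs⟩ := exists_torus_absorbing B' hs'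
  -- the two tori in `B'`
  have key : ∀ {U : Over (Spec (CommRingCat.of k))} [GrpObj U] (iU : U ⟶ G) (u : U ⟶ B'),
      AGF.IsMaxTorus iU → u ≫ iB' = iU →
      ∃ (b : 𝟙_ (Over (Spec (CommRingCat.of k))) ⟶ B') (f : U ≅ S),
        f.hom ≫ s ≫ iB' = AGF.conjBy (b ≫ iB') iU := by
    intro U _ iU u hU hu
    obtain ⟨hmU, hmonoU, htor, hmax⟩ := hU
    have hum : IsMonHom u := isMonHom_of_points _ fun W p q => by
      rw [← cancel_mono iB', Category.assoc, hu, MonObj.mul_comp, MonObj.mul_comp, Category.assoc, hu,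
        Category.assoc, hu]
    obtain ⟨b, f, hf⟩ := habs U u htor
    have hfc : f ≫ s ≫ iB' = AGF.conjBy (b ≫ iB') iU := by
      rw [← Category.assoc, hf, ← hu]
      unfold AGF.conjBy
      rw [MonObj.mul_comp, MonObj.mul_comp, GrpObj.inv_comp, Category.assoc]
    have : Mono s := Over.mono_of_mono_left s
    have := isMonHom_conjBy (b ≫ iB')⁻¹ (s ≫ iB')
    have := mono_conjBy (b ≫ iB')⁻¹ (s ≫ iB')
    have := hmax S (AGF.conjBy (b ≫ iB')⁻¹ (s ≫ iB')) f hS
      (by rw [comp_conjBy', hfc, conjBy_conjBy, inv_mul_cancel, conjBy_one])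
    exact ⟨b, asIso f, hfc⟩
  obtain ⟨b₁, f₁, h₁⟩ := key (AGF.conjBy x iT) (t ≫ e.hom) (isMaxTorus_conjBy hT x)
    (by rw [Category.assoc, he, comp_conjBy', ht])
  obtain ⟨b₂, f₂, h₂⟩ := key iT' t' hT' ht'
  -- conjugation by a point of `B'` preserves `B'`
  have hinner : ∀ b : 𝟙_ (Over (Spec (CommRingCat.of k))) ⟶ B',
      ∃ c : B' ≅ B', c.hom ≫ iB' = AGF.conjBy (b ≫ iB') iB' := by
    intro b
    have := conjBy_id_iso (G := B') b
    refine ⟨asIso (AGF.conjBy b (𝟙 B')), ?_⟩
    rw [asIso_hom]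
    unfold AGF.conjBy
    rw [MonObj.mul_comp, MonObj.mul_comp, GrpObj.inv_comp, Category.assoc, Category.id_comp]
  obtain ⟨c, hc⟩ := hinner (b₂⁻¹ * b₁)
  refine ⟨((b₂⁻¹ * b₁) ≫ iB') * x, e ≪≫ c, f₁ ≪≫ f₂.symm, ?_, ?_⟩
  · rw [Iso.trans_hom, Category.assoc, hc, comp_conjBy', he, conjBy_conjBy]
  · rw [Iso.trans_hom, Category.assoc]
    have e' : f₂.inv ≫ AGF.conjBy (b₂ ≫ iB') iT' = s ≫ iB' := by rw [← h₂, Iso.inv_hom_id_assoc]
    rw [← conjBy_conjBy, MonObj.mul_comp, GrpObj.inv_comp, ← conjBy_conjBy, ← h₁, ← comp_conjBy', ← e',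
      ← comp_conjBy', conjBy_conjBy, inv_mul_cancel, conjBy_one]
    simp

end

end Groth.AlgGrp1
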