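import Groth.Agent.AlgGrp1.GenericCochar
import Groth.Agent.AlgGrp1.MaxTorus
import Groth.Agent.Misc1.Dyn.Connected
import Groth.Agent.Misc8.CoactInertia
import Groth.Agent.Calg5.ConnIdem

/-!
Centralizers of tori in connected affine groups are connected.
-/

set_option autoImplicit false
set_option linter.style.haveILetI false
universe u

open CategoryTheory Limits MonoidalCategory CartesianMonoidalCategory MonObj GrpObj AlgebraicGeometry
open LaurentPolynomial TensorProduct WithConv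
open Groth.Misc1.Dyn (post)

noncomputable section

namespace Groth.AlgGrp1

variable {k : Type u} [Field k] {A : Type u} [CommRing A] [HopfAlgebra k A]

/-- affine points as a homomorphism -/
def ptMonoidHom (B : Type u) [CommRing B] [Algebra k B] :
    WithConv (A →ₐ[k] B) →* (CoactBr.sp k B ⟶ CoactBr.sp k A) :=
  MonoidHom.mk' (fun f => CoactBr.pt f.ofConv) fun f g => map_mul Spec.mapMulEquiv f g

theorem ptMonoidHom_injective (B : Type u) [CommRing B] [Algebra k B] :
    Function.Injective (ptMonoidHom (k := k) (A := A) B) :=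
  fun _ _ h => WithConv.ofConv_injective (CoactBr.pt_injective h)

theorem ptMonoidHom_post {B B' : Type u} [CommRing B] [Algebra k B] [CommRing B'] [Algebra k B']
    (f : B →ₐ[k] B') (x : WithConv (A →ₐ[k] B)) :
    ptMonoidHom B' (post f x) = CoactBr.pt f ≫ ptMonoidHom B x :=
  CoactBr.pt_comp x.ofConv f

section

variable {r : ℕ} (φ : A →ₐc[k] MonoidAlgebra k (Multiplicative (Fin r → ℤ)))

/-- An affine point commutes with all points of the torus iff its orbit is constant. -/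
theorem commutes_iff_torOrbit {R : Type u} [CommRing R] [Algebra k R] (g : A →ₐ[k] R) :
    (∀ (W : Over (Spec (CommRingCat.of k))) (x : W ⟶ CoactBr.sp k R)
      (h : W ⟶ CoactBr.sp k (MonoidAlgebra k (Multiplicative (Fin r → ℤ)))),
      (x ≫ CoactBr.pt g) * (h ≫ CoactBr.pt (φ : A →ₐ[k] MonoidAlgebra k (Multiplicative (Fin r → ℤ)))) =
        (h ≫ CoactBr.pt (φ : A →ₐ[k] MonoidAlgebra k (Multiplicative (Fin r → ℤ)))) * (x ≫ CoactBr.pt g)) ↔
      torOrbit φ R g = post (torCst R) (toConv g) := by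
  let RM := MonoidAlgebra R (Multiplicative (Fin r → ℤ))
  let u : MonoidAlgebra k (Multiplicative (Fin r → ℤ)) →ₐ[k] RM :=
    MonoidAlgebra.mapAlgHom (Multiplicative (Fin r → ℤ)) (Algebra.ofId k R)
  have hx : ptMonoidHom RM (post (torCst R) (toConv g)) = CoactBr.pt (torCst R) ≫ CoactBr.pt g :=
    ptMonoidHom_post (torCst R) (toConv g)
  have hh : ptMonoidHom RM (torPt φ R) =
      CoactBr.pt u ≫ CoactBr.pt (φ : A →ₐ[k] MonoidAlgebra k (Multiplicative (Fin r → ℤ))) :=
    CoactBr.pt_comp _ u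
  constructor
  · intro H
    have h1 := H _ (CoactBr.pt (torCst R)) (CoactBr.pt u)
    rw [← hx, ← hh, ← map_mul, ← map_mul] at h1
    have h2 := ptMonoidHom_injective RM h1
    rw [torOrbit, ← h2, mul_inv_cancel_right]
  · intro H W x h
    refine Groth.GrassRep.hom_ext _ _ fun B t => ?_
    rw [MonObj.comp_mul, MonObj.comp_mul, ← Category.assoc, ← Category.assoc]
    obtain ⟨a, ha⟩ := Groth.AlgGrp2.pt_surjective (R := k) (K := (B : Type u)) (B := R) (t ≫ x)
    obtain ⟨b, hb⟩ := Groth.AlgGrp2.pt_surjective (R := k) (K := (B : Type u))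
      (B := MonoidAlgebra k (Multiplicative (Fin r → ℤ))) (t ≫ h)
    letI : Algebra R (B : Type u) := a.toRingHom.toAlgebra
    haveI : IsScalarTower k R (B : Type u) := IsScalarTower.of_algebraMap_eq fun c => (a.commutes c).symm
    let θ : RM →ₐ[k] (B : Type u) :=
      (MonoidAlgebra.lift R (B : Type u) (Multiplicative (Fin r → ℤ))
        ((b : MonoidAlgebra k (Multiplicative (Fin r → ℤ)) →* (B : Type u)).comp
          (MonoidAlgebra.of k (Multiplicative (Fin r → ℤ))))).restrictScalars k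
    have hθa : θ.comp (torCst R) = a := AlgHom.ext fun c => by
      change MonoidAlgebra.lift R (B : Type u) _ _ (algebraMap R RM c) = a c
      rw [AlgHom.commutes]; rfl
    have hθb : θ.comp u = b := MonoidAlgebra.algHom_ext (fun m => by
      change MonoidAlgebra.lift R (B : Type u) _ _ (MonoidAlgebra.mapAlgHom _ _ (MonoidAlgebra.single m 1)) = _
      rw [MonoidAlgebra.mapAlgHom_single, map_one, MonoidAlgebra.lift_single, one_smul]
      rfl) (by ext)
    have main : (CoactBr.pt a ≫ CoactBr.pt g) *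
        (CoactBr.pt b ≫ CoactBr.pt (φ : A →ₐ[k] MonoidAlgebra k (Multiplicative (Fin r → ℤ)))) =
      (CoactBr.pt b ≫ CoactBr.pt (φ : A →ₐ[k] MonoidAlgebra k (Multiplicative (Fin r → ℤ)))) *
        (CoactBr.pt a ≫ CoactBr.pt g) := by
      rw [← hθa, ← hθb, CoactBr.pt_comp, CoactBr.pt_comp, Category.assoc, Category.assoc, ← hx, ← hh,
        ← MonObj.comp_mul, ← MonObj.comp_mul, ← map_mul, ← map_mul]
      congr 2
      conv_lhs => rw [← H]
      rw [torOrbit, inv_mul_cancel_right]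
    rw [ha, hb] at main
    exact main

end

/-- The centralizer of a one-parameter subgroup of a connected group is connected. -/
theorem idem_centralizer [Algebra.FiniteType k A] (hA : ∀ e : A, IsIdempotentElem e → e = 0 ∨ e = 1)
    (lam : A →ₐc[k] k[T;T⁻¹]) (Z : Ideal A)
    (hZ : Dyn.Represents k A Z
      (fun R _ _ g => Dyn.conjOrbit k A lam R g = (IsScalarTower.toAlgHom k R R[T;T⁻¹]).comp g))
    (hle : Groth.Misc1.Dyn.negI lam ≤ Z) (e : A ⧸ Z) (he : IsIdempotentElem e) : e = 0 ∨ e = 1 := by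
  haveI := Groth.Misc1.Dyn.isHopfIdeal_negI lam
  set Jp := Groth.Misc1.Dyn.negI lam with hJp
  have hp := Groth.Misc1.Dyn.represents_negI lam
  let π : A →ₐ[k] A ⧸ Jp := Ideal.Quotient.mkₐ k Jp
  let q : A ⧸ Jp →ₐ[k] A ⧸ Z := Ideal.Quotient.factorₐ k hle
  obtain ⟨⟨z, u⟩, ⟨hz, hu, hzu⟩, -⟩ := Groth.Misc1.Dyn.existsUnique_decomp lam π
    ((hp (A ⧸ Jp) π).1 fun a ha => Ideal.Quotient.eq_zero_iff_mem.2 ha)
  let ω : A →ₐ[k] A ⧸ Z := Ideal.Quotient.mkₐ k Z
  have hω : Dyn.conjOrbit k A lam (A ⧸ Z) ω = (IsScalarTower.toAlgHom k (A ⧸ Z) (A ⧸ Z)[T;T⁻¹]).comp ω :=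
    (hZ (A ⧸ Z) ω).1 fun a ha => Ideal.Quotient.eq_zero_iff_mem.2 ha
  have hzZ : ∀ a ∈ Z, z a = 0 := (hZ (A ⧸ Jp) z).2 hz
  have huq : Dyn.LimIsOne k A lam (A ⧸ Z) (q.comp u) := by
    have h1 := (Groth.Misc1.Dyn.represents_oneI lam (A ⧸ Jp) u).2 hu
    exact (Groth.Misc1.Dyn.represents_oneI lam (A ⧸ Z) (q.comp u)).1 fun a ha => by
      rw [AlgHom.comp_apply, h1 a ha, map_zero]
  have hzq : Dyn.conjOrbit k A lam (A ⧸ Z) (q.comp z) =
      (IsScalarTower.toAlgHom k (A ⧸ Z) (A ⧸ Z)[T;T⁻¹]).comp (q.comp z) :=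
    (hZ (A ⧸ Z) (q.comp z)).1 fun a ha => by rw [AlgHom.comp_apply, hzZ a ha, map_zero]
  have hmul : toConv (q.comp z) * toConv (q.comp u) = toConv ω := by
    rw [Groth.Sga3.ConvPoints.conv3_eq] at hzu
    have h1 : toConv z * toConv u = toConv π :=
      (_root_.mul_one _).symm.trans (WithConv.ofConv_injective hzu)
    have h2 := congrArg (post q) h1
    rw [map_mul] at h2
    exact h2
  have hωlim : Dyn.LimExists k A lam (A ⧸ Z) ω :=
    (hp (A ⧸ Z) ω).1 fun a ha => Ideal.Quotient.eq_zero_iff_mem.2 (hle ha)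
  obtain ⟨p, -, huniq⟩ := Groth.Misc1.Dyn.existsUnique_decomp lam ω hωlim
  have e1 : (q.comp z, q.comp u) = p := huniq _ ⟨hzq, huq, by
    rw [Groth.Sga3.ConvPoints.conv3_eq]
    exact congrArg WithConv.ofConv ((_root_.mul_one _).trans hmul)⟩
  have e2 : (ω, (1 : WithConv (A →ₐ[k] A ⧸ Z)).ofConv) = p := huniq _ ⟨hω,
    Groth.Misc1.Dyn.limIsOne_conv_one lam, by
      rw [Groth.Sga3.ConvPoints.conv3_eq]
      exact congrArg WithConv.ofConv ((_root_.mul_one _).trans (_root_.mul_one _))⟩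
  have hqz : q.comp z = ω := congrArg Prod.fst (e1.trans e2.symm)
  let zb : A ⧸ Z →ₐ[k] A ⧸ Jp := Ideal.Quotient.liftₐ Z z hzZ
  have hqzb : ∀ x, q (zb x) = x := fun x => by
    obtain ⟨a, rfl⟩ := Ideal.Quotient.mk_surjective x
    exact DFunLike.congr_fun hqz a
  rcases Groth.Misc1.Dyn.idem_limExists lam Jp hp hA (zb e) (he.map zb) with h | h
  · left; rw [← hqzb e, h, map_zero]
  · right; rw [← hqzb e, h, map_one]

variable [IsAlgClosed k]

/-- **Centralizers of tori in connected affine groups are connected.** -/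
theorem connectedSpace_centralizer_torus {G T C : Over (Spec (CommRingCat.of k))} [GrpObj G] [GrpObj T]
    [IsAffine G.left] [LocallyOfFiniteType G.hom] [ConnectedSpace G.left] (iT : T ⟶ G) [IsMonHom iT]
    (hT : Red.IsTorus T) (c : C ⟶ G) [GrpObj C] (hc : Red.IsCentralizerOf iT c) :
    ConnectedSpace C.left := by
  obtain ⟨A, _, _, _, e, he⟩ := exists_hopf_iso G
  obtain ⟨r, eT, heT⟩ := exists_diag_iso_of_isTorus hT
  haveI := heT
  obtain ⟨φ, hφ⟩ := exists_bialgHom_of_isMonHom (eT.hom ≫ iT ≫ e.inv)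
  obtain ⟨lam, hlam⟩ := exists_generic_cochar φ
  obtain ⟨lamNeg, hneg⟩ := Groth.Misc1.Dyn.exists_negParam lam
  haveI := Groth.Misc1.Dyn.isHopfIdeal_negI lam
  haveI := Groth.Misc1.Dyn.isHopfIdeal_negI lamNeg
  let Z : Ideal A := Groth.Misc1.Dyn.negI lam ⊔ Groth.Misc1.Dyn.negI lamNeg
  have hZ := Groth.Misc1.Dyn.represents_sup lam lamNeg hneg _ _
    (Groth.Misc1.Dyn.represents_negI lam) (Groth.Misc1.Dyn.represents_negI lamNeg)
  have hconn : ConnectedSpace (PrimeSpectrum A) := by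
    have h : IsIso e.inv.left := inferInstanceAs (IsIso ((Over.forget _).map e.inv))
    exact e.inv.left.homeomorph.surjective.connectedSpace e.inv.left.homeomorph.continuous
  have hA : ∀ x : A, IsIdempotentElem x → x = 0 ∨ x = 1 := fun x hx => Groth.Calg5.idemTrivial_of_connectedSpace x hx
  let κ : A →ₐ[k] A ⧸ Z := Ideal.Quotient.mkₐ k Z
  let i : CoactBr.sp k (A ⧸ Z) ⟶ G := CoactBr.pt κ ≫ e.hom
  have hci : IsClosedImmersion (CoactBr.pt κ).left := by
    rw [CoactBr.pt_left]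
    exact IsClosedImmersion.spec_of_surjective _ Ideal.Quotient.mk_surjective
  haveI : Mono (CoactBr.pt κ) := Over.mono_of_mono_left _
  haveI : Mono i := inferInstanceAs (Mono (CoactBr.pt κ ≫ e.hom))
  obtain ⟨hcm, hcmono, hcp⟩ := hc
  -- points of the centralizer
  have key : ∀ (R : Type u) [CommRing R] [Algebra k R] (g : A →ₐ[k] R),
      (∃ y : CoactBr.sp k R ⟶ C, y ≫ c = CoactBr.pt g ≫ e.hom) ↔ ∀ a ∈ Z, g a = 0 := by
    intro R _ _ g
    refine Iff.trans ?_ (((hlam R g).trans (commutes_iff_torOrbit φ g).symm).symm.trans (hZ R g).symm)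
    rw [hcp]
    constructor
    · intro H W x h
      have h1 := H W x (h ≫ eT.hom)
      rw [← cancel_mono e.hom, MonObj.mul_comp, MonObj.mul_comp]
      simp only [Category.assoc] at h1 ⊢
      rw [hφ]
      simpa [Category.assoc] using h1
    · intro H W x h
      have h1 := congrArg (· ≫ e.hom) (H W x (h ≫ eT.inv))
      simp only [MonObj.mul_comp, Category.assoc] at h1
      rw [hφ] at h1
      simpa [Category.assoc] using h1
  -- the comparison maps
  obtain ⟨u, hu⟩ := exists_factor_of_pts c i fun R t => by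
    obtain ⟨f, hf⟩ := Groth.AlgGrp2.pt_surjective (R := k) (K := (R : Type u)) (B := A ⧸ Z) t
    refine ((key _ (f.comp κ)).2 fun a ha => ?_).imp fun y hy => ?_
    · rw [AlgHom.comp_apply]
      exact (congrArg f (Ideal.Quotient.eq_zero_iff_mem.2 ha)).trans (map_zero _)
    · refine hy.trans ?_
      rw [CoactBr.pt_comp, hf]
      exact Category.assoc _ _ _
  obtain ⟨w, hw⟩ := exists_factor_of_pts i c fun R t => by
    obtain ⟨f, hf⟩ := Groth.AlgGrp2.pt_surjective (R := k) (K := (R : Type u)) (B := A) (t ≫ c ≫ e.inv)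
    have h1 := (key _ f).1 ⟨t, by
      rw [hf]
      simp⟩
    refine ⟨CoactBr.pt (Ideal.Quotient.liftₐ Z f h1), ?_⟩
    show CoactBr.pt _ ≫ CoactBr.pt κ ≫ e.hom = _
    rw [← Category.assoc, ← CoactBr.pt_comp, show (Ideal.Quotient.liftₐ Z f h1).comp κ = f from AlgHom.ext fun _ => rfl, hf]
    exact (Category.assoc _ _ _).trans (by rw [Category.assoc, Iso.inv_hom_id, Category.comp_id]; rfl)
  let E : CoactBr.sp k (A ⧸ Z) ≅ C := ⟨u, w, (cancel_mono i).1 (by rw [Category.assoc, hw, hu, Category.id_comp]),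
    (cancel_mono c).1 (by rw [Category.assoc, hu, hw, Category.id_comp])⟩
  haveI := Groth.Misc1.Dyn.preconnectedSpace_of_idem
    (idem_centralizer hA lam Z hZ le_sup_left)
  haveI : Nonempty (PrimeSpectrum (A ⧸ Z)) := by
    obtain ⟨y, -⟩ := (hcp _ (1 : 𝟙_ (Over (Spec (CommRingCat.of k))) ⟶ G)).2 fun W x h => by
      rw [MonObj.comp_one, _root_.one_mul, _root_.mul_one]
    exact ⟨(y ≫ E.inv).left.base (IsLocalRing.closedPoint k)⟩
  haveI : ConnectedSpace (PrimeSpectrum (A ⧸ Z)) := ⟨inferInstance⟩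
  haveI hAZ : ConnectedSpace (CoactBr.sp k (A ⧸ Z)).left := ‹ConnectedSpace (PrimeSpectrum (A ⧸ Z))›
  have h : IsIso E.hom.left := ((Over.forget _).mapIso E).isIso_hom
  exact E.hom.left.homeomorph.surjective.connectedSpace E.hom.left.homeomorph.continuous

end Groth.AlgGrp1
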