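import Groth.Agent.AlgGrp1.MaxTorus
import Groth.Agent.AlgGrp1.Points
import Groth.Agent.S7986

/-!
Nilpotency of smooth groups is detected on rational points; connected solvable groups with central
tori are nilpotent.
-/

set_option autoImplicit false
set_option linter.style.haveILetI false
universe u

open CategoryTheory Limits MonoidalCategory CartesianMonoidalCategory MonObj GrpObj AlgebraicGeometry
open WithConv
open scoped commutatorElement

noncomputable section

namespace Groth.AlgGrp1

section Word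

variable {S : Scheme.{u}} (G : Over S) [GrpObj G]

/-- The source of the arguments of the iterated commutator. -/
def wordArgs : ℕ → Over S
  | 0 => 𝟙_ (Over S)
  | n + 1 => G ⊗ wordArgs n

/-- The iterated commutator. -/
def word : (n : ℕ) → (G ⊗ wordArgs G n ⟶ G)
  | 0 => fst _ _
  | n + 1 => (lift ⁅fst G (G ⊗ wordArgs G n),
        (snd G (G ⊗ wordArgs G n) ≫ fst G (wordArgs G n) : G ⊗ (G ⊗ wordArgs G n) ⟶ G)⁆
      (snd G (G ⊗ wordArgs G n) ≫ snd G (wordArgs G n)) :
        G ⊗ (G ⊗ wordArgs G n) ⟶ G ⊗ wordArgs G n) ≫ word n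

variable {G}

theorem lift_word_succ {n : ℕ} {X : Over S} (x y : X ⟶ G) (z : X ⟶ wordArgs G n) :
    lift x (lift y z : X ⟶ wordArgs G (n + 1)) ≫ word G (n + 1) = lift ⁅x, y⁆ z ≫ word G n := by
  show lift x (lift y z) ≫ lift _ _ ≫ word G n = _
  rw [← Category.assoc, comp_lift, lift_snd_assoc, lift_snd]
  congr 2
  simp only [commutatorElement_def, MonObj.comp_mul, GrpObj.comp_inv, lift_fst, lift_snd_assoc]

theorem mem_ucs_of_word : ∀ (n : ℕ) (X : Over S) (x : X ⟶ G),
    (∀ z : X ⟶ wordArgs G n, lift x z ≫ word G n = 1) → x ∈ Subgroup.upperCentralSeries (X ⟶ G) n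
  | 0, X, x, h => by
    have h1 := h (toUnit X)
    rw [show word G 0 = fst _ _ from rfl, lift_fst] at h1
    rw [Subgroup.upperCentralSeries_zero, Subgroup.mem_bot, h1]
  | n + 1, X, x, h => by
    rw [Subgroup.mem_upperCentralSeries_succ_iff]
    intro y
    refine mem_ucs_of_word n X _ fun z => ?_
    rw [← lift_word_succ]
    exact h (lift y z)

theorem word_of_mem_ucs : ∀ (n : ℕ) (X : Over S) (x : X ⟶ G) (z : X ⟶ wordArgs G n),
    x ∈ Subgroup.upperCentralSeries (X ⟶ G) n → lift x z ≫ word G n = 1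
  | 0, X, x, z, h => by
    rw [show word G 0 = fst _ _ from rfl, lift_fst]
    rwa [Subgroup.upperCentralSeries_zero, Subgroup.mem_bot] at h
  | n + 1, X, x, z, h => by
    let z' : X ⟶ G ⊗ wordArgs G n := z
    have hz : z = lift (z' ≫ fst _ _) (z' ≫ snd _ _) := by
      refine (?_ : z' = lift (z' ≫ fst _ _) (z' ≫ snd _ _))
      rw [← comp_lift, lift_fst_snd, Category.comp_id]
    rw [hz]
    exact (lift_word_succ x _ _).trans
      (word_of_mem_ucs n X _ _ (Subgroup.mem_upperCentralSeries_succ_iff.1 h _))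

theorem isNilpotentGrp_of_word {n : ℕ} (h : word G n = 1) : AGF.IsNilpotentGrp G :=
  ⟨n, fun X => eq_top_iff.2 fun x _ => mem_ucs_of_word n X x fun z => by rw [h, MonObj.comp_one]⟩

end Word

variable {k : Type u} [Field k] [IsAlgClosed k]

theorem smooth_tensor_over (X Y : Over (Spec (CommRingCat.of k))) [Smooth X.hom] [Smooth Y.hom] :
    Smooth (X ⊗ Y).hom :=
  inferInstanceAs (Smooth (pullback.fst X.hom Y.hom ≫ X.hom))

theorem smooth_wordArgs (G : Over (Spec (CommRingCat.of k))) [Smooth G.hom] :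
    ∀ n, Smooth (wordArgs G n).hom
  | 0 => inferInstanceAs (Smooth (𝟙 _))
  | n + 1 => by
    have := smooth_wordArgs G n
    exact smooth_tensor_over G (wordArgs G n)

/-- Nilpotency of a smooth separated group is detected on rational points. -/
theorem isNilpotentGrp_of_points (G : Over (Spec (CommRingCat.of k))) [GrpObj G] [Smooth G.hom]
    [IsSeparated G.hom] (h : Group.IsNilpotent (specAlg k k ⟶ G)) : AGF.IsNilpotentGrp G := by
  obtain ⟨n, hn⟩ := h.nilpotent'
  have := smooth_wordArgs G n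
  have : Smooth (G ⊗ wordArgs G n).hom := smooth_tensor_over G (wordArgs G n)
  have := geometricallyReduced_of_smooth_hom (G ⊗ wordArgs G n)
  refine isNilpotentGrp_of_word (n := n) (eq_of_sepClosed_points k _ _ fun t => ?_)
  have ht : lift (t ≫ fst _ _) (t ≫ snd _ _) = t := by rw [← comp_lift, lift_fst_snd, Category.comp_id]
  rw [MonObj.comp_one, ← ht]
  exact word_of_mem_ucs n _ _ _ (hn ▸ Subgroup.mem_top _)

/-- Precomposition with a map of Hopf algebras. -/
def convPre {P Q : Type u} [CommRing P] [HopfAlgebra k P] [CommRing Q] [HopfAlgebra k Q] (h : Q →ₐc[k] P) :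
    WithConv (P →ₐ[k] k) →* WithConv (Q →ₐ[k] k) where
  toFun f := toConv (f.ofConv.comp (h : Q →ₐ[k] P))
  map_one' := congrArg toConv (AlgHom.ext fun y => by simp [AlgHom.convOne_apply])
  map_mul' x y := congrArg toConv (AlgHom.convMul_comp_bialgHom_distrib x y h)

/-- Rational points through a Hopf algebra. -/
def hopfPts {B : Over (Spec (CommRingCat.of k))} [GrpObj B] {A : Type u} [CommRing A] [HopfAlgebra k A]
    (e : CoactBr.sp k A ≅ B) [IsMonHom e.hom] : WithConv (A →ₐ[k] k) →* (CoactBr.sp k k ⟶ B) :=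
  MonoidHom.mk' (fun f => CoactBr.pt f.ofConv ≫ e.hom) fun f g => by
    rw [← MonObj.mul_comp]
    congr 1
    exact map_mul Spec.mapMulEquiv f g

theorem hopfPts_apply {B : Over (Spec (CommRingCat.of k))} [GrpObj B] {A : Type u} [CommRing A] [HopfAlgebra k A]
    (e : CoactBr.sp k A ≅ B) [IsMonHom e.hom] (f : WithConv (A →ₐ[k] k)) :
    hopfPts e f = CoactBr.pt f.ofConv ≫ e.hom := rfl

theorem hopfPts_injective {B : Over (Spec (CommRingCat.of k))} [GrpObj B] {A : Type u} [CommRing A] [HopfAlgebra k A]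
    (e : CoactBr.sp k A ≅ B) [IsMonHom e.hom] : Function.Injective (hopfPts e) := fun _ _ h =>
  WithConv.ofConv_injective (CoactBr.pt_injective ((cancel_mono e.hom).1 h))

theorem hopfPts_surjective {B : Over (Spec (CommRingCat.of k))} [GrpObj B] {A : Type u} [CommRing A] [HopfAlgebra k A]
    (e : CoactBr.sp k A ≅ B) [IsMonHom e.hom] : Function.Surjective (hopfPts e) := fun p => by
  obtain ⟨f, hf⟩ := Groth.AlgGrp2.pt_surjective (p ≫ e.inv)
  exact ⟨toConv f, by show CoactBr.pt f ≫ e.hom = p; rw [hf]; simp⟩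

/-- The Hopf algebra of a connected solvable smooth group is a trigonalizable domain. -/
theorem isTrigonalizable_of_iso {B : Over (Spec (CommRingCat.of k))} [GrpObj B] [Smooth B.hom]
    [ConnectedSpace B.left] (hs : Red.IsSolvableGrp B) {A : Type u} [CommRing A] [HopfAlgebra k A]
    [Algebra.FiniteType k A] (e : CoactBr.sp k A ≅ B) [IsMonHom e.hom] :
    IsDomain A ∧ HopfRep.IsTrigonalizable k A := by
  obtain ⟨n, hn⟩ := hs
  haveI : IsReduced B.left := isReduced_of_smooth B.hom
  have : IsIso e.hom.left := inferInstanceAs (IsIso ((Over.forget _).map e.hom))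
  have h_red : IsReduced (CoactBr.sp k A).left := isReduced_of_isOpenImmersion e.hom.left
  haveI : IsReduced (Spec (CommRingCat.of A)) := h_red
  haveI : _root_.IsReduced A := (AlgebraicGeometry.affine_isReduced_iff (CommRingCat.of A)).1 ‹_›
  haveI : ConnectedSpace (PrimeSpectrum A) := by
    have h : IsIso e.inv.left := inferInstanceAs (IsIso ((Over.forget _).map e.inv))
    exact e.inv.left.homeomorph.surjective.connectedSpace e.inv.left.homeomorph.continuous
  haveI : IsDomain A := Groth.Misc1.Unip.isDomain_of_connected' (k := k) fun x hx => by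
    by_contra hne
    push Not at hne
    obtain ⟨p, hp⟩ := (PrimeSpectrum.basicOpen x : TopologicalSpace.Opens (PrimeSpectrum A)).1.eq_empty_or_nonempty.resolve_left
      fun h => hne.1 (hx.eq_zero_of_isNilpotent ((PrimeSpectrum.basicOpen_eq_bot_iff x).1 (SetLike.coe_injective h)))
    have hc := PrimeSpectrum.isClopen_iff.2 ⟨x, hx, rfl⟩
    rcases isClopen_iff.1 hc with h | h
    · exact (h ▸ hp : p ∈ (∅ : Set (PrimeSpectrum A)))
    · refine hne.2 (sub_eq_zero.1 (neg_eq_zero.1 ?_))
      rw [neg_sub]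
      refine hx.one_sub.eq_zero_of_isNilpotent ((PrimeSpectrum.basicOpen_eq_bot_iff _).1 ?_)
      refine SetLike.coe_injective (Set.eq_empty_of_forall_notMem fun q hq => ?_)
      have hq' : x ∉ q.asIdeal :=
        (h.symm ▸ Set.mem_univ q : q ∈ (PrimeSpectrum.basicOpen x : Set (PrimeSpectrum A)))
      rcases q.isPrime.mem_or_mem (hx.mul_one_sub_self ▸ q.asIdeal.zero_mem : x * (1 - x) ∈ q.asIdeal) with h1 | h1
      exacts [hq' h1, hq h1]
  haveI : Group.IsSolvable (WithConv (A →ₐ[k] k)) :=
    haveI : Group.IsSolvable (CoactBr.sp k k ⟶ B) := ⟨⟨n, hn _⟩⟩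
    Group.isSolvable_of_isSolvable_injective (f := hopfPts e) (hopfPts_injective e)
  exact ⟨‹_›, Groth.Misc1.Unip.isTrigonalizable_of_solvable⟩

/-- An extension of `N` by a unipotent group with a central section has nilpotent rational points. -/
theorem isNilpotent_points_of_central_section {A N : Type u} [CommRing A] [HopfAlgebra k A]
    [Algebra.FiniteType k A] [CommRing N] [HopfAlgebra k N] (ψ : N →ₐc[k] A) (ρ : A →ₐc[k] N)
    (J : Ideal A) [J.IsHopfIdeal k] (hρ : ρ.comp ψ = BialgHom.id k _)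
    (hJ : J = Ideal.map (ψ : N →+* A) (RingHom.ker (Bialgebra.counitAlgHom k N)))
    (hU : HopfRep.IsUnipotent k (A ⧸ J))
    (hcen : ∀ (f : WithConv (N →ₐ[k] k)) (g : WithConv (A →ₐ[k] k)),
      g * toConv (f.ofConv.comp (ρ : A →ₐ[k] N)) = toConv (f.ofConv.comp (ρ : A →ₐ[k] N)) * g) :
    Group.IsNilpotent (WithConv (A →ₐ[k] k)) := by
  let a := convPre (k := k) ψ
  let b := convPre (k := k) ρ
  let p := convPre (k := k) (Bialgebra.Quotient.mkBialgHom (R := k) J)
  have hab : ∀ f, a (b f) = f := fun f => WithConv.ofConv_injective (AlgHom.ext fun y =>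
    congrArg f.ofConv (DFunLike.congr_fun hρ y))
  let U : WithConv (A →ₐ[k] k) →* WithConv (A →ₐ[k] k) :=
    MonoidHom.mk' (fun g => g * (b (a g))⁻¹) fun g h => by
      have c1 : Commute h (b (a g))⁻¹ := Commute.inv_right (hcen (a g) h)
      have c2 : Commute (b (a h)) (b (a g)) := hcen (a g) (b (a h))
      rw [map_mul, map_mul, _root_.mul_inv_rev, c2.inv_inv.eq, _root_.mul_assoc g h,
        ← _root_.mul_assoc h, c1.eq, _root_.mul_assoc, ← _root_.mul_assoc g]
  have haU : ∀ g, a (U g) = 1 := fun g => by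
    show a (g * (b (a g))⁻¹) = 1
    rw [map_mul, map_inv, hab, mul_inv_cancel]
  have hUp : ∀ g, U g ∈ p.range := fun g => by
    have h0 : J ≤ RingHom.ker (U g).ofConv := by
      rw [hJ, Ideal.map_le_iff_le_comap]
      intro x hx
      rw [Ideal.mem_comap, RingHom.mem_ker]
      rw [RingHom.mem_ker, Bialgebra.counitAlgHom_apply] at hx
      show (a (U g)).ofConv x = 0
      rw [haU g]
      simp [AlgHom.convOne_apply, hx]
    exact ⟨toConv (Ideal.Quotient.liftₐ J (U g).ofConv fun x hx => h0 hx),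
      WithConv.ofConv_injective (AlgHom.ext fun x => rfl)⟩
  haveI : Group.IsNilpotent (WithConv ((A ⧸ J) →ₐ[k] k)) := Groth.Agent.S7986.result k (A ⧸ J) hU
  haveI : Group.IsNilpotent p.range :=
    Group.nilpotent_of_surjective p.rangeRestrict p.rangeRestrict_surjective
  refine Subgroup.isNilpotent_of_ker_le_center (U.codRestrict _ hUp) fun g hg => ?_
  rw [Subgroup.mem_center_iff]
  intro h
  have h1 : g * (b (a g))⁻¹ = 1 := congrArg Subtype.val (MonoidHom.mem_ker.1 hg)
  rw [mul_inv_eq_one.1 h1]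
  exact hcen _ h

/-- **A connected solvable group all of whose subtori are central is nilpotent.** -/
theorem isNilpotentGrp_of_tori_central (B : Over (Spec (CommRingCat.of k))) [GrpObj B] [IsAffine B.left]
    [Smooth B.hom] [ConnectedSpace B.left] (hs : Red.IsSolvableGrp B)
    (hc : ∀ (S : Over (Spec (CommRingCat.of k))) [GrpObj S] (j : S ⟶ B) [IsMonHom j], Red.IsTorus S →
      ∀ (X : Over (Spec (CommRingCat.of k))) (s : X ⟶ S) (g : X ⟶ B), g * (s ≫ j) = (s ≫ j) * g) :
    AGF.IsNilpotentGrp B := by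
  obtain ⟨A, _, _, _, e, he⟩ := exists_hopf_iso B
  obtain ⟨hdom, htri⟩ := isTrigonalizable_of_iso hs e
  haveI := hdom
  let P := hopfPts e
  have hP : Function.Injective P := hopfPts_injective e
  have hPs : Function.Surjective P := hopfPts_surjective e
  obtain ⟨r, ψ, ρ, J, hJh, hρ, hJ, hU⟩ :=
    exists_split_extension (k := k) A htri
  haveI := hJh
  let N := MonoidAlgebra k (Multiplicative (Fin r → ℤ))
  haveI := isMonHom_pt_bialg ρ
  let iS : CoactBr.sp k N ⟶ B := CoactBr.pt (ρ : A →ₐ[k] N) ≫ e.hom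
  have hcen : ∀ (f : WithConv (N →ₐ[k] k)) (g : WithConv (A →ₐ[k] k)),
      g * toConv (f.ofConv.comp (ρ : A →ₐ[k] N)) = toConv (f.ofConv.comp (ρ : A →ₐ[k] N)) * g := by
    intro f g
    have hpt : P (toConv (f.ofConv.comp (ρ : A →ₐ[k] N))) = CoactBr.pt f.ofConv ≫ iS := by
      show CoactBr.pt _ ≫ e.hom = _
      rw [CoactBr.pt_comp, Category.assoc]
    refine hP ?_
    rw [map_mul, map_mul, hpt]
    exact hc _ iS (isTorus_of_diag_iso (Iso.refl _) (inferInstanceAs (IsMonHom (𝟙 _)))) _ _ _
  haveI := isNilpotent_points_of_central_section ψ ρ J hρ hJ hU hcen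
  exact isNilpotentGrp_of_points B (Group.nilpotent_of_surjective P hPs)

end Groth.AlgGrp1
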