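import Groth.Agent.AlgGrp1.MaxTorus
import Groth.Agent.AlgGrp1.CartanDense
import Groth.Agent.AlgGrp1.CentTorus
import Groth.Agent.AlgGrp1.Blanchard
import Groth.Agent.AlgGrp1.ImageHom
import Groth.Agent.AlgGrp1.NilpotentGrp
import Groth.Agent.Agf.SubobjGrp

/-!
Centralizers of tori meet normalized smooth connected subgroups in smooth connected groups.
-/

set_option autoImplicit false
set_option linter.style.haveILetI false
universe u

open CategoryTheory Limits MonoidalCategory CartesianMonoidalCategory MonObj GrpObj AlgebraicGeometry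

noncomputable section

namespace Groth.AlgGrp1

variable {k : Type u} [Field k] [IsAlgClosed k]

theorem connectedSpace_tensor_of_point (N N' : Over (Spec (CommRingCat.of k))) [GrpObj N] [GrpObj N']
    [Smooth N.hom] [Smooth N'.hom] [ConnectedSpace N.left] [ConnectedSpace N'.left] :
    ConnectedSpace (N ⊗ N').left := by
  have : GeometricallyConnected N.hom := geometricallyConnected_of_point N.hom η[N].left (Over.w η[N])
  have : UniversallyOpen N'.hom := inferInstance
  have : UniversallyOpen N.hom := inferInstance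
  exact inferInstanceAs (ConnectedSpace ↥(pullback N.hom N'.hom))

/-- **The centralizer of a torus in a normalized smooth connected subgroup is smooth and connected.** -/
theorem smooth_connected_centralizer_inter {G S C H I : Over (Spec (CommRingCat.of k))} [GrpObj G] [GrpObj S]
    [GrpObj C] [GrpObj H] [IsAffine G.left] [Smooth G.hom] (iS : S ⟶ G) [IsMonHom iS] [Mono iS]
    (hS : Red.IsTorus S) (c : C ⟶ G) (hc : Red.IsCentralizerOf iS c) (j : H ⟶ G) [IsMonHom j]
    [IsClosedImmersion j.left] [Smooth H.hom] [ConnectedSpace H.left]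
    (hnorm : ∀ (X : Over (Spec (CommRingCat.of k))) (s : X ⟶ S) (h : X ⟶ H), ∃ h' : X ⟶ H,
      (s ≫ iS) * (h ≫ j) * (s ≫ iS)⁻¹ = h' ≫ j)
    (p : I ⟶ C) (q : I ⟶ H) (hI : IsPullback p q c j) : Smooth I.hom ∧ ConnectedSpace I.left := by
  obtain ⟨hSa, hSs, hSc⟩ := isAffine_smooth_connected_of_isTorus hS
  obtain ⟨hcm, hcmono, hcp⟩ := hc
  haveI := hcm; haveI := hcmono
  haveI : Mono j := Over.mono_of_mono_left j
  haveI : Mono q := hI.mono_snd_of_mono
  -- the semidirect product inside `G ⊗ S`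
  let P := G ⊗ S
  let θ : P ⟶ P := lift (fst G S * (snd G S ≫ iS)) (snd G S)
  let θ' : P ⟶ P := lift (fst G S * (snd G S ≫ iS)⁻¹) (snd G S)
  have hθ : θ ≫ θ' = 𝟙 P := by
    apply CartesianMonoidalCategory.hom_ext <;>
      simp [θ, θ', P, MonObj.comp_mul, GrpObj.comp_inv]
  have hθ' : θ' ≫ θ = 𝟙 P := by
    apply CartesianMonoidalCategory.hom_ext <;>
      simp [θ, θ', P, MonObj.comp_mul, GrpObj.comp_inv]
  obtain ⟨E, ⟨eE⟩⟩ : ∃ E : Over (Spec (CommRingCat.of k)), Nonempty (E ≅ H ⊗ S) := ⟨_, ⟨Iso.refl _⟩⟩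
  let n : E ⟶ P := eE.hom ≫ (j ▷ S) ≫ θ
  let mk : ∀ {W : Over (Spec (CommRingCat.of k))}, (W ⟶ H) → (W ⟶ S) → (W ⟶ E) :=
    fun h s => lift h s ≫ eE.inv
  have hcm' : ∀ {W W' : Over (Spec (CommRingCat.of k))} (x : W' ⟶ W) (h : W ⟶ H) (s : W ⟶ S),
      x ≫ mk h s = mk (x ≫ h) (x ≫ s) := fun x h s => by simp only [mk, comp_lift_assoc]
  have heta : ∀ {W : Over (Spec (CommRingCat.of k))} (z : W ⟶ E),
      mk (z ≫ eE.hom ≫ fst H S) (z ≫ eE.hom ≫ snd H S) = z := fun z => by
    simp only [mk, ← comp_lift_assoc, ← Category.assoc z eE.hom]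
    simp
  have hmk1 : ∀ {W : Over (Spec (CommRingCat.of k))} (h : W ⟶ H) (s : W ⟶ S), mk h s ≫ eE.hom ≫ fst H S = h :=
    fun h s => by simp [mk]
  have hmk2 : ∀ {W : Over (Spec (CommRingCat.of k))} (h : W ⟶ H) (s : W ⟶ S), mk h s ≫ eE.hom ≫ snd H S = s :=
    fun h s => by simp [mk]
  have hn : ∀ {W : Over (Spec (CommRingCat.of k))} (h : W ⟶ H) (s : W ⟶ S),
      mk h s ≫ n = lift ((h ≫ j) * (s ≫ iS)) s := fun h s => by
    apply CartesianMonoidalCategory.hom_ext <;> simp [n, mk, θ, MonObj.comp_mul]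
  have : IsIso θ := ⟨θ', hθ, hθ'⟩
  have : IsIso θ.left := inferInstanceAs (IsIso ((Over.forget _).map θ))
  have hw : IsClosedImmersion (j ▷ S).left :=
    MorphismProperty.of_isPullback (isPullback_whiskerRight j S) ‹IsClosedImmersion j.left›
  have hnc : IsClosedImmersion n.left := by
    have : IsIso eE.hom.left := ((Over.forget _).mapIso eE).isIso_hom
    show IsClosedImmersion (eE.hom ≫ (j ▷ S) ≫ θ).left
    rw [Over.comp_left, Over.comp_left]; infer_instance
  have : Mono n := Over.mono_of_mono_left n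
  have hmem : ∀ (W : Over (Spec (CommRingCat.of k))) (g : W ⟶ P),
      (∃ z, z ≫ n = g) ↔ ∃ h : W ⟶ H, g ≫ fst G S = (h ≫ j) * ((g ≫ snd G S) ≫ iS) := by
    intro W g
    constructor
    · rintro ⟨z, rfl⟩
      refine ⟨z ≫ eE.hom ≫ fst H S, ?_⟩
      simp [n, θ, MonObj.comp_mul]
    · rintro ⟨h, hh⟩
      refine ⟨mk h (g ≫ snd G S), ?_⟩
      rw [hn, ← hh, ← comp_lift, lift_fst_snd, Category.comp_id]
  let Q : ∀ ⦃W : Over (Spec (CommRingCat.of k))⦄, (W ⟶ P) → Prop := fun W g =>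
    ∃ h : W ⟶ H, g ≫ fst G S = (h ≫ j) * ((g ≫ snd G S) ≫ iS)
  obtain ⟨iE, hnm⟩ := Groth.Agf.exists_grpObj_of_subgroup n Q hmem
    (fun W => ⟨1, by
      simp only [MonObj.one_comp, _root_.one_mul]⟩)
    (fun W a b ⟨ha, ha'⟩ ⟨hb, hb'⟩ => by
      obtain ⟨hb2, hb2'⟩ := hnorm W (a ≫ snd G S) hb
      refine ⟨ha * hb2, ?_⟩
      simp only [MonObj.mul_comp, ha', hb', ← hb2']
      group)
    (fun W a ⟨ha, ha'⟩ => by
      obtain ⟨h2, h2'⟩ := hnorm W (a ≫ snd G S)⁻¹ ha⁻¹
      refine ⟨h2, ?_⟩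
      simp only [GrpObj.inv_comp, ha', ← h2', _root_.inv_inv]
      group)
  haveI := hnm
  haveI : Smooth E.hom := by
    have := smooth_tensor_over H S
    have : IsIso eE.hom.left := ((Over.forget _).mapIso eE).isIso_hom
    rw [← Over.w eE.hom]; infer_instance
  haveI : ConnectedSpace E.left := by
    have := connectedSpace_tensor_of_point H S
    have : IsIso eE.inv.left := ((Over.forget _).mapIso eE).isIso_inv
    exact eE.inv.left.homeomorph.surjective.connectedSpace eE.inv.left.homeomorph.continuous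
  haveI : IsAffine H.left := isAffine_of_isAffineHom j.left
  haveI : IsAffine E.left := isAffine_of_isAffineHom n.left
  -- the torus
  obtain ⟨t, htdef⟩ : ∃ t : S ⟶ E, t = mk 1 (𝟙 S) := ⟨_, rfl⟩
  have ht : t ≫ n = lift iS (𝟙 S) := by rw [htdef, hn, MonObj.one_comp, _root_.one_mul, Category.id_comp]
  have htm : IsMonHom t := isMonHom_of_points _ fun W a b => by
    rw [← cancel_mono n, MonObj.mul_comp _ _ n, Category.assoc, Category.assoc, Category.assoc, ht]
    apply CartesianMonoidalCategory.hom_ext <;> simp [MonObj.mul_comp]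
  have htmono : Mono t := by
    have : IsSplitMono t := IsSplitMono.mk' ⟨eE.hom ≫ snd H S, by rw [htdef]; exact hmk2 _ _⟩
    infer_instance
  have htc := isClosedImmersion_of_isTorus t hS
  obtain ⟨⟨Z, _, z, hz, -, -⟩, -⟩ := Groth.Agent.S3006.result _ E S t htc hS
  obtain ⟨hZs, -⟩ := smooth_centralizer_torus t htc hS z hz
  have hZc := connectedSpace_centralizer_torus t hS z hz
  obtain ⟨hzm, hzmono, hzp⟩ := hz
  haveI := hzmono
  -- points of the centralizer
  have key : ∀ {W : Over (Spec (CommRingCat.of k))} (h : W ⟶ H) (s : W ⟶ S),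
      (∃ y, y ≫ z = mk h s) ↔ ∃ a : W ⟶ C, a ≫ c = h ≫ j := by
    intro W h s
    rw [hzp, hcp]
    refine forall₃_congr fun W' x y => ?_
    have hcomm : ((x ≫ s) ≫ iS) * (y ≫ iS) = (y ≫ iS) * ((x ≫ s) ≫ iS) := by
      rw [← MonObj.mul_comp, ← MonObj.mul_comp, Groth.Reductive2.torus_mul_comm hS (x ≫ s) y]
    have e1 : ((x ≫ mk h s) * (y ≫ t)) ≫ n = lift (((x ≫ h) ≫ j) * ((x ≫ s) ≫ iS) * (y ≫ iS)) ((x ≫ s) * y) := by
      rw [MonObj.mul_comp, hcm', hn, Category.assoc y, ht]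
      apply CartesianMonoidalCategory.hom_ext <;> simp [MonObj.mul_comp]
    have e2 : ((y ≫ t) * (x ≫ mk h s)) ≫ n = lift ((y ≫ iS) * (((x ≫ h) ≫ j) * ((x ≫ s) ≫ iS))) (y * (x ≫ s)) := by
      rw [MonObj.mul_comp, hcm', hn, Category.assoc y, ht]
      apply CartesianMonoidalCategory.hom_ext <;> simp [MonObj.mul_comp]
    rw [← cancel_mono n, e1, e2]
    constructor
    · intro H'
      have h1 := congrArg (· ≫ fst G S) H'
      simp only [lift_fst] at h1
      rw [_root_.mul_assoc, hcomm, ← _root_.mul_assoc, ← _root_.mul_assoc] at h1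
      rw [← Category.assoc x h j]
      exact mul_right_cancel h1
    · intro H'
      rw [← Category.assoc x h j] at H'
      rw [Groth.Reductive2.torus_mul_comm hS (x ≫ s) y, _root_.mul_assoc _ _ (y ≫ iS), hcomm,
        ← _root_.mul_assoc, H', _root_.mul_assoc]
  -- the centralizer is `I ⊗ S`
  let f : I ⊗ S ⟶ H ⊗ S := q ▷ S
  obtain ⟨g, hg⟩ := (key (fst I S ≫ q) (snd I S)).2 ⟨fst I S ≫ p, by rw [Category.assoc, Category.assoc, hI.w]⟩
  obtain ⟨a, ha⟩ := (key (z ≫ eE.hom ≫ fst H S) (z ≫ eE.hom ≫ snd H S)).1 ⟨𝟙 Z, by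
    rw [Category.id_comp, heta]⟩
  let g' : Z ⟶ I ⊗ S := lift (hI.lift a (z ≫ eE.hom ≫ fst H S) ha) (z ≫ eE.hom ≫ snd H S)
  have h1 : g' ≫ g = 𝟙 Z := by
    rw [← cancel_mono z, Category.assoc, hg, hcm', Category.id_comp]
    conv_rhs => rw [← heta z]
    congr 1
    · rw [← Category.assoc, lift_fst, IsPullback.lift_snd]
    · rw [lift_snd]
  have h2 : g ≫ g' = 𝟙 (I ⊗ S) := by
    apply CartesianMonoidalCategory.hom_ext
    · rw [Category.id_comp, ← cancel_mono q, Category.assoc, Category.assoc, lift_fst_assoc, IsPullback.lift_snd,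
        ← Category.assoc g, hg, hmk1]
    · rw [Category.id_comp, Category.assoc, lift_snd, ← Category.assoc, hg, hmk2]
  have : IsIso g := ⟨g', h2, h1⟩
  have : IsIso g.left := inferInstanceAs (IsIso ((Over.forget _).map g))
  have hIS : Smooth (I ⊗ S).hom := by rw [← Over.w g]; infer_instance
  have hISc : ConnectedSpace (I ⊗ S).left := by
    have : IsIso (inv g).left := inferInstanceAs (IsIso ((Over.forget _).map (inv g)))
    exact (inv g).left.homeomorph.surjective.connectedSpace (inv g).left.homeomorph.continuous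
  have hfl : Flat (fst I S).left := by
    have : Flat S.hom := inferInstance
    exact inferInstanceAs (Flat (pullback.fst I.hom S.hom))
  have hsur : Surjective (fst I S).left := by
    have : Surjective S.hom := ⟨fun x => ⟨η[S].left.base (IsLocalRing.closedPoint k), Subsingleton.elim _ _⟩⟩
    exact inferInstanceAs (Surjective (pullback.fst I.hom S.hom))
  refine ⟨?_, hsur.surj.connectedSpace (fst I S).left.continuous⟩
  have hIc : IsClosedImmersion (p.left) ∧ LocallyOfFiniteType I.hom := by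
    obtain ⟨hCs, hCc⟩ := smooth_centralizer_torus iS (isClosedImmersion_of_isTorus iS hS) hS c ⟨hcm, hcmono, hcp⟩
    have hl : IsPullback p.left q.left c.left j.left := hI.map (Over.forget _)
    have hp := MorphismProperty.of_isPullback (P := @IsClosedImmersion) hl.flip ‹IsClosedImmersion j.left›
    exact ⟨hp, by rw [← Over.w p]; infer_instance⟩
  haveI := hIc.2
  haveI := geometricallyReduced_of_smooth_hom (I ⊗ S)
  haveI := geometricallyReduced_of_flat_surjective (fst I S)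
  let PI : ∀ ⦃W : Over (Spec (CommRingCat.of k))⦄, (W ⟶ H) → Prop := fun W h => ∃ a, a ≫ c = h ≫ j
  obtain ⟨_, -⟩ := Groth.Agf.exists_grpObj_of_subgroup q PI
    (fun W h => ⟨fun ⟨y, hy⟩ => ⟨y ≫ p, by rw [Category.assoc, hI.w, ← Category.assoc, hy]⟩,
      fun ⟨a, ha⟩ => ⟨hI.lift a h ha, hI.lift_snd a h ha⟩⟩)
    (fun W => ⟨1, by rw [MonObj.one_comp, MonObj.one_comp]⟩)
    (fun W a b ⟨x, hx⟩ ⟨y, hy⟩ => ⟨x * y, by rw [MonObj.mul_comp, MonObj.mul_comp, hx, hy]⟩)
    (fun W a ⟨x, hx⟩ => ⟨x⁻¹, by rw [GrpObj.inv_comp, GrpObj.inv_comp, hx]⟩)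
  exact Groth.GrpschAbsch.smooth_of_geometricallyReduced I

end Groth.AlgGrp1
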