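import Groth.Agent.AlgGrp1.CentralAffine
import Groth.Agent.AlgGrp1.CentInter
import Groth.Agent.Reductive2.MaxTorusAlgClosed
import Groth.Agent.S8431
import Groth.Agent.S3901

/-!
Conjugacy of maximal tori in smooth connected groups.
-/

set_option autoImplicit false
set_option linter.style.haveILetI false
universe u

open CategoryTheory Limits MonoidalCategory CartesianMonoidalCategory MonObj GrpObj AlgebraicGeometry

noncomputable section

namespace Groth.AlgGrp1

variable {k : Type u} [Field k]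

theorem epi_of_fpqc {X Y : Over (Spec (CommRingCat.of k))} (g : X ⟶ Y) [Flat g.left] [Surjective g.left]
    [QuasiCompact g.left] : Epi g :=
  haveI : Epi g.left := Flat.epi_of_flat_of_surjective g.left
  (Over.forget _).epi_of_epi_map (inferInstance : Epi g.left)

/-- A faithfully flat homomorphic image of a commutative group is commutative. -/
theorem comm_of_surjective_hom {H K : Over (Spec (CommRingCat.of k))} [GrpObj H] [GrpObj K] (g : H ⟶ K)
    [IsMonHom g] [Flat g.left] [Surjective g.left] [QuasiCompact g.left]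
    (hH : ∀ (X : Over (Spec (CommRingCat.of k))) (a b : X ⟶ H), a * b = b * a)
    (X : Over (Spec (CommRingCat.of k))) (a b : X ⟶ K) : a * b = b * a := by
  have h1 : (g ▷ H) ≫ (K ◁ g) ≫ (fst K K * snd K K) = (g ▷ H) ≫ (K ◁ g) ≫ (snd K K * fst K K) := by
    simp only [MonObj.comp_mul, whiskerLeft_fst, whiskerLeft_snd, whiskerRight_fst, whiskerRight_snd,
      whiskerRight_snd_assoc, ← MonObj.mul_comp, hH _ (fst H H) (snd H H)]
  haveI hE : ∀ {A B : Over (Spec (CommRingCat.of k))} (Z : Over (Spec (CommRingCat.of k))) (f : A ⟶ B)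
      [Flat f.left] [Surjective f.left] [QuasiCompact f.left], Epi (f ▷ Z) ∧ Epi (Z ◁ f) := fun {A B} Z f _ _ _ => by
    constructor
    · haveI : Flat (f ▷ Z).left := MorphismProperty.of_isPullback (isPullback_whiskerRight f Z) ‹Flat f.left›
      haveI : Surjective (f ▷ Z).left := MorphismProperty.of_isPullback (isPullback_whiskerRight f Z) ‹Surjective f.left›
      haveI : QuasiCompact (f ▷ Z).left := MorphismProperty.of_isPullback (isPullback_whiskerRight f Z) ‹QuasiCompact f.left›
      exact epi_of_fpqc (f ▷ Z)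
    · haveI : Flat (Z ◁ f).left := MorphismProperty.of_isPullback (isPullback_whiskerLeft Z f) ‹Flat f.left›
      haveI : Surjective (Z ◁ f).left := MorphismProperty.of_isPullback (isPullback_whiskerLeft Z f) ‹Surjective f.left›
      haveI : QuasiCompact (Z ◁ f).left := MorphismProperty.of_isPullback (isPullback_whiskerLeft Z f) ‹QuasiCompact f.left›
      exact epi_of_fpqc (Z ◁ f)
  haveI := (hE H g).1
  haveI := (hE K g).2
  rw [cancel_epi, cancel_epi] at h1
  have := congrArg (lift a b ≫ ·) h1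
  simpa [MonObj.comp_mul] using this

variable [IsAlgClosed k]

/-- The image of a torus under a homomorphism is a torus. -/
theorem exists_torus_image {T G : Over (Spec (CommRingCat.of k))} [GrpObj T] [GrpObj G]
    [LocallyOfFiniteType G.hom] [QuasiCompact G.hom] (hT : Red.IsTorus T) (f : T ⟶ G) [IsMonHom f] :
    ∃ (K : Over (Spec (CommRingCat.of k))) (_ : GrpObj K) (c : K ⟶ G) (g : T ⟶ K), IsMonHom c ∧
      IsClosedImmersion c.left ∧ IsMonHom g ∧ Surjective g.left ∧ Red.IsTorus K ∧ g ≫ c = f := by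
  obtain ⟨hTa, hTs, hTc⟩ := isAffine_smooth_connected_of_isTorus hT
  haveI := hTa; haveI := hTs; haveI := hTc
  haveI : LocallyOfFiniteType T.hom := inferInstance
  haveI : QuasiCompact T.hom := inferInstance
  obtain ⟨K, _, c, g, hc, hcc, hg, hlft, hqc, hgf, hgs, hgc⟩ := exists_image_hom f
  haveI := hg; haveI := hlft; haveI := hqc; haveI := hgf; haveI := hgs
  haveI : IsAffine K.left := isAffine_of_quotient g
  haveI : QuasiCompact g.left := by
    haveI : QuasiCompact (g.left ≫ K.hom) := by rw [Over.w]; infer_instance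
    exact QuasiCompact.of_comp g.left K.hom
  exact ⟨K, inferInstance, c, g, hc, hcc, hg, hgs,
    isTorus_of_surjective_hom hT g (comm_of_surjective_hom g fun X a b => Groth.Reductive2.torus_mul_comm hT a b), hgc⟩

variable {G : Over (Spec (CommRingCat.of k))} [GrpObj G] [Smooth G.hom] [QuasiCompact G.hom] [ConnectedSpace G.left]

/-- A commutative smooth connected subgroup into which every torus can be conjugated. -/
theorem exists_comm_absorbing :
    ∃ (H : Over (Spec (CommRingCat.of k))) (_ : GrpObj H) (i : H ⟶ G), IsMonHom i ∧ IsClosedImmersion i.left ∧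
      Smooth H.hom ∧ ConnectedSpace H.left ∧
      (∀ (X : Over (Spec (CommRingCat.of k))) (a b : X ⟶ H), a * b = b * a) ∧
      ∀ (T : Over (Spec (CommRingCat.of k))) [GrpObj T] (j : T ⟶ G) [IsMonHom j],
        Red.IsTorus T → ∃ (g : 𝟙_ (Over (Spec (CommRingCat.of k))) ⟶ G) (f : T ⟶ H), f ≫ i = AGF.conjBy g j := by
  obtain ⟨M, _, m, E, _, q, hm, hmc, hMs, hMq, hMc, hEa, hEs, hEc, hqm, hqf, hqs, hqq, hker, hMcomm, -, hcen⟩ :=
    exists_central_affine_quotient G
  haveI := hm; haveI := hmc; haveI := hMs; haveI := hMq; haveI := hMc; haveI := hEa; haveI := hEs; haveI := hEc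
  haveI := hqm; haveI := hqf; haveI := hqs; haveI := hqq
  haveI : Mono m := Over.mono_of_mono_left m
  obtain ⟨B, _, iB, _, X, a, o, hB, -, -⟩ := exists_borel_proper (G := E)
  obtain ⟨S, _, s, hsm, hsc, hS, -, habs⟩ := exists_torus_absorbing_of_borel hB
  haveI := hsm; haveI := hsc; haveI := hB.2.1; haveI := hB.1
  obtain ⟨hSa, hSs, hSc⟩ := isAffine_smooth_connected_of_isTorus hS
  haveI := hSa; haveI := hSs; haveI := hSc
  let z : S ⟶ E := s ≫ iB
  haveI : IsMonHom z := inferInstanceAs (IsMonHom (s ≫ iB))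
  haveI : IsClosedImmersion z.left := by rw [Over.comp_left]; infer_instance
  haveI : Mono z := Over.mono_of_mono_left z
  obtain ⟨D, d, qD, sq⟩ : ∃ (D : Over (Spec (CommRingCat.of k))) (d : D ⟶ G) (qD : D ⟶ S),
      IsPullback d qD q z := ⟨_, _, _, IsPullback.of_hasPullback q z⟩
  haveI : Mono d := sq.mono_fst_of_mono
  have hD : ∀ (W : Over (Spec (CommRingCat.of k))) (g : W ⟶ G),
      (∃ y, y ≫ d = g) ↔ ∃ y, y ≫ z = g ≫ q := fun W g =>
    ⟨fun ⟨y, hy⟩ => ⟨y ≫ qD, by rw [Category.assoc, ← sq.w, ← Category.assoc, hy]⟩,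
      fun ⟨y, hy⟩ => ⟨sq.lift g y hy.symm, sq.lift_fst _ _ _⟩⟩
  obtain ⟨_, hd⟩ := Groth.Agf.exists_grpObj_of_subgroup d (fun W g => ∃ y, y ≫ z = g ≫ q) hD
    (fun W => ⟨1, by rw [MonObj.one_comp, MonObj.one_comp]⟩)
    (fun W a b ⟨y, hy⟩ ⟨y', hy'⟩ => ⟨y * y', by rw [MonObj.mul_comp, MonObj.mul_comp, hy, hy']⟩)
    (fun W a ⟨y, hy⟩ => ⟨y⁻¹, by rw [GrpObj.inv_comp, GrpObj.inv_comp, hy]⟩)
  haveI := hd
  haveI : IsMonHom qD := isMonHom_of_points _ fun W a b => by
    rw [← cancel_mono z, MonObj.mul_comp (a ≫ qD), Category.assoc, Category.assoc, Category.assoc, ← sq.w,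
      ← Category.assoc, ← Category.assoc, ← Category.assoc, ← MonObj.mul_comp, MonObj.mul_comp a b d]
  haveI : IsClosedImmersion d.left :=
    MorphismProperty.of_isPullback (sq.map (Over.forget _)).flip ‹IsClosedImmersion z.left›
  haveI : Flat qD.left := MorphismProperty.of_isPullback (sq.map (Over.forget _)) ‹Flat q.left›
  haveI : Surjective qD.left := MorphismProperty.of_isPullback (sq.map (Over.forget _)) ‹Surjective q.left›
  haveI : QuasiCompact qD.left := MorphismProperty.of_isPullback (sq.map (Over.forget _)) ‹QuasiCompact q.left›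
  haveI : Smooth q.left := IsKernel.descends hker @Smooth ‹Smooth M.hom›
  haveI : Smooth qD.left := MorphismProperty.of_isPullback (sq.map (Over.forget _)) ‹Smooth q.left›
  haveI : Smooth D.hom := by rw [← Over.w qD]; infer_instance
  haveI : QuasiCompact D.hom := by rw [← Over.w d]; infer_instance
  obtain ⟨mD, hmD⟩ := (hD M m).2 ⟨1, by rw [MonObj.one_comp, IsKernel.comp_eq_one hker]⟩
  haveI : IsMonHom mD := isMonHom_of_points _ fun W a b => by
    rw [← cancel_mono d, MonObj.mul_comp (a ≫ mD), Category.assoc, Category.assoc, Category.assoc, hmD,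
      MonObj.mul_comp]
  haveI : Mono mD := mono_of_mono_fac hmD
  have hkerD : AlgGrp.IsKernel mD qD := IsKernel.mk' inferInstance fun W g => by
    rw [← cancel_mono z, MonObj.one_comp, Category.assoc, ← sq.w, ← Category.assoc,
      ← IsKernel.exists_iff hker]
    exact exists_congr fun y => by rw [← cancel_mono d, Category.assoc, hmD]
  haveI : ConnectedSpace D.left := connectedSpace_of_extension hkerD inferInstance inferInstance
  have hmul : (D ◁ mD) ≫ μ[D] = fst D M * (snd D M ≫ mD) := by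
    rw [Hom.mul_def]
    congr 1
  have hcomm := Groth.Agent.S8431.result k D M mD (fun W x g => by
    rw [← cancel_mono d, MonObj.mul_comp, MonObj.mul_comp, Category.assoc, hmD]
    exact hcen W x (g ≫ d)) S qD
    ⟨inferInstance, inferInstance, lfp_left qD, hmul ▸ IsKernel.isPullback_mul hkerD⟩ hS
  refine ⟨D, inferInstance, d, inferInstance, inferInstance, inferInstance, inferInstance, hcomm, fun T _ j _ hT => ?_⟩
  obtain ⟨K, _, cK, gK, hcm, hcc, hgm, hgs, hK, hgK⟩ := exists_torus_image hT (j ≫ q)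
  haveI := hcm; haveI := hcc; haveI : Mono cK := Over.mono_of_mono_left cK
  obtain ⟨e, f, hf⟩ := habs K cK hK
  haveI : Surjective q.left := hqs
  obtain ⟨g, hg⟩ := exists_rpt_lift q e (q.left.surjective _)
  obtain ⟨F, hF⟩ := (hD T (AGF.conjBy g j)).2 ⟨gK ≫ f, by
    rw [Category.assoc, show f ≫ z = AGF.conjBy e cK from hf, comp_conjBy', hgK, ← hg]
    simp only [AGF.conjBy, MonObj.mul_comp, GrpObj.inv_comp, Category.assoc]⟩
  exact ⟨g, F, hF⟩

/-- **Maximal tori of smooth connected groups are conjugate.** -/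
theorem maxTorus_conj_general {T T' : Over (Spec (CommRingCat.of k))} [GrpObj T] [GrpObj T'] {iT : T ⟶ G}
    {iT' : T' ⟶ G} (hT : AGF.IsMaxTorus iT) (hT' : AGF.IsMaxTorus iT') :
    ∃ (g : 𝟙_ (Over (Spec (CommRingCat.of k))) ⟶ G) (f : T ≅ T'), f.hom ≫ iT' = AGF.conjBy g iT := by
  haveI := isSeparated_grpObj G
  obtain ⟨H, _, i, hi, hic, hHs, hHc, hcomm, habs⟩ := exists_comm_absorbing (G := G)
  haveI := hi; haveI := hic; haveI := hHs; haveI := hHc
  haveI : Mono i := Over.mono_of_mono_left i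
  haveI : QuasiCompact H.hom := by rw [← Over.w i]; infer_instance
  haveI := hT.1; haveI := hT'.1; haveI := hT.2.1; haveI := hT'.2.1
  obtain ⟨x, a, ha⟩ := habs T iT hT.2.2.1
  obtain ⟨y, b, hb⟩ := habs T' iT' hT'.2.2.1
  have hx := isMaxTorus_conjBy hT x
  have hy := isMaxTorus_conjBy hT' y
  haveI := hx.1; haveI := hy.1
  have hhom : ∀ {U : Over (Spec (CommRingCat.of k))} [GrpObj U] (u : U ⟶ H) (j : U ⟶ G) [IsMonHom j],
      u ≫ i = j → IsMonHom u := fun u j _ hu => isMonHom_of_points _ fun W p r => by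
    rw [← cancel_mono i, MonObj.mul_comp (p ≫ u), Category.assoc, Category.assoc, Category.assoc, hu,
      MonObj.mul_comp]
  haveI := hhom a _ ha
  haveI := hhom b _ hb
  obtain ⟨hTa, hTs, hTc⟩ := isAffine_smooth_connected_of_isTorus hT.2.2.1
  obtain ⟨hTa', hTs', hTc'⟩ := isAffine_smooth_connected_of_isTorus hT'.2.2.1
  haveI := hTa; haveI := hTs; haveI := hTc; haveI := hTa'; haveI := hTs'; haveI := hTc'
  let u : T ⊗ T' ⟶ H := (fst T T' ≫ a) * (snd T T' ≫ b)
  haveI : IsMonHom u := isMonHom_of_points _ fun W p r => by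
    simp only [u, MonObj.comp_mul, ← Category.assoc, MonObj.mul_comp]
    generalize ((p ≫ fst T T') ≫ a) = A
    generalize ((r ≫ fst T T') ≫ a) = A'
    generalize ((p ≫ snd T T') ≫ b) = B
    generalize ((r ≫ snd T T') ≫ b) = B'
    rw [_root_.mul_assoc, ← _root_.mul_assoc A', hcomm _ A' B, _root_.mul_assoc B, ← _root_.mul_assoc]
  haveI : IsAffine (T ⊗ T').left := inferInstanceAs (IsAffine (pullback T.hom T'.hom))
  haveI : Smooth (T ⊗ T').hom := smooth_tensor_over T T'
  haveI : ConnectedSpace (T ⊗ T').left := connectedSpace_tensor_of_point T T'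
  haveI : LocallyOfFiniteType (T ⊗ T').hom := inferInstance
  haveI : QuasiCompact (T ⊗ T').hom := inferInstance
  obtain ⟨K, _, c, g, hcm, hcc, hgm, hKlft, hKqc, hgf, hgs, hgc⟩ := exists_image_hom u
  haveI := hcm; haveI := hcc; haveI := hgm; haveI := hKlft; haveI := hKqc; haveI := hgf; haveI := hgs
  haveI : IsAffine K.left := isAffine_of_quotient g
  haveI : Smooth K.hom := smooth_of_flat_surjective_hom g
  haveI : ConnectedSpace K.left := connectedSpace_of_surjective g
  haveI : Mono c := Over.mono_of_mono_left c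
  have hKcomm : ∀ (X : Over (Spec (CommRingCat.of k))) (p r : X ⟶ K), p * r = r * p := fun X p r => by
    rw [← cancel_mono c, MonObj.mul_comp, MonObj.mul_comp, hcomm]
  obtain ⟨S, _, s, hsm, hsc, hS, hSabs⟩ := exists_torus_absorbing K ⟨1, fun X => by
    rw [derivedSeries_one, eq_bot_iff, commutator_def, Subgroup.commutator_le]
    intro p _ r _
    rw [Subgroup.mem_bot, commutatorElement_eq_one_iff_mul_comm]
    exact hKcomm X p r⟩
  haveI := hsm; haveI := hsc
  obtain ⟨ja, hja⟩ : ∃ ja : T ⟶ K, ja ≫ c = a :=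
    ⟨lift (𝟙 T) 1 ≫ g, by simp [hgc, u, MonObj.comp_mul]⟩
  obtain ⟨jb, hjb⟩ : ∃ jb : T' ⟶ K, jb ≫ c = b :=
    ⟨lift 1 (𝟙 T') ≫ g, by simp [hgc, u, MonObj.comp_mul]⟩
  haveI : IsMonHom ja := isMonHom_of_points _ fun W p r => by
    rw [← cancel_mono c, MonObj.mul_comp (p ≫ ja), Category.assoc, Category.assoc, Category.assoc, hja,
      MonObj.mul_comp]
  haveI : IsMonHom jb := isMonHom_of_points _ fun W p r => by
    rw [← cancel_mono c, MonObj.mul_comp (p ≫ jb), Category.assoc, Category.assoc, Category.assoc, hjb,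
      MonObj.mul_comp]
  obtain ⟨p, fa, hfa⟩ := hSabs T ja hT.2.2.1
  obtain ⟨r, fb, hfb⟩ := hSabs T' jb hT'.2.2.1
  have htriv : ∀ {U : Over (Spec (CommRingCat.of k))} (p : 𝟙_ _ ⟶ K) (j : U ⟶ K), AGF.conjBy p j = j :=
    fun {U} p j => by
      unfold AGF.conjBy
      rw [hKcomm U (toUnit U ≫ p) j, mul_inv_cancel_right]
  rw [htriv] at hfa hfb
  let iS : S ⟶ G := s ≫ c ≫ i
  haveI : IsMonHom iS := inferInstanceAs (IsMonHom (s ≫ c ≫ i))
  haveI : Mono s := Over.mono_of_mono_left s
  haveI : Mono iS := inferInstanceAs (Mono (s ≫ c ≫ i))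
  have ea : fa ≫ iS = AGF.conjBy x iT := by
    simp only [iS, ← Category.assoc, hfa]; rw [Category.assoc, ← Category.assoc, hja, ha]
  have eb : fb ≫ iS = AGF.conjBy y iT' := by
    simp only [iS, ← Category.assoc, hfb]; rw [Category.assoc, ← Category.assoc, hjb, hb]
  haveI := hx.2.2.2 S iS fa hS ea
  haveI := hy.2.2.2 S iS fb hS eb
  refine ⟨y⁻¹ * x, asIso fa ≪≫ (asIso fb).symm, ?_⟩
  have e1 : inv fb ≫ AGF.conjBy y iT' = iS := by rw [← eb, IsIso.inv_hom_id_assoc]
  rw [← conjBy_conjBy, ← ea, ← comp_conjBy', ← e1, ← comp_conjBy', conjBy_conjBy, inv_mul_cancel, conjBy_one]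
  simp

end Groth.AlgGrp1
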