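import Groth.Agent.Agf.Quot
import Groth.Agent.AlgGrp1.Basic
import Groth.Agent.EtaleBase.FpqcDescent
import Groth.Prelude.Def_AGF
import Groth.Agent.AlgGrp1.Act

/-!
Quotients by nested subgroups: uniqueness, comparison maps, and transitivity of properness.
-/

set_option autoImplicit false
universe u

open CategoryTheory Limits MonoidalCategory CartesianMonoidalCategory MonObj GrpObj AlgebraicGeometry

noncomputable section

namespace Groth.AlgGrp1

variable {k : Type u} [Field k]


/-- Two fppf covers with the same kernel pairs are isomorphic. -/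
theorem exists_iso_of_covers {A B B' : (Over (Spec (CommRingCat.of k)))} [LocallyOfFiniteType A.hom] [LocallyOfFiniteType B.hom]
    [LocallyOfFiniteType B'.hom] (f : A ⟶ B) (f' : A ⟶ B') [Flat f.left] [Surjective f.left] [Flat f'.left]
    [Surjective f'.left] (h : ∀ (T : (Over (Spec (CommRingCat.of k)))) (s t : T ⟶ A), s ≫ f = t ≫ f ↔ s ≫ f' = t ≫ f') :
    ∃ φ : B ≅ B', f ≫ φ.hom = f' := by
  have := lfp_left f
  have := lfp_left f'
  obtain ⟨d, hd⟩ := Groth.Agf.exists_desc_of_fppf f _ _ (IsPullback.of_hasPullback f f) f'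
    ((h _ _ _).1 pullback.condition)
  obtain ⟨d', hd'⟩ := Groth.Agf.exists_desc_of_fppf f' _ _ (IsPullback.of_hasPullback f' f') f
    ((h _ _ _).2 pullback.condition)
  have := Groth.Agf.epi_of_fppf f
  have := Groth.Agf.epi_of_fppf f'
  exact ⟨⟨d, d', by rw [← cancel_epi f, ← Category.assoc, hd, hd', Category.comp_id],
    by rw [← cancel_epi f', ← Category.assoc, hd', hd, Category.comp_id]⟩, hd⟩

section Quot

variable {G H X : (Over (Spec (CommRingCat.of k)))} [GrpObj G] [GrpObj H] {i : H ⟶ G} {a : AlgGrp.Action G X} {o : 𝟙_ (Over (Spec (CommRingCat.of k))) ⟶ X}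

/-- The fibres of a quotient map. -/
theorem comp_orbit_eq_iff (hX : AGF.IsQuotient i X a o) (T : (Over (Spec (CommRingCat.of k)))) (s t : T ⟶ G) :
    s ≫ a.orbitMap o = t ≫ a.orbitMap o ↔ ∃ h : T ⟶ H, t = s * (h ≫ i) := by
  refine ⟨Groth.Agf.eq_of_comp_orbitMap_eq a o hX.2.2.2 s t, ?_⟩
  rintro ⟨h, rfl⟩
  have e := congrArg (lift s h ≫ ·) hX.2.2.2.w
  simp only [← Category.assoc, lift_fst] at e
  rw [e]
  simp [lift_whiskerLeft, ← Hom.mul_def]

theorem orbit_eq_base_iff (hX : AGF.IsQuotient i X a o) (T : (Over (Spec (CommRingCat.of k)))) (t : T ⟶ G) :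
    t ≫ a.orbitMap o = toUnit T ≫ o ↔ ∃ h : T ⟶ H, t = h ≫ i := by
  have := comp_orbit_eq_iff hX T 1 t
  simp only [_root_.one_mul] at this
  rw [comp_orbit a (1 : T ⟶ G), a.lift_one_act] at this
  rw [eq_comm, this]

theorem quasiCompact_quotient [QuasiCompact G.hom] (hX : AGF.IsQuotient i X a o) : QuasiCompact X.hom := by
  have : Surjective (a.orbitMap o).left := hX.2.2.1
  have : CompactSpace G.left := QuasiCompact.compactSpace_of_compactSpace G.hom
  rw [quasiCompact_iff_compactSpace]
  exact (a.orbitMap o).left.surjective.compactSpace (a.orbitMap o).left.continuous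

theorem isPullback_base (hX : AGF.IsQuotient i X a o) [IsMonHom i] [Mono i] :
    IsPullback i (toUnit H) (a.orbitMap o) o := by
  have hw := (orbit_eq_base_iff hX H i).2 ⟨𝟙 _, (Category.id_comp _).symm⟩
  have hf : ∀ s : PullbackCone (a.orbitMap o) o, ∃ w : s.pt ⟶ H, s.fst = w ≫ i :=
    fun s => (orbit_eq_base_iff hX _ s.fst).1 (by rw [s.condition, toUnit_unique s.snd (toUnit _)])
  choose f hf using hf
  exact ⟨⟨hw⟩, ⟨PullbackCone.IsLimit.mk hw f (fun s => (hf s).symm) (fun s => toUnit_unique _ _)
    fun s m hm _ => by rw [← cancel_mono i, hm, hf]⟩⟩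

/-- Quotients by the same subgroup are isomorphic. -/
theorem exists_iso_quotient [LocallyOfFiniteType G.hom] (hX : AGF.IsQuotient i X a o) {X' : (Over (Spec (CommRingCat.of k)))}
    {a' : AlgGrp.Action G X'} {o' : 𝟙_ (Over (Spec (CommRingCat.of k))) ⟶ X'} (hX' : AGF.IsQuotient i X' a' o') :
    ∃ φ : X ≅ X', a.orbitMap o ≫ φ.hom = a'.orbitMap o' := by
  have := hX.1; have := hX.2.1; have := hX.2.2.1
  have := hX'.1; have := hX'.2.1; have := hX'.2.2.1
  exact exists_iso_of_covers (a.orbitMap o) (a'.orbitMap o') fun T s t => by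
    rw [comp_orbit_eq_iff hX, comp_orbit_eq_iff hX']

/-- **Transitivity of properness for quotients.** -/
theorem isProper_quotient_trans [LocallyOfFiniteType G.hom] [QuasiCompact G.hom] [IsProper X.hom]
    [IsMonHom i] [Mono i] (hX : AGF.IsQuotient i X a o) [LocallyOfFiniteType H.hom]
    {H' : (Over (Spec (CommRingCat.of k)))} [GrpObj H'] (j : H' ⟶ H) [IsMonHom j] [LocallyOfFiniteType H'.hom]
    {X' : (Over (Spec (CommRingCat.of k)))} {a' : AlgGrp.Action G X'} {o' : 𝟙_ (Over (Spec (CommRingCat.of k))) ⟶ X'} (hX' : AGF.IsQuotient (j ≫ i) X' a' o')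
    {Y : (Over (Spec (CommRingCat.of k)))} {b : AlgGrp.Action H Y} {y : 𝟙_ (Over (Spec (CommRingCat.of k))) ⟶ Y} (hY : AGF.IsQuotient j Y b y) [IsProper Y.hom] :
    IsProper X'.hom := by
  have := hX.1; have := hX.2.1; have := hX.2.2.1
  have := hX'.1; have := hX'.2.1; have := hX'.2.2.1
  have := hY.1; have := hY.2.1; have := hY.2.2.1
  set p := a.orbitMap o
  set q := a'.orbitMap o'
  have := lfp_left p
  have := lfp_left q
  obtain ⟨π, hπ⟩ := Groth.Agf.exists_desc_of_fppf q _ _ (IsPullback.of_hasPullback q q) p (by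
    obtain ⟨h, hh⟩ := (comp_orbit_eq_iff hX' _ _ _).1 (pullback.condition (f := q) (g := q))
    exact (comp_orbit_eq_iff hX _ _ _).2 ⟨h ≫ j, by rw [hh, Category.assoc]⟩)
  have hequiv : a'.act ≫ π = (G ◁ π) ≫ a.act := by
    have := Groth.Agf.epi_whiskerLeft_of_fppf G q
    rw [← cancel_epi (G ◁ q), ← Category.assoc, Groth.Agf.whiskerLeft_orbitMap_act, Category.assoc, hπ,
      ← MonoidalCategory.whiskerLeft_comp_assoc, hπ, Groth.Agf.whiskerLeft_orbitMap_act]
  -- the fibre
  let F := pullback π o
  let ιF : F ⟶ X' := pullback.fst π o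
  have hιF : ιF ≫ π = toUnit F ≫ o := by
    rw [pullback.condition, toUnit_unique (pullback.snd π o) (toUnit F)]
  let e : H ⟶ F := pullback.lift (i ≫ q) (toUnit H) (by rw [Category.assoc, hπ, (isPullback_base hX).w])
  have he : e ≫ ιF = i ≫ q := pullback.lift_fst _ _ _
  have sq : IsPullback i e q ιF := by
    refine IsPullback.of_bot ?_ he.symm (IsPullback.of_hasPullback π o)
    rw [hπ, toUnit_unique (e ≫ pullback.snd π o) (toUnit H)]
    exact isPullback_base hX
  have sq' : IsPullback i.left e.left q.left ιF.left := sq.map (Over.forget _)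
  have : Flat e.left := MorphismProperty.of_isPullback sq' ‹Flat q.left›
  have : Surjective e.left := MorphismProperty.of_isPullback sq' ‹Surjective q.left›
  have : LocallyOfFiniteType F.hom := by
    rw [← Over.w (pullback.snd π o)]
    have : LocallyOfFiniteType (pullback.snd π o).left := by
      have : LocallyOfFiniteType π.left := by
        have : LocallyOfFiniteType (π.left ≫ X.hom) := by rw [Over.w]; infer_instance
        exact locallyOfFiniteType_of_comp π.left X.hom
      exact MorphismProperty.of_isPullback ((IsPullback.of_hasPullback π o).map (Over.forget _)) ‹LocallyOfFiniteType π.left›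
    exact inferInstanceAs (LocallyOfFiniteType ((pullback.snd π o).left ≫ 𝟙 _))
  obtain ⟨φ, hφ⟩ := exists_iso_of_covers (b.orbitMap y) e fun T s t => by
    rw [comp_orbit_eq_iff hY]
    constructor
    · rintro ⟨h, rfl⟩
      refine pullback.hom_ext ?_ (toUnit_unique _ _)
      rw [Category.assoc, Category.assoc, show e ≫ pullback.fst π o = i ≫ q from he, ← Category.assoc, ← Category.assoc,
        MonObj.mul_comp, Category.assoc h]
      exact (comp_orbit_eq_iff hX' _ _ _).2 ⟨h, rfl⟩
    · intro hst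
      have := congrArg (· ≫ ιF) hst
      simp only [Category.assoc, he] at this
      simp only [← Category.assoc] at this
      obtain ⟨h, hh⟩ := (comp_orbit_eq_iff hX' _ _ _).1 this
      refine ⟨h, ?_⟩
      rw [← cancel_mono i, hh, MonObj.mul_comp, Category.assoc]
  have : IsProper F.hom := by
    have : IsIso φ.inv.left := inferInstanceAs (IsIso ((Over.forget _).map φ.inv))
    rw [← Over.w φ.inv]
    infer_instance
  -- the pullback along the quotient map
  let α : G ⊗ F ⟶ X' := (G ◁ ιF) ≫ a'.act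
  have hw : fst G F ≫ p = α ≫ π := by
    rw [Category.assoc, hequiv, ← MonoidalCategory.whiskerLeft_comp_assoc, hιF, comp_orbit,
      MonoidalCategory.whiskerLeft_comp, Category.assoc]
    apply AlgGrp.Action.hom_ext_lift₂
    intro T g f
    rw [comp_lift_assoc, lift_fst, ← Category.assoc, toUnit_unique (lift g f ≫ toUnit _) (toUnit T),
      lift_whiskerLeft_assoc, lift_whiskerLeft_assoc, toUnit_unique (f ≫ toUnit F) (toUnit T)]
  have hs : ∀ s : PullbackCone p π, (lift s.fst⁻¹ s.snd ≫ a'.act) ≫ π = toUnit s.pt ≫ o := by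
    intro s
    rw [Category.assoc, hequiv, lift_whiskerLeft_assoc, ← s.condition, comp_orbit, inv_act_cancel]
  have hPB : IsPullback (fst G F) α p π := by
    refine ⟨⟨hw⟩, ⟨PullbackCone.IsLimit.mk hw
      (fun s => lift s.fst (pullback.lift (lift s.fst⁻¹ s.snd ≫ a'.act) (toUnit s.pt) (hs s)))
      (fun s => lift_fst _ _) (fun s => ?_) (fun s m h1 h2 => ?_)⟩⟩
    · simp only [α]
      rw [lift_whiskerLeft_assoc, show _ ≫ ιF = _ from pullback.lift_fst _ _ _, act_inv_cancel]
    · apply CartesianMonoidalCategory.hom_ext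
      · rw [h1, lift_fst]
      · rw [lift_snd]
        refine pullback.hom_ext ?_ (toUnit_unique _ _)
        rw [pullback.lift_fst, ← h2, ← h1]
        show (m ≫ snd G F) ≫ ιF = _
        have e1 : m ≫ α = lift (m ≫ fst G F) ((m ≫ snd G F) ≫ ιF) ≫ a'.act := by
          rw [← lift_whiskerLeft_assoc, CartesianMonoidalCategory.lift_comp_fst_snd]
        rw [e1, inv_act_cancel]
  have hF : IsProper (fst G F).left := inferInstanceAs (IsProper (pullback.fst G.hom F.hom))
  have hQ : Groth.EtaleBase.Fpqc p.left := by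
    refine ⟨⟨inferInstance, inferInstance⟩, ?_⟩
    have : QuasiCompact (p.left ≫ X.hom) := by rw [Over.w]; infer_instance
    exact QuasiCompact.of_comp _ X.hom
  have : IsProper π.left := MorphismProperty.of_isPullback_of_descendsAlong (Q := Groth.EtaleBase.Fpqc)
    (hPB.map (Over.forget _)) hQ hF
  rw [← Over.w π]
  infer_instance

end Quot

end Groth.AlgGrp1
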