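import Groth.Agent.Misc1.Dyn.Levi
import Mathlib.Algebra.Polynomial.Roots

/-!
A torus action on an affine group has the same fixed points as some one-parameter subgroup.
-/

set_option autoImplicit false
set_option linter.style.haveILetI false

universe u

open LaurentPolynomial TensorProduct WithConv

noncomputable section

namespace Groth.AlgGrp1

variable {k : Type u} [Field k]

/-- An injective linear form on a finite set of lattice points. -/
theorem exists_injOn_linearForm {r : ℕ} (F : Finset (Fin r → ℤ)) :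
    ∃ v : (Fin r → ℤ) →+ ℤ, Set.InjOn v (F : Set (Fin r → ℤ)) := by
  classical
  let P : (Fin r → ℤ) → Polynomial ℤ := fun d => ∑ i : Fin r, Polynomial.monomial (i : ℕ) (d i)
  have hP : ∀ d, d ≠ 0 → P d ≠ 0 := by
    intro d hd h
    refine hd (funext fun i => ?_)
    have hi := congrArg (fun p : Polynomial ℤ => p.coeff (i : ℕ)) h
    simp only [P, Polynomial.finsetSum_coeff, Polynomial.coeff_monomial, Polynomial.coeff_zero] at hi
    rw [Finset.sum_eq_single i (fun j _ hj => if_neg fun e => hj (Fin.ext e))
      (fun h => absurd (Finset.mem_univ i) h), if_pos rfl] at hi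
    exact hi
  let bad : Finset ℤ := (F ×ˢ F).biUnion fun p => (P (p.1 - p.2)).roots.toFinset
  obtain ⟨N, hN⟩ := Infinite.exists_notMem_finset bad
  let v : (Fin r → ℤ) →+ ℤ := AddMonoidHom.mk' (fun m => (P m).eval N) fun a b => by
    simp [P, map_add, Finset.sum_add_distrib]
  refine ⟨v, fun a ha b hb hab => ?_⟩
  by_contra hne
  refine hN (Finset.mem_biUnion.2 ⟨(a, b), Finset.mem_product.2 ⟨ha, hb⟩, ?_⟩)
  rw [Multiset.mem_toFinset, Polynomial.mem_roots (hP _ (sub_ne_zero.2 hne)), Polynomial.IsRoot]
  have h : v (a - b) = 0 := by rw [map_sub, hab, sub_self]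
  exact h

variable {A : Type u} [CommRing A] [HopfAlgebra k A]
variable {r : ℕ}

local notation "Lat" => Multiplicative (Fin r → ℤ)

variable (φ : A →ₐc[k] MonoidAlgebra k (Multiplicative (Fin r → ℤ)))

/-- the torus value over `R` -/
def torPt (R : Type u) [CommRing R] [Algebra k R] : WithConv (A →ₐ[k] MonoidAlgebra R Lat) :=
  toConv ((MonoidAlgebra.mapAlgHom Lat (Algebra.ofId k R)).comp (φ : A →ₐ[k] MonoidAlgebra k Lat))

/-- constants -/
abbrev torCst (R : Type u) [CommRing R] [Algebra k R] : R →ₐ[k] MonoidAlgebra R Lat :=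
  IsScalarTower.toAlgHom k R (MonoidAlgebra R Lat)

/-- the conjugate of a point by the universal point of the torus -/
def torOrbit (R : Type u) [CommRing R] [Algebra k R] (g : A →ₐ[k] R) :
    WithConv (A →ₐ[k] MonoidAlgebra R Lat) :=
  torPt φ R * Groth.Misc1.Dyn.post (torCst R) (toConv g) * (torPt φ R)⁻¹

theorem torOrbit_natural {R R' : Type u} [CommRing R] [Algebra k R] [CommRing R'] [Algebra k R']
    (f : R →ₐ[k] R') (g : A →ₐ[k] R) :
    Groth.Misc1.Dyn.post (MonoidAlgebra.mapAlgHom Lat f) (torOrbit φ R g) = torOrbit φ R' (f.comp g) := by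
  have h1 : Groth.Misc1.Dyn.post (MonoidAlgebra.mapAlgHom Lat f) (torPt φ R) = torPt φ R' := by
    refine WithConv.ofConv_injective (AlgHom.ext fun a => ?_)
    change MonoidAlgebra.mapAlgHom Lat f (MonoidAlgebra.mapAlgHom Lat (Algebra.ofId k R) (φ a)) =
      MonoidAlgebra.mapAlgHom Lat (Algebra.ofId k R') (φ a)
    ext m
    simp [Algebra.ofId_apply]
  have h2 : Groth.Misc1.Dyn.post (MonoidAlgebra.mapAlgHom Lat f) (Groth.Misc1.Dyn.post (torCst R) (toConv g)) =
      Groth.Misc1.Dyn.post (torCst R') (toConv (f.comp g)) := by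
    refine WithConv.ofConv_injective (AlgHom.ext fun a => ?_)
    change MonoidAlgebra.mapAlgHom Lat f (torCst (k := k) R (g a)) = torCst (k := k) R' (f (g a))
    simp [MonoidAlgebra.coe_algebraMap]
  rw [torOrbit, map_mul, map_mul, map_inv, h1, h2, torOrbit]

/-- evaluation of a lattice point -/
def latEv (v : (Fin r → ℤ) →+ ℤ) (R : Type u) [CommRing R] [Algebra k R] :
    MonoidAlgebra R Lat →ₐ[k] R[T;T⁻¹] :=
  (MonoidAlgebra.lift R R[T;T⁻¹] Lat
    { toFun := fun m => T (v m.toAdd)
      map_one' := by simp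
      map_mul' := fun a b => by rw [toAdd_mul, map_add, T_add] }).restrictScalars k

theorem latEv_single (v : (Fin r → ℤ) →+ ℤ) (R : Type u) [CommRing R] [Algebra k R] (m : Lat) (c : R) :
    latEv (k := k) v R (MonoidAlgebra.single m c) = AddMonoidAlgebra.single (v m.toAdd) c := by
  change MonoidAlgebra.lift R R[T;T⁻¹] Lat _ (MonoidAlgebra.single m c) = _
  rw [MonoidAlgebra.lift_single]
  simp [T, AddMonoidAlgebra.smul_single', -single_eq_C_mul_T]

/-- the one-parameter subgroup of a lattice form -/
def latCochar (v : (Fin r → ℤ) →+ ℤ) : A →ₐc[k] k[T;T⁻¹] :=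
  (BialgHom.ofAlgHom (latEv (k := k) v k)
    (MonoidAlgebra.algHom_ext (fun m => by
      simp [latEv_single, LaurentPolynomial.counit_T, ← single_eq_C, -single_eq_C_mul_T]) (by ext))
    (MonoidAlgebra.algHom_ext (fun m => by
      simp [latEv_single, -single_eq_C_mul_T]) (by ext))).comp φ

theorem latEv_torOrbit (v : (Fin r → ℤ) →+ ℤ) (R : Type u) [CommRing R] [Algebra k R] (g : A →ₐ[k] R) :
    Groth.Misc1.Dyn.post (latEv v R) (torOrbit φ R g) =
      toConv (Dyn.conjOrbit k A (latCochar φ v) R g) := by
  rw [Groth.Misc1.Dyn.conjOrbit_eq, Groth.Misc1.Dyn.conjHom, MonoidHom.comp_apply,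
    Groth.Misc1.Dyn.orb_apply, Groth.Misc1.Dyn.L_inv, ← Groth.Misc1.Dyn.lamR_eq, torOrbit, map_mul,
    map_mul, map_inv, Groth.Misc1.Dyn.post_comp]
  have h1 : Groth.Misc1.Dyn.post (latEv (k := k) v R) (torPt φ R) = toConv (Dyn.lamR k A (latCochar φ v) R) := by
    refine WithConv.ofConv_injective (AlgHom.ext fun a => ?_)
    change latEv (k := k) v R (MonoidAlgebra.mapAlgHom Lat (Algebra.ofId k R) (φ a)) =
      AddMonoidAlgebra.mapAlgHom ℤ (Algebra.ofId k R) (latEv (k := k) v k (φ a))
    induction φ a using MonoidAlgebra.induction_on with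
    | of m => simp [latEv_single, T, -single_eq_C_mul_T]
    | add x y hx hy => simp only [map_add, hx, hy]
    | smul c x hx => simp only [map_smul, hx]
  rw [h1]
  congr 4
  refine AlgHom.ext fun c => ?_
  change latEv (k := k) v R (algebraMap R (MonoidAlgebra R Lat) c) = _
  simp [MonoidAlgebra.coe_algebraMap, latEv_single, LaurentPolynomial.algebraMap_apply, ← single_eq_C,
    -single_eq_C_mul_T]

/-- **A generic one-parameter subgroup has the same fixed points as the torus.** -/
theorem exists_generic_cochar [Algebra.FiniteType k A] :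
    ∃ lam : A →ₐc[k] k[T;T⁻¹], ∀ (R : Type u) [CommRing R] [Algebra k R] (g : A →ₐ[k] R),
      Dyn.conjOrbit k A lam R g = (IsScalarTower.toAlgHom k R R[T;T⁻¹]).comp g ↔
        torOrbit φ R g = Groth.Misc1.Dyn.post (torCst R) (toConv g) := by
  classical
  obtain ⟨s, hs⟩ := (inferInstance : Algebra.FiniteType k A).out
  let F : Finset (Fin r → ℤ) := insert 0
    (s.biUnion fun a => ((torOrbit φ A (AlgHom.id k A)).ofConv a).coeff.support.image Multiplicative.toAdd)
  obtain ⟨v, hv⟩ := exists_injOn_linearForm F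
  refine ⟨latCochar φ v, fun R _ _ g => ⟨fun hfix => ?_, fun h => ?_⟩⟩
  · -- it suffices to check on generators
    refine WithConv.ofConv_injective (AlgHom.ext_of_adjoin_eq_top hs fun a ha => ?_)
    set U := (torOrbit φ A (AlgHom.id k A)).ofConv a with hU
    have hU' : (torOrbit φ R g).ofConv a = MonoidAlgebra.mapAlgHom Lat g U := by
      rw [← show g.comp (AlgHom.id k A) = g from AlgHom.comp_id g, ← torOrbit_natural]
      rfl
    have hsupp : ∀ m ∈ U.coeff.support, m.toAdd ∈ F := fun m hm => Finset.mem_insert_of_mem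
      (Finset.mem_biUnion.2 ⟨a, ha, Finset.mem_image.2 ⟨m, hm, rfl⟩⟩)
    have hev : latEv (k := k) v R (MonoidAlgebra.mapAlgHom Lat g U) = AddMonoidAlgebra.single 0 (g a) := by
      have h1 := congrArg (fun f : WithConv (A →ₐ[k] R[T;T⁻¹]) => f.ofConv a) (latEv_torOrbit φ v R g)
      simp only [Groth.Misc1.Dyn.ofConv_post, ofConv_toConv, AlgHom.comp_apply, hU'] at h1
      rw [h1, hfix]
      simp [LaurentPolynomial.algebraMap_apply, ← single_eq_C, -single_eq_C_mul_T]
    have hsum : latEv (k := k) v R (MonoidAlgebra.mapAlgHom Lat g U) =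
        ∑ m ∈ U.coeff.support, AddMonoidAlgebra.single (v m.toAdd) (g (U.coeff m)) := by
      conv_lhs => rw [← MonoidAlgebra.sum_coeff_single U, Finsupp.sum, map_sum, map_sum]
      refine Finset.sum_congr rfl fun m _ => ?_
      rw [MonoidAlgebra.mapAlgHom_single, latEv_single]
    rw [hU']
    change _ = algebraMap R (MonoidAlgebra R Lat) (g a)
    ext m
    rw [MonoidAlgebra.coeff_mapAlgHom, MonoidAlgebra.coe_algebraMap]
    simp only [Function.comp_apply, Algebra.algebraMap_self, RingHom.id_apply, MonoidAlgebra.coeff_single]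
    have hc := congrArg (fun p : R[T;T⁻¹] => p.coeff (v m.toAdd)) (hsum.symm.trans hev)
    simp only [AddMonoidAlgebra.coeff_sum, Finset.sum_apply', AddMonoidAlgebra.coeff_single] at hc
    by_cases hm : m ∈ U.coeff.support
    · rw [Finset.sum_eq_single m, Finsupp.single_eq_same] at hc
      · rw [hc]
        by_cases h1 : m = 1
        · subst h1; simp
        · rw [Finsupp.single_apply, Finsupp.single_apply, if_neg (Ne.symm h1), if_neg]
          intro e
          refine h1 (Multiplicative.toAdd.injective (hv (hsupp m hm) (Finset.mem_insert_self _ _) ?_))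
          rw [toAdd_one, map_zero]; exact e.symm
      · intro b hb hne
        rw [Finsupp.single_apply, if_neg]
        intro e
        exact hne (Multiplicative.toAdd.injective (hv (hsupp b hb) (hsupp m hm) e))
      · exact fun h => absurd hm h
    · rw [Finsupp.notMem_support_iff.1 hm, map_zero]
      by_cases h1 : m = 1
      · subst h1
        rw [Finsupp.single_eq_same]
        rw [Finset.sum_eq_zero fun b hb => ?_, toAdd_one, map_zero, Finsupp.single_eq_same] at hc
        · exact hc
        · rw [Finsupp.single_apply, if_neg]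
          intro e
          exact hm ((Multiplicative.toAdd.injective (hv (hsupp b hb) (Finset.mem_insert_self _ _) e) :
            b = 1) ▸ hb)
      · rw [Finsupp.single_apply, if_neg (Ne.symm h1)]
  · have h1 := latEv_torOrbit φ v R g
    rw [h, Groth.Misc1.Dyn.post_comp] at h1
    refine (congrArg WithConv.ofConv h1).symm.trans (AlgHom.ext fun a => ?_)
    change latEv (k := k) v R (algebraMap R (MonoidAlgebra R Lat) (g a)) = _
    simp [MonoidAlgebra.coe_algebraMap, latEv_single, LaurentPolynomial.algebraMap_apply, ← single_eq_C,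
      -single_eq_C_mul_T]

end Groth.AlgGrp1
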