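import Groth.Agent.AlgGrp1.Rigidity
import Groth.Agent.AlgGrp1.AffineCrit
import Groth.Agent.AlgGrp1.Blanchard
import Groth.Agent.Agf.ImageSubgroup

/-!
A point of a group scheme on which all functions take their value at the unit acts trivially on affine
schemes, and on integral schemes with a fixed point.
-/

set_option autoImplicit false
universe u

open CategoryTheory Limits MonoidalCategory CartesianMonoidalCategory MonObj AlgebraicGeometry
open Groth.Agf (Fn pull evalPt)
open scoped Groth.Agf

noncomputable section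

namespace Groth.AlgGrp1

/-- The associativity axiom of an action can be checked on points. -/
theorem mulAct_of_points {S : Scheme.{u}} {G X : Over S} [GrpObj G] (act : G ⊗ X ⟶ X)
    (h : ∀ (T : Over S) (g g' : T ⟶ G) (y : T ⟶ X),
      lift (g * g') y ≫ act = lift g (lift g' y ≫ act) ≫ act) :
    (μ[G] ▷ X) ≫ act = (α_ G G X).hom ≫ (G ◁ act) ≫ act := by
  have := h _ (fst (G ⊗ G) X ≫ fst G G) (fst (G ⊗ G) X ≫ snd G G) (snd (G ⊗ G) X)
  have e1 : lift ((fst (G ⊗ G) X ≫ fst G G) * (fst (G ⊗ G) X ≫ snd G G)) (snd (G ⊗ G) X) = μ[G] ▷ X := by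
    apply CartesianMonoidalCategory.hom_ext
    · rw [← MonObj.comp_mul, lift_fst, whiskerRight_fst, Hom.mul_def, lift_fst_snd, Category.id_comp]
    · simp
  have e2 : lift (fst (G ⊗ G) X ≫ fst G G) (lift (fst (G ⊗ G) X ≫ snd G G) (snd (G ⊗ G) X) ≫ act) =
      (α_ G G X).hom ≫ (G ◁ act) := by
    apply CartesianMonoidalCategory.hom_ext
    · simp
    · simp only [lift_snd, Category.assoc, whiskerLeft_snd]
      rw [← Category.assoc]
      congr 1
      apply CartesianMonoidalCategory.hom_ext <;> simp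
  rw [e1, e2, Category.assoc] at this
  exact this

variable {k : Type u} [Field k]

/-- Maps out of `G × X`, `X` affine, into an affine scheme only see the functions on `G`. -/
theorem lift_comp_eq_of_appTop {G X Y T : Over (Spec (CommRingCat.of k))} [QuasiCompact G.hom]
    [QuasiSeparated G.hom] [IsAffine X.left] [IsAffine Y.left] (F : G ⊗ X ⟶ Y) (g g' : T ⟶ G) (x : T ⟶ X)
    (h : g.left.appTop = g'.left.appTop) : lift g x ≫ F = lift g' x ≫ F := by
  apply Over.OverMorphism.ext
  apply ext_of_isAffine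
  have : CompactSpace G.left := (quasiCompact_iff_compactSpace G.hom).mp inferInstance
  have : QuasiSeparatedSpace G.left := (quasiSeparated_iff_quasiSeparatedSpace G.hom).mp inferInstance
  have H : IsPullback (pullback.fst G.hom X.hom) (pullback.snd G.hom X.hom) G.hom X.hom :=
    IsPullback.of_hasPullback _ _
  have hiso := isIso_pushoutSection_of_isQuasiSeparated_of_flat_right H (US := ⊤) (UT := ⊤) (UX := ⊤)
    (hUST := le_of_eq (Scheme.Hom.preimage_top _).symm) (hUSX := le_of_eq (Scheme.Hom.preimage_top _).symm)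
    (UY := ⊤) (by simp) (isAffineOpen_top _) (isAffineOpen_top _) CompactSpace.isCompact_univ
    ((isQuasiSeparated_univ_iff).2 inferInstance)
  have hpo := (isIso_pushoutSection_iff H _ _ _).1 hiso
  have key : (lift g x).left.appTop = (lift g' x).left.appTop := by
    refine hpo.hom_ext ?_ ?_
    · change (pullback.fst G.hom X.hom).appLE ⊤ ((pullback.fst G.hom X.hom) ⁻¹ᵁ ⊤) le_rfl ≫ _ =
        (pullback.fst G.hom X.hom).appLE ⊤ ((pullback.fst G.hom X.hom) ⁻¹ᵁ ⊤) le_rfl ≫ _
      rw [Scheme.Hom.appLE_eq_app]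
      have e : ∀ g : T ⟶ G, (lift g x).left ≫ pullback.fst G.hom X.hom = g.left :=
        fun g => congrArg CommaMorphism.left (lift_fst g x)
      exact (Scheme.Hom.comp_appTop _ _).symm.trans ((congrArg Scheme.Hom.appTop (e g)).trans (h.trans
        ((congrArg Scheme.Hom.appTop (e g')).symm.trans (Scheme.Hom.comp_appTop _ _))))
    · change (pullback.snd G.hom X.hom).appLE ⊤ ((pullback.snd G.hom X.hom) ⁻¹ᵁ ⊤) le_rfl ≫ _ =
        (pullback.snd G.hom X.hom).appLE ⊤ ((pullback.snd G.hom X.hom) ⁻¹ᵁ ⊤) le_rfl ≫ _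
      rw [Scheme.Hom.appLE_eq_app]
      have e : ∀ g : T ⟶ G, (lift g x).left ≫ pullback.snd G.hom X.hom = x.left :=
        fun g => congrArg CommaMorphism.left (lift_snd g x)
      exact (Scheme.Hom.comp_appTop _ _).symm.trans ((congrArg Scheme.Hom.appTop (e g)).trans
        ((congrArg Scheme.Hom.appTop (e g')).symm.trans (Scheme.Hom.comp_appTop _ _)))
  rw [Over.comp_left, Over.comp_left, Scheme.Hom.comp_appTop, Scheme.Hom.comp_appTop, key]

variable {K : Type u} [Field K] [Algebra k K]

theorem appTop_eq_of_evalPt {G : Over (Spec (CommRingCat.of k))} {g g' : VecGrp.pt k K ⟶ G}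
    (h : ∀ f, evalPt g f = evalPt g' f) : g.left.appTop = g'.left.appTop :=
  CommRingCat.hom_ext (RingHom.ext fun f => Groth.Agf.ptFn_bijective.1 (h f))

variable [IsAlgClosed K]

/-- A group acting faithfully, on `K`-points, on an integral separated locally Noetherian scheme with a
fixed rational point is affine. -/
theorem isAffine_of_fixedPt (K : Type u) [Field K] [Algebra k K] [IsAlgClosed K]
    (G X : Over (Spec (CommRingCat.of k))) [GrpObj G] [LocallyOfFiniteType G.hom] [QuasiCompact G.hom]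
    [IsSeparated X.hom] [IsIntegral X.left] [IsLocallyNoetherian X.left]
    (a : AlgGrp.Action G X) (P : 𝟙_ _ ⟶ X) (hP : a.IsFixedPt P)
    (hf : ∀ g : VecGrp.pt k K ⟶ G,
      lift (fst (VecGrp.pt k K) X ≫ g) (snd (VecGrp.pt k K) X) ≫ a.act = snd (VecGrp.pt k K) X → g = 1) :
    IsAffine G.left := by
  refine isAffine_of_separated_points K G fun g hg => hf g ?_
  have := isSeparated_grpObj G
  -- an affine neighbourhood of the fixed point
  let p := P.left.base (IsLocalRing.closedPoint k)
  obtain ⟨_, ⟨U, hU, rfl⟩, hpU, -⟩ := X.left.isBasis_affineOpens.exists_subset_of_mem_open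
    (Set.mem_univ p) isOpen_univ
  obtain ⟨_, aU, haU⟩ := exists_algebra (X := X) hU.fromSpec
  have : IsOpenImmersion aU.left := haU ▸ inferInstance
  have hrU : Set.range aU.left = (U : Set X.left) := haU ▸ hU.range_fromSpec
  set A : Type u := Γ(X.left, U)
  have : Nonempty U := ⟨⟨p, hpU⟩⟩
  have : IsNoetherianRing A := IsLocallyNoetherian.component_noetherian ⟨U, hU⟩
  -- evaluation at the fixed point
  have hPr : Set.range P.left ⊆ Set.range aU.left := by
    rw [hrU]
    rintro _ ⟨t, rfl⟩
    rwa [Subsingleton.elim (α := ↥(Spec (CommRingCat.of k))) t (IsLocalRing.closedPoint k)]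
  let P₀ : VecGrp.pt k k ⟶ specAlg k A := Over.homMk (IsOpenImmersion.lift aU.left P.left hPr) (by
    rw [← Over.w aU, IsOpenImmersion.lift_fac_assoc, Over.w P]
    exact (Spec.map_id (CommRingCat.of k)).symm)
  have hP₀ : P₀ ≫ aU = toUnit _ ≫ P := by
    have e : (toUnit (VecGrp.pt k k)).left = 𝟙 _ := Spec.map_id (CommRingCat.of k)
    apply Over.OverMorphism.ext
    rw [Over.comp_left, Over.comp_left, e]
    exact (IsOpenImmersion.lift_fac _ _ _).trans (Category.id_comp _).symm
  obtain ⟨ψ, hψ⟩ : ∃ ψ : A →ₐ[k] k, specAlgMap ψ = P₀ := by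
    have hw : CommRingCat.ofHom (algebraMap k A) ≫ Spec.preimage P₀.left = CommRingCat.ofHom (algebraMap k k) := by
      apply Spec.map_injective
      rw [Spec.map_comp, Spec.map_preimage]
      exact Over.w P₀
    exact ⟨{ (Spec.preimage P₀.left).hom with commutes' := fun c => congr($(hw).hom c) },
      Over.OverMorphism.ext (Spec.map_preimage P₀.left)⟩
  let m : Ideal A := RingHom.ker ψ
  have hψs : Function.Surjective ψ := fun c => ⟨algebraMap k A c, ψ.commutes c⟩
  have hm : m.IsMaximal := RingHom.ker_isMaximal_of_surjective ψ hψs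
  let φ : ∀ n : ℕ, A →ₐ[k] A ⧸ m ^ (n + 1) := fun n => Ideal.Quotient.mkₐ k _
  have hφ : ∀ r : A, (∀ n, φ n r = 0) → r = 0 := fun r hr => by
    have : r ∈ ⨅ n : ℕ, m ^ n := by
      rw [Submodule.mem_iInf]
      intro n
      exact Ideal.pow_le_pow_right n.le_succ (Ideal.Quotient.eq_zero_iff_mem.1 (hr n))
    rwa [Ideal.iInf_pow_eq_bot_of_isDomain m hm.ne_top, Ideal.mem_bot] at this
  -- `g` fixes the infinitesimal neighbourhoods
  let w : VecGrp.pt k K ⊗ X ⟶ X := lift (fst _ X ≫ g) (snd _ X) ≫ a.act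
  obtain ⟨E, c, _, hE⟩ := exists_equalizer w (snd (VecGrp.pt k K) X)
  have hn : ∀ n, ∃ z, z ≫ c = VecGrp.pt k K ◁ (specAlgMap (φ n) ≫ aU) := by
    intro n
    refine (hE _ _).2 ?_
    set j := specAlgMap (φ n) ≫ aU with hj
    let F : G ⊗ specAlg k (A ⧸ m ^ (n + 1)) ⟶ X := (G ◁ j) ≫ a.act
    have hsub : Set.range F.left ⊆ Set.range aU.left := by
      have hle : m ^ (n + 1) ≤ RingHom.ker ψ := Ideal.pow_le_self (Nat.succ_ne_zero n)
      let ψn : A ⧸ m ^ (n + 1) →ₐ[k] k := Ideal.Quotient.liftₐ _ ψ hle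
      let s : VecGrp.pt k k ⟶ specAlg k (A ⧸ m ^ (n + 1)) := specAlgMap ψn
      have hs : s ≫ j = toUnit _ ≫ P := by
        rw [hj, ← hP₀, ← hψ, ← Category.assoc]
        congr 1
        apply Over.OverMorphism.ext
        exact (Spec.map_comp _ _).symm
      have : Subsingleton (specAlg k (A ⧸ m ^ (n + 1))).left := by
        constructor
        intro x y
        have key : ∀ x : PrimeSpectrum (A ⧸ m ^ (n + 1)), x.asIdeal.comap (Ideal.Quotient.mk _) = m := fun x => by
          refine (hm.eq_of_le (Ideal.IsPrime.ne_top inferInstance) ?_).symm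
          refine Ideal.IsPrime.le_of_pow_le (n := n + 1) (fun r hr => ?_)
          rw [Ideal.mem_comap, Ideal.Quotient.eq_zero_iff_mem.2 hr]
          exact zero_mem _
        have := (key x).trans (key y).symm
        exact PrimeSpectrum.ext (Ideal.comap_injective_of_surjective _ Ideal.Quotient.mk_surjective this)
      have : Surjective s.left := ⟨fun x => ⟨IsLocalRing.closedPoint k, Subsingleton.elim _ _⟩⟩
      have : Surjective (G ◁ s).left :=
        MorphismProperty.of_isPullback (P := @Surjective) (isPullback_whiskerLeft G s) inferInstance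
      rintro _ ⟨z, rfl⟩
      obtain ⟨z', rfl⟩ := (G ◁ s).left.surjective z
      refine ⟨P₀.left ((toPt (G ⊗ VecGrp.pt k k)).left z'), ?_⟩
      have e : (G ◁ s) ≫ F = toPt (G ⊗ VecGrp.pt k k) ≫ P₀ ≫ aU := by
        rw [hP₀, toPt_unique (toPt (G ⊗ VecGrp.pt k k)) (snd _ _), ← Category.assoc (snd G (VecGrp.pt k k)),
          toUnit_unique (snd G (VecGrp.pt k k) ≫ toUnit _) (toUnit _)]
        have := hP _ (fst G (VecGrp.pt k k))
        simp only [F]
        rw [← MonoidalCategory.whiskerLeft_comp_assoc, hs,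
          show G ◁ (toUnit (VecGrp.pt k k) ≫ P) = lift (fst _ _) (toUnit _ ≫ P) by
            apply CartesianMonoidalCategory.hom_ext
            · simp
            · rw [whiskerLeft_snd, lift_snd, ← Category.assoc,
                toUnit_unique (snd G (VecGrp.pt k k) ≫ toUnit _) (toUnit _)]]
        exact this
      exact (congr(($e).left z')).symm
    let F₀ : G ⊗ specAlg k (A ⧸ m ^ (n + 1)) ⟶ specAlg k A := Over.homMk (IsOpenImmersion.lift aU.left F.left hsub) (by
      rw [← Over.w aU, IsOpenImmersion.lift_fac_assoc, Over.w F])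
    have hF₀ : F₀ ≫ aU = F := Over.OverMorphism.ext (IsOpenImmersion.lift_fac _ _ _)
    let x := snd (VecGrp.pt k K) (specAlg k (A ⧸ m ^ (n + 1)))
    have hlift : lift (fst _ _ ≫ g) x ≫ F₀ = lift (fst (VecGrp.pt k K) _ ≫ (1 : VecGrp.pt k K ⟶ G)) x ≫ F₀ :=
      lift_comp_eq_of_appTop F₀ _ _ x (by
        rw [Over.comp_left, Over.comp_left, Scheme.Hom.comp_appTop, Scheme.Hom.comp_appTop,
          appTop_eq_of_evalPt hg])
    have := congrArg (· ≫ aU) hlift
    simp only [Category.assoc, hF₀, F, lift_whiskerLeft_assoc] at this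
    rw [MonObj.comp_one, a.lift_one_act] at this
    rw [whiskerLeft_snd, ← this, ← Category.assoc, comp_lift, whiskerLeft_snd, ← Category.assoc, whiskerLeft_fst]
  -- hence a dense open, hence everything
  obtain ⟨z, hz⟩ := factor_of_jointly_injective c aU φ hφ hn
  have : IsDominant aU.left := ⟨by
    rw [DenseRange, hrU]
    exact U.2.dense ⟨p, hpU⟩⟩
  have : IsSchemeTheoreticallyDominant aU.left := .of_isDominant _
  obtain ⟨h1, -⟩ := Groth.Agf.dominant_whiskerLeft aU (VecGrp.pt k K)
  obtain ⟨b, hb⟩ := Groth.Agf.exists_lift_of_dominant_over c (𝟙 _) (VecGrp.pt k K ◁ aU) z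
    (hz.trans (Category.comp_id _).symm)
  have := (hE _ _).1 ⟨b, hb⟩
  simpa [w] using this

end Groth.AlgGrp1
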