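import Groth.Agent.AlgGrp1.Basic

/-!
# Schemes whose global functions are the constants: morphisms to affine schemes are constant
-/

universe u

open CategoryTheory Limits MonoidalCategory CartesianMonoidalCategory MonObj AlgebraicGeometry

namespace Groth.AlgGrp1

variable {k : Type u} [Field k]

/-- The global functions of the `k`-scheme `X` are the constants. -/
def HasConstFunctions (X : Over (Spec (CommRingCat.of k))) : Prop :=
  Function.Bijective ((Scheme.ΓSpecIso (CommRingCat.of k)).inv ≫ X.hom.appTop).hom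

theorem HasConstFunctions.isIso_appTop {X : Over (Spec (CommRingCat.of k))}
    (h : HasConstFunctions X) : IsIso X.hom.appTop := by
  have : IsIso ((Scheme.ΓSpecIso (CommRingCat.of k)).inv ≫ X.hom.appTop) :=
    (ConcreteCategory.isIso_iff_bijective _).2 h
  exact IsIso.of_isIso_comp_left (Scheme.ΓSpecIso (CommRingCat.of k)).inv X.hom.appTop

theorem HasConstFunctions.eq_const {X : Over (Spec (CommRingCat.of k))} (h : HasConstFunctions X)
    {Z : Scheme.{u}} [IsAffine Z] (f : X.left ⟶ Z) (e : 𝟙_ _ ⟶ X) : f = X.hom ≫ e.left ≫ f := by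
  have := h.isIso_appTop
  have he : (e.left ≫ X.hom).appTop = 𝟙 _ := by
    rw [Over.w e]; rfl
  rw [Scheme.Hom.comp_appTop] at he
  have he' : e.left.appTop ≫ X.hom.appTop = 𝟙 _ := by
    rw [IsIso.eq_inv_of_hom_inv_id he, IsIso.inv_hom_id]
  apply ext_of_isAffine
  simp only [Scheme.Hom.comp_appTop, Category.assoc]
  exact ((congrArg (f.appTop ≫ ·) he').trans (Category.comp_id _)).symm

/-- A morphism from a scheme with only constant functions to an affine `k`-scheme is constant. -/
theorem HasConstFunctions.over_eq_const {X Z : Over (Spec (CommRingCat.of k))}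
    (h : HasConstFunctions X) [IsAffine Z.left] (f : X ⟶ Z) (e : 𝟙_ _ ⟶ X) :
    f = toUnit X ≫ e ≫ f := by
  ext
  exact h.eq_const f.left e

/-- Any morphism to an affine scheme factors through the affinization. -/
theorem exists_factor_toSpecΓ {X Z : Scheme.{u}} [IsAffine Z] (f : X ⟶ Z) :
    ∃ g : Spec Γ(X, ⊤) ⟶ Z, f = X.toSpecΓ ≫ g := by
  refine ⟨Spec.map f.appTop ≫ Z.isoSpec.inv, ?_⟩
  rw [← Scheme.toSpecΓ_naturality_assoc]
  simp [Scheme.isoSpec]

/-- If morphisms `B ⊗ B ⟶ L` are constant, an extension of `B` by `L` with a section of schemes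
has a section which is a homomorphism. -/
theorem exists_hom_section {L G B : Over (Spec (CommRingCat.of k))} [GrpObj G] [GrpObj B]
    (i : L ⟶ G) (π : G ⟶ B) [IsMonHom π] (hker : AlgGrp.IsKernel i π)
    (hconst : ∀ f : B ⊗ B ⟶ L, ∃ l : 𝟙_ (Over (Spec (CommRingCat.of k))) ⟶ L,
      f = toUnit (B ⊗ B) ≫ l)
    (s : B ⟶ G) (hs : s ≫ π = 𝟙 B) : ∃ s' : B ⟶ G, IsMonHom s' ∧ s' ≫ π = 𝟙 B := by
  obtain ⟨s', s'_def⟩ : ∃ x : B ⟶ G, x = s * ((1 : B ⟶ B) ≫ s)⁻¹ := ⟨_, rfl⟩
  have hs' : s' ≫ π = 𝟙 B := by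
    simp only [s'_def, MonObj.mul_comp, GrpObj.inv_comp, Category.assoc, hs, Category.comp_id, inv_one,
      _root_.mul_one]
  have hs1 : (1 : 𝟙_ _ ⟶ B) ≫ s' = 1 := by
    simp only [s'_def, MonObj.comp_mul, GrpObj.comp_inv, ← Category.assoc, MonObj.comp_one, mul_inv_cancel]
  let d : B ⊗ B ⟶ G := ((fst B B * snd B B) ≫ s') * ((fst B B ≫ s') * (snd B B ≫ s'))⁻¹
  obtain ⟨f, hf⟩ := IsKernel.exists_lift hker d (by
    simp only [d, MonObj.mul_comp, GrpObj.inv_comp, Category.assoc, hs', Category.comp_id,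
      mul_inv_cancel])
  obtain ⟨l, hl⟩ := hconst f
  have key : ∀ {T : Over (Spec (CommRingCat.of k))} (a b : T ⟶ B),
      ((a * b) ≫ s') * ((a ≫ s') * (b ≫ s'))⁻¹ = toUnit T ≫ l ≫ i := by
    intro T a b
    have h := congrArg (fun r => lift a b ≫ r ≫ i) hl
    rw [hf, Category.assoc, ← Category.assoc (lift a b), toUnit_unique (lift a b ≫ toUnit _) (toUnit T)] at h
    rw [← h]
    simp only [d, MonObj.comp_mul, GrpObj.comp_inv, lift_fst_assoc, lift_snd_assoc]
    rw [← Category.assoc, MonObj.comp_mul, lift_fst, lift_snd]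
  have hl1 : l ≫ i = 1 := by
    have h := key (1 : 𝟙_ _ ⟶ B) 1
    rw [_root_.mul_one, hs1, _root_.mul_one, mul_inv_cancel, toUnit_unique (toUnit (𝟙_ _)) (𝟙 _),
      Category.id_comp] at h
    exact h.symm
  refine ⟨s', isMonHom_of_points s' fun T a b => ?_, hs'⟩
  have h := key a b
  rw [hl1, MonObj.comp_one, mul_inv_eq_one] at h
  exact h

end Groth.AlgGrp1

namespace Groth.AlgGrp1

/-- An integral proper scheme with a rational point has only constant global functions. -/
theorem hasConstFunctions_of_isIntegral {k : Type u} [Field k]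
    {X : Over (Spec (CommRingCat.of k))} [IsIntegral X.left] [UniversallyClosed X.hom]
    (e : 𝟙_ _ ⟶ X) : HasConstFunctions X := by
  have hf := isField_of_universallyClosed k X.hom
  let F := (Scheme.ΓSpecIso (CommRingCat.of k)).inv ≫ X.hom.appTop
  let R := e.left.appTop ≫ (Scheme.ΓSpecIso (CommRingCat.of k)).hom
  have hR : F ≫ R = 𝟙 _ := by
    have : X.hom.appTop ≫ e.left.appTop = 𝟙 _ := by
      rw [← Scheme.Hom.comp_appTop, Over.w e]; rfl
    simp only [F, R, Category.assoc]
    exact (congrArg (fun z => (Scheme.ΓSpecIso (CommRingCat.of k)).inv ≫ z)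
      ((Category.assoc _ _ _).symm.trans ((congrArg (· ≫ _) this).trans (Category.id_comp _)))).trans
      (Iso.inv_hom_id _)
  have hRF : ∀ x, R.hom (F.hom x) = x := fun x => congr($hR x)
  refine ⟨Function.LeftInverse.injective (g := R.hom) hRF, fun y => ⟨R.hom y, ?_⟩⟩
  letI := hf.toField
  exact RingHom.injective R.hom (hRF (R.hom y))

end Groth.AlgGrp1
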