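import Groth.Agent.AlgGrp1.AffineRep
import Groth.Agent.AlgGrp1.ActAffine
import Groth.Agent.AlgGrp1.Const
import Groth.Agent.Agf.GMod
import Groth.Agent.S11416

/-!
Linear representations and actions on affine space given by a matrix of functions; anti-affine groups
have only trivial representations.
-/

set_option autoImplicit false
universe u

open CategoryTheory MonoidalCategory CartesianMonoidalCategory MonObj GrpObj AlgebraicGeometry
open Groth.Agf (Fn pull evalPt evalPt_comp evalPt_comp_apply evalPt_ptMap contract)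
open scoped TensorProduct Groth.Agf

noncomputable section

namespace Groth.AlgGrp1

variable {k : Type u} [Field k]

/-- Constants in the functions on an affine spectrum. -/
def spFn {A : Type u} [CommRing A] [Algebra k A] (a : A) : Fn (CoactBr.sp k A) :=
  (Scheme.ΓSpecIso (CommRingCat.of A)).inv a

theorem pull_toAffine {T : Over (Spec (CommRingCat.of k))} {A : Type u} [CommRing A] [Algebra k A]
    (φ : A →ₐ[k] Fn T) (a : A) : pull (toAffine φ) (spFn a) = φ a := by
  show (T.left.toSpecΓ ≫ Spec.map (CommRingCat.ofHom φ.toRingHom)).appTop.hom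
    ((Scheme.ΓSpecIso (CommRingCat.of A)).inv a) = φ a
  rw [Scheme.Hom.comp_appTop, Scheme.toSpecΓ_appTop, CommRingCat.comp_apply, ← CommRingCat.comp_apply
    ((Spec.map _).appTop), Scheme.ΓSpecIso_naturality]
  simp

theorem hom_sp_ext {T : Over (Spec (CommRingCat.of k))} {A : Type u} [CommRing A] [Algebra k A]
    {f g : T ⟶ CoactBr.sp k A} (h : ∀ a, pull f (spFn a) = pull g (spFn a)) : f = g := by
  apply Over.OverMorphism.ext
  have : IsAffine (CoactBr.sp k A).left := inferInstanceAs (IsAffine (Spec (CommRingCat.of A)))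
  apply ext_of_isAffine
  ext x
  obtain ⟨a, rfl⟩ := (Scheme.ΓSpecIso (CommRingCat.of A)).symm.commRingCatIsoToRingEquiv.surjective x
  exact h a

variable [IsAlgClosed k] {G : Over (Spec (CommRingCat.of k))} [GrpObj G] [Smooth G.hom] [QuasiCompact G.hom]
  {n : ℕ} (Mat : Matrix (Fin n) (Fin n) (Fn G))
  (hmul : ∀ g h : VecGrp.pt k k ⟶ G,
    (evalPt (g * h)).mapMatrix Mat = (evalPt g).mapMatrix Mat * (evalPt h).mapMatrix Mat)
  (hone : (evalPt (1 : VecGrp.pt k k ⟶ G)).mapMatrix Mat = 1)

include hmul in
theorem matRep_pull_mul : (pull μ[G]).mapMatrix Mat =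
    (pull (fst G G)).mapMatrix Mat * (pull (snd G G)).mapMatrix Mat := by
  have : LocallyOfFiniteType (G ⊗ G).hom :=
    inferInstanceAs (LocallyOfFiniteType (Limits.pullback.fst G.hom G.hom ≫ G.hom))
  have := geometricallyReduced_of_smooth_hom G
  have := geometricallyReduced_tensorObj G G
  have := isReduced_left (G ⊗ G)
  ext i j
  refine fn_ext_points fun t => ?_
  have e : ∀ (A : Matrix (Fin n) (Fin n) (Fn (G ⊗ G))), evalPt t (A i j) = (evalPt t).mapMatrix A i j := fun A => rfl
  rw [e, e, map_mul]
  have e' : ∀ f : G ⊗ G ⟶ G, (evalPt t).mapMatrix ((pull f).mapMatrix Mat) = (evalPt (t ≫ f)).mapMatrix Mat :=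
    fun f => rfl
  rw [e', e', e', ← hmul, ← MonObj.comp_mul, show fst G G * snd G G = μ[G] from by
    rw [Hom.mul_def, lift_fst_snd, Category.id_comp]]

include hmul in
theorem matRep_mul {T : Over (Spec (CommRingCat.of k))} (g h : T ⟶ G) :
    (pull (g * h)).mapMatrix Mat = (pull g).mapMatrix Mat * (pull h).mapMatrix Mat := by
  have h1 := congrArg (pull (lift g h)).mapMatrix (matRep_pull_mul Mat hmul)
  rw [map_mul] at h1
  have e : ∀ f : G ⊗ G ⟶ G, (pull (lift g h)).mapMatrix ((pull f).mapMatrix Mat) =
      (pull (lift g h ≫ f)).mapMatrix Mat := fun f => rfl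
  rw [e, e, e, lift_fst, lift_snd, ← Hom.mul_def] at h1
  exact h1

include hone in
theorem matRep_one {T : Over (Spec (CommRingCat.of k))} :
    (pull (1 : T ⟶ G)).mapMatrix Mat = 1 := by
  have h1 : (pull (1 : VecGrp.pt k k ⟶ G)).mapMatrix Mat = 1 := by
    ext i j
    apply Groth.Agf.ptFn_bijective.1
    have := congrFun (congrFun hone i) j
    refine this.trans ?_
    simp only [Matrix.one_apply]
    split <;> simp
  rw [show (1 : T ⟶ G) = toPt T ≫ 1 from (MonObj.comp_one _).symm]
  exact (congrArg (pull (toPt T)).mapMatrix h1).trans (map_one _)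

include hmul in
theorem matRep_evalPt_mul {B : Type u} [CommRing B] [Algebra k B] (g h : VecGrp.pt k B ⟶ G) :
    (evalPt (g * h)).mapMatrix Mat = (evalPt g).mapMatrix Mat * (evalPt h).mapMatrix Mat := by
  have := congrArg (Groth.Agf.ptFn (k := k) B).mapMatrix (matRep_mul Mat hmul g h)
  rw [map_mul] at this
  exact this

include hone in
theorem matRep_evalPt_one {B : Type u} [CommRing B] [Algebra k B] :
    (evalPt (1 : VecGrp.pt k B ⟶ G)).mapMatrix Mat = 1 := by
  have := congrArg (Groth.Agf.ptFn (k := k) B).mapMatrix (matRep_one Mat hone (T := VecGrp.pt k B))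
  rw [map_one] at this
  exact this

/-- The standard coordinates on `B ⊗ k^n`. -/
def coordEquiv (n : ℕ) (B : Type u) [CommRing B] [Algebra k B] :
    B ⊗[k] (ULift.{u} (Fin n) → k) ≃ₗ[B] (ULift.{u} (Fin n) → B) :=
  TensorProduct.piScalarRight k B B (ULift.{u} (Fin n))

/-- The operator of a `B`-point on `B ⊗ k^n`. -/
def matOp {B : Type u} [CommRing B] [Algebra k B] (A : Matrix (Fin n) (Fin n) B) :
    B ⊗[k] (ULift.{u} (Fin n) → k) →ₗ[B] B ⊗[k] (ULift.{u} (Fin n) → k) :=
  (coordEquiv n B).symm.toLinearMap ∘ₗ Matrix.toLin' (A.submatrix ULift.down ULift.down) ∘ₗ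
    (coordEquiv n B).toLinearMap

theorem matOp_mul {B : Type u} [CommRing B] [Algebra k B] (A A' : Matrix (Fin n) (Fin n) B) :
    matOp (k := k) (A * A') = matOp A ∘ₗ matOp A' := by
  refine LinearMap.ext fun x => ?_
  simp only [matOp, LinearMap.comp_apply, LinearEquiv.coe_coe, LinearEquiv.apply_symm_apply]
  rw [Matrix.submatrix_mul A A' _ ULift.down _ Equiv.ulift.bijective]
  simp [Matrix.toLin'_mul]
  rfl

theorem matOp_one {B : Type u} [CommRing B] [Algebra k B] :
    matOp (k := k) (1 : Matrix (Fin n) (Fin n) B) = LinearMap.id := by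
  refine LinearMap.ext fun x => ?_
  simp [matOp, Matrix.submatrix_one _ ULift.down_injective]

include hmul hone in
/-- The representation on `k^n` defined by a multiplicative matrix of functions. -/
def matGMod : VecGrp.GMod G (ULift.{u} (Fin n) → k) where
  ρ B _ _ := MonoidHom.mk'
    (fun g => LinearEquiv.ofLinearMap (matOp ((evalPt g).mapMatrix Mat)) (matOp ((evalPt g⁻¹).mapMatrix Mat))
      (by rw [← matOp_mul, ← matRep_evalPt_mul Mat hmul, mul_inv_cancel, matRep_evalPt_one Mat hone, matOp_one])
      (by rw [← matOp_mul, ← matRep_evalPt_mul Mat hmul, inv_mul_cancel, matRep_evalPt_one Mat hone, matOp_one]))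
    (fun g h => LinearEquiv.ext fun x => by
      show matOp ((evalPt (g * h)).mapMatrix Mat) x = matOp ((evalPt g).mapMatrix Mat) (matOp ((evalPt h).mapMatrix Mat) x)
      rw [matRep_evalPt_mul Mat hmul, matOp_mul]
      rfl)
  naturality {B B'} _ _ _ _ φ g x := by
    show VecGrp.Wmap φ (matOp ((evalPt g).mapMatrix Mat) x) =
      matOp ((evalPt (VecGrp.ptMap φ ≫ g)).mapMatrix Mat) (VecGrp.Wmap φ x)
    have hc : ∀ (y : B ⊗[k] (ULift.{u} (Fin n) → k)) (i : ULift.{u} (Fin n)),
        coordEquiv n B' (VecGrp.Wmap φ y) i = φ (coordEquiv n B y i) := by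
      intro y i
      induction y with
      | zero => simp
      | tmul b m => simp [coordEquiv, TensorProduct.piScalarRight]
      | add a b ha hb => simp only [map_add, Pi.add_apply, ha, hb]
    apply (coordEquiv n B').injective
    funext i
    rw [hc]
    simp only [matOp, LinearMap.comp_apply, LinearEquiv.coe_coe, LinearEquiv.apply_symm_apply,
      Matrix.toLin'_apply, Matrix.mulVec, dotProduct, map_sum, map_mul, hc]
    rw [evalPt_ptMap]
    rfl

theorem matGMod_eq_one_iff (g : VecGrp.pt k k ⟶ G) :
    (matGMod Mat hmul hone).ρ k g = 1 ↔ (evalPt g).mapMatrix Mat = 1 := by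
  constructor
  · intro h
    have h1 : matOp ((evalPt g).mapMatrix Mat) = LinearMap.id :=
      congrArg LinearEquiv.toLinearMap h
    have h2 : Matrix.toLin' (((evalPt g).mapMatrix Mat).submatrix ULift.down.{u} ULift.down.{u}) = LinearMap.id := by
      refine LinearMap.ext fun v => ?_
      obtain ⟨x, rfl⟩ := (coordEquiv (k := k) n k).surjective v
      have := congrArg (coordEquiv (k := k) n k) (LinearMap.congr_fun h1 x)
      simpa [matOp] using this
    ext i j
    have h3 := congrFun (congrFun (congrArg LinearMap.toMatrix' h2) ⟨i⟩) ⟨j⟩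
    simpa [Matrix.one_apply, Pi.single_apply, ULift.ext_iff, eq_comm] using h3
  · intro h
    refine LinearEquiv.ext fun x => ?_
    show matOp ((evalPt g).mapMatrix Mat) x = x
    rw [h, matOp_one]
    rfl

/-- The coordinate ring of affine `n`-space. -/
abbrev AffRing (k : Type u) [Field k] (n : ℕ) : Type u := MvPolynomial (ULift.{u} (Fin n)) k

/-- The coordinates of a point of affine space. -/
def coord {T : Over (Spec (CommRingCat.of k))} (x : T ⟶ CoactBr.sp k (AffRing k n)) (i : Fin n) : Fn T :=
  pull x (spFn (MvPolynomial.X ⟨i⟩ : AffRing k n))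

omit [IsAlgClosed k] in
theorem coord_ext {T : Over (Spec (CommRingCat.of k))} {x y : T ⟶ CoactBr.sp k (AffRing k n)}
    (h : ∀ i, coord x i = coord y i) : x = y := by
  let sp : AffRing k n →ₐ[k] Fn (CoactBr.sp k (AffRing k n)) :=
    { (Scheme.ΓSpecIso (CommRingCat.of (AffRing k n))).inv.hom with
      commutes' := fun c => congr($((Scheme.ΓSpecIso_inv_naturality
        (CommRingCat.ofHom (algebraMap k (AffRing k n))))).hom c) }
  have : (pull x).comp sp = (pull y).comp sp := MvPolynomial.algHom_ext fun i => h i.down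
  exact hom_sp_ext fun a => AlgHom.congr_fun this a

omit [IsAlgClosed k] in
theorem coord_comp {T T' : Over (Spec (CommRingCat.of k))} (c : T' ⟶ T) (x : T ⟶ CoactBr.sp k (AffRing k n))
    (i : Fin n) : coord (c ≫ x) i = pull c (coord x i) := by
  rw [coord, coord, Groth.Agf.pull_comp]

/-- The action morphism on affine space. -/
def matAct : G ⊗ CoactBr.sp k (AffRing k n) ⟶ CoactBr.sp k (AffRing k n) :=
  toAffine (MvPolynomial.aeval fun i : ULift.{u} (Fin n) =>
    ∑ j, pull (fst G _) (Mat i.down j) * pull (snd G _) (spFn (MvPolynomial.X ⟨j⟩ : AffRing k n)))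

theorem coord_matAct {T : Over (Spec (CommRingCat.of k))} (g : T ⟶ G) (x : T ⟶ CoactBr.sp k (AffRing k n))
    (i : Fin n) : coord (lift g x ≫ matAct Mat) i = ∑ j, pull g (Mat i j) * coord x j := by
  rw [coord_comp, coord, matAct, pull_toAffine, MvPolynomial.aeval_X, map_sum]
  refine Finset.sum_congr rfl fun j _ => ?_
  rw [map_mul, ← Groth.Agf.pull_comp, lift_fst, ← Groth.Agf.pull_comp, lift_snd]
  rfl

/-- The action on affine space defined by a multiplicative matrix of functions. -/
def matAction : AlgGrp.Action G (CoactBr.sp k (AffRing k n)) where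
  act := matAct Mat
  one_act := by
    have e : (η[G] ▷ CoactBr.sp k (AffRing k n)) = lift (1 : _ ⟶ G) (snd _ _) := by
      apply CartesianMonoidalCategory.hom_ext
      · rw [whiskerRight_fst, lift_fst, Hom.one_def, toUnit_unique (fst _ _) (toUnit _)]
      · simp
    rw [e, ← CartesianMonoidalCategory.leftUnitor_hom]
    refine coord_ext fun i => ?_
    rw [coord_matAct]
    have h1 := matRep_one Mat hone (T := 𝟙_ _ ⊗ CoactBr.sp k (AffRing k n))
    rw [Finset.sum_eq_single i]
    · rw [show pull _ (Mat i i) = (1 : Matrix (Fin n) (Fin n) _) i i from (by simpa using congrFun (congrFun h1 i) i),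
        Matrix.one_apply_eq, _root_.one_mul]
    · intro j _ hj
      rw [show pull _ (Mat i j) = (1 : Matrix (Fin n) (Fin n) _) i j from (by simpa using congrFun (congrFun h1 i) j),
        Matrix.one_apply_ne (Ne.symm hj), zero_mul]
    · simp
  mul_act := mulAct_of_points _ fun T g g' x => by
    refine coord_ext fun i => ?_
    simp only [coord_matAct, Finset.mul_sum, ← _root_.mul_assoc]
    rw [Finset.sum_comm]
    refine Finset.sum_congr rfl fun j _ => ?_
    rw [← Finset.sum_mul]
    congr 1
    exact (congrFun (congrFun (matRep_mul Mat hmul g g') i) j).trans (Matrix.mul_apply)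

theorem evalPt_eq_one_of_matAct_eq_snd (h : matAct Mat = snd G _) (g : VecGrp.pt k k ⟶ G) :
    (evalPt g).mapMatrix Mat = 1 := by
  ext i j
  let e : VecGrp.pt k k ⟶ CoactBr.sp k (AffRing k n) :=
    VecGrp.ptMap (MvPolynomial.aeval fun l : ULift.{u} (Fin n) => if l.down = j then (1 : k) else 0)
  have he : ∀ l, Groth.Agf.ptFn k (coord e l) = if l = j then 1 else 0 := fun l => by
    show (Scheme.ΓSpecIso (CommRingCat.of k)).hom ((Spec.map (CommRingCat.ofHom _)).appTop.hom
      ((Scheme.ΓSpecIso (CommRingCat.of (AffRing k n))).inv _)) = _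
    rw [← CommRingCat.comp_apply, ← CommRingCat.comp_apply, Scheme.ΓSpecIso_naturality,
      ← Category.assoc, Iso.inv_hom_id, Category.id_comp]
    simp
  have h1 := coord_matAct Mat g e i
  rw [h, lift_snd] at h1
  have h2 := congrArg (Groth.Agf.ptFn (k := k) k) h1
  simp only [map_sum, map_mul, he] at h2
  rw [Matrix.one_apply]
  simp only [mul_ite, _root_.mul_one, mul_zero, Finset.sum_ite_eq', Finset.mem_univ, if_true] at h2
  exact h2.symm

end Groth.AlgGrp1
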