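import Groth.Agent.Hopf.Coeff
import Groth.Prelude.Def_SGA3

/-!
# Matrix comodules and their tensor powers; the determinant trick of Chevalley
-/

set_option autoImplicit false

universe u v

open TensorProduct

namespace Groth.AlgGrp1.Chev

section MatComod

variable {k : Type u} [Field k] {A : Type u} [CommRing A] [Bialgebra k A]
  {n : Type v} [Fintype n] [DecidableEq n]

/-- the coaction of a matrix on coordinate vectors -/
noncomputable def coactOfMat (m : Matrix n n A) : (n → k) →ₗ[k] (n → k) ⊗[k] A :=
  (Pi.basisFun k n).constr k fun j => ∑ i, Pi.single i (1 : k) ⊗ₜ[k] m i j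

theorem coactOfMat_single (m : Matrix n n A) (j : n) :
    coactOfMat (k := k) m (Pi.single j 1) = ∑ i, Pi.single i (1 : k) ⊗ₜ[k] m i j := by
  rw [← Pi.basisFun_apply, coactOfMat, Module.Basis.constr_basis]

/-- the comodule given by a matrix corepresentation -/
@[reducible] noncomputable def comodOfMat (m : Matrix n n A)
    (hc : ∀ i j, Coalgebra.comul (R := k) (m i j) = ∑ l, m i l ⊗ₜ[k] m l j)
    (he : ∀ i j, Coalgebra.counit (R := k) (m i j) = (1 : Matrix n n k) i j) :
    HopfRep.Comod k A (n → k) where
  coact := coactOfMat m
  coassoc := (Pi.basisFun k n).ext fun j => by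
    simp only [Pi.basisFun_apply, LinearMap.comp_apply, coactOfMat_single, map_sum,
      LinearMap.rTensor_tmul, LinearMap.lTensor_tmul, LinearEquiv.coe_coe, TensorProduct.sum_tmul,
      TensorProduct.assoc_tmul, hc, TensorProduct.tmul_sum]
    exact Finset.sum_comm
  counit_comp := (Pi.basisFun k n).ext fun j => by
    simp only [Pi.basisFun_apply, LinearMap.comp_apply, coactOfMat_single, map_sum,
      LinearMap.lTensor_tmul, he, LinearMap.flip_apply, TensorProduct.mk_apply]
    rw [Finset.sum_eq_single j (fun i _ hi => by rw [Matrix.one_apply_ne hi, TensorProduct.tmul_zero])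
      (fun h => absurd (Finset.mem_univ j) h), Matrix.one_apply_eq]

/-- tensor powers of a matrix -/
def tpow (m : Matrix n n A) (d : ℕ) : Matrix (Fin d → n) (Fin d → n) A :=
  Matrix.of fun h f => ∏ a, m (h a) (f a)

omit [DecidableEq n] in
theorem comul_tpow (m : Matrix n n A)
    (hc : ∀ i j, Coalgebra.comul (R := k) (m i j) = ∑ l, m i l ⊗ₜ[k] m l j)
    (d : ℕ) (h f : Fin d → n) : Coalgebra.comul (R := k) (tpow m d h f) =
      ∑ l, tpow m d h l ⊗ₜ[k] tpow m d l f := by
  classical
  simp only [tpow, Matrix.of_apply]
  rw [← Bialgebra.comulAlgHom_apply, map_prod]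
  simp only [Bialgebra.comulAlgHom_apply, hc]
  rw [Fintype.prod_sum]
  refine Finset.sum_congr rfl fun l _ => ?_
  induction (Finset.univ : Finset (Fin d)) using Finset.induction_on with
  | empty => simp [Algebra.TensorProduct.one_def]
  | insert a s ha ih => rw [Finset.prod_insert ha, Finset.prod_insert ha, Finset.prod_insert ha, ih,
      Algebra.TensorProduct.tmul_mul_tmul]

omit [Fintype n] in
theorem counit_tpow (m : Matrix n n A)
    (he : ∀ i j, Coalgebra.counit (R := k) (m i j) = (1 : Matrix n n k) i j)
    (d : ℕ) (h f : Fin d → n) :
    Coalgebra.counit (R := k) (tpow m d h f) = (1 : Matrix (Fin d → n) (Fin d → n) k) h f := by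
  simp only [tpow, Matrix.of_apply]
  rw [← Bialgebra.counitAlgHom_apply, map_prod]
  simp only [Bialgebra.counitAlgHom_apply, he]
  by_cases hf : h = f
  · subst hf; simp
  · obtain ⟨a, ha⟩ := Function.ne_iff.1 hf
    rw [Matrix.one_apply_ne hf]
    exact Finset.prod_eq_zero (Finset.mem_univ a) (Matrix.one_apply_ne ha)

end MatComod

section Det

variable {R : Type u} [CommRing R] {n : Type v} [Fintype n] {d : Type} [Fintype d] [DecidableEq d]

/-- expansion of the determinant of a product of rectangular matrices -/
theorem det_mul_expand (P : Matrix d n R) (Q : Matrix n d R) :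
    (P * Q).det = ∑ f : d → n, (∏ i, P i (f i)) * (Q.submatrix f id).det := by
  classical
  have e : P * Q = fun i => ∑ l, P i l • Q l := by
    funext i j; simp [Matrix.mul_apply]
  change Matrix.detRowAlternating (P * Q : d → d → R) = _
  rw [e]
  erw [MultilinearMap.map_sum Matrix.detRowAlternating.toMultilinearMap]
  refine Finset.sum_congr rfl fun f _ => ?_
  erw [MultilinearMap.map_smul_univ]
  rfl

variable [DecidableEq n]

/-- the inclusion matrix of the first block -/
noncomputable def incl (R : Type u) [CommRing R] (top : d → n) : Matrix n d R :=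
  (1 : Matrix n n R).submatrix id top

omit [Fintype d] in
theorem mul_incl {m : Type*} (N : Matrix m n R) (top : d → n) : N * incl R top = N.submatrix id top := by
  ext i j; simp [incl, Matrix.mul_apply, Matrix.one_apply]

/-- expansion of a minor -/
theorem det_submatrix_expand (N : Matrix n n R) (top h : d → n) :
    (N.submatrix h top).det = ∑ f : d → n, (∏ i, N (h i) (f i)) * ((incl R top).submatrix f id).det := by
  have e : N.submatrix h top = N.submatrix h id * incl R top := by rw [mul_incl]; rfl
  rw [e, det_mul_expand]
  rfl

/-- Chevalley's criterion: the line through the top minor is fixed iff the block is stable. -/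
theorem exists_det_iff (N N' : Matrix n n R) (hinv : N' * N = 1) (top : d → n)
    (htop : Function.Injective top) :
    (∃ c : R, ∀ h : d → n, (N.submatrix h top).det = c * ((incl R top).submatrix h id).det) ↔
      ∀ i, i ∉ Set.range top → ∀ j, N i (top j) = 0 := by
  classical
  have hE : ∀ h : d → n, (incl R top).submatrix h id = (1 : Matrix n n R).submatrix h top := by
    intro h; ext a b; rfl
  constructor
  · rintro ⟨c, hc⟩ i hi j
    let C := N.submatrix top top
    have h1 : C.det = c := by
      have := hc top
      rwa [hE, Matrix.submatrix_one top htop, Matrix.det_one, mul_one] at this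
    have hu : (1 : R) = c * (N'.submatrix top top).det := by
      have h0 : (N'.submatrix top id * N.submatrix id top).det = 1 := by
        rw [← Matrix.submatrix_mul N' N top id top Function.bijective_id, hinv,
          Matrix.submatrix_one top htop, Matrix.det_one]
      have h2 : N'.submatrix top top = N'.submatrix top id * incl R top := by
        rw [mul_incl]; rfl
      rw [det_mul_expand] at h0
      rw [h2, det_mul_expand, ← h0, Finset.mul_sum]
      refine Finset.sum_congr rfl fun f _ => ?_
      rw [show (N.submatrix id top).submatrix f id = N.submatrix f top from rfl, hc f]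
      ring
    have hcr : Matrix.cramer C.transpose (fun l => N i (top l)) = 0 := by
      funext a
      rw [Matrix.cramer_transpose_apply]
      have hupd : C.updateRow a (fun l => N i (top l)) = N.submatrix (Function.update top a i) top := by
        ext x y
        rw [Matrix.updateRow_apply, Matrix.submatrix_apply, Function.update_apply]
        split <;> rfl
      rw [hupd, hc, Matrix.det_eq_zero_of_row_eq_zero a, mul_zero]
      · rfl
      · intro y
        simp only [incl, Matrix.submatrix_apply, Function.update_self, id_eq]
        exact Matrix.one_apply_ne fun hh => hi ⟨y, hh.symm⟩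
    have h3 : C.det * N i (top j) = 0 := by
      have := congrFun (Matrix.mulVec_cramer C.transpose (fun l => N i (top l))) j
      rw [hcr, Matrix.mulVec_zero, Matrix.det_transpose] at this
      simpa using this.symm
    calc N i (top j) = (c * (N'.submatrix top top).det) * N i (top j) := by rw [← hu, one_mul]
      _ = (N'.submatrix top top).det * (C.det * N i (top j)) := by rw [h1]; ring
      _ = 0 := by rw [h3, mul_zero]
  · intro h0
    refine ⟨(N.submatrix top top).det, fun h => ?_⟩
    have e : N.submatrix h top = (incl R top).submatrix h id * N.submatrix top top := by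
      ext a b
      rw [Matrix.mul_apply]
      show N (h a) (top b) = ∑ x, (1 : Matrix n n R) (h a) (top x) * N (top x) (top b)
      by_cases ha : h a ∈ Set.range top
      · obtain ⟨l, hl⟩ := ha
        rw [Finset.sum_eq_single l, ← hl, Matrix.one_apply_eq, one_mul]
        · intro x _ hx
          rw [← hl, Matrix.one_apply_ne fun hh => hx (htop hh).symm, zero_mul]
        · simp
      · rw [h0 _ ha b]
        refine (Finset.sum_eq_zero fun x _ => ?_).symm
        rw [Matrix.one_apply_ne fun hh => ha ⟨x, hh.symm⟩, zero_mul]
    rw [e, Matrix.det_mul, mul_comm]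

end Det

end Groth.AlgGrp1.Chev
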