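import Groth.Agent.AlgGrp1.NormalSep
import Groth.Agent.AlgGrp1.AffineGrp
import Groth.Agent.AlgGrp1.AffineKernelBC
import Groth.Agent.AlgGrp1.MatRep
import Groth.Agent.S3019

/-!
Quotients of affine algebraic groups by normal subgroups are affine.
-/

set_option autoImplicit false
universe u

open CategoryTheory Limits MonoidalCategory CartesianMonoidalCategory MonObj GrpObj AlgebraicGeometry
open Groth.Agf (Fn pull evalPt evalPt_comp evalPt_comp_apply evalPt_ptMap)
open scoped TensorProduct Groth.Agf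

noncomputable section

namespace Groth.AlgGrp1

variable {k : Type u} [Field k]

theorem tensor_eq_sum_coord {V A : Type u} [AddCommGroup V] [Module k V] [AddCommGroup A] [Module k A]
    {n : Type} [Fintype n] (b : Module.Basis n k V) (x : V ⊗[k] A) :
    x = ∑ l, b l ⊗ₜ[k] ComodLib.lslice (b.coord l) x := by
  induction x using TensorProduct.induction_on with
  | zero => simp
  | tmul y a =>
    conv_lhs => rw [← b.sum_repr y, TensorProduct.sum_tmul]
    exact Finset.sum_congr rfl fun l _ => by simp [TensorProduct.smul_tmul']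
  | add x y hx hy => simp only [map_add, TensorProduct.tmul_add, Finset.sum_add_distrib, ← hx, ← hy]

/-- A closed subgroup is the stabilizer of a line in a matrix corepresentation. -/
theorem exists_mat_stabilizer {A : Type u} [CommRing A] [HopfAlgebra k A] [Algebra.FiniteType k A]
    (I : Ideal A) [I.IsHopfIdeal k] :
    ∃ (n : ℕ) (m : Matrix (Fin n) (Fin n) A) (w : Fin n → k),
      (∀ i j, Coalgebra.comul (R := k) (m i j) = ∑ l, m i l ⊗ₜ[k] m l j) ∧
      (∀ i j, Coalgebra.counit (R := k) (m i j) = (1 : Matrix (Fin n) (Fin n) k) i j) ∧ w ≠ 0 ∧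
      ∀ (R : Type u) [CommRing R] [Algebra k R] (φ : A →ₐ[k] R),
        (∀ a ∈ I, φ a = 0) ↔ ∃ c : R, (m.map φ).mulVec (fun j => algebraMap k R (w j)) = fun i => algebraMap k R (w i) * c := by
  classical
  obtain ⟨V, _, _, _, _, v, hv, hrep⟩ := Groth.Agent.S3019.result k A I
  let b := Module.finBasis k V
  let m : Matrix _ _ A := Matrix.of fun i j => ComodLib.cf (A := A) (b.coord i) (b j)
  let w : Fin (Module.finrank k V) → k := fun i => b.repr v i
  have hco : ∀ j, HopfRep.Comod.coact (k := k) (A := A) (b j) = ∑ l, b l ⊗ₜ[k] m l j := fun j =>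
    tensor_eq_sum_coord b _
  refine ⟨_, m, w, fun i j => ?_, fun i j => ?_, fun h => hv (b.repr.injective (Finsupp.ext fun i => ?_)), fun R _ _ φ => (hrep R φ).trans ?_⟩
  · rw [show m i j = ComodLib.cf (A := A) (b.coord i) (b j) from rfl, ComodLib.comul_cf, hco, map_sum]
    rfl
  · rw [show m i j = ComodLib.cf (A := A) (b.coord i) (b j) from rfl, ComodLib.apply_cf, ComodLib.op_counit]
    simp [Finsupp.single_apply, Matrix.one_apply, eq_comm]
  · simpa [w] using congrFun h i
  refine exists_congr fun c => ?_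
  have hl : ∀ i, ComodLib.lslice (b.coord i) (LinearMap.lTensor V φ.toLinearMap
      (HopfRep.Comod.coact (k := k) (A := A) v)) = ((m.map φ).mulVec fun j => algebraMap k R (w j)) i := by
    intro i
    rw [ComodLib.lslice_lTensor, ← ComodLib.cf_apply]
    conv_lhs => rw [← b.sum_repr v]
    simp only [map_sum, map_smul, Matrix.mulVec, dotProduct, Matrix.map_apply, AlgHom.toLinearMap_apply]
    exact Finset.sum_congr rfl fun j _ => by rw [Algebra.smul_def, _root_.mul_comm]; rfl
  have hr : ∀ i, ComodLib.lslice (b.coord i) (v ⊗ₜ[k] c) = algebraMap k R (w i) * c := fun i => by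
    simp [w, Algebra.smul_def]
  constructor
  · intro h
    funext i
    rw [← hl, h, hr]
  · intro h
    rw [tensor_eq_sum_coord b (LinearMap.lTensor _ _ _), tensor_eq_sum_coord b (v ⊗ₜ[k] c)]
    exact Finset.sum_congr rfl fun i _ => by rw [hl, hr, congrFun h i]

theorem evalPt_pt_spFn {B C : Type u} [CommRing B] [Algebra k B] [CommRing C] [Algebra k C] (ψ : B →ₐ[k] C) (b : B) :
    evalPt (CoactBr.pt ψ : VecGrp.pt k C ⟶ CoactBr.sp k B) (spFn b) = ψ b := by
  show ((Scheme.ΓSpecIso (CommRingCat.of B)).inv ≫ (Spec.map (CommRingCat.ofHom ψ.toRingHom)).appTop ≫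
    (Scheme.ΓSpecIso (CommRingCat.of C)).hom) b = ψ b
  rw [Scheme.ΓSpecIso_naturality, ← Category.assoc, Iso.inv_hom_id, Category.id_comp]
  rfl

/-- The smooth case over an algebraically closed field. -/
theorem isAffine_quotient_smooth [IsAlgClosed k] {G Q : Over (Spec (CommRingCat.of k))} [GrpObj G] [GrpObj Q]
    [IsAffine G.left] [Smooth G.hom] [LocallyOfFiniteType Q.hom] [QuasiCompact Q.hom] (q : G ⟶ Q) [IsMonHom q]
    [Flat q.left] [Surjective q.left] : IsAffine Q.left := by
  classical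
  have := geometricallyReduced_of_smooth_hom G
  have := isReduced_left G
  obtain ⟨A, _, _, _, e, _⟩ := exists_hopf_iso G
  have : IsIso e.hom.left := inferInstanceAs (IsIso ((Over.forget _).map e.hom))
  have : IsIso e.inv.left := inferInstanceAs (IsIso ((Over.forget _).map e.inv))
  have : IsOpenImmersion e.hom.left := IsOpenImmersion.of_isIso _
  have hred : IsReduced (CoactBr.sp k A).left := isReduced_of_isOpenImmersion e.hom.left
  have : _root_.IsReduced A := (affine_isReduced_iff (CommRingCat.of A)).1 hred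
  -- the kernel
  have := isSeparated_grpObj Q
  obtain ⟨N, n, _, hN⟩ := Groth.Agf.exists_preimage q η[Q]
  have : Mono n := Over.mono_of_mono_left n
  have hN' : ∀ {T : Over (Spec (CommRingCat.of k))} (g : T ⟶ G), (∃ z, z ≫ n = g) ↔ g ≫ q = 1 := fun g => by
    rw [hN]
    constructor
    · rintro ⟨x, hx⟩
      rw [hx, toUnit_unique x (toUnit _)]; rfl
    · intro hg
      exact ⟨toUnit _, hg⟩
  obtain ⟨_, _⟩ := Groth.Agf.exists_grpObj_of_subgroup n (fun T g => g ≫ q = 1) (fun T g => hN' g)
    (fun T => MonObj.one_comp q) (fun T a b ha hb => by rw [MonObj.mul_comp, ha, hb, _root_.mul_one])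
    (fun T a ha => by rw [GrpObj.inv_comp, ha, inv_one])
  have : IsClosedImmersion (n ≫ e.inv).left := by rw [Over.comp_left]; infer_instance
  obtain ⟨I, _, hI⟩ := exists_hopfIdeal (n ≫ e.inv)
  obtain ⟨d, m, w, hc, he, hw, hrep⟩ := exists_mat_stabilizer (k := k) I
  -- points of the kernel
  have hker : ∀ (R : Type u) [CommRing R] [Algebra k R] (φ : A →ₐ[k] R),
      (∀ a ∈ I, φ a = 0) ↔ (CoactBr.pt φ ≫ e.hom) ≫ q = 1 := by
    intro R _ _ φ
    rw [hI R φ, ← hN']
    refine exists_congr fun x => ?_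
    rw [← Category.assoc, ← cancel_mono e.hom, Category.assoc (x ≫ n), Iso.inv_hom_id, Category.comp_id]
  have hpm : ∀ {R : Type u} [CommRing R] [Algebra k R] (φ ψ : A →ₐ[k] R),
      CoactBr.pt (NormalSep.mulPt φ ψ) ≫ e.hom = (CoactBr.pt φ ≫ e.hom) * (CoactBr.pt ψ ≫ e.hom) :=
    fun φ ψ => by rw [← MonObj.mul_comp, CoactBr.pt_mul_pt]; rfl
  have hpi : ∀ {R : Type u} [CommRing R] [Algebra k R] (φ : A →ₐ[k] R),
      CoactBr.pt (NormalSep.invPt φ) ≫ e.hom = (CoactBr.pt φ ≫ e.hom)⁻¹ :=
    fun φ => by rw [← GrpObj.inv_comp, CoactBr.pt_inv]; rfl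
  have hnorm : ∀ (g : A →ₐ[k] k), ∀ a ∈ I,
      NormalSep.mulPt (NormalSep.mulPt ((Algebra.ofId k (A ⧸ I)).comp (NormalSep.invPt g)) (Ideal.Quotient.mkₐ k I))
        ((Algebra.ofId k (A ⧸ I)).comp g) a = 0 := by
    intro g
    have hQ := (hker _ (Ideal.Quotient.mkₐ k I)).1 fun a ha => Ideal.Quotient.eq_zero_iff_mem.2 ha
    refine (hker _ _).2 ?_
    rw [hpm, hpm, MonObj.mul_comp, MonObj.mul_comp, hQ, _root_.mul_one,
      show (Algebra.ofId k (A ⧸ I)).comp (NormalSep.invPt g) = NormalSep.invPt ((Algebra.ofId k (A ⧸ I)).comp g) from rfl,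
      hpi, GrpObj.inv_comp, inv_mul_cancel]
  refine isAffine_of_separated_points_algClosed Q fun x hx => ?_
  obtain ⟨g, hg, -⟩ := exists_point_lift q x ⊤ (by
    obtain ⟨p, hp⟩ := q.left.surjective (ptOf x)
    exact ⟨p, trivial, hp⟩)
  obtain ⟨φ, hφ⟩ := Groth.AlgGrp2.pt_surjective (R := k) (B := A) (K := k) (g ≫ e.inv)
  have hφ' : CoactBr.pt φ ≫ e.hom = g := by rw [hφ]; exact (Category.assoc _ _ _).trans (by simp)
  by_contra hne
  obtain ⟨f, hinv, hfne⟩ := NormalSep.exists_invariant_ne m hc he I w hw hrep hnorm φ (fun h => hne (by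
    rw [← hg, ← hφ']; exact (hker k φ).1 h))
  -- the invariant function descends
  let P : Type u := Polynomial k
  let F : G ⟶ CoactBr.sp k P := e.inv ≫ CoactBr.pt (Polynomial.aeval f)
  have hF : ∀ (R : CommAlgCat.{u} k) (t : GrassRep.Pt R ⟶ G) (ψ : A →ₐ[k] R), CoactBr.pt ψ = t ≫ e.inv →
      t ≫ F = CoactBr.pt (Polynomial.aeval (ψ f)) := by
    intro R t ψ hψ
    refine (Category.assoc _ _ _).symm.trans ((congrArg (· ≫ _) hψ.symm).trans ?_)
    refine (CoactBr.pt_comp (Polynomial.aeval f : P →ₐ[k] A) ψ).symm.trans ?_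
    congr 1
    exact Polynomial.algHom_ext (by simp [P])
  obtain ⟨r, hr⟩ := (isCover q).exists_desc F (fun T u v huv => GrassRep.hom_ext _ _ fun R t => by
    obtain ⟨ψ₁, h₁⟩ := Groth.AlgGrp2.pt_surjective (R := k) (B := A) (K := R) ((t ≫ u) ≫ e.inv)
    obtain ⟨ψ₂, h₂⟩ := Groth.AlgGrp2.pt_surjective (R := k) (B := A) (K := R) ((t ≫ v) ≫ e.inv)
    refine (Category.assoc t u F).symm.trans ((hF R _ ψ₁ h₁).trans (Eq.trans ?_ ((hF R _ ψ₂ h₂).symm.trans (Category.assoc t v F))))
    congr 2
    let x := NormalSep.mulPt (NormalSep.invPt ψ₁) ψ₂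
    have h₁' : CoactBr.pt ψ₁ ≫ e.hom = t ≫ u := by rw [h₁]; exact (Category.assoc _ _ _).trans (by simp; rfl)
    have h₂' : CoactBr.pt ψ₂ ≫ e.hom = t ≫ v := by rw [h₂]; exact (Category.assoc _ _ _).trans (by simp; rfl)
    have hx : ∀ a ∈ I, x a = 0 := (hker R x).2 (by
      rw [hpm, hpi, MonObj.mul_comp, GrpObj.inv_comp, h₁', h₂']
      refine inv_mul_eq_one.2 ?_
      exact (Category.assoc _ _ _).trans ((congrArg (t ≫ ·) huv).trans (Category.assoc _ _ _).symm))
    have hprod : NormalSep.mulPt ψ₁ x = ψ₂ := CoactBr.pt_injective <| (cancel_mono e.hom).1 <| by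
      rw [hpm, hpm, hpi, mul_inv_cancel_left]
    rw [← hinv R ψ₁ x hx, hprod])
  let fQ : Fn Q := pull r (spFn (Polynomial.X : P))
  have hev : ∀ (t : VecGrp.pt k k ⟶ G) (ψ : A →ₐ[k] k), CoactBr.pt ψ = t ≫ e.inv → evalPt (t ≫ q) fQ = ψ f := by
    intro t ψ hψ
    rw [show evalPt (t ≫ q) fQ = evalPt ((t ≫ q) ≫ r) (spFn (Polynomial.X : P)) from (evalPt_comp_apply _ _ _).symm,
      Category.assoc, hr]
    refine (congrArg (fun s => evalPt s (spFn (Polynomial.X : P))) (hF (CommAlgCat.of k k) t ψ hψ)).trans ?_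
    exact (evalPt_pt_spFn _ _).trans (Polynomial.aeval_X _)
  refine hfne ?_
  have h1 := hev g φ hφ
  have h2 := hev 1 (Bialgebra.counitAlgHom k A) (by
    rw [MonObj.one_comp]
    refine Eq.trans ?_ CoactBr.one_eq_pt.symm
    congr 1)
  rw [hg] at h1
  rw [MonObj.one_comp] at h2
  rw [← h1, hx fQ, h2]
  rfl

/-- **The image of an affine algebraic group is affine.** -/
theorem isAffine_of_quotient {G Q : Over (Spec (CommRingCat.of k))} [GrpObj G] [GrpObj Q]
    [IsAffine G.left] [LocallyOfFiniteType G.hom] [LocallyOfFiniteType Q.hom] [QuasiCompact Q.hom] (q : G ⟶ Q) [IsMonHom q]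
    [Flat q.left] [Surjective q.left] : IsAffine Q.left := by
  let K := AlgebraicClosure k
  let φ : Spec (CommRingCat.of K) ⟶ Spec (CommRingCat.of k) := Spec.map (CommRingCat.ofHom (algebraMap k K))
  let G' := Red.bc φ G
  let Q' := Red.bc φ Q
  have : IsAffine G'.left := inferInstanceAs (IsAffine (pullback G.hom φ))
  have : LocallyOfFiniteType G'.hom := inferInstanceAs (LocallyOfFiniteType (pullback.snd G.hom φ))
  have : LocallyOfFiniteType Q'.hom := inferInstanceAs (LocallyOfFiniteType (pullback.snd Q.hom φ))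
  have : QuasiCompact Q'.hom := inferInstanceAs (QuasiCompact (pullback.snd Q.hom φ))
  let q' : G' ⟶ Q' := (Over.pullback φ).map q
  have sq := isPullback_bc_map φ q
  have : Flat q'.left := MorphismProperty.of_isPullback sq ‹Flat q.left›
  have : Surjective q'.left := MorphismProperty.of_isPullback sq ‹Surjective q.left›
  obtain ⟨Gr, _, c, _, _, _, _, _⟩ := exists_reduced_subgroup G'
  obtain ⟨Qr, _, d, _, _, _, _, _⟩ := exists_reduced_subgroup Q'
  have : IsAffine Gr.left := isAffine_of_isAffineHom c.left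
  have := geometricallyReduced_of_smooth_hom Gr
  have := isReduced_left Gr
  have := geometricallyReduced_of_smooth_hom Qr
  have := isReduced_left Qr
  obtain ⟨p, hp⟩ := exists_factor_of_range_subset d (c ≫ q') (by rw [d.left.surjective.range_eq]; exact Set.subset_univ _)
  have : Mono d := Over.mono_of_mono_left d
  have : IsMonHom p := isMonHom_of_points p fun T a b => by
    rw [← cancel_mono d, Category.assoc, hp, MonObj.mul_comp, MonObj.mul_comp, Category.assoc, Category.assoc, hp]
  have : Surjective p.left := ⟨fun z => by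
    obtain ⟨y, hy⟩ := q'.left.surjective (d.left.base z)
    obtain ⟨x, hx⟩ := c.left.surjective y
    refine ⟨x, d.left.isClosedEmbedding.injective ?_⟩
    rw [← Scheme.Hom.comp_apply, ← Over.comp_left, hp, Over.comp_left, Scheme.Hom.comp_apply, hx, hy]⟩
  have := isSeparated_grpObj Qr
  have : CompactSpace Gr.left := QuasiCompact.compactSpace_of_compactSpace Gr.hom
  have : QuasiCompact p.left := by
    have : QuasiCompact (p.left ≫ Qr.hom) := by rw [Over.w]; infer_instance
    exact QuasiCompact.of_comp p.left Qr.hom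
  have := flat_of_surjective_hom p
  have : IsAffine Qr.left := isAffine_quotient_smooth p
  have := isLocallyNoetherian_left Q'
  have : IsAffine Q'.left := Groth.FlatMor2.isAffine_of_surjective_closedImmersion d.left
  have : IsAffineHom (pullback.snd Q.hom φ) := (inferInstance : IsAffineHom Q'.hom)
  have : IsAffineHom Q.hom := MorphismProperty.of_pullback_snd_of_descendsAlong (P := @IsAffineHom)
    (Q := @Surjective ⊓ @Flat ⊓ @QuasiCompact) (f := Q.hom) (g := φ) ⟨⟨inferInstance, inferInstance⟩, inferInstance⟩ this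
  exact isAffine_of_isAffineHom Q.hom

end Groth.AlgGrp1
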