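import Groth.Agent.AlgGrp1.LineSpace
import Groth.Agent.AlgGrp1.MatRep

/-!
A group with a fixed point on every proper scheme has solvable rational points.
-/

set_option autoImplicit false
universe u

open CategoryTheory Limits MonoidalCategory CartesianMonoidalCategory MonObj GrpObj AlgebraicGeometry
open Groth.GrassRep (Pt)
open scoped Groth.Agf

noncomputable section

namespace Groth.AlgGrp1

variable {k : Type u} [Field k]

/-- A representation given on points. -/
structure PtRep (G : Over (Spec (CommRingCat.of k))) [GrpObj G] (n : ℕ) where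
  /-- the matrices -/
  Φ : ∀ A : CommAlgCat.{u} k, (Pt A ⟶ G) → Matrix (Fin n) (Fin n) A
  nat : ∀ (A B : CommAlgCat.{u} k) (φ : A ⟶ B) (g : Pt A ⟶ G),
    Φ B (Groth.GrassRep.ptMap φ ≫ g) = (Φ A g).map φ.hom
  mul : ∀ (A : CommAlgCat.{u} k) (g h : Pt A ⟶ G), Φ A (g * h) = Φ A g * Φ A h
  one : ∀ (A : CommAlgCat.{u} k), Φ A 1 = 1

variable {G : Over (Spec (CommRingCat.of k))} [GrpObj G]

/-- Conjugation by a constant matrix. -/
def PtRep.conj {n : ℕ} (ρ : PtRep G n) (P P' : Matrix (Fin n) (Fin n) k) (h : P * P' = 1) (h' : P' * P = 1) :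
    PtRep G n where
  Φ A g := P'.map (algebraMap k A) * ρ.Φ A g * P.map (algebraMap k A)
  nat A B φ g := by
    have e : ∀ Q : Matrix (Fin n) (Fin n) k, (Q.map (algebraMap k A)).map φ.hom = Q.map (algebraMap k B) := fun Q => by
      ext i j
      simp
    rw [ρ.nat, Matrix.map_mul, Matrix.map_mul, e, e]
  mul A g g' := by
    have e : P.map (algebraMap k A) * P'.map (algebraMap k A) = 1 := by
      rw [← Matrix.map_mul, h, Matrix.map_one _ (map_zero _) (map_one _)]
    rw [ρ.mul]
    simp only [_root_.mul_assoc]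
    rw [← _root_.mul_assoc (P.map (algebraMap k A)) (P'.map (algebraMap k A)), e, _root_.one_mul]
  one A := by
    rw [ρ.one, _root_.mul_one, ← Matrix.map_mul, h', Matrix.map_one _ (map_zero _) (map_one _)]

/-- The quotient of a representation with invariant first coordinate line. -/
def PtRep.sub {n : ℕ} (ρ : PtRep G (n + 1))
    (h : ∀ (A : CommAlgCat.{u} k) (g : Pt A ⟶ G) (i : Fin n), ρ.Φ A g i.succ 0 = 0) : PtRep G n where
  Φ A g := (ρ.Φ A g).submatrix Fin.succ Fin.succ
  nat A B φ g := by rw [ρ.nat, Matrix.submatrix_map]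
  mul A g g' := by
    rw [ρ.mul]
    ext i j
    rw [Matrix.submatrix_apply, Matrix.mul_apply, Fin.sum_univ_succ, h, MulZeroClass.zero_mul, _root_.zero_add]
    rfl
  one A := by rw [ρ.one, Matrix.submatrix_one _ (Fin.succ_injective _)]

/-- The ring of the base field. -/
abbrev kA (k : Type u) [Field k] : CommAlgCat.{u} k := CommAlgCat.of k k

/-- A representation on rational points as a homomorphism. -/
def PtRep.hom {n : ℕ} (ρ : PtRep G n) : (Pt (kA k) ⟶ G) →* Matrix (Fin n) (Fin n) k where
  toFun := ρ.Φ (kA k)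
  map_one' := ρ.one (kA k)
  map_mul' := ρ.mul (kA k)

/-- If `G` fixes a point in every proper scheme, representations kill a derived group of the rational points. -/
theorem exists_derivedSeries_le_ker
    (hfix : ∀ (X : Over (Spec (CommRingCat.of k))) (a : AlgGrp.Action G X), IsProper X.hom → Nonempty X.left →
      ∃ x : 𝟙_ (Over (Spec (CommRingCat.of k))) ⟶ X, a.IsFixedPt x) :
    ∀ (n : ℕ) (ρ : PtRep G n), derivedSeries (Pt (kA k) ⟶ G) (2 * n) ≤ ρ.hom.ker := by
  classical
  intro n
  induction n with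
  | zero =>
    intro ρ g _
    exact Matrix.ext fun i => i.elim0
  | succ n ih =>
    intro ρ
    obtain ⟨X, a, hX, hne, hpt⟩ := Line.exists_lineSpace ρ.Φ ρ.nat ρ.mul ρ.one n.succ_pos
    obtain ⟨x, hx⟩ := hfix X a hX hne
    obtain ⟨v, i₀, hi, hst⟩ := hpt x
    -- an eigenvector
    have heig : ∀ (A : CommAlgCat.{u} k) (g : Pt A ⟶ G), ∃ c : A,
        (ρ.Φ A g).mulVec (fun j => algebraMap k A (v j)) = fun i => algebraMap k A (v i) * c :=
      fun A g => (hst A g).1 (hx _ g)
    -- a base change
    let σ := Equiv.swap (0 : Fin (n + 1)) i₀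
    let P : Matrix (Fin (n + 1)) (Fin (n + 1)) k :=
      Matrix.of fun i j => if j = 0 then v i else if σ j = i then 1 else 0
    have hP : IsUnit P.det := by
      rw [← Matrix.mulVec_injective_iff_isUnit.trans (Matrix.isUnit_iff_isUnit_det P) ]
      intro w w' hw
      rw [← sub_eq_zero]
      set d := w - w'
      have hd : P.mulVec d = 0 := by rw [Matrix.mulVec_sub, hw, sub_self]
      have hrow : ∀ i, v i * d 0 + (if i = i₀ then 0 else d (σ i)) = 0 := by
        intro i
        have := congrFun hd i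
        rw [Matrix.mulVec, dotProduct, ← Finset.add_sum_erase _ _ (Finset.mem_univ (0 : Fin (n + 1)))] at this
        simp only [P, Matrix.of_apply, if_true, Pi.zero_apply] at this
        convert this using 2
        by_cases h : i = i₀
        · rw [if_pos h]
          refine (Finset.sum_eq_zero fun b hb => ?_).symm
          have hb0 := (Finset.mem_erase.1 hb).1
          have : σ b ≠ i := fun h' => hb0 (by simpa [σ, h] using congrArg σ h')
          simp [hb0, this]
        · have h0 : σ i ≠ 0 := fun h0 => h (by simpa [σ] using congrArg σ h0)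
          rw [if_neg h, Finset.sum_eq_single (σ i)]
          · simp [h0, σ]
          · intro b hb hne
            have : σ b ≠ i := fun h' => hne (by rw [← h']; simp [σ])
            simp [(Finset.mem_erase.1 hb).1, this]
          · simp [h0]
      have h00 : d 0 = 0 := by simpa [hi] using hrow i₀
      funext j
      by_cases hj : j = 0
      · rw [hj, h00]; rfl
      · have hne : σ j ≠ i₀ := fun h => hj (by simpa [σ] using congrArg σ h)
        simpa [h00, hne, σ] using hrow (σ j)
    let P' := P⁻¹
    have hPP' : P * P' = 1 := Matrix.mul_nonsing_inv P hP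
    have hP'P : P' * P = 1 := Matrix.nonsing_inv_mul P hP
    let ρ₁ := ρ.conj P P' hPP' hP'P
    have hcol : ∀ (A : CommAlgCat.{u} k) (g : Pt A ⟶ G) (i : Fin n), ρ₁.Φ A g i.succ 0 = 0 := by
      intro A g i
      obtain ⟨c, hc⟩ := heig A g
      have hv : (P.map (algebraMap k A)).mulVec (Pi.single 0 1) = fun j => algebraMap k A (v j) := by
        funext j; simp [Matrix.mulVec_single, P]
      have h1 : (ρ₁.Φ A g).mulVec (Pi.single 0 1) = c • (Pi.single 0 1 : Fin (n + 1) → A) := by
        show (P'.map (algebraMap k A) * ρ.Φ A g * P.map (algebraMap k A)).mulVec _ = _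
        rw [← Matrix.mulVec_mulVec, hv, ← Matrix.mulVec_mulVec, hc,
          show (fun i => algebraMap k A (v i) * c) = c • (P.map (algebraMap k A)).mulVec (Pi.single 0 1) from by
            rw [hv]; funext i; simp [_root_.mul_comm],
          Matrix.mulVec_smul, Matrix.mulVec_mulVec, ← Matrix.map_mul, hP'P,
          Matrix.map_one _ (map_zero _) (map_one _), Matrix.one_mulVec]
      have h2 := congrFun h1 i.succ
      simpa [Matrix.mulVec_single, Fin.succ_ne_zero] using h2
    let ρ₂ := ρ₁.sub hcol
    have hih := ih ρ₂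
    -- the shape of the matrices
    let θ := ρ₁.hom
    have h0 : ∀ g i, θ g (Fin.succ i) 0 = 0 := fun g i => hcol (kA k) g i
    let χ : (Pt (kA k) ⟶ G) →* k :=
      { toFun := fun g => θ g 0 0
        map_one' := by rw [map_one]; rfl
        map_mul' := fun g g' => by
          rw [map_mul, Matrix.mul_apply, Fin.sum_univ_succ]
          simp [h0] }
    have hχ : derivedSeries (Pt (kA k) ⟶ G) (2 * n + 1) ≤ χ.toHomUnits.ker := by
      refine (derivedSeries_antitone _ (Nat.le_add_left 1 (2 * n))).trans ?_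
      rw [derivedSeries_one]
      exact Abelianization.commutator_subset_ker _
    have hshape : ∀ g ∈ derivedSeries (Pt (kA k) ⟶ G) (2 * n + 1),
        ∀ i j, θ g i j = (1 : Matrix (Fin (n + 1)) (Fin (n + 1)) k) i j + (if i = 0 ∧ j ≠ 0 then θ g 0 j else 0) := by
      intro g hg i j
      have h1 : ρ₂.hom g = 1 := hih (derivedSeries_antitone _ (Nat.le_succ _) hg)
      have h2 : θ g 0 0 = 1 := congrArg Units.val (hχ hg : χ.toHomUnits g = 1)
      refine Fin.cases ?_ ?_ i
      · refine Fin.cases ?_ ?_ j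
        · simp [h2]
        · intro j; simp [Matrix.one_apply, Fin.succ_ne_zero, (Fin.succ_ne_zero j).symm]
      · intro i
        refine Fin.cases ?_ ?_ j
        · simp [h0, Matrix.one_apply, Fin.succ_ne_zero]
        · intro j
          have := congrFun (congrFun h1 i) j
          exact this.trans (by simp [Matrix.one_apply, Fin.succ_ne_zero])
    have hcomm : ∀ g ∈ derivedSeries (Pt (kA k) ⟶ G) (2 * n + 1), ∀ g' ∈ derivedSeries (Pt (kA k) ⟶ G) (2 * n + 1),
        θ g * θ g' = θ g' * θ g := by
      intro g hg g' hg'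
      have hmul : ∀ a b : Pt (kA k) ⟶ G, a ∈ derivedSeries _ (2 * n + 1) → b ∈ derivedSeries _ (2 * n + 1) →
          ∀ j, j ≠ 0 → (θ a * θ b) 0 j = θ a 0 j + θ b 0 j := by
        intro a b ha hb j hj
        rw [Matrix.mul_apply]
        rw [Finset.sum_eq_add (0 : Fin (n + 1)) j (Ne.symm hj)]
        · rw [hshape a ha 0 0, hshape b hb j j]
          simp [hj, _root_.add_comm]
        · intro l _ hl
          rw [hshape b hb l j]
          simp [hl.1, hl.2, Matrix.one_apply]
        · simp
        · simp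
      rw [← map_mul, ← map_mul]
      ext i j
      rw [hshape _ (mul_mem hg hg') i j, hshape _ (mul_mem hg' hg) i j]
      by_cases h : i = 0 ∧ j ≠ 0
      · rw [if_pos h, if_pos h, map_mul, map_mul, hmul g g' hg hg' j h.2, hmul g' g hg' hg j h.2, _root_.add_comm (θ g 0 j)]
      · rw [if_neg h, if_neg h]
    rw [show 2 * (n + 1) = 2 * n + 1 + 1 from rfl, derivedSeries_succ, Subgroup.commutator_le]
    intro g hg g' hg'
    have e : θ (g * g' * g⁻¹ * g'⁻¹) = 1 := by
      rw [map_mul, map_mul, map_mul, hcomm g hg g' hg', _root_.mul_assoc (θ g') (θ g), ← map_mul θ g g⁻¹,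
        mul_inv_cancel, map_one, _root_.mul_one, ← map_mul, mul_inv_cancel, map_one]
    rw [MonoidHom.mem_ker, commutatorElement_def]
    have e' := congrArg (fun m => P * m * P') e
    simp only [θ, ρ₁, PtRep.hom, PtRep.conj, MonoidHom.coe_mk, OneHom.coe_mk] at e'
    simpa [Algebra.algebraMap_self, RingHom.id_apply, Matrix.map_id', _root_.mul_assoc, hPP', ← _root_.mul_assoc P P',
      PtRep.hom] using e'

variable [IsAlgClosed k]

/-- An affine smooth group has a representation faithful on rational points. -/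
theorem exists_ptRep_faithful (G : Over (Spec (CommRingCat.of k))) [GrpObj G] [IsAffine G.left] [Smooth G.hom] :
    ∃ (n : ℕ) (ρ : PtRep G n), Function.Injective ρ.hom := by
  obtain ⟨n, Mat, hmul, hone, hker⟩ := exists_matRep G
  let ρ : PtRep G n :=
    { Φ := fun A g => (Groth.Agf.evalPt (B := A) g).mapMatrix Mat
      nat := fun A B φ g => by
        show (Groth.Agf.evalPt (B := B) (VecGrp.ptMap φ.hom ≫ g)).mapMatrix Mat = _
        rw [Groth.Agf.evalPt_ptMap]
        rfl
      mul := fun A g h => matRep_evalPt_mul Mat hmul g h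
      one := fun A => matRep_evalPt_one Mat hone }
  refine ⟨n, ρ, fun g h e => ?_⟩
  rw [← inv_mul_eq_one]
  set t := g⁻¹ * h
  have ht : ρ.hom t = 1 := by rw [map_mul, ← e, ← map_mul, inv_mul_cancel, map_one]
  have hev := hker t (show (Groth.Agf.evalPt t).mapMatrix Mat = 1 from ht)
  apply Over.OverMorphism.ext
  apply ext_of_isAffine
  ext f
  apply Groth.Agf.ptFn_bijective.1
  exact hev f

/-- **A group fixing a point in every proper scheme has solvable rational points**, if it embeds in an affine
smooth group. -/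
theorem exists_derivedSeries_eq_bot_of_fixedPt {H : Over (Spec (CommRingCat.of k))} [GrpObj H]
    [IsAffine G.left] [Smooth G.hom] (c : H ⟶ G) [IsMonHom c] [Mono c]
    (hfix : ∀ (X : Over (Spec (CommRingCat.of k))) (a : AlgGrp.Action H X), IsProper X.hom → Nonempty X.left →
      ∃ x : 𝟙_ (Over (Spec (CommRingCat.of k))) ⟶ X, a.IsFixedPt x) :
    ∃ n, derivedSeries (𝟙_ (Over (Spec (CommRingCat.of k))) ⟶ H) n = ⊥ := by
  obtain ⟨n, ρ, hρ⟩ := exists_ptRep_faithful G
  let ρH : PtRep H n :=
    { Φ := fun A g => ρ.Φ A (g ≫ c)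
      nat := fun A B φ g => by rw [Category.assoc, ρ.nat]
      mul := fun A g h => by rw [MonObj.mul_comp, ρ.mul]
      one := fun A => by rw [MonObj.one_comp, ρ.one] }
  have h := exists_derivedSeries_le_ker hfix n ρH
  let e : Pt (kA k) ⟶ 𝟙_ (Over (Spec (CommRingCat.of k))) := toUnit _
  let τ : (𝟙_ (Over (Spec (CommRingCat.of k))) ⟶ H) →* (Pt (kA k) ⟶ H) :=
    MonoidHom.mk' (e ≫ ·) fun a b => MonObj.comp_mul e a b
  refine ⟨2 * n, (Subgroup.eq_bot_iff_forall _).2 fun g hg => ?_⟩
  have h1 : ρ.hom (τ g ≫ c) = ρ.hom 1 := by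
    rw [map_one]
    exact h (map_derivedSeries_le_derivedSeries τ _ ⟨g, hg, rfl⟩)
  have h2 := hρ h1
  let e' : 𝟙_ (Over (Spec (CommRingCat.of k))) ⟶ Pt (kA k) := Over.homMk (𝟙 _) (by simp [kA])
  have he : e' ≫ e = 𝟙 _ := toUnit_unique _ _
  rw [← cancel_mono c, MonObj.one_comp, ← Category.id_comp (g ≫ c), ← he, Category.assoc,
    ← Category.assoc e g c, show (e ≫ g) ≫ c = 1 from h2, MonObj.comp_one]

end Groth.AlgGrp1
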