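import Groth.Agent.GrassRep.Linked
import Groth.Prelude.Def_AlgGrp
import Groth.Agent.AlgGrp1.Act

/-!
The action of a group with a linear representation (given on points) on the projective space of lines,
and the stabilizer of a line.
-/

set_option autoImplicit false
universe u

open CategoryTheory Limits MonoidalCategory CartesianMonoidalCategory MonObj GrpObj AlgebraicGeometry
open Module
open scoped TensorProduct

noncomputable section

namespace Groth.AlgGrp1.Line

open Groth.GrassRep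

variable {k : Type u} [Field k] {n : ℕ}

section Mat

variable {A B : Type u} [CommRing A] [Algebra k A] [CommRing B] [Algebra k B]

/-- the standard basis of `A ⊗ k^n` -/
def bs (A : Type u) [CommRing A] [Algebra k A] : Module.Basis (Fin n) A (A ⊗[k] (Fin n → k)) :=
  Algebra.TensorProduct.basis A (Pi.basisFun k (Fin n))

theorem bs_apply (i : Fin n) : bs (k := k) A i = (1 : A) ⊗ₜ[k] (Pi.single i (1 : k)) := by
  simp [bs]

/-- the transposed operator of a matrix -/
def tOp (Φ : Matrix (Fin n) (Fin n) A) : A ⊗[k] (Fin n → k) →ₗ[A] A ⊗[k] (Fin n → k) :=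
  Matrix.toLin (bs A) (bs A) Φ.transpose

theorem tOp_bs (Φ : Matrix (Fin n) (Fin n) A) (i : Fin n) :
    tOp (k := k) Φ (bs A i) = ∑ j, Φ i j • bs A j := by
  simp [tOp, Matrix.toLin_self]

theorem tOp_mul (Φ Ψ : Matrix (Fin n) (Fin n) A) (x : A ⊗[k] (Fin n → k)) :
    tOp (k := k) (Φ * Ψ) x = tOp Ψ (tOp Φ x) := by
  rw [tOp, Matrix.transpose_mul, Matrix.toLin_mul (bs (k := k) A) (bs (k := k) A) (bs (k := k) A)]
  rfl

theorem tOp_one (x : A ⊗[k] (Fin n → k)) : tOp (k := k) (1 : Matrix (Fin n) (Fin n) A) x = x := by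
  simp [tOp, Matrix.toLin_one]

theorem iota_tOp (f : A →ₐ[k] B) (Φ : Matrix (Fin n) (Fin n) A) (x : A ⊗[k] (Fin n → k)) :
    iota f (tOp Φ x) = tOp (Φ.map f) (iota f x) := by
  have hb : ∀ i, iota f (bs A i) = bs (k := k) (n := n) B i := fun i => by simp [bs_apply]
  conv_lhs => rw [← (bs A).sum_repr x]
  conv_rhs => rw [← (bs A).sum_repr x]
  simp only [map_sum, map_smul, iota_smul, tOp_bs, hb, Matrix.map_apply]

variable {Φ Φ' : Matrix (Fin n) (Fin n) A}

/-- the transposed operator of an invertible matrix as an equivalence -/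
def tEquiv (h1 : Φ * Φ' = 1) (h2 : Φ' * Φ = 1) : (A ⊗[k] (Fin n → k)) ≃ₗ[A] (A ⊗[k] (Fin n → k)) :=
  LinearEquiv.ofLinearMap (tOp Φ) (tOp Φ')
    (LinearMap.ext fun x => by simp [← tOp_mul, h2, tOp_one])
    (LinearMap.ext fun x => by simp [← tOp_mul, h1, tOp_one])

/-- translating a quotient -/
def moveGr (N : Grassmannian A (A ⊗[k] (Fin n → k)) 1) (h1 : Φ * Φ' = 1) (h2 : Φ' * Φ = 1) :
    Grassmannian A (A ⊗[k] (Fin n → k)) 1 :=
  let e := Submodule.Quotient.equiv N.toSubmodule (N.toSubmodule.map (tOp Φ)) (tEquiv h1 h2) rfl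
  { toSubmodule := N.toSubmodule.map (tOp Φ)
    finite_quotient := Module.Finite.equiv e
    projective_quotient :=
      have := N.projective_quotient
      Module.Projective.of_equiv e
    rankAtStalk_eq := fun p => by rw [← Module.rankAtStalk_eq_of_equiv e]; exact N.rankAtStalk_eq p }

@[simp] theorem moveGr_toSubmodule (N : Grassmannian A (A ⊗[k] (Fin n → k)) 1) (h1 : Φ * Φ' = 1) (h2 : Φ' * Φ = 1) :
    (moveGr N h1 h2).toSubmodule = N.toSubmodule.map (tOp Φ) := rfl

theorem map_moveGr (f : A →ₐ[k] B) (N : Grassmannian A (A ⊗[k] (Fin n → k)) 1) (h1 : Φ * Φ' = 1) (h2 : Φ' * Φ = 1) :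
    (Grassmannian.map f (moveGr N h1 h2)).toSubmodule =
      (Grassmannian.map f N).toSubmodule.map (tOp (Φ.map f)) := by
  rw [map_eq_span, map_eq_span, Submodule.map_span, moveGr_toSubmodule]
  congr 1
  ext y
  simp only [Set.mem_image, SetLike.mem_coe, Submodule.mem_map]
  constructor
  · rintro ⟨z, ⟨x, hx, rfl⟩, rfl⟩
    exact ⟨iota f x, ⟨x, hx, rfl⟩, (iota_tOp f Φ x).symm⟩
  · rintro ⟨z, ⟨x, hx, rfl⟩, rfl⟩
    exact ⟨tOp Φ x, ⟨x, hx, rfl⟩, iota_tOp f Φ x⟩

end Mat

section Base

variable (v : Fin n → k) (i₀ : Fin n) (hi : v i₀ = 1)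

/-- the functional of a vector -/
def fnl : (Fin n → k) →ₗ[k] k := ∑ i, v i • LinearMap.proj i

theorem fnl_single (i : Fin n) : fnl v (Pi.single i 1) = v i := by
  simp [fnl, Pi.single_apply]

variable (A : Type u) [CommRing A] [Algebra k A]

/-- the functional over an algebra -/
def fnlA : A ⊗[k] (Fin n → k) →ₗ[A] A :=
  (Algebra.TensorProduct.rid k A A).toLinearMap ∘ₗ (fnl v).baseChange A

theorem fnlA_bs (i : Fin n) : fnlA v A (bs A i) = algebraMap k A (v i) := by
  simp [fnlA, bs_apply, fnl_single, Algebra.algebraMap_eq_smul_one]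

theorem fnlA_surjective (hi : v i₀ = 1) : Function.Surjective (fnlA v A) := fun a =>
  ⟨a • bs A i₀, by simp [fnlA_bs, hi]⟩

theorem ker_fnlA (hi : v i₀ = 1) : LinearMap.ker (fnlA v A) =
    Submodule.span A (Set.range fun i => bs A i - algebraMap k A (v i) • bs A i₀) := by
  refine le_antisymm (fun x hx => ?_) (Submodule.span_le.2 ?_)
  · have e : x = ∑ i, (bs (k := k) A).repr x i • (bs A i - algebraMap k A (v i) • bs A i₀) := by
      rw [LinearMap.mem_ker] at hx
      conv_lhs => rw [← (bs (k := k) A).sum_repr x]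
      simp only [smul_sub, Finset.sum_sub_distrib, smul_smul, ← Finset.sum_smul]
      have h : ∑ i, (bs (k := k) A).repr x i * algebraMap k A (v i) = 0 := by
        have h2 := congrArg (fnlA v A) ((bs (k := k) A).sum_repr x)
        rw [hx, map_sum] at h2
        simpa [fnlA_bs] using h2
      rw [h, zero_smul, sub_zero]
    rw [e]
    exact Submodule.sum_mem _ fun i _ => Submodule.smul_mem _ _ (Submodule.subset_span ⟨i, rfl⟩)
  · rintro _ ⟨i, rfl⟩
    simp [fnlA_bs, hi, Algebra.algebraMap_eq_smul_one]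

/-- the point of a vector -/
def vecGr (hi : v i₀ = 1) : Grassmannian A (A ⊗[k] (Fin n → k)) 1 :=
  let e := LinearMap.quotKerEquivOfSurjective (fnlA v A) (fnlA_surjective v i₀ A hi)
  { toSubmodule := LinearMap.ker (fnlA v A)
    finite_quotient := Module.Finite.equiv e.symm
    projective_quotient := Module.Projective.of_equiv e.symm
    rankAtStalk_eq := fun p => by
      have := p.2.ne_top
      have : Nontrivial A := ⟨⟨0, 1, fun h => this (Ideal.eq_top_iff_one _ |>.2 (h ▸ zero_mem _))⟩⟩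
      rw [Module.rankAtStalk_eq_of_equiv e]
      simp }

theorem map_vecGr (hi : v i₀ = 1) {B : Type u} [CommRing B] [Algebra k B] (f : A →ₐ[k] B) :
    Grassmannian.map f (vecGr v i₀ A hi) = vecGr v i₀ B hi := by
  refine Grassmannian.ext ?_
  rw [map_eq_span]
  show Submodule.span B (iota f '' (LinearMap.ker (fnlA v A) : Set _)) = LinearMap.ker (fnlA v B)
  have hb : ∀ i, iota f (bs A i - algebraMap k A (v i) • bs A i₀) =
      bs (k := k) B i - algebraMap k B (v i) • bs B i₀ := fun i => by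
    rw [map_sub, iota_smul, AlgHom.commutes]
    simp [bs_apply]
  refine le_antisymm (Submodule.span_le.2 ?_) ?_
  · rw [ker_fnlA v i₀ A hi]
    rintro _ ⟨z, hz, rfl⟩
    induction hz using Submodule.span_induction with
    | mem z hz =>
      obtain ⟨i, rfl⟩ := hz
      rw [hb, SetLike.mem_coe, ker_fnlA v i₀ B hi]
      exact Submodule.subset_span ⟨i, rfl⟩
    | zero => simp
    | add a b _ _ ha hb => rw [map_add]; exact add_mem ha hb
    | smul a z _ hz => rw [iota_smul]; exact Submodule.smul_mem _ _ hz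
  · rw [ker_fnlA v i₀ B hi, Submodule.span_le]
    rintro _ ⟨i, rfl⟩
    dsimp only
    rw [SetLike.mem_coe, ← hb]
    refine Submodule.subset_span ⟨_, ?_, rfl⟩
    rw [ker_fnlA v i₀ A hi]
    exact Submodule.subset_span ⟨i, rfl⟩

theorem map_tOp_le_iff (hi : v i₀ = 1) (Φ : Matrix (Fin n) (Fin n) A) :
    (LinearMap.ker (fnlA v A)).map (tOp Φ) ≤ LinearMap.ker (fnlA v A) ↔
      ∃ c : A, Φ.mulVec (fun j => algebraMap k A (v j)) = fun i => algebraMap k A (v i) * c := by
  have h : ∀ i, fnlA v A (tOp Φ (bs A i)) = Φ.mulVec (fun j => algebraMap k A (v j)) i := fun i => by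
    simp [tOp_bs, fnlA_bs, Matrix.mulVec, dotProduct]
  conv_lhs => arg 1; rw [ker_fnlA v i₀ A hi]
  rw [Submodule.map_span, Submodule.span_le]
  constructor
  · intro hle
    refine ⟨Φ.mulVec (fun j => algebraMap k A (v j)) i₀, funext fun i => ?_⟩
    have := hle ⟨_, ⟨i, rfl⟩, rfl⟩
    rwa [SetLike.mem_coe, LinearMap.mem_ker, map_sub, map_smul, map_sub, map_smul, h, h, smul_eq_mul,
      sub_eq_zero] at this
  · rintro ⟨c, hc⟩ _ ⟨_, ⟨i, rfl⟩, rfl⟩
    rw [SetLike.mem_coe, LinearMap.mem_ker, map_sub, map_smul, map_sub, map_smul, h, h, smul_eq_mul, hc]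
    simp only [hi, map_one, _root_.one_mul]
    ring

theorem map_tOp_eq_iff (hi : v i₀ = 1) {Φ Φ' : Matrix (Fin n) (Fin n) A} (h1 : Φ * Φ' = 1) (h2 : Φ' * Φ = 1) :
    (LinearMap.ker (fnlA v A)).map (tOp Φ') = LinearMap.ker (fnlA v A) ↔
      ∃ c : A, Φ.mulVec (fun j => algebraMap k A (v j)) = fun i => algebraMap k A (v i) * c := by
  set N := LinearMap.ker (fnlA v A)
  set w := fun j => algebraMap k A (v j)
  have hcomp : ∀ {Ψ Ψ' : Matrix (Fin n) (Fin n) A}, Ψ * Ψ' = 1 → (N.map (tOp Ψ)).map (tOp Ψ') = N := fun {Ψ Ψ'} h => by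
    rw [← Submodule.map_comp, show tOp Ψ' ∘ₗ tOp Ψ = LinearMap.id from LinearMap.ext fun x => by
      simp [← tOp_mul, h, tOp_one], Submodule.map_id]
  rw [← map_tOp_le_iff v i₀ A hi Φ]
  constructor
  · intro h
    exact (congrArg (Submodule.map (tOp Φ)) h).symm.le.trans (hcomp h2).le
  · intro h
    obtain ⟨c, hc⟩ := (map_tOp_le_iff v i₀ A hi Φ).1 h
    have hw : w i₀ = 1 := by simp [w, hi]
    have hd : w = fun i => (Φ'.mulVec w) i * c := by
      have := congrArg Φ'.mulVec hc
      rw [Matrix.mulVec_mulVec, h2, Matrix.one_mulVec] at this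
      refine this.trans ?_
      funext i
      simp [Matrix.mulVec, dotProduct, Finset.sum_mul, w, _root_.mul_assoc]
    have hu : (Φ'.mulVec w) i₀ * c = 1 := by rw [← hw]; exact (congrFun hd i₀).symm
    have h' : (LinearMap.ker (fnlA v A)).map (tOp Φ') ≤ LinearMap.ker (fnlA v A) :=
      (map_tOp_le_iff v i₀ A hi Φ').2 ⟨(Φ'.mulVec w) i₀, funext fun i => by
        calc (Φ'.mulVec w) i = ((Φ'.mulVec w) i₀ * c) * (Φ'.mulVec w) i := by rw [hu, _root_.one_mul]
          _ = ((Φ'.mulVec w) i * c) * (Φ'.mulVec w) i₀ := by ring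
          _ = w i * (Φ'.mulVec w) i₀ := by rw [← congrFun hd i]⟩
    exact le_antisymm h' (by
      conv_lhs => rw [← hcomp h1]
      exact Submodule.map_mono h)

end Base

/-- A group with a linear representation on points acts on the space of lines; the stabilizer of a line. -/
theorem exists_lineAction {G : Over (Spec (CommRingCat.of k))} [GrpObj G]
    (Φ : ∀ A : CommAlgCat.{u} k, (Pt A ⟶ G) → Matrix (Fin n) (Fin n) A)
    (hnat : ∀ (A B : CommAlgCat.{u} k) (φ : A ⟶ B) (g : Pt A ⟶ G), Φ B (ptMap φ ≫ g) = (Φ A g).map φ.hom)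
    (hmul : ∀ (A : CommAlgCat.{u} k) (g h : Pt A ⟶ G), Φ A (g * h) = Φ A g * Φ A h)
    (hone : ∀ (A : CommAlgCat.{u} k), Φ A 1 = 1)
    (v : Fin n → k) (i₀ : Fin n) (hi : v i₀ = 1) :
    ∃ (X : Over (Spec (CommRingCat.of k))) (a : AlgGrp.Action G X) (o : 𝟙_ (Over (Spec (CommRingCat.of k))) ⟶ X),
      IsProper X.hom ∧ ∀ (A : CommAlgCat.{u} k) (g : Pt A ⟶ G),
        (lift g (toUnit _ ≫ o) ≫ a.act = toUnit _ ≫ o) ↔
          ∃ c : A, (Φ A g).mulVec (fun j => algebraMap k A (v j)) = fun i => algebraMap k A (v i) * c := by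
  let X := grass k (Fin n → k) 1
  let e := fun A => pts k (Fin n → k) 1 A
  have he : Natural X e := fun A B φ g g' h => by
    obtain rfl := (left_eq_iff φ g g').mp h
    rw [Grassmannian.functor_map]
    exact pts_natural A B φ g
  have hprop : IsProper X.hom := isProper_free (e := e) (Fin.pos i₀) he
  have he' : ∀ (A B : CommAlgCat.{u} k) (φ : A ⟶ B) (g : Pt A ⟶ X),
      e B (ptMap φ ≫ g) = Grassmannian.map φ.hom (e A g) := fun A B φ g => pts_natural A B φ g
  have hinv : ∀ (A : CommAlgCat.{u} k) (g : Pt A ⟶ G), Φ A g⁻¹ * Φ A g = 1 ∧ Φ A g * Φ A g⁻¹ = 1 := fun A g =>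
    ⟨by rw [← hmul, inv_mul_cancel, hone], by rw [← hmul, mul_inv_cancel, hone]⟩
  let act₀ : ∀ A : CommAlgCat.{u} k, (Pt A ⟶ G) → (Pt A ⟶ X) → (Pt A ⟶ X) := fun A g x =>
    (e A).symm (moveGr (e A x) (hinv A g).1 (hinv A g).2)
  have hact₀ : ∀ (A : CommAlgCat.{u} k) (g : Pt A ⟶ G) (x : Pt A ⟶ X),
      (e A (act₀ A g x)).toSubmodule = (e A x).toSubmodule.map (tOp (Φ A g⁻¹)) := fun A g x =>
    congrArg Grassmannian.toSubmodule ((e A).apply_symm_apply _)
  have hnat₀ : ∀ (A B : CommAlgCat.{u} k) (φ : A ⟶ B) (g : Pt A ⟶ G) (x : Pt A ⟶ X),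
      act₀ B (ptMap φ ≫ g) (ptMap φ ≫ x) = ptMap φ ≫ act₀ A g x := fun A B φ g x => by
    apply (e B).injective
    refine Grassmannian.ext ?_
    rw [hact₀, he', he', show (ptMap φ ≫ g)⁻¹ = ptMap φ ≫ g⁻¹ from (GrpObj.comp_inv _ _).symm, hnat]
    refine (map_moveGr φ.hom (e A x) (hinv A g).1 (hinv A g).2).symm.trans ?_
    exact congrArg (fun N => (Grassmannian.map φ.hom N).toSubmodule) ((e A).apply_symm_apply _).symm
  obtain ⟨act, hact⟩ := exists_hom_of_pts (X := G ⊗ X) (Y := X)
    (fun A p => act₀ A (p ≫ fst G X) (p ≫ snd G X)) (fun A B φ p => by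
      simp only [Category.assoc]
      exact hnat₀ A B φ _ _)
  have hlift : ∀ (A : CommAlgCat.{u} k) (g : Pt A ⟶ G) (x : Pt A ⟶ X), lift g x ≫ act = act₀ A g x := fun A g x => by
    rw [hact, lift_fst, lift_snd]
  let a : AlgGrp.Action G X :=
    { act := act
      one_act := GrassRep.hom_ext _ _ fun A p => by
        have hp : p ≫ (η[G] ▷ X) = lift (1 : Pt A ⟶ G) (p ≫ snd _ _) := by
          apply CartesianMonoidalCategory.hom_ext
          · rw [Category.assoc, whiskerRight_fst, lift_fst, ← Category.assoc, Hom.one_def]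
            congr 1
            exact toUnit_unique _ _
          · simp
        rw [← Category.assoc, hp, hlift, CartesianMonoidalCategory.leftUnitor_hom]
        apply (e A).injective
        refine Grassmannian.ext ?_
        rw [hact₀, inv_one, hone, show tOp (1 : Matrix (Fin n) (Fin n) A) = LinearMap.id from
          LinearMap.ext (tOp_one (k := k)), Submodule.map_id]
      mul_act := GrassRep.hom_ext _ _ fun A p => by
        set g := p ≫ fst _ _ ≫ fst G G
        set h := p ≫ fst _ _ ≫ snd G G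
        set x := p ≫ snd (G ⊗ G) X
        have hp1 : p ≫ (μ[G] ▷ X) = lift (g * h) x := by
          apply CartesianMonoidalCategory.hom_ext
          · rw [Category.assoc, whiskerRight_fst, lift_fst, show μ[G] = fst G G * snd G G by
              rw [Hom.mul_def, lift_fst_snd, Category.id_comp], MonObj.comp_mul, MonObj.comp_mul]
          · simp [x]
        have hp2 : p ≫ (α_ G G X).hom ≫ G ◁ act = lift g (lift h x ≫ act) := by
          apply CartesianMonoidalCategory.hom_ext
          · simp [g]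
          · rw [Category.assoc, Category.assoc, whiskerLeft_snd, lift_snd, ← Category.assoc, ← Category.assoc]
            congr 1
            apply CartesianMonoidalCategory.hom_ext <;> simp [h, x]
        have lhs : p ≫ μ[G] ▷ X ≫ act = act₀ A (g * h) x := by rw [← Category.assoc, hp1, hlift]
        have rhs : p ≫ (α_ G G X).hom ≫ G ◁ act ≫ act = act₀ A g (act₀ A h x) := by
          rw [← Category.assoc (α_ G G X).hom, ← Category.assoc, hp2, hlift, hlift]
        rw [lhs, rhs]
        apply (e A).injective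
        refine Grassmannian.ext ?_
        rw [hact₀, hact₀, hact₀, ← Submodule.map_comp, _root_.mul_inv_rev, hmul]
        congr 1
        exact LinearMap.ext fun z => tOp_mul _ _ z }
  let K₀ : CommAlgCat.{u} k := CommAlgCat.of k k
  let o : 𝟙_ (Over (Spec (CommRingCat.of k))) ⟶ X :=
    (Over.homMk (𝟙 _) (by simp [K₀]) : 𝟙_ (Over (Spec (CommRingCat.of k))) ⟶ Pt K₀) ≫
      (e K₀).symm (vecGr v i₀ K₀ hi)
  refine ⟨X, a, o, hprop, fun A g => ?_⟩
  have ho : e A (toUnit _ ≫ o) = vecGr v i₀ A hi := by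
    have h1 : toUnit (Pt A) ≫ (Over.homMk (𝟙 _) (by simp [K₀]) : 𝟙_ (Over (Spec (CommRingCat.of k))) ⟶ Pt K₀) =
        ptMap (CommAlgCat.ofHom (Algebra.ofId k A) : K₀ ⟶ A) := by
      apply Over.OverMorphism.ext
      show (toUnit (Pt A)).left ≫ 𝟙 _ = Spec.map _
      rw [Category.comp_id, Over.toUnit_left]
      rfl
    simp only [o]
    rw [← Category.assoc, h1, he', Equiv.apply_symm_apply]
    exact map_vecGr v i₀ K₀ hi (Algebra.ofId k A)
  show lift g (toUnit _ ≫ o) ≫ act = toUnit _ ≫ o ↔ _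
  rw [hlift]
  refine Iff.trans ?_ (map_tOp_eq_iff v i₀ A hi (hinv A g).2 (hinv A g).1)
  constructor
  · intro h
    have := congrArg (fun y => (e A y).toSubmodule) h
    simpa only [hact₀, ho, vecGr] using this
  · intro h
    apply (e A).injective
    refine Grassmannian.ext ?_
    simpa only [hact₀, ho, vecGr] using h

end Groth.AlgGrp1.Line
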