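import Groth.Agent.AlgGrp1.BorelFixed
import Groth.Agent.AlgGrp1.FixSolvable
import Groth.Agent.AlgGrp1.QuotTower
import Groth.Agent.AlgGrp1.OpenSub
import Groth.Agent.GrpschAbsch.NeutralSet
import Groth.Agent.S3279
import Groth.Prelude.Def_Red2

/-!
Existence of a solvable subgroup with proper quotient; Borel subgroups.
-/

set_option autoImplicit false
universe u

open CategoryTheory Limits MonoidalCategory CartesianMonoidalCategory MonObj GrpObj AlgebraicGeometry
open TopologicalSpace

noncomputable section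

namespace Groth.AlgGrp1

variable {k : Type u} [Field k]

/-- A scheme of finite type over an algebraically closed field with finitely many rational points is proper. -/
theorem isProper_of_finite_points [IsAlgClosed k] (X : Over (Spec (CommRingCat.of k))) [LocallyOfFiniteType X.hom]
    [QuasiCompact X.hom] [Finite (𝟙_ (Over (Spec (CommRingCat.of k))) ⟶ X)] : IsProper X.hom := by
  have := LocallyOfFiniteType.jacobsonSpace X.hom
  have hcl : (closedPoints X.left).Finite := (Set.finite_range (rpt (X := X))).subset fun p hp => exists_rpt hp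
  have : DiscreteTopology X.left := JacobsonSpace.discreteTopology hcl
  have : CompactSpace X.left := QuasiCompact.compactSpace_of_compactSpace X.hom
  have : Finite X.left := finite_of_compact_of_discrete
  have : LocallyQuasiFinite X.hom := .of_finite_preimage_singleton _ fun _ => Set.toFinite _
  have : IsLocallyArtinian (Spec (CommRingCat.of k)) :=
    Scheme.isLocallyArtinianScheme_Spec.2 (inferInstanceAs (IsArtinianRing k))
  have : IsFinite X.hom := IsFinite.of_locallyQuasiFinite _
  infer_instance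

/-- The quotient by a closed subgroup is separated. -/
theorem isSeparated_quotient {G H X : Over (Spec (CommRingCat.of k))} [GrpObj G] [GrpObj H]
    [LocallyOfFiniteType G.hom] [QuasiCompact G.hom] {i : H ⟶ G} [IsMonHom i] [IsClosedImmersion i.left]
    {a : AlgGrp.Action G X} {o : 𝟙_ (Over (Spec (CommRingCat.of k))) ⟶ X} (hX : AGF.IsQuotient i X a o) :
    IsSeparated X.hom := by
  have := hX.1; have := hX.2.1; have := hX.2.2.1
  have : Mono i := Over.mono_of_mono_left i
  have := quasiCompact_quotient hX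
  have := isLocallyNoetherian_left X
  have : QuasiSeparated X.hom := (HasAffineProperty.iff_of_isAffine (P := @QuasiSeparated)).2 inferInstance
  set p := a.orbitMap o
  let sh : G ⊗ G ⟶ G ⊗ G := lift (fst G G) (fst G G * snd G G)
  let sh' : G ⊗ G ⟶ G ⊗ G := lift (fst G G) ((fst G G)⁻¹ * snd G G)
  have e1 : sh ≫ sh' = 𝟙 _ := by
    apply CartesianMonoidalCategory.hom_ext
    · simp [sh, sh']
    · simp [sh, sh', MonObj.comp_mul, GrpObj.comp_inv]
  have e2 : sh' ≫ sh = 𝟙 _ := by
    apply CartesianMonoidalCategory.hom_ext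
    · simp [sh, sh']
    · simp [sh, sh', MonObj.comp_mul]
  have : IsIso sh := ⟨sh', e1, e2⟩
  have : IsIso sh.left := inferInstanceAs (IsIso ((Over.forget _).map sh))
  let e : G ⊗ H ⟶ G ⊗ G := (G ◁ i) ≫ sh
  have : IsClosedImmersion (G ◁ i).left :=
    MorphismProperty.of_isPullback (isPullback_whiskerLeft G i) ‹IsClosedImmersion i.left›
  have : IsClosedImmersion e.left := by
    rw [show e.left = (G ◁ i).left ≫ sh.left from rfl]; infer_instance
  let d : X ⟶ X ⊗ X := lift (𝟙 X) (𝟙 X)
  let pp : G ⊗ G ⟶ X ⊗ X := (p ▷ G) ≫ (X ◁ p)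
  have hpp : ∀ {T : Over (Spec (CommRingCat.of k))} (s t : T ⟶ G), lift s t ≫ pp = lift (s ≫ p) (t ≫ p) := fun s t => by
    simp [pp]
  have he : ∀ {T : Over (Spec (CommRingCat.of k))} (s : T ⟶ G) (h : T ⟶ H), lift s h ≫ e = lift s (s * (h ≫ i)) := fun s h => by
    simp [e, sh, comp_lift, MonObj.comp_mul]
  have hw : (fst G H ≫ p) ≫ d = e ≫ pp := by
    rw [← Category.id_comp e, ← lift_fst_snd, he, hpp, comp_lift, Category.comp_id]
    congr 1
    exact (comp_orbit_eq_iff hX _ _ _).2 ⟨_, rfl⟩
  have hs : ∀ s : PullbackCone d pp, ∃ h : s.pt ⟶ H, s.snd ≫ snd G G = (s.snd ≫ fst G G) * (h ≫ i) := fun s => by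
    refine (comp_orbit_eq_iff hX _ _ _).1 ?_
    have h1 := congrArg (· ≫ fst X X) s.condition
    have h2 := congrArg (· ≫ snd X X) s.condition
    simp only [d, pp, Category.assoc, lift_fst, lift_snd, Category.comp_id, whiskerLeft_fst, whiskerRight_fst,
      whiskerLeft_snd, whiskerRight_snd_assoc] at h1 h2
    rw [Category.assoc, Category.assoc, ← h1, ← h2]
  choose f hf using hs
  have hPB : IsPullback (fst G H ≫ p) e d pp := by
    have : Mono e := Over.mono_of_mono_left e
    refine ⟨⟨hw⟩, ⟨PullbackCone.IsLimit.mk hw (fun s => lift (s.snd ≫ fst G G) (f s))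
      (fun s => ?_) (fun s => ?_) (fun s m _ h2 => ?_)⟩⟩
    · have h1 := congrArg (· ≫ fst X X) s.condition
      simp only [d, pp, Category.assoc, lift_fst, Category.comp_id, whiskerLeft_fst, whiskerRight_fst] at h1
      rw [lift_fst_assoc, Category.assoc, ← h1]
    · rw [he, ← hf, CartesianMonoidalCategory.lift_comp_fst_snd]
    · rw [← cancel_mono e, h2, he, ← hf, CartesianMonoidalCategory.lift_comp_fst_snd]
  have : LocallyOfFiniteType (X ⊗ X).hom :=
    inferInstanceAs (LocallyOfFiniteType (pullback.fst X.hom X.hom ≫ X.hom))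
  have : LocallyOfFiniteType (G ⊗ G).hom :=
    inferInstanceAs (LocallyOfFiniteType (pullback.fst G.hom G.hom ≫ G.hom))
  have hc := ((isCover p).whiskerRight G).comp ((isCover p).whiskerLeft X)
  have : Flat pp.left := hc.flat
  have : Surjective pp.left := hc.surj
  have hqq : QuasiCompact pp.left := by
    have : QuasiCompact p.left := by
      have : QuasiCompact (p.left ≫ X.hom) := by rw [Over.w]; infer_instance
      exact QuasiCompact.of_comp _ X.hom
    have : QuasiCompact (p ▷ G).left := MorphismProperty.of_isPullback (isPullback_whiskerRight p G) ‹QuasiCompact p.left›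
    have : QuasiCompact (X ◁ p).left := MorphismProperty.of_isPullback (isPullback_whiskerLeft X p) ‹QuasiCompact p.left›
    rw [show pp.left = (p ▷ G).left ≫ (X ◁ p).left from rfl]; infer_instance
  have : IsClosedImmersion d.left := MorphismProperty.of_isPullback_of_descendsAlong
    (Q := Groth.EtaleBase.Fpqc) (hPB.map (Over.forget _)).flip ⟨⟨hc.surj, hc.flat⟩, hqq⟩ ‹IsClosedImmersion e.left›
  exact ⟨‹IsClosedImmersion d.left›⟩

section Conj

variable {S : Scheme.{u}} {G H : Over S} [GrpObj G]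

theorem comp_conjBy {T : Over S} (x : 𝟙_ (Over S) ⟶ G) (i : H ⟶ G) (t : T ⟶ H) :
    t ≫ AGF.conjBy x i = (toUnit T ≫ x) * (t ≫ i) * (toUnit T ≫ x)⁻¹ := by
  unfold AGF.conjBy
  simp only [MonObj.comp_mul, GrpObj.comp_inv, ← Category.assoc, toUnit_unique (t ≫ toUnit H) (toUnit T)]

theorem conjBy_conjBy (x y : 𝟙_ (Over S) ⟶ G) (i : H ⟶ G) : AGF.conjBy x (AGF.conjBy y i) = AGF.conjBy (x * y) i := by
  unfold AGF.conjBy
  simp only [MonObj.comp_mul]
  group

theorem conjBy_one (i : H ⟶ G) : AGF.conjBy 1 i = i := by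
  simp [AGF.conjBy, MonObj.comp_one]

theorem comp_conjBy' {H' : Over S} (f : H' ⟶ H) (x : 𝟙_ (Over S) ⟶ G) (i : H ⟶ G) :
    f ≫ AGF.conjBy x i = AGF.conjBy x (f ≫ i) := comp_conjBy x i f

theorem conjBy_id_iso (x : 𝟙_ (Over S) ⟶ G) : IsIso (AGF.conjBy x (𝟙 G)) :=
  ⟨AGF.conjBy x⁻¹ (𝟙 G), by rw [comp_conjBy', Category.comp_id, conjBy_conjBy, inv_mul_cancel, conjBy_one],
    by rw [comp_conjBy', Category.comp_id, conjBy_conjBy, mul_inv_cancel, conjBy_one]⟩

end Conj

theorem isMonHom_conjBy {G H : Over (Spec (CommRingCat.of k))} [GrpObj G] [GrpObj H]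
    (x : 𝟙_ (Over (Spec (CommRingCat.of k))) ⟶ G) (i : H ⟶ G) [IsMonHom i] : IsMonHom (AGF.conjBy x i) :=
  isMonHom_of_points _ fun U a c => by
    rw [comp_conjBy, comp_conjBy, comp_conjBy, MonObj.mul_comp]
    group

theorem isClosedImmersion_conjBy {G H : Over (Spec (CommRingCat.of k))} [GrpObj G]
    (x : 𝟙_ (Over (Spec (CommRingCat.of k))) ⟶ G) (i : H ⟶ G) [IsClosedImmersion i.left] :
    IsClosedImmersion (AGF.conjBy x i).left := by
  have := conjBy_id_iso x
  have : IsIso (AGF.conjBy x (𝟙 G)).left := inferInstanceAs (IsIso ((Over.forget _).map (AGF.conjBy x (𝟙 G))))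
  rw [show AGF.conjBy x i = i ≫ AGF.conjBy x (𝟙 G) by rw [comp_conjBy', Category.comp_id], Over.comp_left]
  infer_instance

/-- An endomorphism of a reduced noetherian scheme which is a closed immersion is an isomorphism. -/
theorem isIso_of_closedImmersion_endo {X : Scheme.{u}} [IsReduced X] [NoetherianSpace X] (ψ : X ⟶ X)
    [IsClosedImmersion ψ] : IsIso ψ := by
  let f : X → X := ψ
  have hcl : ∀ n, IsClosed (Set.range f^[n]) := fun n => by
    induction n with
    | zero => simp
    | succ n ih =>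
      rw [Function.iterate_succ', Set.range_comp]
      exact ψ.isClosedEmbedding.isClosedMap _ ih
  obtain ⟨_, ⟨n, rfl⟩, hmin⟩ := (wellFounded_lt (α := Closeds X)).has_min
    (Set.range fun n => (⟨Set.range f^[n], hcl n⟩ : Closeds X)) ⟨_, 0, rfl⟩
  have hle : Set.range f^[n + 1] ⊆ Set.range f^[n] := by
    rw [Function.iterate_succ]
    exact Set.range_comp_subset_range _ _
  have heq : Set.range f^[n + 1] = Set.range f^[n] :=
    congrArg (fun C : Closeds X => (C : Set X)) ((show (⟨Set.range f^[n + 1], hcl _⟩ : Closeds X) ≤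
      ⟨Set.range f^[n], hcl _⟩ from hle).eq_of_not_lt (hmin _ ⟨n + 1, rfl⟩))
  have : Surjective ψ := ⟨fun y => by
    obtain ⟨z, hz⟩ : f^[n] y ∈ Set.range f^[n + 1] := heq ▸ ⟨y, rfl⟩
    exact ⟨z, (ψ.isClosedEmbedding.injective.iterate n) (hz ▸ (Function.iterate_succ_apply f n z).symm)⟩⟩
  exact isIso_of_isClosedImmersion_of_surjective ψ

variable [IsAlgClosed k] {G : Over (Spec (CommRingCat.of k))} [GrpObj G]

/-- A stabilizer of a closed orbit in a proper scheme has proper quotient. -/
theorem exists_stabilizer_proper [LocallyOfFiniteType G.hom] [QuasiCompact G.hom] {X : Over (Spec (CommRingCat.of k))}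
    [IsProper X.hom] [Nonempty X.left] (a : AlgGrp.Action G X) :
    ∃ (x : 𝟙_ (Over (Spec (CommRingCat.of k))) ⟶ X) (St : Over (Spec (CommRingCat.of k))) (_ : GrpObj St)
      (c : St ⟶ G) (_ : IsMonHom c) (O : Over (Spec (CommRingCat.of k))) (b : AlgGrp.Action G O)
      (o : 𝟙_ (Over (Spec (CommRingCat.of k))) ⟶ O),
      IsClosedImmersion c.left ∧ AGF.IsQuotient c O b o ∧ IsProper O.hom ∧
      ∀ (T : Over (Spec (CommRingCat.of k))) (g : T ⟶ G), (∃ e, e ≫ c = g) ↔ lift g (toUnit T ≫ x) ≫ a.act = toUnit T ≫ x := by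
  obtain ⟨x, hxcl⟩ := exists_isClosed_range_orbitMap a
  have : IsClosedImmersion x.left := by
    have : IsClosedImmersion (x.left ≫ X.hom) := by
      rw [Over.w x]; exact inferInstanceAs (IsClosedImmersion (𝟙 _))
    exact IsClosedImmersion.of_comp x.left X.hom
  obtain ⟨St, c, hcc, hSt⟩ := Groth.Agf.exists_preimage (a.orbitMap x) x
  have : Mono c := Over.mono_of_mono_left c
  have hSt' : ∀ (T : Over (Spec (CommRingCat.of k))) (g : T ⟶ G),
      (∃ e, e ≫ c = g) ↔ g ≫ a.orbitMap x = toUnit T ≫ x := fun T g =>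
    (hSt T g).trans ⟨fun ⟨y, hy⟩ => by rw [hy, toUnit_unique y (toUnit T)], fun h => ⟨toUnit T, h⟩⟩
  obtain ⟨_, hcm⟩ := Groth.Agf.exists_grpObj_of_subgroup c (fun T g => g ≫ a.orbitMap x = toUnit T ≫ x)
    (fun T g => hSt' T g)
    (fun T => by rw [comp_orbit, a.lift_one_act])
    (fun T p q hp hq => by
      rw [comp_orbit] at hp hq ⊢
      rw [a.lift_mul_act, hq, hp])
    (fun T p hp => by
      rw [comp_orbit] at hp ⊢
      conv_lhs => rw [← hp, inv_act_cancel])
  have hGo : IsPullback c (toUnit St) (a.orbitMap x) x := by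
    have hw := (hSt' _ c).1 ⟨𝟙 _, Category.id_comp _⟩
    have hf : ∀ s : PullbackCone (a.orbitMap x) x, ∃ w : s.pt ⟶ St, w ≫ c = s.fst :=
      fun s => (hSt' _ s.fst).2 (by rw [s.condition, toUnit_unique s.snd (toUnit _)])
    choose f hf using hf
    exact ⟨⟨hw⟩, ⟨PullbackCone.IsLimit.mk hw f hf (fun s => toUnit_unique _ _)
      fun s m hm _ => by rw [← cancel_mono c, hm, hf]⟩⟩
  obtain ⟨O, b, o, j, hj, -, -, hqc, hq, horb⟩ := exists_isQuotient_stabilizer a x c hGo
  have := hq.2.2.1
  have hrj : Set.range j.left = Set.range (a.orbitMap x).left := by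
    rw [← horb, Over.comp_left, Scheme.Hom.comp_base, TopCat.coe_comp, Set.range_comp,
      (b.orbitMap o).left.surjective.range_eq, Set.image_univ]
  have : IsClosedImmersion j.left :=
    IsClosedImmersion.of_isPreimmersion j.left (by rw [hrj]; exact hxcl)
  have : IsProper O.hom := by rw [← Over.w j]; infer_instance
  exact ⟨x, St, _, c, hcm, O, b, o, hcc, hq, this, fun T g => by rw [hSt', comp_orbit]⟩

/-- Quotient schemes are proper if one of them is. -/
theorem isProper_quotient_congr {H X X' : Over (Spec (CommRingCat.of k))} [GrpObj H] [LocallyOfFiniteType G.hom]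
    {i : H ⟶ G} {a : AlgGrp.Action G X} {o : 𝟙_ (Over (Spec (CommRingCat.of k))) ⟶ X} (hX : AGF.IsQuotient i X a o)
    {a' : AlgGrp.Action G X'} {o' : 𝟙_ (Over (Spec (CommRingCat.of k))) ⟶ X'} (hX' : AGF.IsQuotient i X' a' o')
    [IsProper X.hom] : IsProper X'.hom := by
  obtain ⟨φ, -⟩ := exists_iso_quotient hX hX'
  have : IsIso φ.inv.left := inferInstanceAs (IsIso ((Over.forget _).map φ.inv))
  rw [← Over.w φ.inv]
  infer_instance

variable [IsAffine G.left] [Smooth G.hom]

/-- A minimal closed subgroup with proper quotient fixes a point in every proper scheme. -/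
theorem exists_fixing_subgroup :
    ∃ (H : Over (Spec (CommRingCat.of k))) (_ : GrpObj H) (c : H ⟶ G) (_ : IsMonHom c)
      (X : Over (Spec (CommRingCat.of k))) (a : AlgGrp.Action G X) (o : 𝟙_ (Over (Spec (CommRingCat.of k))) ⟶ X),
      IsClosedImmersion c.left ∧ AGF.IsQuotient c X a o ∧ IsProper X.hom ∧
      ∀ (Y : Over (Spec (CommRingCat.of k))) (b : AlgGrp.Action H Y), IsProper Y.hom → Nonempty Y.left →
        ∃ y : 𝟙_ (Over (Spec (CommRingCat.of k))) ⟶ Y, b.IsFixedPt y := by
  have := isLocallyNoetherian_left G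
  have : CompactSpace G.left := QuasiCompact.compactSpace_of_compactSpace G.hom
  have : AlgebraicGeometry.IsNoetherian G.left := ⟨⟩
  have hwf : WellFoundedGT G.left.IdealSheafData := Groth.PropsBasic2.wellFoundedGT_idealSheafData _
  let P : Set G.left.IdealSheafData := {I | ∃ (H : Over (Spec (CommRingCat.of k))) (_ : GrpObj H) (c : H ⟶ G)
      (_ : IsMonHom c) (X : Over (Spec (CommRingCat.of k))) (a : AlgGrp.Action G X)
      (o : 𝟙_ (Over (Spec (CommRingCat.of k))) ⟶ X),
      IsClosedImmersion c.left ∧ AGF.IsQuotient c X a o ∧ IsProper X.hom ∧ c.left.ker = I}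
  obtain ⟨X₁, a₁, o₁, hlft₁, hqc₁, hf₁, hs₁, hp₁⟩ := Groth.Agent.S3279.result k G G (𝟙 G)
  have hne : P.Nonempty := by
    have : Finite (𝟙_ (Over (Spec (CommRingCat.of k))) ⟶ X₁) := by
      have : Subsingleton (𝟙_ (Over (Spec (CommRingCat.of k))) ⟶ X₁) := ⟨fun x y => by
        obtain ⟨g, rfl⟩ := exists_rpt_lift (a₁.orbitMap o₁) x (hs₁.surj _)
        obtain ⟨g', rfl⟩ := exists_rpt_lift (a₁.orbitMap o₁) y (hs₁.surj _)
        exact (comp_orbit_eq_iff ⟨hlft₁, hf₁, hs₁, hp₁⟩ _ _ _).2 ⟨g⁻¹ * g', by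
          rw [Category.comp_id, mul_inv_cancel_left]⟩⟩
      infer_instance
    have := hlft₁
    have := hqc₁
    exact ⟨_, G, _, 𝟙 G, inferInstance, X₁, a₁, o₁, inferInstanceAs (IsClosedImmersion (𝟙 G.left)),
      ⟨hlft₁, hf₁, hs₁, hp₁⟩, isProper_of_finite_points X₁, rfl⟩
  obtain ⟨I, ⟨H, iH, c, hcm, X, a, o, hcc, hX, hXp, rfl⟩, hmax⟩ := hwf.wf.has_min P hne
  refine ⟨H, iH, c, hcm, X, a, o, hcc, hX, hXp, fun Y b hY hYne => ?_⟩
  have : Mono c := Over.mono_of_mono_left c
  have : LocallyOfFiniteType H.hom := by rw [← Over.w c]; infer_instance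
  have : QuasiCompact H.hom := by rw [← Over.w c]; infer_instance
  have : IsAffine H.left := isAffine_of_isAffineHom c.left
  obtain ⟨y, St, _, d, hdm, O, bo, yo, hdc, hO, hOp, hst⟩ := exists_stabilizer_proper b
  have : LocallyOfFiniteType St.hom := by rw [← Over.w d]; infer_instance
  have : QuasiCompact St.hom := by rw [← Over.w d]; infer_instance
  have : IsClosedImmersion (d ≫ c).left := by rw [Over.comp_left]; infer_instance
  have : Mono (d ≫ c) := Over.mono_of_mono_left _
  obtain ⟨X', a', o', hlft', hqc', hf', hs', hp'⟩ := Groth.Agent.S3279.result k G St (d ≫ c)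
  have := hlft'
  have hX'p := isProper_quotient_trans hX d (a' := a') (o' := o') ⟨hlft', hf', hs', hp'⟩ hO
  have hle : c.left.ker ≤ (d ≫ c).left.ker := by rw [Over.comp_left]; exact Scheme.Hom.le_ker_comp _ _
  have heq : (d ≫ c).left.ker ≤ c.left.ker := by
    refine (eq_of_le_of_not_lt hle fun hlt => hmax _ ⟨St, _, d ≫ c, inferInstance, X', a', o', inferInstance,
      ⟨hlft', hf', hs', hp'⟩, hX'p, rfl⟩ hlt).ge
  let l : H ⟶ St := Over.homMk (IsClosedImmersion.lift (d ≫ c).left c.left heq) (by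
    rw [← Over.w (d ≫ c), IsClosedImmersion.lift_fac_assoc, Over.w c])
  have hl : l ≫ d = 𝟙 H := by
    rw [← cancel_mono c, Category.assoc, Category.id_comp]
    exact Over.OverMorphism.ext (IsClosedImmersion.lift_fac _ _ _)
  exact ⟨y, fun T g => (hst T g).1 ⟨g ≫ l, by rw [Category.assoc, hl, Category.comp_id]⟩⟩

/-- For smooth connected groups solvability may be tested on rational points. -/
theorem isSolvableGrp_of_derivedSeries (n : ℕ) : ∀ (G : Over (Spec (CommRingCat.of k))) [GrpObj G] [Smooth G.hom]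
    [QuasiCompact G.hom] [ConnectedSpace G.left],
    derivedSeries (𝟙_ (Over (Spec (CommRingCat.of k))) ⟶ G) n = ⊥ → Red.IsSolvableGrp G := by
  induction n with
  | zero =>
    intro G _ _ _ _ hd
    exact ⟨0, fun T => (Subgroup.eq_bot_iff_forall _).2 fun g _ =>
      eq_one_of_points_trivial (fun g' => Subgroup.mem_bot.1 (hd ▸ Subgroup.mem_top g')) g⟩
  | succ n ih =>
    intro G _ _ _ _ hd
    obtain ⟨D, _, i, hi, hci, hDs, hDc, hr⟩ := exists_derived G
    have : Mono i := Over.mono_of_mono_left i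
    have : QuasiCompact D.hom := by rw [← Over.w i]; infer_instance
    let φ : ∀ T : Over (Spec (CommRingCat.of k)), (T ⟶ D) →* (T ⟶ G) := fun T =>
      MonoidHom.mk' (· ≫ i) fun d e => MonObj.mul_comp d e i
    have hcomm := exists_commutator_lift i fun p q => by
      have : p * q * p⁻¹ * q⁻¹ ∈ commutator (𝟙_ (Over (Spec (CommRingCat.of k))) ⟶ G) :=
        Subgroup.commutator_mem_commutator (Subgroup.mem_top p) (Subgroup.mem_top q)
      rw [← SetLike.mem_coe, ← hr] at this
      exact this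
    have hle : ∀ T m, derivedSeries (T ⟶ G) (m + 1) ≤ (derivedSeries (T ⟶ D) m).map (φ T) := by
      intro T m
      induction m with
      | zero =>
        rw [derivedSeries_one, commutator_def, Subgroup.commutator_le]
        intro p _ q _
        obtain ⟨d, hd⟩ := hcomm T p q
        exact ⟨d, Subgroup.mem_top d, hd⟩
      | succ m ihm =>
        rw [derivedSeries_succ (T ⟶ G) (m + 1), derivedSeries_succ (T ⟶ D) m, Subgroup.map_commutator]
        exact Subgroup.commutator_mono ihm ihm
    have hge : ∀ m, (derivedSeries (𝟙_ (Over (Spec (CommRingCat.of k))) ⟶ D) m).map (φ _) ≤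
        derivedSeries (𝟙_ (Over (Spec (CommRingCat.of k))) ⟶ G) (m + 1) := by
      intro m
      induction m with
      | zero =>
        rw [derivedSeries_one]
        rintro _ ⟨d, -, rfl⟩
        rw [← SetLike.mem_coe, ← hr]
        exact ⟨d, rfl⟩
      | succ m ihm =>
        rw [derivedSeries_succ, Subgroup.map_commutator, derivedSeries_succ _ (m + 1)]
        exact Subgroup.commutator_mono ihm ihm
    obtain ⟨N, hN⟩ := ih D ((Subgroup.map_eq_bot_iff_of_injective _ fun a b h => (cancel_mono i).1 h).1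
      (le_bot_iff.1 (hd ▸ hge n)))
    exact ⟨N + 1, fun T => le_bot_iff.1 ((hle T N).trans (by rw [hN T, Subgroup.map_bot]))⟩

variable [ConnectedSpace G.left]

/-- **A solvable smooth connected subgroup with proper quotient.** -/
theorem exists_solvable_proper :
    ∃ (B : Over (Spec (CommRingCat.of k))) (_ : GrpObj B) (i : B ⟶ G) (_ : IsMonHom i)
      (X : Over (Spec (CommRingCat.of k))) (a : AlgGrp.Action G X) (o : 𝟙_ (Over (Spec (CommRingCat.of k))) ⟶ X),
      IsClosedImmersion i.left ∧ Smooth B.hom ∧ ConnectedSpace B.left ∧ Red.IsSolvableGrp B ∧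
      AGF.IsQuotient i X a o ∧ IsProper X.hom := by
  obtain ⟨H, _, c, _, X, a, o, hcc, hX, hXp, hfix⟩ := exists_fixing_subgroup (G := G)
  have : Mono c := Over.mono_of_mono_left c
  have : LocallyOfFiniteType H.hom := by rw [← Over.w c]; infer_instance
  have : QuasiCompact H.hom := by rw [← Over.w c]; infer_instance
  have : IsAffine H.left := isAffine_of_isAffineHom c.left
  obtain ⟨n, hn⟩ := exists_derivedSeries_eq_bot_of_fixedPt c hfix
  obtain ⟨Z, _, z, _, _, _, _, _⟩ := exists_reduced_subgroup H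
  obtain ⟨B, _, b, _, _, hbr, hBc⟩ := Groth.GrpschAbsch.NeutralSet.exists_neutral_openSubgroup Z
  have : IsClosedImmersion b.left := IsClosedImmersion.of_isPreimmersion b.left (isClosed_range_of_openSubgroup b)
  let j : B ⟶ H := b ≫ z
  have : IsClosedImmersion j.left := by rw [show j.left = b.left ≫ z.left from rfl]; infer_instance
  have : Mono j := Over.mono_of_mono_left j
  have : Smooth B.hom := by
    rw [← Over.w b]; infer_instance
  have : QuasiCompact B.hom := by rw [← Over.w j]; infer_instance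
  have : IsClosedImmersion (j ≫ c).left := by rw [Over.comp_left]; infer_instance
  have : Mono (j ≫ c) := Over.mono_of_mono_left _
  obtain ⟨X', a', o', hX'⟩ := Groth.Agent.S3279.result k G B (j ≫ c)
  obtain ⟨Y, bY, y, hY⟩ := Groth.Agent.S3279.result k H B j
  have hY' : AGF.IsQuotient j Y bY y := ⟨hY.1, hY.2.2.1, hY.2.2.2.1, hY.2.2.2.2⟩
  have := hY.1
  have := hY.2.1
  have hsur : Surjective (bY.orbitMap y).left := hY'.2.2.1
  -- finitely many points
  have : Finite (𝟙_ (Over (Spec (CommRingCat.of k))) ⟶ Y) := by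
    have := isLocallyNoetherian_left Z
    have : CompactSpace Z.left := QuasiCompact.compactSpace_of_compactSpace Z.hom
    have := Groth.SGA7.IdComponent.locallyConnectedSpace (X := Z.left)
    have : DiscreteTopology (_root_.ConnectedComponents Z.left) := discreteTopology_iff_isOpen_singleton.2 fun C => by
      obtain ⟨p, rfl⟩ := _root_.ConnectedComponents.surjective_coe C
      rw [← _root_.ConnectedComponents.isQuotientMap_coe.isOpen_preimage, connectedComponents_preimage_singleton]
      exact isOpen_connectedComponent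
    have : Finite (_root_.ConnectedComponents Z.left) := finite_of_compact_of_discrete
    have hlift : ∀ p : 𝟙_ (Over (Spec (CommRingCat.of k))) ⟶ Y,
        ∃ w : 𝟙_ (Over (Spec (CommRingCat.of k))) ⟶ Z, (w ≫ z) ≫ bY.orbitMap y = p := fun p => by
      obtain ⟨h, hh⟩ := exists_rpt_lift (bY.orbitMap y) p (hsur.surj _)
      obtain ⟨w, hw⟩ := exists_rpt_lift z h (z.left.surjective _)
      exact ⟨w, by rw [hw, hh]⟩
    choose w hw using hlift
    refine Finite.of_injective (fun p => (_root_.ConnectedComponents.mk (rpt (w p)) : _root_.ConnectedComponents Z.left)) fun p q hpq => ?_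
    rw [← hw p, ← hw q]
    refine (comp_orbit_eq_iff hY' _ _ _).2 ?_
    have hcomp : rpt (w q) ∈ connectedComponent (rpt (w p)) :=
      _root_.ConnectedComponents.coe_eq_coe'.1 (Eq.symm hpq)
    let l : Z ⟶ Z := (toUnit Z ≫ (w p)⁻¹) * 𝟙 Z
    have hl : ∀ t : 𝟙_ (Over (Spec (CommRingCat.of k))) ⟶ Z, t ≫ l = (w p)⁻¹ * t := fun t => by
      simp only [l, MonObj.comp_mul, Category.comp_id, ← Category.assoc]
      rw [toUnit_unique (t ≫ toUnit Z) (𝟙 _), Category.id_comp]
    have hmem : rpt ((w p)⁻¹ * w q) ∈ Set.range b.left := by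
      rw [hbr]
      have h1 : rpt ((w p)⁻¹ * w q) ∈ connectedComponent (rpt ((w p)⁻¹ * w p)) := by
        rw [← hl, ← hl]
        exact l.left.continuous.image_connectedComponent_subset _ ⟨_, hcomp, rfl⟩
      rw [inv_mul_cancel] at h1
      rwa [show (1 : 𝟙_ (Over (Spec (CommRingCat.of k))) ⟶ Z) = η[Z] by
        rw [Hom.one_def, toUnit_unique (toUnit _) (𝟙 _), Category.id_comp]] at h1
    obtain ⟨e, he⟩ := exists_rpt_lift b _ hmem
    exact ⟨e, by rw [show j = b ≫ z from rfl, ← Category.assoc, he, ← MonObj.mul_comp, mul_inv_cancel_left]⟩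
  have hYp := isProper_of_finite_points Y
  have hX'' : AGF.IsQuotient (j ≫ c) X' a' o' := ⟨hX'.1, hX'.2.2.1, hX'.2.2.2.1, hX'.2.2.2.2⟩
  refine ⟨B, _, j ≫ c, inferInstance, X', a', o', inferInstance, inferInstance, hBc, ?_, hX'',
    isProper_quotient_trans hX j hX'' hY'⟩
  have hnB : derivedSeries (𝟙_ (Over (Spec (CommRingCat.of k))) ⟶ B) n = ⊥ := by
    let φ : (𝟙_ (Over (Spec (CommRingCat.of k))) ⟶ B) →* (𝟙_ (Over (Spec (CommRingCat.of k))) ⟶ H) :=
      MonoidHom.mk' (· ≫ j) fun d e => MonObj.mul_comp d e j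
    exact (Subgroup.map_eq_bot_iff_of_injective _ (f := φ) fun a b h => (cancel_mono j).1 h).1
      (le_bot_iff.1 (hn ▸ map_derivedSeries_le_derivedSeries φ n))
  exact isSolvableGrp_of_derivedSeries n B hnB

end Groth.AlgGrp1
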