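import Groth.Agent.AlgGrp1.SolvableChar
import Groth.Agent.AlgGrp1.BorelRigid
import Groth.Agent.AlgGrp1.AffineQuot

/-!
A connected group with a central maximal torus is nilpotent.
-/

set_option autoImplicit false
set_option linter.style.haveILetI false
universe u

open CategoryTheory Limits MonoidalCategory CartesianMonoidalCategory MonObj GrpObj AlgebraicGeometry
open WithConv

noncomputable section

namespace Groth.AlgGrp1

variable {k : Type u} [Field k] [IsAlgClosed k]

section Mat

variable {A : Type u} [CommRing A] [HopfAlgebra k A] {n : ℕ} (m : Matrix (Fin n) (Fin n) A)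

/-- The endomorphism attached to a point by a matrix corepresentation. -/
def ptAct (g : WithConv (A →ₐ[k] k)) : Module.End k (Fin n → k) := (m.map g.ofConv).mulVecLin

theorem ptAct_mul (hc : ∀ i j, Coalgebra.comul (R := k) (m i j) = ∑ l, m i l ⊗ₜ[k] m l j)
    (g h : WithConv (A →ₐ[k] k)) : ptAct m (g * h) = ptAct m g * ptAct m h := by
  have e : m.map (g * h).ofConv = m.map g.ofConv * m.map h.ofConv := Matrix.ext fun i j => by
    rw [Matrix.map_apply, Matrix.mul_apply]
    show (g * h) (m i j) = _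
    rw [AlgHom.convMul_apply, hc, map_sum]
    simp
  rw [ptAct, e, Matrix.mulVecLin_mul]
  rfl

theorem ptAct_one (he : ∀ i j, Coalgebra.counit (R := k) (m i j) = (1 : Matrix (Fin n) (Fin n) k) i j) :
    ptAct m (1 : WithConv (A →ₐ[k] k)) = 1 := by
  have e : m.map (1 : WithConv (A →ₐ[k] k)).ofConv = 1 := Matrix.ext fun i j => by
    rw [Matrix.map_apply]
    show (1 : WithConv (A →ₐ[k] k)) (m i j) = _
    rw [AlgHom.convOne_apply, he]
    simp
  rw [ptAct, e, Matrix.mulVecLin_one]
  rfl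

/-- The regular function of a matrix coefficient. -/
def coeffFn (φ : (Fin n → k) →ₗ[k] k) (v : Fin n → k) : A :=
  ∑ a, ∑ b, (φ (Pi.single a 1) * v b) • m a b

theorem coeffFn_apply (g : WithConv (A →ₐ[k] k)) (φ : (Fin n → k) →ₗ[k] k) (v : Fin n → k) :
    g.ofConv (coeffFn m φ v) = φ (ptAct m g v) := by
  rw [LinearMap.pi_apply_eq_sum_univ φ (ptAct m g v), coeffFn, map_sum]
  refine Finset.sum_congr rfl fun a _ => ?_
  rw [map_sum, ptAct, Matrix.mulVecLin_apply, Matrix.mulVec, dotProduct, Finset.sum_smul]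
  refine Finset.sum_congr rfl fun b _ => ?_
  rw [map_smul, Matrix.map_apply, smul_eq_mul, smul_eq_mul,
    show (fun j => if a = j then (1 : k) else 0) = Pi.single a 1 from funext fun j => by
      simp [Pi.single_apply, eq_comm]]
  ring

end Mat

/-- A twisted character of a connected group with central tori in a Borel subgroup: the key invariant functions. -/
theorem exists_invariant_fn {A : Type u} [CommRing A] [HopfAlgebra k A] [Algebra.FiniteType k A]
    {n : ℕ} (m : Matrix (Fin n) (Fin n) A) (w : Fin n → k) (hw : w ≠ 0)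
    (hc : ∀ i j, Coalgebra.comul (R := k) (m i j) = ∑ l, m i l ⊗ₜ[k] m l j)
    (he : ∀ i j, Coalgebra.counit (R := k) (m i j) = (1 : Matrix (Fin n) (Fin n) k) i j) :
    ∃ (F : ((Fin n → k) →ₗ[k] k) → A) (χ : A),
      (∀ (φ : (Fin n → k) →ₗ[k] k) (g : WithConv (A →ₐ[k] k)), φ w = 0 → g.ofConv (F φ) = 0 → φ (ptAct m g w) = 0) ∧
      (∀ (φ : (Fin n → k) →ₗ[k] k), φ w = 0 → (1 : WithConv (A →ₐ[k] k)).ofConv (F φ) = 0) ∧
      (Coalgebra.counit (R := k) χ = 1) ∧
      (∀ g h : WithConv (A →ₐ[k] k), (∃ c : k, ptAct m g w = c • w) → (∃ c : k, ptAct m h w = c • w) →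
        (g * h).ofConv χ = g.ofConv χ * h.ofConv χ) ∧
      (∀ τ : WithConv (A →ₐ[k] k), (∃ c : k, ptAct m τ w = c • w) → (∀ g, τ * g = g * τ) → τ.ofConv χ = 1) ∧
      (∀ (φ : (Fin n → k) →ₗ[k] k) (g β : WithConv (A →ₐ[k] k)), (∃ c : k, ptAct m β w = c • w) →
        (g * β).ofConv (F φ) = g.ofConv (F φ) * β.ofConv χ) := by
  classical
  obtain ⟨i₀, hi₀⟩ := Function.ne_iff.1 hw
  let φ₀ : (Fin n → k) →ₗ[k] k := (w i₀)⁻¹ • LinearMap.proj i₀
  have hφ₀ : φ₀ w = 1 := by
    show (w i₀)⁻¹ * w i₀ = 1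
    exact inv_mul_cancel₀ hi₀
  let W : Submodule k (Fin n → k) := Submodule.span k (Set.range fun g => ptAct m g w)
  have hst : ∀ g, ∀ x ∈ W, ptAct m g x ∈ W := by
    intro g x hx
    induction hx using Submodule.span_induction with
    | mem y hy =>
      obtain ⟨h, rfl⟩ := hy
      exact Submodule.subset_span ⟨g * h, by show ptAct m (g * h) w = _; rw [ptAct_mul m hc]; rfl⟩
    | zero => rw [map_zero]; exact zero_mem _
    | add x y _ _ hx hy => rw [map_add]; exact add_mem hx hy
    | smul c x _ hx => rw [map_smul]; exact W.smul_mem c hx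
  have hwW : w ∈ W := Submodule.subset_span ⟨1, by show ptAct m 1 w = _; rw [ptAct_one m he]; rfl⟩
  let R : WithConv (A →ₐ[k] k) → Module.End k W := fun g => (ptAct m g).restrict (hst g)
  have hR : ∀ g h, R (g * h) = R g * R h := fun g h => LinearMap.ext fun x => Subtype.ext (by
    show ptAct m (g * h) (x : Fin n → k) = ptAct m g (ptAct m h (x : Fin n → k))
    rw [ptAct_mul m hc]; rfl)
  have hR1 : R 1 = 1 := LinearMap.ext fun x => Subtype.ext (by
    show ptAct m 1 (x : Fin n → k) = (x : Fin n → k)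
    rw [ptAct_one m he]; rfl)
  let bW := Module.finBasis k W
  choose φ hφ using fun i => LinearMap.exists_extend (bW.coord i)
  let d : A := (Matrix.of fun i j => coeffFn m (φ i) (bW j : Fin n → k)).det
  have hd : ∀ g : WithConv (A →ₐ[k] k), g.ofConv d = LinearMap.det (R g) := by
    intro g
    rw [← LinearMap.det_toMatrix bW, show d = (Matrix.of fun i j => coeffFn m (φ i) (bW j : Fin n → k)).det from rfl,
      AlgHom.map_det]
    congr 1
    refine Matrix.ext fun i j => ?_
    show g.ofConv (coeffFn m (φ i) (bW j : Fin n → k)) = _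
    rw [coeffFn_apply, LinearMap.toMatrix_apply, ← Module.Basis.coord_apply]
    exact DFunLike.congr_fun (hφ i) (R g (bW j))
  have hd1 : ∀ g : WithConv (A →ₐ[k] k), g.ofConv d ≠ 0 := fun g h0 => by
    have h1 := congrArg LinearMap.det (hR g g⁻¹)
    rw [mul_inv_cancel, hR1, map_one, map_mul, ← hd, h0, zero_mul] at h1
    exact one_ne_zero h1
  let N := Module.finrank k W
  have hN : N ≠ 0 := fun h => hw <| by
    have : W = ⊥ := Submodule.finrank_eq_zero.1 h
    simpa [this] using hwW
  let F : ((Fin n → k) →ₗ[k] k) → A := fun φ => coeffFn m φ w ^ N * HopfAlgebra.antipode k d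
  have hF : ∀ φ (g : WithConv (A →ₐ[k] k)), g.ofConv (F φ) = φ (ptAct m g w) ^ N * (g.ofConv d)⁻¹ := by
    intro φ g
    have h2 : g.ofConv (HopfAlgebra.antipode k d) = (g.ofConv d)⁻¹ := by
      refine eq_inv_of_mul_eq_one_left ?_
      change (g⁻¹).ofConv d * g.ofConv d = 1
      rw [hd, hd, ← map_mul, ← hR, inv_mul_cancel, hR1, map_one]
    show g.ofConv (_ * _) = _
    rw [map_mul, map_pow, coeffFn_apply, h2]
  have hdm : ∀ g h : WithConv (A →ₐ[k] k), (g * h).ofConv d = g.ofConv d * h.ofConv d := fun g h => by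
    rw [hd, hd, hd, hR, map_mul]
  refine ⟨F, F φ₀, fun φ g _ h => ?_, fun φ h => ?_, ?_, ?_, ?_, ?_⟩
  · rw [hF] at h
    exact eq_zero_of_pow_eq_zero ((mul_eq_zero.1 h).resolve_right (inv_ne_zero (hd1 g)))
  · rw [hF, ptAct_one m he, show (1 : Module.End k (Fin n → k)) w = w from rfl, h, zero_pow hN, zero_mul]
  · have := hF φ₀ 1
    rw [ptAct_one m he, show (1 : Module.End k (Fin n → k)) w = w from rfl, hφ₀, one_pow, hd, hR1, map_one,
      inv_one, _root_.one_mul] at this
    simpa [AlgHom.convOne_apply] using this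
  · rintro g h ⟨c, hg⟩ ⟨c', hh⟩
    rw [hF, hF, hF, hdm, ptAct_mul m hc, Module.End.mul_apply, hh, map_smul, hg, smul_smul, map_smul,
      map_smul, map_smul, hφ₀, _root_.mul_inv]
    simp only [smul_eq_mul, _root_.mul_one, mul_pow]
    ring
  · rintro τ ⟨c, hτ⟩ hcen
    have hsc : ∀ x ∈ W, ptAct m τ x = c • x := by
      intro x hx
      induction hx using Submodule.span_induction with
      | mem y hy =>
        obtain ⟨h, rfl⟩ := hy
        show ptAct m τ (ptAct m h w) = _
        rw [← Module.End.mul_apply, ← ptAct_mul m hc, hcen, ptAct_mul m hc, Module.End.mul_apply, hτ, map_smul]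
      | zero => simp
      | add x y _ _ hx hy => rw [map_add, hx, hy, smul_add]
      | smul e x _ hx => rw [map_smul, hx, smul_comm]
    have : R τ = c • 1 := LinearMap.ext fun x => Subtype.ext (hsc x x.2)
    rw [hF, hτ, map_smul, hφ₀, hd, this, LinearMap.det_smul, map_one, _root_.mul_one, smul_eq_mul, _root_.mul_one,
      show Module.finrank k W = N from rfl]
    refine mul_inv_cancel₀ (pow_ne_zero _ fun hc0 => hd1 τ ?_)
    rw [hd, this, LinearMap.det_smul, map_one, _root_.mul_one, hc0, zero_pow hN]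
  · rintro φ g β ⟨c, hβ⟩
    conv_rhs => rw [hF φ₀ β, hβ, map_smul, hφ₀, smul_eq_mul, _root_.mul_one]
    rw [hF, hF, hdm, ptAct_mul m hc, Module.End.mul_apply, hβ, map_smul, map_smul, smul_eq_mul, mul_pow, _root_.mul_inv]
    ring

variable {C B T : Over (Spec (CommRingCat.of k))} [GrpObj C] [GrpObj B] [GrpObj T]

/-- The borel subgroup of a connected group with central maximal torus is everything, and is nilpotent. -/
theorem isNilpotentGrp_of_central_maxTorus [IsAffine C.left] [Smooth C.hom] [ConnectedSpace C.left]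
    {iT : T ⟶ C} (hT : AGF.IsMaxTorus iT)
    (hcen : ∀ (X : Over (Spec (CommRingCat.of k))) (s : X ⟶ T) (g : X ⟶ C), g * (s ≫ iT) = (s ≫ iT) * g) :
    AGF.IsNilpotentGrp C := by
  obtain ⟨B, _, iB, _, X, a, o, hB, hX, hp⟩ := exists_borel_proper (G := C)
  obtain ⟨hmB, hcB, hsB, hnB, hsolv, -⟩ := hB
  haveI := hcB; haveI := hp
  have : IsAffine B.left := isAffine_of_isAffineHom iB.left
  have : Mono iB := Over.mono_of_mono_left iB
  obtain ⟨hmT, hmoT, hTT, hmax⟩ := hT
  obtain ⟨haT, hsT, hcT⟩ := isAffine_smooth_connected_of_isTorus hTT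
  have := isClosedImmersion_of_isTorus iT hTT
  have hconj : ∀ y : 𝟙_ (Over (Spec (CommRingCat.of k))) ⟶ C, AGF.conjBy y iT = iT := fun y => by
    have h := hcen T (𝟙 T) (toUnit T ≫ y)
    rw [Category.id_comp] at h
    unfold AGF.conjBy
    rw [h, mul_inv_cancel_right]
  -- the torus lies in `B`
  obtain ⟨x, t, ht⟩ := exists_conj_le hX iT (isSolvableGrp_of_isTorus hTT)
  rw [hconj] at ht
  have htm : IsMonHom t := isMonHom_of_points _ fun W p q => by
    rw [← cancel_mono iB, Category.assoc, ht, MonObj.mul_comp, MonObj.mul_comp, Category.assoc, ht,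
      Category.assoc, ht]
  have htc : ∀ (W : Over (Spec (CommRingCat.of k))) (s : W ⟶ T) (g : W ⟶ B), g * (s ≫ t) = (s ≫ t) * g := by
    intro W s g
    rw [← cancel_mono iB, MonObj.mul_comp, MonObj.mul_comp, Category.assoc, ht]
    exact hcen W s (g ≫ iB)
  -- every torus of `B` maps into it
  obtain ⟨S₀, _, s₀, hs₀, hs₀c, hS₀, habs⟩ := exists_torus_absorbing B hsolv
  obtain ⟨b₀, f₀, hf₀⟩ := habs T t hTT
  have htb : ∀ b : 𝟙_ (Over (Spec (CommRingCat.of k))) ⟶ B, AGF.conjBy b t = t := fun b => by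
    have h := htc T (𝟙 T) (toUnit T ≫ b)
    rw [Category.id_comp] at h
    unfold AGF.conjBy
    rw [h, mul_inv_cancel_right]
  rw [htb] at hf₀
  have : Mono s₀ := Over.mono_of_mono_left s₀
  have : IsIso f₀ := hmax S₀ (s₀ ≫ iB) f₀ hS₀ (by rw [← Category.assoc, hf₀, ht])
  have hfac : ∀ (S : Over (Spec (CommRingCat.of k))) [GrpObj S] (j : S ⟶ B) [IsMonHom j], Red.IsTorus S →
      ∃ q : S ⟶ T, q ≫ t = j := by
    intro S _ j _ hS
    obtain ⟨b, f, hf⟩ := habs S j hS
    refine ⟨f ≫ inv f₀, ?_⟩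
    have e : (f ≫ inv f₀) ≫ t = AGF.conjBy b j := by rw [← hf, ← hf₀]; simp
    calc (f ≫ inv f₀) ≫ t = (f ≫ inv f₀) ≫ AGF.conjBy b⁻¹ t := by rw [htb]
      _ = AGF.conjBy b⁻¹ (AGF.conjBy b j) := by rw [comp_conjBy', e]
      _ = j := by rw [conjBy_conjBy, inv_mul_cancel, conjBy_one]
  have hnil : AGF.IsNilpotentGrp B := isNilpotentGrp_of_tori_central B hsolv fun S _ j _ hS W s g => by
    obtain ⟨q, rfl⟩ := hfac S j hS
    rw [← Category.assoc]
    exact htc W _ g
  -- the matrix representation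
  obtain ⟨A, _, _, _, eC, heC⟩ := exists_hopf_iso C
  haveI := heC
  obtain ⟨AB, _, _, _, eB, heB⟩ := exists_hopf_iso B
  haveI := heB
  have : IsClosedImmersion (iB ≫ eC.inv).left := by
    have : IsIso eC.inv.left := inferInstanceAs (IsIso ((Over.forget _).map eC.inv))
    rw [Over.comp_left]; infer_instance
  obtain ⟨I, _, hI⟩ := exists_hopfIdeal (iB ≫ eC.inv)
  obtain ⟨n, m, w, hc, he, hw, hrep⟩ := exists_mat_stabilizer (k := k) I
  obtain ⟨F, χ, hF0, hF1, hχ1, hχm, hχt, hFinv⟩ := exists_invariant_fn m w hw hc he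
  let P := hopfPts eC
  have hPB : ∀ g : WithConv (A →ₐ[k] k), (∃ c : k, ptAct m g w = c • w) ↔ ∃ y, y ≫ iB = P g := by
    intro g
    have h1 : (∃ c : k, ptAct m g w = c • w) ↔
        ∃ c : k, (m.map g.ofConv).mulVec (fun j => algebraMap k k (w j)) = fun i => algebraMap k k (w i) * c := by
      refine exists_congr fun c => ?_
      simp only [Algebra.algebraMap_self, RingHom.id_apply]
      constructor
      · intro h; funext i
        rw [_root_.mul_comm]
        exact congrFun h i
      · intro h; funext i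
        rw [show ptAct m g w i = w i * c from congrFun h i, _root_.mul_comm]
        rfl
    rw [h1, ← hrep k g.ofConv, hI k g.ofConv]
    refine exists_congr fun y => ?_
    rw [← Category.assoc, ← cancel_mono eC.hom, Category.assoc (y ≫ iB), Iso.inv_hom_id, Category.comp_id]
    rfl
  obtain ⟨φ, hφ⟩ := exists_bialgHom_of_isMonHom (eB.hom ≫ iB ≫ eC.inv)
  let r : WithConv (AB →ₐ[k] k) → WithConv (A →ₐ[k] k) := convPre (k := k) φ
  have hr : ∀ β, P (r β) = hopfPts eB β ≫ iB := fun β => by
    show CoactBr.pt (β.ofConv.comp (φ : A →ₐ[k] AB)) ≫ eC.hom = _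
    rw [CoactBr.pt_comp, hφ, hopfPts_apply]
    simp
  have hB1 : ∀ β : WithConv (A →ₐ[k] k), (∃ c : k, ptAct m β w = c • w) → β.ofConv χ = 1 := by
    intro β hβ
    obtain ⟨y, hy⟩ := (hPB β).1 hβ
    obtain ⟨β', rfl⟩ := hopfPts_surjective eB y
    rw [← hr] at hy
    rw [← hopfPts_injective eC hy]
    refine eq_one_of_char hsolv eB (φ χ) ?_ ?_ ?_ β'
    · rw [← hχ1]
      exact CoalgHomClass.counit_comp_apply φ χ
    · intro g h
      have := hχm (r g) (r h) ((hPB _).2 ⟨_, (hr g).symm⟩) ((hPB _).2 ⟨_, (hr h).symm⟩)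
      show (r (g * h)).ofConv χ = _
      rw [show r (g * h) = r g * r h from map_mul (convPre (k := k) φ) g h]
      exact this
    · intro S _ j _ hS g s hsj
      obtain ⟨q, rfl⟩ := hfac S j hS
      refine hχt (r g) ((hPB _).2 ⟨_, (hr g).symm⟩) fun h => ?_
      refine hopfPts_injective eC ?_
      rw [map_mul, map_mul]
      have e : P (r g) = (s ≫ q) ≫ iT := by rw [hr, ← hsj, ← ht]; simp
      rw [e]
      exact (hcen _ _ _).symm
  -- the invariant functions are constant
  have := geometricallyReduced_of_smooth_hom C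
  have := geometricallyReduced_of_smooth_hom B
  have hconst : ∀ φ' (g : WithConv (A →ₐ[k] k)), g.ofConv (F φ') = (1 : WithConv (A →ₐ[k] k)).ofConv (F φ') := by
    intro φ'
    let Z := CoactBr.sp k (Polynomial k)
    have : IsAffine Z.left := inferInstanceAs (IsAffine (Spec (CommRingCat.of (Polynomial k))))
    have : IsSeparated Z.hom := inferInstance
    let f : C ⟶ Z := eC.inv ≫ CoactBr.pt (Polynomial.aeval (F φ'))
    have hf : ∀ g : WithConv (A →ₐ[k] k), P g ≫ f = CoactBr.pt (Polynomial.aeval (g.ofConv (F φ'))) := by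
      intro g
      show (CoactBr.pt g.ofConv ≫ eC.hom) ≫ eC.inv ≫ _ = _
      rw [Category.assoc, eC.hom_inv_id_assoc, ← CoactBr.pt_comp]
      congr 1
      exact Polynomial.algHom_ext (by simp)
    have : Smooth (C ⊗ B).hom := smooth_tensor_over C B
    have := geometricallyReduced_of_smooth_hom (C ⊗ B)
    have hinv : (fst C B * (snd C B ≫ iB)) ≫ f = fst C B ≫ f := eq_of_sepClosed_points k _ _ fun p => by
      obtain ⟨g, hg⟩ := hopfPts_surjective eC (p ≫ fst C B)
      obtain ⟨β, hβ⟩ := hopfPts_surjective eC ((p ≫ snd C B) ≫ iB)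
      have hβ' := (hPB β).2 ⟨_, hβ.symm⟩
      refine Eq.trans ?_ ((hf g).symm.trans ?_ |>.trans (Category.assoc _ _ _))
      · rw [← Category.assoc, MonObj.comp_mul, ← Category.assoc p]
        refine (congrArg (· ≫ f) (show _ = P (g * β) by rw [map_mul, hg, hβ]; rfl)).trans ?_
        rw [hf, hFinv φ' g β hβ', hB1 β hβ', _root_.mul_one]
      · exact congrArg (· ≫ f) hg
    have e := eq_snd_of_invariant hX (fst C (𝟙_ _) ≫ f) fun W g h t => by
      have := congrArg (lift g h ≫ ·) hinv
      rw [← Category.assoc (lift g h), lift_fst_assoc, MonObj.comp_mul, lift_fst, lift_snd_assoc] at this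
      rw [lift_fst_assoc, lift_fst_assoc]
      exact this
    intro g
    have e' := congrArg (lift (P g) (toUnit _) ≫ ·) e
    simp only [lift_fst_assoc, lift_snd_assoc] at e'
    rw [hf] at e'
    rw [← Category.assoc (toUnit (CoactBr.sp k k)), ← Category.assoc (toUnit (CoactBr.sp k k)),
      MonObj.comp_one, show (1 : CoactBr.sp k k ⟶ C) = P 1 from (map_one P).symm, hf] at e'
    simpa using DFunLike.congr_fun (CoactBr.pt_injective e') Polynomial.X
  have hall : ∀ g : WithConv (A →ₐ[k] k), ∃ c : k, ptAct m g w = c • w := by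
    intro g
    by_contra hne
    have hnm : ptAct m g w ∉ k ∙ w := fun h => hne (by
      obtain ⟨c, hc'⟩ := Submodule.mem_span_singleton.1 h
      exact ⟨c, hc'.symm⟩)
    obtain ⟨φ', hφ', hker⟩ := Submodule.exists_dual_map_eq_bot_of_notMem hnm inferInstance
    have hφw : φ' w = 0 := by
      have : φ' w ∈ (k ∙ w).map φ' := Submodule.mem_map_of_mem (Submodule.mem_span_singleton_self w)
      rw [hker] at this
      exact this
    exact hφ' (hF0 φ' g hφw ((hconst φ' g).trans (hF1 φ' hφw)))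
  obtain ⟨s, hs⟩ := factor_of_sepClosed_points k iB (𝟙 C) fun p => by
    obtain ⟨g, rfl⟩ := hopfPts_surjective eC p
    obtain ⟨y, hy⟩ := (hPB g).1 (hall g)
    exact ⟨y, hy.trans (Category.comp_id _).symm⟩
  obtain ⟨N, hN⟩ := hnil
  refine ⟨N, fun W => eq_top_iff.2 fun x _ => ?_⟩
  let M : (W ⟶ B) →* (W ⟶ C) := MonoidHom.mk' (· ≫ iB) fun p q => MonObj.mul_comp p q iB
  have hM : Function.Surjective M := fun x => ⟨x ≫ s, by show (x ≫ s) ≫ iB = x; rw [Category.assoc, hs, Category.comp_id]⟩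
  have h2 := Subgroup.upperCentralSeries.map hM N
  rw [hN, Subgroup.map_top_of_surjective M hM] at h2
  exact h2 trivial

end Groth.AlgGrp1
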