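import Groth.Agent.AlgGrp1.LineAction

/-!
The action on the space of lines with its rational points.
-/

set_option autoImplicit false
universe u

open CategoryTheory Limits MonoidalCategory CartesianMonoidalCategory MonObj GrpObj AlgebraicGeometry
open Module
open scoped TensorProduct

noncomputable section

namespace Groth.AlgGrp1.Line

open Groth.GrassRep

variable {k : Type u} [Field k] {n : ℕ}

/-- A quotient line of `k^n` is given by a normalised vector. -/
theorem exists_vecGr_eq (N : Grassmannian k (k ⊗[k] (Fin n → k)) 1) :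
    ∃ (v : Fin n → k) (i₀ : Fin n) (hi : v i₀ = 1), N = vecGr v i₀ k hi := by
  have := N.projective_quotient
  have := N.finite_quotient
  have h1 : Module.finrank k ((k ⊗[k] (Fin n → k)) ⧸ N.toSubmodule) = 1 := by
    have := N.rankAtStalk_eq ⟨⊥, Ideal.isPrime_bot⟩
    rwa [Module.rankAtStalk_eq_finrank_of_free] at this
  let e : ((k ⊗[k] (Fin n → k)) ⧸ N.toSubmodule) ≃ₗ[k] k := LinearEquiv.ofFinrankEq _ _ (by rw [h1, Module.finrank_self])
  let φ : k ⊗[k] (Fin n → k) →ₗ[k] k := e.toLinearMap ∘ₗ N.toSubmodule.mkQ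
  have hφ : LinearMap.ker φ = N.toSubmodule := by
    rw [LinearMap.ker_comp, LinearEquiv.ker, Submodule.comap_bot, Submodule.ker_mkQ]
  have hsur : Function.Surjective φ := e.surjective.comp N.toSubmodule.mkQ_surjective
  obtain ⟨i₀, hi₀⟩ : ∃ i, φ (bs k i) ≠ 0 := by
    by_contra! h
    obtain ⟨x, hx⟩ := hsur 1
    rw [show φ = 0 from (bs k).ext fun i => by simpa using h i, LinearMap.zero_apply] at hx
    exact zero_ne_one hx
  refine ⟨fun i => (φ (bs k i₀))⁻¹ * φ (bs k i), i₀, inv_mul_cancel₀ hi₀, Grassmannian.ext ?_⟩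
  show N.toSubmodule = LinearMap.ker (fnlA _ k)
  rw [show fnlA (fun i => (φ (bs k i₀))⁻¹ * φ (bs k i)) k = (φ (bs k i₀))⁻¹ • φ from
    (bs k).ext fun i => by simp [fnlA_bs], LinearMap.ker_smul _ _ (inv_ne_zero hi₀), hφ]

/-- A group with a linear representation on points acts on the proper space of lines; each rational point is
a line, and its stabilizer is the stabilizer of the line. -/
theorem exists_lineSpace {G : Over (Spec (CommRingCat.of k))} [GrpObj G]
    (Φ : ∀ A : CommAlgCat.{u} k, (Pt A ⟶ G) → Matrix (Fin n) (Fin n) A)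
    (hnat : ∀ (A B : CommAlgCat.{u} k) (φ : A ⟶ B) (g : Pt A ⟶ G), Φ B (ptMap φ ≫ g) = (Φ A g).map φ.hom)
    (hmul : ∀ (A : CommAlgCat.{u} k) (g h : Pt A ⟶ G), Φ A (g * h) = Φ A g * Φ A h)
    (hone : ∀ (A : CommAlgCat.{u} k), Φ A 1 = 1) (hn : 0 < n) :
    ∃ (X : Over (Spec (CommRingCat.of k))) (a : AlgGrp.Action G X),
      IsProper X.hom ∧ Nonempty X.left ∧ ∀ x : 𝟙_ (Over (Spec (CommRingCat.of k))) ⟶ X,
        ∃ (v : Fin n → k) (i₀ : Fin n), v i₀ = 1 ∧ ∀ (A : CommAlgCat.{u} k) (g : Pt A ⟶ G),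
        (lift g (toUnit _ ≫ x) ≫ a.act = toUnit _ ≫ x) ↔
          ∃ c : A, (Φ A g).mulVec (fun j => algebraMap k A (v j)) = fun i => algebraMap k A (v i) * c := by
  let X := grass k (Fin n → k) 1
  let e := fun A => pts k (Fin n → k) 1 A
  have he : Natural X e := fun A B φ g g' h => by
    obtain rfl := (left_eq_iff φ g g').mp h
    rw [Grassmannian.functor_map]
    exact pts_natural A B φ g
  have hprop : IsProper X.hom := isProper_free (e := e) hn he
  have he' : ∀ (A B : CommAlgCat.{u} k) (φ : A ⟶ B) (g : Pt A ⟶ X),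
      e B (ptMap φ ≫ g) = Grassmannian.map φ.hom (e A g) := fun A B φ g => pts_natural A B φ g
  have hinv : ∀ (A : CommAlgCat.{u} k) (g : Pt A ⟶ G), Φ A g⁻¹ * Φ A g = 1 ∧ Φ A g * Φ A g⁻¹ = 1 := fun A g =>
    ⟨by rw [← hmul, inv_mul_cancel, hone], by rw [← hmul, mul_inv_cancel, hone]⟩
  let act₀ : ∀ A : CommAlgCat.{u} k, (Pt A ⟶ G) → (Pt A ⟶ X) → (Pt A ⟶ X) := fun A g x =>
    (e A).symm (moveGr (e A x) (hinv A g).1 (hinv A g).2)
  have hact₀ : ∀ (A : CommAlgCat.{u} k) (g : Pt A ⟶ G) (x : Pt A ⟶ X),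
      (e A (act₀ A g x)).toSubmodule = (e A x).toSubmodule.map (tOp (Φ A g⁻¹)) := fun A g x =>
    congrArg Grassmannian.toSubmodule ((e A).apply_symm_apply _)
  have hnat₀ : ∀ (A B : CommAlgCat.{u} k) (φ : A ⟶ B) (g : Pt A ⟶ G) (x : Pt A ⟶ X),
      act₀ B (ptMap φ ≫ g) (ptMap φ ≫ x) = ptMap φ ≫ act₀ A g x := fun A B φ g x => by
    apply (e B).injective
    refine Grassmannian.ext ?_
    rw [hact₀, he', he', show (ptMap φ ≫ g)⁻¹ = ptMap φ ≫ g⁻¹ from (GrpObj.comp_inv _ _).symm, hnat]
    refine (map_moveGr φ.hom (e A x) (hinv A g).1 (hinv A g).2).symm.trans ?_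
    exact congrArg (fun N => (Grassmannian.map φ.hom N).toSubmodule) ((e A).apply_symm_apply _).symm
  obtain ⟨act, hact⟩ := exists_hom_of_pts (X := G ⊗ X) (Y := X)
    (fun A p => act₀ A (p ≫ fst G X) (p ≫ snd G X)) (fun A B φ p => by
      simp only [Category.assoc]
      exact hnat₀ A B φ _ _)
  have hlift : ∀ (A : CommAlgCat.{u} k) (g : Pt A ⟶ G) (x : Pt A ⟶ X), lift g x ≫ act = act₀ A g x := fun A g x => by
    rw [hact, lift_fst, lift_snd]
  let a : AlgGrp.Action G X :=
    { act := act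
      one_act := GrassRep.hom_ext _ _ fun A p => by
        have hp : p ≫ (η[G] ▷ X) = lift (1 : Pt A ⟶ G) (p ≫ snd _ _) := by
          apply CartesianMonoidalCategory.hom_ext
          · rw [Category.assoc, whiskerRight_fst, lift_fst, ← Category.assoc, Hom.one_def]
            congr 1
            exact toUnit_unique _ _
          · simp
        rw [← Category.assoc, hp, hlift, CartesianMonoidalCategory.leftUnitor_hom]
        apply (e A).injective
        refine Grassmannian.ext ?_
        rw [hact₀, inv_one, hone, show tOp (1 : Matrix (Fin n) (Fin n) A) = LinearMap.id from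
          LinearMap.ext (tOp_one (k := k)), Submodule.map_id]
      mul_act := GrassRep.hom_ext _ _ fun A p => by
        set g := p ≫ fst _ _ ≫ fst G G
        set h := p ≫ fst _ _ ≫ snd G G
        set x := p ≫ snd (G ⊗ G) X
        have hp1 : p ≫ (μ[G] ▷ X) = lift (g * h) x := by
          apply CartesianMonoidalCategory.hom_ext
          · rw [Category.assoc, whiskerRight_fst, lift_fst, show μ[G] = fst G G * snd G G by
              rw [Hom.mul_def, lift_fst_snd, Category.id_comp], MonObj.comp_mul, MonObj.comp_mul]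
          · simp [x]
        have hp2 : p ≫ (α_ G G X).hom ≫ G ◁ act = lift g (lift h x ≫ act) := by
          apply CartesianMonoidalCategory.hom_ext
          · simp [g]
          · rw [Category.assoc, Category.assoc, whiskerLeft_snd, lift_snd, ← Category.assoc, ← Category.assoc]
            congr 1
            apply CartesianMonoidalCategory.hom_ext <;> simp [h, x]
        have lhs : p ≫ μ[G] ▷ X ≫ act = act₀ A (g * h) x := by rw [← Category.assoc, hp1, hlift]
        have rhs : p ≫ (α_ G G X).hom ≫ G ◁ act ≫ act = act₀ A g (act₀ A h x) := by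
          rw [← Category.assoc (α_ G G X).hom, ← Category.assoc, hp2, hlift, hlift]
        rw [lhs, rhs]
        apply (e A).injective
        refine Grassmannian.ext ?_
        rw [hact₀, hact₀, hact₀, ← Submodule.map_comp, _root_.mul_inv_rev, hmul]
        congr 1
        exact LinearMap.ext fun z => tOp_mul _ _ z }
  let K₀ : CommAlgCat.{u} k := CommAlgCat.of k k
  let c₀ : 𝟙_ (Over (Spec (CommRingCat.of k))) ⟶ Pt K₀ := Over.homMk (𝟙 _) (by simp [K₀])
  let c₁ : Pt K₀ ⟶ 𝟙_ (Over (Spec (CommRingCat.of k))) := toUnit _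
  have hc : c₀ ≫ c₁ = 𝟙 _ := toUnit_unique _ _
  have hto : ∀ A : CommAlgCat.{u} k, toUnit (Pt A) ≫ c₀ = ptMap (CommAlgCat.ofHom (Algebra.ofId k A) : K₀ ⟶ A) := fun A => by
    apply Over.OverMorphism.ext
    show (toUnit (Pt A)).left ≫ 𝟙 _ = Spec.map _
    rw [Category.comp_id, Over.toUnit_left]
    rfl
  have hne : Nonempty X.left := by
    let o₀ := (e K₀).symm (vecGr (Pi.single ⟨0, hn⟩ 1) ⟨0, hn⟩ K₀ (by simp))
    exact ⟨(c₀ ≫ o₀).left (IsLocalRing.closedPoint k)⟩
  refine ⟨X, a, hprop, hne, fun x => ?_⟩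
  obtain ⟨v, i₀, hi, hN⟩ := exists_vecGr_eq (e K₀ (c₁ ≫ x))
  refine ⟨v, i₀, hi, fun A g => ?_⟩
  have ho : e A (toUnit _ ≫ x) = vecGr v i₀ A hi := by
    have h1 : toUnit (Pt A) ≫ x = ptMap (CommAlgCat.ofHom (Algebra.ofId k A) : K₀ ⟶ A) ≫ c₁ ≫ x := by
      rw [← hto, Category.assoc, ← Category.assoc c₀, hc, Category.id_comp]
    rw [h1, he', hN]
    exact map_vecGr v i₀ K₀ hi (Algebra.ofId k A)
  show lift g (toUnit _ ≫ x) ≫ act = toUnit _ ≫ x ↔ _
  rw [hlift]
  refine Iff.trans ?_ (map_tOp_eq_iff v i₀ A hi (hinv A g).2 (hinv A g).1)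
  constructor
  · intro h
    have := congrArg (fun y => (e A y).toSubmodule) h
    simpa only [hact₀, ho, vecGr] using this
  · intro h
    apply (e A).injective
    refine Grassmannian.ext ?_
    simpa only [hact₀, ho, vecGr] using h

end Groth.AlgGrp1.Line
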