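import Groth.Agent.AlgGrp1.MaxTorus
import Groth.Agent.AlgGrp1.CartanNilp
import Groth.Agent.AlgGrp1.RigidMT
import Groth.Agent.AlgGrp1.CartanDense
import Groth.Agent.Reductive.TorusMT

/-!
Normal subtori of connected groups are central.
-/

set_option autoImplicit false
set_option linter.style.haveILetI false
universe u

open CategoryTheory Limits MonoidalCategory CartesianMonoidalCategory MonObj GrpObj AlgebraicGeometry

noncomputable section

namespace Groth.AlgGrp1

variable {k : Type u} [Field k] [IsAlgClosed k]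

/-- A torus normalized by all rational points of a connected group is central. -/
theorem torus_central_of_normal {G T : Over (Spec (CommRingCat.of k))} [GrpObj G] [GrpObj T] [IsAffine G.left]
    [Smooth G.hom] [ConnectedSpace G.left] (iT : T ⟶ G) [IsMonHom iT] [Mono iT] (hT : Red.IsTorus T)
    (hnorm : ∀ g : 𝟙_ (Over (Spec (CommRingCat.of k))) ⟶ G, ∃ f : T ⟶ T, f ≫ iT = AGF.conjBy g iT)
    (X : Over (Spec (CommRingCat.of k))) (g : X ⟶ G) (x : X ⟶ T) : g * (x ≫ iT) = (x ≫ iT) * g := by
  obtain ⟨hTa, hTs, hTc⟩ := isAffine_smooth_connected_of_isTorus hT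
  haveI := isClosedImmersion_of_isTorus iT hT
  let cj : G ⊗ T ⟶ G := fst G T * (snd G T ≫ iT) * (fst G T)⁻¹
  have hcj : ∀ {W : Over (Spec (CommRingCat.of k))} (a : W ⟶ G) (s : W ⟶ T),
      lift a s ≫ cj = a * (s ≫ iT) * a⁻¹ := fun a s => by
    simp [cj, MonObj.comp_mul, GrpObj.comp_inv]
  have : Smooth (G ⊗ T).hom := smooth_tensor_over G T
  have := geometricallyReduced_of_smooth_hom (G ⊗ T)
  obtain ⟨φ, hφ⟩ := factor_of_sepClosed_points k iT cj fun t => by
    obtain ⟨f, hf⟩ := hnorm (unitSp.hom ≫ t ≫ fst G T)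
    refine ⟨(t ≫ snd G T) ≫ f, ?_⟩
    have ha : toUnit (specAlg k k) ≫ unitSp.hom ≫ t ≫ fst G T = t ≫ fst G T := by
      have h0 : toUnit (specAlg k k) ≫ unitSp.hom = 𝟙 _ := by
        rw [← cancel_mono (unitSp (k := k)).inv]
        exact toUnit_unique _ _
      exact (Category.assoc _ _ _).symm.trans ((congrArg (· ≫ t ≫ fst G T) h0).trans (Category.id_comp _))
    rw [Category.assoc, hf, comp_conjBy, ha]
    simp [cj, MonObj.comp_mul, GrpObj.comp_inv]
  have hlift : ∀ {W : Over (Spec (CommRingCat.of k))} (a : W ⟶ G) (s : W ⟶ T),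
      (lift a s ≫ φ) ≫ iT = a * (s ≫ iT) * a⁻¹ := fun a s => by rw [Category.assoc, hφ, hcj]
  have key := family_hom_const (Groth.Reductive.FreeDiag.isMultTypeFT_of_isTorus hT)
    (fun W a b => Groth.Reductive2.torus_mul_comm hT a b) φ
    (fun W a s s' => by
      rw [← cancel_mono iT, MonObj.mul_comp, hlift, hlift, hlift, MonObj.mul_comp]
      group)
    g x
  have h2 := congrArg (· ≫ iT) key
  simp only [hlift, _root_.one_mul, inv_one, _root_.mul_one] at h2
  exact mul_inv_eq_iff_eq_mul.1 h2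

end Groth.AlgGrp1
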