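import Groth.Agent.AlgGrp1.BorelCentralizer
import Groth.Agent.AlgGrp1.CartanNilp
import Groth.Agent.AlgGrp1.LineSpace
import Groth.Agent.AlgGrp1.NormalTorus
import Groth.Agent.S5260

/-!
Rational points normalizing a Borel subgroup lie in it.
-/

set_option autoImplicit false
set_option linter.style.haveILetI false
universe u

open CategoryTheory Limits MonoidalCategory CartesianMonoidalCategory MonObj GrpObj AlgebraicGeometry
open WithConv

noncomputable section

namespace Groth.AlgGrp1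

section Normalizes

variable {S : Scheme.{u}} {G H : Over S} [GrpObj G] [GrpObj H]

/-- A generalized point normalizing a subgroup. -/
def Normalizes (i : H ⟶ G) {X : Over S} (g : X ⟶ G) : Prop :=
  ∀ (X' : Over S) (x : X' ⟶ X) (h : X' ⟶ H),
    (∃ h' : X' ⟶ H, (x ≫ g) * (h ≫ i) * (x ≫ g)⁻¹ = h' ≫ i) ∧
      (∃ h' : X' ⟶ H, (x ≫ g)⁻¹ * (h ≫ i) * (x ≫ g) = h' ≫ i)

theorem Normalizes.mul {i : H ⟶ G} {X : Over S} {g g' : X ⟶ G} (hg : Normalizes i g) (hg' : Normalizes i g') :
    Normalizes i (g * g') := fun X' x h => by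
  rw [MonObj.comp_mul]
  obtain ⟨⟨a, ha⟩, -⟩ := hg' X' x h
  obtain ⟨⟨b, hb⟩, -⟩ := hg X' x a
  obtain ⟨-, ⟨a', ha'⟩⟩ := hg X' x h
  obtain ⟨-, ⟨b', hb'⟩⟩ := hg' X' x a'
  refine ⟨⟨b, ?_⟩, ⟨b', ?_⟩⟩
  · rw [← hb, ← ha]; group
  · rw [← hb', ← ha']; group

theorem Normalizes.inv {i : H ⟶ G} {X : Over S} {g : X ⟶ G} (hg : Normalizes i g) : Normalizes i g⁻¹ :=
  fun X' x h => by
    rw [GrpObj.comp_inv, _root_.inv_inv]
    exact ⟨(hg X' x h).2, (hg X' x h).1⟩

theorem Normalizes.comp {i : H ⟶ G} {X X' : Over S} {g : X ⟶ G} (hg : Normalizes i g) (y : X' ⟶ X) :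
    Normalizes i (y ≫ g) := fun X'' x h => by
  rw [← Category.assoc]
  exact hg X'' (x ≫ y) h

theorem normalizes_of_factor (i : H ⟶ G) [IsMonHom i] {X : Over S} (y : X ⟶ H) : Normalizes i (y ≫ i) :=
  fun X' x h => ⟨⟨(x ≫ y) * h * (x ≫ y)⁻¹, by simp only [MonObj.mul_comp, GrpObj.inv_comp, Category.assoc]⟩,
    ⟨(x ≫ y)⁻¹ * h * (x ≫ y), by simp only [MonObj.mul_comp, GrpObj.inv_comp, Category.assoc]⟩⟩

theorem Normalizes.exists_endo {i : H ⟶ G} {g : 𝟙_ (Over S) ⟶ G} (hg : Normalizes i g) :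
    ∃ e : H ⟶ H, e ≫ i = AGF.conjBy g i := by
  obtain ⟨⟨e, he⟩, -⟩ := hg H (toUnit H) (𝟙 H)
  rw [Category.id_comp] at he
  exact ⟨e, he.symm⟩

end Normalizes

variable {k : Type u} [Field k] [IsAlgClosed k]

/-- A torus is closed under isomorphisms of groups. -/
theorem isTorus_of_iso {T T' : Over (Spec (CommRingCat.of k))} [GrpObj T] [GrpObj T'] (e : T ≅ T')
    (he : IsMonHom e.hom) (hT : Red.IsTorus T) : Red.IsTorus T' := by
  obtain ⟨r, eT, heT⟩ := exists_diag_iso_of_isTorus hT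
  haveI := heT; haveI := he
  exact isTorus_of_diag_iso (eT ≪≫ e) (by rw [Iso.trans_hom]; infer_instance)

/-- The image of a torus is a torus. -/
theorem isTorus_of_surjective_hom {T K : Over (Spec (CommRingCat.of k))} [GrpObj T] [GrpObj K] [IsAffine K.left]
    [LocallyOfFiniteType K.hom] (hT : Red.IsTorus T) (g : T ⟶ K) [IsMonHom g] [Flat g.left] [Surjective g.left]
    (hcomm : ∀ (X : Over (Spec (CommRingCat.of k))) (a b : X ⟶ K), a * b = b * a) : Red.IsTorus K := by
  obtain ⟨hTa, hTs, hTc⟩ := isAffine_smooth_connected_of_isTorus hT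
  haveI := geometricallyReduced_of_smooth_hom T
  haveI := geometricallyReduced_of_flat_surjective g
  haveI : Smooth K.hom := Groth.GrpschAbsch.smooth_of_geometricallyReduced K
  haveI : ConnectedSpace K.left := connectedSpace_of_surjective g
  haveI := isReduced_left K
  obtain ⟨S, _, s, hsm, hsc, hS, habs⟩ := exists_torus_absorbing K ⟨1, fun X => by
    rw [derivedSeries_one, eq_bot_iff, commutator_def, Subgroup.commutator_le]
    intro p _ q _
    rw [Subgroup.mem_bot, commutatorElement_eq_one_iff_mul_comm]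
    exact hcomm X p q⟩
  haveI := hsm; haveI := hsc
  obtain ⟨b, f, hf⟩ := habs T g hT
  have hg : f ≫ s = g := by
    rw [hf]
    unfold AGF.conjBy
    rw [hcomm T (toUnit T ≫ b) g, mul_inv_cancel_right]
  have : Surjective s.left := ⟨fun z => by
    obtain ⟨w, hw⟩ := g.left.surjective z
    refine ⟨f.left.base w, ?_⟩
    rw [← Scheme.Hom.comp_apply, ← Over.comp_left, hg, hw]⟩
  have : IsIso s.left := isIso_of_isClosedImmersion_of_surjective s.left
  have : IsIso ((Over.forget _).map s) := this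
  have : IsIso s := isIso_of_reflects_iso s (Over.forget _)
  exact isTorus_of_iso (asIso s) (by rw [asIso_hom]; infer_instance) hS

/-- A function invariant under a subgroup with proper quotient is constant on points. -/
theorem fn_eq_of_invariant {C D X : Over (Spec (CommRingCat.of k))} [GrpObj C] [GrpObj D] [IsAffine C.left]
    [Smooth C.hom] [ConnectedSpace C.left] [Smooth D.hom] {iD : D ⟶ C} {a : AlgGrp.Action C X}
    {o : 𝟙_ (Over (Spec (CommRingCat.of k))) ⟶ X} (hX : AGF.IsQuotient iD X a o) [IsProper X.hom]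
    {A : Type u} [CommRing A] [HopfAlgebra k A] (eC : CoactBr.sp k A ≅ C) [IsMonHom eC.hom] (F : A)
    (hinv : ∀ g β : WithConv (A →ₐ[k] k), (∃ y, y ≫ iD = hopfPts eC β) → (g * β).ofConv F = g.ofConv F)
    (g : WithConv (A →ₐ[k] k)) : g.ofConv F = (1 : WithConv (A →ₐ[k] k)).ofConv F := by
  let P := hopfPts eC
  let Z := CoactBr.sp k (Polynomial k)
  have : IsAffine Z.left := inferInstanceAs (IsAffine (Spec (CommRingCat.of (Polynomial k))))
  have : IsSeparated Z.hom := inferInstance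
  let f : C ⟶ Z := eC.inv ≫ CoactBr.pt (Polynomial.aeval F)
  have hf : ∀ g : WithConv (A →ₐ[k] k), P g ≫ f = CoactBr.pt (Polynomial.aeval (g.ofConv F)) := by
    intro g
    show (CoactBr.pt g.ofConv ≫ eC.hom) ≫ eC.inv ≫ _ = _
    rw [Category.assoc, eC.hom_inv_id_assoc, ← CoactBr.pt_comp]
    congr 1
    exact Polynomial.algHom_ext (by simp)
  have := geometricallyReduced_of_smooth_hom C
  have : Smooth (C ⊗ D).hom := smooth_tensor_over C D
  have := geometricallyReduced_of_smooth_hom (C ⊗ D)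
  have hinv' : (fst C D * (snd C D ≫ iD)) ≫ f = fst C D ≫ f := eq_of_sepClosed_points k _ _ fun p => by
    obtain ⟨g, hg⟩ := hopfPts_surjective eC (p ≫ fst C D)
    obtain ⟨β, hβ⟩ := hopfPts_surjective eC ((p ≫ snd C D) ≫ iD)
    refine Eq.trans ?_ ((hf g).symm.trans ?_ |>.trans (Category.assoc _ _ _))
    · rw [← Category.assoc, MonObj.comp_mul, ← Category.assoc p]
      refine (congrArg (· ≫ f) (show _ = P (g * β) by rw [map_mul, hg, hβ]; rfl)).trans ?_
      rw [hf, hinv g β ⟨_, hβ.symm⟩]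
    · exact congrArg (· ≫ f) hg
  have e := eq_snd_of_invariant hX (fst C (𝟙_ _) ≫ f) fun W g h t => by
    have := congrArg (lift g h ≫ ·) hinv'
    rw [← Category.assoc (lift g h), lift_fst_assoc, MonObj.comp_mul, lift_fst, lift_snd_assoc] at this
    rw [lift_fst_assoc, lift_fst_assoc]
    exact this
  have e' := congrArg (lift (P g) (toUnit _) ≫ ·) e
  simp only [lift_fst_assoc, lift_snd_assoc] at e'
  rw [hf] at e'
  rw [← Category.assoc (toUnit (CoactBr.sp k k)), ← Category.assoc (toUnit (CoactBr.sp k k)),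
    MonObj.comp_one, show (1 : CoactBr.sp k k ⟶ C) = P 1 from (map_one P).symm, hf] at e'
  simpa using DFunLike.congr_fun (CoactBr.pt_injective e') Polynomial.X

variable {G B T : Over (Spec (CommRingCat.of k))} [GrpObj G] [GrpObj B] [GrpObj T] [IsAffine G.left]
  [Smooth G.hom]

omit [IsAffine G.left] in
/-- A power of a point normalizing a torus commutes with it. -/
theorem exists_pow_commute [QuasiCompact G.hom] (iT : T ⟶ G) [IsMonHom iT] [Mono iT] (hT : Red.IsTorus T)
    (n : 𝟙_ (Over (Spec (CommRingCat.of k))) ⟶ G) (hn : Normalizes iT n) :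
    ∃ j : ℕ, 0 < j ∧ AGF.conjBy (n ^ j) iT = iT := by
  haveI := isSeparated_grpObj G
  obtain ⟨-, N, _, nT, hN, hNc, hNs⟩ := Groth.Agent.S3006.result _ G T iT (isClosedImmersion_of_isTorus iT hT) hT
  haveI := hNc; haveI := hNs; haveI := hN.1
  haveI : IsSeparated N.hom := by rw [← Over.w nT]; infer_instance
  obtain ⟨ν, hν⟩ := (hN.2.2 _ n).2 hn
  have hQN : QuasiCompact N.hom := by rw [← Over.w nT]; infer_instance
  haveI := hQN
  haveI := isLocallyNoetherian_left N
  haveI : CompactSpace N.left := QuasiCompact.compactSpace_of_compactSpace N.hom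
  haveI : AlgebraicGeometry.IsNoetherian N.left := ⟨⟩
  have hfin : (irreducibleComponents N.left).Finite := TopologicalSpace.NoetherianSpace.finite_irreducibleComponents
  haveI := hfin.to_subtype
  let comp : ℕ → irreducibleComponents N.left := fun i =>
    ⟨irreducibleComponent (rpt (ν ^ i)), irreducibleComponent_mem_irreducibleComponents _⟩
  obtain ⟨i, l, hne, hil⟩ := Finite.exists_ne_map_eq_of_infinite comp
  wlog hlt : i < l generalizing i l
  · exact this l i hne.symm hil.symm (lt_of_le_of_ne (not_lt.1 hlt) hne.symm)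
  have hil' : irreducibleComponent (rpt (ν ^ i)) = irreducibleComponent (rpt (ν ^ l)) := congrArg Subtype.val hil
  obtain ⟨Y, y, hyc, hYr, hyr⟩ := exists_reduced_closedSet (irreducibleComponent (rpt (ν ^ i)))
    isClosed_irreducibleComponent
  haveI := hyc
  haveI : LocallyOfFiniteType Y.hom := by rw [← Over.w y]; infer_instance
  haveI : QuasiCompact Y.hom := by rw [← Over.w y]; infer_instance
  haveI : IsSeparated Y.hom := by rw [← Over.w y]; infer_instance
  haveI : PreconnectedSpace Y.left := by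
    rw [preconnectedSpace_iff_univ]
    refine y.left.isClosedEmbedding.isInducing.isPreconnected_image.1 ?_
    rw [Set.image_univ, hyr]
    exact isIrreducible_irreducibleComponent.isPreirreducible.isPreconnected
  obtain ⟨yi, hyi⟩ := exists_rpt_lift y (ν ^ i) (hyr ▸ mem_irreducibleComponent)
  obtain ⟨yl, hyl⟩ := exists_rpt_lift y (ν ^ l) (hyr ▸ (hil' ▸ mem_irreducibleComponent))
  obtain ⟨J, hJ⟩ := ((hN.2.2 Y (y ≫ nT)).1 ⟨y, rfl⟩ (Y ⊗ T) (fst Y T) (snd Y T)).1
  have hJl : ∀ {W : Over (Spec (CommRingCat.of k))} (a : W ⟶ Y) (s : W ⟶ T),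
      (lift a s ≫ J) ≫ iT = (a ≫ y ≫ nT) * (s ≫ iT) * (a ≫ y ≫ nT)⁻¹ := fun a s => by
    rw [Category.assoc, ← hJ]
    simp [MonObj.comp_mul, GrpObj.comp_inv]
  haveI : LocallyOfFiniteType T.hom := by
    obtain ⟨-, hTs, -⟩ := isAffine_smooth_connected_of_isTorus hT
    infer_instance
  have key := pointed_family_hom_const yi (Groth.Reductive.FreeDiag.isMultTypeFT_of_isTorus hT)
    (fun W a b => Groth.Reductive2.torus_mul_comm hT a b) J
    (fun W a s s' => by
      rw [← cancel_mono iT, MonObj.mul_comp (lift a s ≫ J), hJl, hJl, hJl, MonObj.mul_comp]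
      group)
    (toUnit T ≫ yl) (𝟙 T)
  have hpw : ∀ m : ℕ, (ν ^ m) ≫ nT = n ^ m := fun m => by
    induction m with
    | zero => rw [pow_zero, pow_zero, MonObj.one_comp]
    | succ m ih => rw [pow_succ, pow_succ, MonObj.mul_comp, ih, hν]
  have h2 := congrArg (· ≫ iT) key
  simp only [hJl, Category.id_comp, Category.assoc, reassoc_of% hyl, reassoc_of% hyi, hpw] at h2
  refine ⟨l - i, Nat.sub_pos_of_lt hlt, ?_⟩
  have h3 : AGF.conjBy (n ^ l) iT = AGF.conjBy (n ^ i) iT := h2
  have h4 : n ^ (l - i) = (n ^ i)⁻¹ * n ^ l := by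
    rw [eq_inv_mul_iff_mul_eq, ← pow_add, Nat.add_sub_cancel' hlt.le]
  rw [h4, ← conjBy_conjBy, h3, conjBy_conjBy, inv_mul_cancel, conjBy_one]

/-- A maximal torus of a solvable subgroup containing it, with retraction. -/
theorem exists_retraction_of_isMaxTorus {H : Over (Spec (CommRingCat.of k))} [GrpObj H] (iH : H ⟶ G)
    [IsMonHom iH] [IsClosedImmersion iH.left] [Smooth H.hom] [ConnectedSpace H.left] (hs : Red.IsSolvableGrp H)
    {iT : T ⟶ G} (hT : AGF.IsMaxTorus iT) (t : T ⟶ H) (ht : t ≫ iH = iT) :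
    IsMonHom t ∧ ∃ π : H ⟶ T, IsMonHom π ∧ t ≫ π = 𝟙 T ∧
      ∀ (U : Over (Spec (CommRingCat.of k))) [GrpObj U] (j : U ⟶ H) [IsMonHom j], Red.IsTorus U →
        ∃ b : 𝟙_ (Over (Spec (CommRingCat.of k))) ⟶ H, (j ≫ π) ≫ t = AGF.conjBy b j := by
  obtain ⟨hmT, hmoT, hTT, hmax⟩ := hT
  haveI := hmT; haveI := hmoT
  haveI : Mono iH := Over.mono_of_mono_left iH
  haveI : IsAffine H.left := isAffine_of_isAffineHom iH.left
  have htm : IsMonHom t := isMonHom_of_points _ fun W p q => by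
    rw [← cancel_mono iH, MonObj.mul_comp (p ≫ t), Category.assoc, Category.assoc, Category.assoc, ht,
      MonObj.mul_comp]
  exact ⟨htm, exists_retraction_maxTorus hs t hTT fun T' _ j _ _ f hT' hf =>
    hmax T' (j ≫ iH) f hT' (by rw [← Category.assoc, hf, ht])⟩

/-- **A rational point normalizing a Borel subgroup lies in it.** -/
theorem mem_borel_of_normalizes [ConnectedSpace G.left] {iB : B ⟶ G} (hB : Red.IsBorelOver k iB)
    (g : 𝟙_ (Over (Spec (CommRingCat.of k))) ⟶ G) (hg : Normalizes iB g) :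
    ∃ b : 𝟙_ (Over (Spec (CommRingCat.of k))) ⟶ B, b ≫ iB = g := by
  obtain ⟨T, _, t, hT⟩ := exists_maxTorus_of_borel hB
  have hB0 := hB
  obtain ⟨hmB, hcB, hsB, hnB, hsol, -⟩ := hB
  haveI := hmB; haveI := hcB; haveI := hsB; haveI := hnB
  haveI : Mono iB := Over.mono_of_mono_left iB
  haveI := hT.1; haveI := hT.2.1
  obtain ⟨htm, π, hπm, hπ, habs⟩ := exists_retraction_of_isMaxTorus iB hsol hT t rfl
  haveI := htm; haveI := hπm
  -- move the point so that it normalizes the torus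
  obtain ⟨e, he⟩ := hg.exists_endo
  haveI := isMonHom_conjBy g iB
  have hem : IsMonHom e := isMonHom_of_points _ fun W p q => by
    rw [← cancel_mono iB, MonObj.mul_comp (p ≫ e), Category.assoc, Category.assoc, Category.assoc, he,
      MonObj.mul_comp]
  haveI := hem
  obtain ⟨b₀, hb₀⟩ := habs T (t ≫ e) hT.2.2.1
  set n : 𝟙_ (Over (Spec (CommRingCat.of k))) ⟶ G := (b₀ ≫ iB) * g with hn
  have hnB' : Normalizes iB n := (normalizes_of_factor iB b₀).mul hg
  let f : T ⟶ T := (t ≫ e) ≫ π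
  have hf : f ≫ (t ≫ iB) = AGF.conjBy n (t ≫ iB) := by
    rw [← Category.assoc, hb₀, hn, ← conjBy_conjBy, ← comp_conjBy' t g iB, ← he]
    simp only [AGF.conjBy, MonObj.mul_comp, GrpObj.inv_comp, Category.assoc]
  haveI : IsIso f := (isMaxTorus_conjBy hT n).2.2.2 T (t ≫ iB) f hT.2.2.1 hf
  have hfinv : inv f ≫ (t ≫ iB) = AGF.conjBy n⁻¹ (t ≫ iB) := by
    rw [← cancel_epi f, IsIso.hom_inv_id_assoc, comp_conjBy', hf, conjBy_conjBy, inv_mul_cancel, conjBy_one]
  have hnT : Normalizes (t ≫ iB) n := fun X' x h => by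
    rw [toUnit_unique x (toUnit X')]
    refine ⟨⟨h ≫ f, ?_⟩, ⟨h ≫ inv f, ?_⟩⟩
    · rw [Category.assoc, hf, comp_conjBy]
    · rw [Category.assoc, hfinv, comp_conjBy, GrpObj.comp_inv, _root_.inv_inv]
  obtain ⟨jj, hjj, hjfix⟩ := exists_pow_commute (t ≫ iB) hT.2.2.1 n hnT
  -- the norm map
  obtain ⟨q, hq0, hqs⟩ : ∃ q : ℕ → (T ⟶ T), q 0 = 𝟙 T ∧ ∀ i, q (i + 1) = q i ≫ f :=
    ⟨fun i => Nat.rec (motive := fun _ => T ⟶ T) (𝟙 T) (fun _ r => r ≫ f) i, rfl, fun i => rfl⟩
  have hq : ∀ i, q i ≫ (t ≫ iB) = AGF.conjBy (n ^ i) (t ≫ iB) := fun i => by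
    induction i with
    | zero => rw [hq0, Category.id_comp, pow_zero, conjBy_one]
    | succ i ih => rw [hqs, Category.assoc, hf, comp_conjBy', ih, conjBy_conjBy, pow_succ']
  obtain ⟨nu, hν0, hνs⟩ : ∃ nu : ℕ → (T ⟶ T), nu 0 = 1 ∧ ∀ i, nu (i + 1) = nu i * q i :=
    ⟨fun i => Nat.rec (motive := fun _ => T ⟶ T) 1 (fun i r => r * q i) i, rfl, fun i => rfl⟩
  haveI hfm : IsMonHom f := inferInstanceAs (IsMonHom ((t ≫ e) ≫ π))
  have hqm : ∀ i, IsMonHom (q i) := fun i => by
    induction i with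
    | zero => rw [hq0]; infer_instance
    | succ i ih => rw [hqs]; infer_instance
  have hcomm : ∀ {W : Over (Spec (CommRingCat.of k))} (a b : W ⟶ T), a * b = b * a := fun a b =>
    Groth.Reductive2.torus_mul_comm hT.2.2.1 a b
  have hνm : ∀ i, IsMonHom (nu i) := fun i => by
    induction i with
    | zero => exact isMonHom_of_points _ fun W a b => by simp [hν0]
    | succ i ih =>
      haveI := ih; haveI := hqm i
      refine isMonHom_of_points _ fun W a b => ?_
      rw [hνs, MonObj.comp_mul, MonObj.comp_mul, MonObj.comp_mul, MonObj.mul_comp, MonObj.mul_comp]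
      rw [_root_.mul_assoc, ← _root_.mul_assoc (b ≫ nu i), hcomm (b ≫ nu i) (a ≫ q i)]
      simp only [_root_.mul_assoc]
  have hshift : ∀ i, (nu i ≫ f) * 𝟙 T = nu i * q i := fun i => by
    induction i with
    | zero => rw [hν0, hq0, MonObj.one_comp]
    | succ i ih =>
      rw [hνs, MonObj.mul_comp, ← hqs, _root_.mul_assoc, hcomm (q (i + 1)) (𝟙 T), ← _root_.mul_assoc, ih]
  have hqj : q jj = 𝟙 T := by
    rw [← cancel_mono (t ≫ iB), hq, hjfix, Category.id_comp]
  have hνf : nu jj ≫ f = nu jj := by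
    have := hshift jj
    rw [hqj] at this
    exact mul_right_cancel this
  -- the fixed torus
  obtain ⟨hTa, hTs, hTc⟩ := isAffine_smooth_connected_of_isTorus hT.2.2.1
  haveI := hνm jj
  haveI := hTa; haveI := hTs; haveI := hTc
  haveI : LocallyOfFiniteType T.hom := inferInstance
  haveI : QuasiCompact T.hom := inferInstance
  obtain ⟨K, _, cK, gK, hcKm, hcKc, hgKm, hKlft, hKqc, hgKf, hgKs, hgK⟩ := exists_image_hom (nu jj)
  haveI := hcKm; haveI := hcKc; haveI := hgKm; haveI := hgKf; haveI := hgKs; haveI := hKlft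
  haveI : Mono cK := Over.mono_of_mono_left cK
  haveI : IsAffine K.left := isAffine_of_isAffineHom cK.left
  have hK : Red.IsTorus K := isTorus_of_surjective_hom hT.2.2.1 gK fun X a b => by
    rw [← cancel_mono cK, MonObj.mul_comp, MonObj.mul_comp, hcomm]
  let iS : K ⟶ G := cK ≫ t ≫ iB
  haveI : Mono iS := inferInstanceAs (Mono (cK ≫ t ≫ iB))
  haveI : Epi gK := by
    haveI : QuasiCompact gK.left := by
      haveI : QuasiCompact (gK.left ≫ K.hom) := by rw [Over.w]; infer_instance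
      exact QuasiCompact.of_comp gK.left K.hom
    haveI : Epi gK.left := Flat.epi_of_flat_of_surjective gK.left
    exact (Over.forget _).epi_of_epi_map (inferInstance : Epi gK.left)
  have hKf : cK ≫ f = cK := by
    rw [← cancel_epi gK, ← Category.assoc, hgK, hνf]
  have hSfix : AGF.conjBy n iS = iS := by
    rw [show iS = cK ≫ (t ≫ iB) from rfl, ← comp_conjBy', ← hf, ← Category.assoc, hKf]
  obtain ⟨⟨C, _, c, hc, -, -⟩, -⟩ := Groth.Agent.S3006.result _ G K iS (isClosedImmersion_of_isTorus iS hK) hK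
  obtain ⟨hCs, hCc⟩ := smooth_centralizer_torus iS (isClosedImmersion_of_isTorus iS hK) hK c hc
  haveI := hCs; haveI := hCc; haveI := hc.1
  haveI : Mono c := hc.2.1
  haveI := connectedSpace_centralizer_torus iS hK c hc
  haveI : IsAffine C.left := isAffine_of_isAffineHom c.left
  obtain ⟨D, _, iD, d, hD, hsq, hpb⟩ := exists_borel_centralizer hB0 hT t rfl iS hK cK rfl hc
  obtain ⟨nC, hnC⟩ := (hc.2.2 _ n).2 fun W w s => by
    have h2 := congrArg (s ≫ ·) hSfix
    simp only [comp_conjBy] at h2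
    rw [toUnit_unique w (toUnit W)]
    exact mul_inv_eq_iff_eq_mul.1 h2
  obtain ⟨tC, htC⟩ := (hc.2.2 T (t ≫ iB)).2 fun W w s => by
    rw [show iS = cK ≫ (t ≫ iB) from rfl, ← Category.assoc s cK, ← MonObj.mul_comp, ← MonObj.mul_comp,
      hcomm w (s ≫ cK)]
  have hSC : ∀ {W : Over (Spec (CommRingCat.of k))} (s : W ⟶ K) (a : W ⟶ C),
      a * (s ≫ cK ≫ tC) = (s ≫ cK ≫ tC) * a := fun {W} s a => by
    have h := (hc.2.2 W (a ≫ c)).1 ⟨a, rfl⟩ W (𝟙 W) s
    rw [Category.id_comp] at h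
    rw [← cancel_mono c, MonObj.mul_comp, MonObj.mul_comp, Category.assoc, Category.assoc, htC]
    exact h
  -- the normalizer in the centralizer
  haveI : QuasiCompact B.hom := by rw [← Over.w iB]; infer_instance
  haveI : QuasiSeparated B.hom := by rw [← Over.w iB]; infer_instance
  obtain ⟨N, _, nB, hN, hNc, -⟩ := Groth.Agent.S5260.result G B (fun s => by
    have : Subsingleton (Spec (CommRingCat.of k) : Scheme.{u}) := inferInstanceAs (Subsingleton (PrimeSpectrum k))
    have e : B.hom ⁻¹' {s} = Set.univ := Set.eq_univ_of_forall fun _ => Subsingleton.elim _ _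
    haveI : ConnectedSpace (B.hom ⁻¹' {s} : Set B.left) := isConnected_iff_connectedSpace.1 (e ▸ isConnected_univ)
    exact (B.hom.fiberHomeo s).symm.surjective.connectedSpace (B.hom.fiberHomeo s).symm.continuous) iB
  haveI := hNc; haveI := hN.1
  obtain ⟨M, m₂, m₁, sqM⟩ : ∃ (M : Over (Spec (CommRingCat.of k))) (m₂ : M ⟶ N) (m₁ : M ⟶ C),
      IsPullback m₂ m₁ nB c := ⟨_, _, _, IsPullback.of_hasPullback nB c⟩
  haveI : Mono nB := hN.2.1
  haveI : Mono m₁ := sqM.mono_snd_of_mono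
  have hMmem : ∀ (W : Over (Spec (CommRingCat.of k))) (a : W ⟶ C),
      (∃ z, z ≫ m₁ = a) ↔ Normalizes iB (a ≫ c) := fun W a =>
    ⟨fun ⟨z, hz⟩ => (hN.2.2 W _).1 ⟨z ≫ m₂, by rw [Category.assoc, sqM.w, ← Category.assoc, hz]⟩,
      fun h => by
        obtain ⟨z, hz⟩ := (hN.2.2 W _).2 h
        exact ⟨sqM.lift z a hz, sqM.lift_snd z a hz⟩⟩
  obtain ⟨_, hm₁⟩ := Groth.Agf.exists_grpObj_of_subgroup m₁ (fun W a => Normalizes iB (a ≫ c)) hMmem
    (fun W => by
      rw [MonObj.one_comp]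
      have := normalizes_of_factor iB (1 : W ⟶ B)
      rwa [MonObj.one_comp] at this)
    (fun W a b ha hb => by rw [MonObj.mul_comp]; exact ha.mul hb)
    (fun W a ha => by rw [GrpObj.inv_comp]; exact ha.inv)
  haveI := hm₁
  haveI : IsClosedImmersion m₁.left :=
    MorphismProperty.of_isPullback (sqM.map (Over.forget _)) ‹IsClosedImmersion nB.left›
  obtain ⟨A, _, _, _, eC, heC⟩ := exists_hopf_iso C
  haveI := heC
  have : IsClosedImmersion (m₁ ≫ eC.inv).left := by
    have : IsIso eC.inv.left := inferInstanceAs (IsIso ((Over.forget _).map eC.inv))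
    rw [Over.comp_left]; infer_instance
  obtain ⟨I, _, hI⟩ := exists_hopfIdeal (m₁ ≫ eC.inv)
  obtain ⟨nn, m, w, hmc, hme, hw, hrep⟩ := exists_mat_stabilizer (k := k) I
  obtain ⟨F, χ, hF0, hF1, hχ1, hχm, hχt, hFinv⟩ := exists_invariant_fn m w hw hmc hme
  let P := hopfPts eC
  have hPM : ∀ g : WithConv (A →ₐ[k] k), (∃ c : k, ptAct m g w = c • w) ↔ Normalizes iB (P g ≫ c) := by
    intro g
    have h1 : (∃ c : k, ptAct m g w = c • w) ↔
        ∃ c : k, (m.map g.ofConv).mulVec (fun j => algebraMap k k (w j)) = fun i => algebraMap k k (w i) * c := by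
      refine exists_congr fun c => ?_
      simp only [Algebra.algebraMap_self, RingHom.id_apply]
      constructor
      · intro h; funext i
        rw [_root_.mul_comm]
        exact congrFun h i
      · intro h; funext i
        rw [show ptAct m g w i = w i * c from congrFun h i, _root_.mul_comm]
        rfl
    rw [h1, ← hrep k g.ofConv, hI k g.ofConv, ← hMmem]
    refine exists_congr fun y => ?_
    rw [← Category.assoc, ← cancel_mono eC.hom, Category.assoc (y ≫ m₁), Iso.inv_hom_id, Category.comp_id]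
    rfl
  let Φ : A := χ ^ jj
  -- the character kills the torus
  have hTM : ∀ τ : CoactBr.sp k k ⟶ T, Normalizes iB ((τ ≫ tC) ≫ c) := fun τ => by
    rw [Category.assoc, htC, ← Category.assoc]
    exact normalizes_of_factor iB (τ ≫ t)
  obtain ⟨ν₀, hν₀⟩ := hopfPts_surjective eC (toUnit (CoactBr.sp k k) ≫ nC)
  have hν₀M : Normalizes iB (P ν₀ ≫ c) := by
    show Normalizes iB (hopfPts eC ν₀ ≫ c)
    rw [hν₀, Category.assoc, hnC]
    exact hnB'.comp _
  have hν₀i : ∀ i : ℕ, Normalizes iB (P (ν₀ ^ i) ≫ c) := fun i => by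
    induction i with
    | zero =>
      rw [pow_zero, map_one, MonObj.one_comp]
      have := normalizes_of_factor iB (1 : CoactBr.sp k k ⟶ B)
      rwa [MonObj.one_comp] at this
    | succ i ih => rw [pow_succ, map_mul, MonObj.mul_comp]; exact ih.mul hν₀M
  have hχv : ∀ x y : WithConv (A →ₐ[k] k), Normalizes iB (P x ≫ c) → Normalizes iB (P y ≫ c) →
      (x * y).ofConv χ = x.ofConv χ * y.ofConv χ := fun x y hx hy => hχm x y ((hPM x).2 hx) ((hPM y).2 hy)
  have hχ1' : (1 : WithConv (A →ₐ[k] k)).ofConv χ = 1 := by simpa [AlgHom.convOne_apply] using hχ1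
  have hχconj : ∀ x y : WithConv (A →ₐ[k] k), Normalizes iB (P x ≫ c) → Normalizes iB (P y ≫ c) →
      (x * y * x⁻¹).ofConv χ = y.ofConv χ := fun x y hx hy => by
    have hxy : Normalizes iB (P (x * y) ≫ c) := by rw [map_mul, MonObj.mul_comp]; exact hx.mul hy
    have hxi : Normalizes iB (P x⁻¹ ≫ c) := by rw [map_inv, GrpObj.inv_comp]; exact hx.inv
    have h0 := hχv x x⁻¹ hx hxi
    rw [mul_inv_cancel, hχ1'] at h0
    rw [hχv _ _ hxy hxi, hχv x y hx hy, _root_.mul_comm (x.ofConv χ), _root_.mul_assoc, ← h0, _root_.mul_one]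
  have hχT : ∀ (β : WithConv (A →ₐ[k] k)) (τ : CoactBr.sp k k ⟶ T), P β = τ ≫ tC → β.ofConv Φ = 1 := by
    intro β τ hβ
    have hpw : ∀ i : ℕ, ((P ν₀) ^ i) ≫ c = toUnit _ ≫ n ^ i := fun i => by
      induction i with
      | zero => rw [pow_zero, pow_zero, MonObj.one_comp, MonObj.comp_one]
      | succ i ih =>
        rw [pow_succ, pow_succ, MonObj.mul_comp, MonObj.comp_mul, ih]
        show _ * hopfPts eC ν₀ ≫ c = _
        rw [hν₀, Category.assoc, hnC]
    have hβM : Normalizes iB (P β ≫ c) := by rw [hβ]; exact hTM τ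
    -- the orbit of the point
    have hqv : ∀ i, ∀ gm : WithConv (A →ₐ[k] k), P gm = (τ ≫ q i) ≫ tC → gm.ofConv χ = β.ofConv χ := by
      intro i gm hgm
      have e1 : gm = ν₀ ^ i * β * (ν₀ ^ i)⁻¹ := by
        refine hopfPts_injective eC ?_
        show P gm = P _
        rw [hgm, map_mul, map_mul, map_inv, map_pow, hβ, ← cancel_mono c]
        rw [Category.assoc, htC, Category.assoc, hq, comp_conjBy, MonObj.mul_comp, MonObj.mul_comp,
          GrpObj.inv_comp, hpw, Category.assoc τ tC, htC]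
      rw [e1, hχconj _ _ (hν₀i i) hβM]
    have hνv : ∀ i, ∀ gm : WithConv (A →ₐ[k] k), P gm = (τ ≫ nu i) ≫ tC →
        Normalizes iB (P gm ≫ c) ∧ gm.ofConv χ = β.ofConv χ ^ i := by
      intro i
      induction i with
      | zero =>
        intro gm hgm
        refine ⟨by rw [hgm]; exact hTM _, ?_⟩
        have htCm : IsMonHom tC := isMonHom_of_points _ fun W a b => by
          rw [← cancel_mono c, MonObj.mul_comp (a ≫ tC), Category.assoc, Category.assoc, Category.assoc, htC,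
            MonObj.mul_comp]
        rw [hν0, MonObj.comp_one, MonObj.one_comp, ← map_one P] at hgm
        rw [hopfPts_injective eC hgm, pow_zero, hχ1']
      | succ i ih =>
        intro gm hgm
        refine ⟨by rw [hgm]; exact hTM _, ?_⟩
        have htCm : IsMonHom tC := isMonHom_of_points _ fun W a b => by
          rw [← cancel_mono c, MonObj.mul_comp (a ≫ tC), Category.assoc, Category.assoc, Category.assoc, htC,
            MonObj.mul_comp]
        rw [hνs, MonObj.comp_mul, MonObj.mul_comp] at hgm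
        obtain ⟨gm₁, hgm₁⟩ := hopfPts_surjective eC ((τ ≫ nu i) ≫ tC)
        obtain ⟨gm₂, hgm₂⟩ := hopfPts_surjective eC ((τ ≫ q i) ≫ tC)
        have hgm' : gm = gm₁ * gm₂ := hopfPts_injective eC (by
          show P gm = _
          rw [hgm, map_mul, hgm₁, hgm₂])
        obtain ⟨hn₁, hv₁⟩ := ih gm₁ hgm₁
        have hn₂ : Normalizes iB (P gm₂ ≫ c) := by
          show Normalizes iB (hopfPts eC gm₂ ≫ c)
          rw [hgm₂]; exact hTM _
        rw [hgm', hχv _ _ hn₁ hn₂, hv₁, hqv i gm₂ hgm₂, pow_succ]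
    obtain ⟨gm, hgm⟩ := hopfPts_surjective eC ((τ ≫ nu jj) ≫ tC)
    obtain ⟨hγn, hγv⟩ := hνv jj gm hgm
    show β.ofConv (χ ^ jj) = 1
    rw [map_pow, ← hγv]
    refine hχt gm ((hPM gm).2 hγn) fun x => hopfPts_injective eC ?_
    rw [map_mul, map_mul, hgm, ← hgK, Category.assoc, Category.assoc]
    have := hSC (τ ≫ gK) (hopfPts eC x)
    rw [Category.assoc] at this
    exact this.symm
  -- characters on the Borel subgroup of the centralizer
  obtain ⟨hmD, hcD, hsD, hnD, hsolD, -⟩ := id hD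
  haveI := hmD; haveI := hcD; haveI := hsD; haveI := hnD
  haveI : Mono iD := Over.mono_of_mono_left iD
  haveI : IsAffine D.left := isAffine_of_isAffineHom iD.left
  have hDM : ∀ y : CoactBr.sp k k ⟶ D, Normalizes iB ((y ≫ iD) ≫ c) := fun y => by
    rw [Category.assoc, hsq, ← Category.assoc]
    exact normalizes_of_factor iB (y ≫ d)
  obtain ⟨tD, -, htD⟩ : ∃ tD : T ⟶ D, tD ≫ d = t ∧ tD ≫ iD = tC :=
    ⟨hpb.lift t tC htC.symm, hpb.lift_fst _ _ _, hpb.lift_snd _ _ _⟩
  haveI : IsClosedImmersion (iD ≫ c).left := by rw [Over.comp_left]; infer_instance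
  obtain ⟨-, πD, hπDm, -, habsD⟩ := exists_retraction_of_isMaxTorus (iD ≫ c) hsolD hT tD
    (by rw [← Category.assoc, htD, htC])
  haveI := hπDm
  obtain ⟨AD, _, _, _, eD, heD⟩ := exists_hopf_iso D
  haveI := heD
  obtain ⟨φ, hφ⟩ := exists_bialgHom_of_isMonHom (eD.hom ≫ iD ≫ eC.inv)
  let r : WithConv (AD →ₐ[k] k) →* WithConv (A →ₐ[k] k) := convPre (k := k) φ
  have hr : ∀ β, P (r β) = hopfPts eD β ≫ iD := fun β => by
    show CoactBr.pt (β.ofConv.comp (φ : A →ₐ[k] AD)) ≫ eC.hom = _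
    rw [CoactBr.pt_comp, hφ, hopfPts_apply]
    simp
  have hrM : ∀ β, Normalizes iB (P (r β) ≫ c) := fun β => by rw [hr]; exact hDM _
  have hΦD : ∀ y : CoactBr.sp k k ⟶ D, ∀ β : WithConv (A →ₐ[k] k), P β = y ≫ iD → β.ofConv Φ = 1 := by
    intro y β hβ
    obtain ⟨β', rfl⟩ := hopfPts_surjective eD y
    rw [← hr] at hβ
    rw [hopfPts_injective eC hβ]
    refine eq_one_of_char hsolD eD (φ Φ) ?_ ?_ ?_ β'
    · have h : Coalgebra.counit (R := k) Φ = 1 := by
        show Bialgebra.counitAlgHom k A (χ ^ jj) = 1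
        rw [map_pow, Bialgebra.counitAlgHom_apply, hχ1, one_pow]
      rw [← h]
      exact CoalgHomClass.counit_comp_apply φ Φ
    · intro x z
      show (r (x * z)).ofConv (χ ^ jj) = (r x).ofConv (χ ^ jj) * (r z).ofConv (χ ^ jj)
      rw [map_mul, map_pow, map_pow, map_pow, hχv _ _ (hrM x) (hrM z), mul_pow]
    · intro U _ j _ hU x s hsj
      obtain ⟨b, hb⟩ := habsD U j hU
      obtain ⟨bD, hbD⟩ := hopfPts_surjective eD (toUnit (CoactBr.sp k k) ≫ b)
      have e1 : hopfPts eD (bD * x * bD⁻¹) = ((s ≫ j) ≫ πD) ≫ tD := by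
        rw [map_mul, map_mul, map_inv, hbD, ← hsj, Category.assoc, Category.assoc, ← Category.assoc j, hb, comp_conjBy]
      have h0 := hχT (r (bD * x * bD⁻¹)) ((s ≫ j) ≫ πD) (by rw [hr, e1, Category.assoc, htD])
      rw [map_mul, map_mul, map_inv] at h0
      show (r x).ofConv (χ ^ jj) = 1
      rw [map_pow, ← hχconj _ _ (hrM bD) (hrM x), ← map_pow]
      exact h0
  -- every point of the centralizer normalizes the Borel subgroup
  have : QuasiCompact D.hom := by rw [← Over.w iD]; infer_instance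
  obtain ⟨XD, aD, oD, hq1⟩ := Groth.Agent.S3279.result k C D iD
  have hXD : AGF.IsQuotient iD XD aD oD := ⟨hq1.1, hq1.2.2.1, hq1.2.2.2.1, hq1.2.2.2.2⟩
  haveI : IsProper XD.hom := isProper_quotient_borel hD hXD
  have hall : ∀ x : WithConv (A →ₐ[k] k), Normalizes iB (P x ≫ c) := by
    intro x
    rw [← hPM]
    by_contra hne
    have hnm : ptAct m x w ∉ k ∙ w := fun h => hne (by
      obtain ⟨c, hc'⟩ := Submodule.mem_span_singleton.1 h
      exact ⟨c, hc'.symm⟩)
    obtain ⟨φ', hφ', hker⟩ := Submodule.exists_dual_map_eq_bot_of_notMem hnm inferInstance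
    have hφw : φ' w = 0 := by
      have : φ' w ∈ (k ∙ w).map φ' := Submodule.mem_map_of_mem (Submodule.mem_span_singleton_self w)
      rw [hker] at this
      exact this
    have hconst := fn_eq_of_invariant hXD eC (F φ' ^ jj) (fun y β hβ => by
      obtain ⟨z, hz⟩ := hβ
      have hβM : Normalizes iB (P β ≫ c) := by
        show Normalizes iB (hopfPts eC β ≫ c)
        rw [← hz]; exact hDM z
      have h1 : β.ofConv χ ^ jj = 1 := (map_pow _ _ _).symm.trans (hΦD z β hz.symm)
      rw [map_pow, map_pow, hFinv φ' y β ((hPM β).2 hβM), mul_pow, h1, _root_.mul_one]) x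
    rw [map_pow, map_pow, hF1 φ' hφw, zero_pow hjj.ne'] at hconst
    exact hφ' (hF0 φ' x hφw (eq_zero_of_pow_eq_zero hconst))
  -- conclusion
  obtain ⟨x, b, hxb⟩ := exists_conj_mem hD nC
  obtain ⟨xA, hxA⟩ := hopfPts_surjective eC (toUnit (CoactBr.sp k k) ≫ x)
  have hxN : Normalizes iB (x ≫ c) := by
    have h1 : Normalizes iB ((toUnit (CoactBr.sp k k) ≫ x) ≫ c) := hxA ▸ hall xA
    have h2 := h1.comp (unitSp (k := k)).hom
    rwa [← Category.assoc, ← Category.assoc, toUnit_unique ((unitSp (k := k)).hom ≫ toUnit _) (𝟙 _),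
      Category.id_comp] at h2
  obtain ⟨⟨h', hh'⟩, -⟩ := hxN _ (𝟙 _) (b ≫ d)
  rw [Category.id_comp, Category.assoc, ← hsq, ← Category.assoc, ← GrpObj.inv_comp, ← MonObj.mul_comp,
    ← MonObj.mul_comp, hxb, hnC, hn] at hh'
  exact ⟨b₀⁻¹ * h', by rw [MonObj.mul_comp, GrpObj.inv_comp, ← hh', inv_mul_cancel_left]⟩

end Groth.AlgGrp1
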