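import Groth.Agent.AlgGrp1.CartanBorel
import Groth.Agent.AlgGrp1.BorelConj
import Groth.Agent.S3279

/-!
The conjugates of a Borel subgroup cover the group.
-/

set_option autoImplicit false
set_option linter.style.haveILetI false
universe u

open CategoryTheory Limits MonoidalCategory CartesianMonoidalCategory MonObj GrpObj AlgebraicGeometry

noncomputable section

namespace Groth.AlgGrp1

variable {k : Type u} [Field k] [IsAlgClosed k] {G B : Over (Spec (CommRingCat.of k))} [GrpObj G] [GrpObj B]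
  [IsAffine G.left] [Smooth G.hom] [ConnectedSpace G.left] {iB : B ⟶ G}

/-- A maximal torus inside a given Borel subgroup. -/
theorem exists_maxTorus_of_borel (hB : Red.IsBorelOver k iB) :
    ∃ (T : Over (Spec (CommRingCat.of k))) (_ : GrpObj T) (t : T ⟶ B), AGF.IsMaxTorus (t ≫ iB) := by
  have := hB.1
  have := hB.2.1
  obtain ⟨S, _, s, hsm, hsc, hS, -, habs⟩ := exists_torus_absorbing_of_borel hB
  have : IsClosedImmersion (s ≫ iB).left := by rw [Over.comp_left]; infer_instance
  exact ⟨S, inferInstance, s, (isMaxTorus_of_absorbing (s ≫ iB) hS habs).1⟩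

/-- **Every rational point is conjugate into the Borel subgroup.** -/
theorem exists_conj_mem (hB : Red.IsBorelOver k iB) (g : 𝟙_ (Over (Spec (CommRingCat.of k))) ⟶ G) :
    ∃ (x : 𝟙_ (Over (Spec (CommRingCat.of k))) ⟶ G) (b : 𝟙_ (Over (Spec (CommRingCat.of k))) ⟶ B),
      x * (b ≫ iB) * x⁻¹ = g := by
  obtain ⟨T, _, t, hT⟩ := exists_maxTorus_of_borel hB
  have := hB.1; have := hB.2.1; have := hB.2.2.1
  have := hT.1; have := hT.2.1
  obtain ⟨⟨C, _, c, hc, -, -⟩, -⟩ := Groth.Agent.S3006.result _ G T (t ≫ iB)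
    (isClosedImmersion_of_isTorus _ hT.2.2.1) hT.2.2.1
  obtain ⟨fC, hfC⟩ := centralizer_le_borelOver hT hc hB t rfl
  obtain ⟨U, hUne, hU⟩ := exists_open_conj_centralizer (t ≫ iB) hT.2.2.1 c hc
  have : Mono iB := Over.mono_of_mono_left iB
  have : QuasiCompact B.hom := by rw [← Over.w iB]; infer_instance
  obtain ⟨X, a, o, h₁⟩ := Groth.Agent.S3279.result k G B iB
  have hX : AGF.IsQuotient iB X a o := ⟨h₁.1, h₁.2.2.1, h₁.2.2.2.1, h₁.2.2.2.2⟩
  have hp : IsProper X.hom := isProper_quotient_borel hB hX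
  -- the fixed points
  obtain ⟨E, ε, hεc, hε⟩ := exists_equalizer a.act (snd G X)
  let π : E ⟶ G := ε ≫ fst G X
  have : IsProper (fst G X).left := MorphismProperty.pullback_fst (P := @IsProper) _ _ hp
  have : IsProper π.left := by
    show IsProper (ε ≫ fst G X).left
    rw [Over.comp_left]; infer_instance
  have hclosed : IsClosed (Set.range π.left.base) := π.left.isClosedMap.isClosed_range
  let μ' : G ⊗ B ⟶ G := fst G B * (snd G B ≫ iB) * (fst G B)⁻¹
  obtain ⟨φ, hφ⟩ := (hε _ (lift μ' (fst G B ≫ a.orbitMap o))).2 (by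
    rw [lift_snd, comp_orbit, ← a.lift_mul_act, ← comp_orbit]
    rw [← comp_orbit]
    exact ((comp_orbit_eq_iff hX _ (fst G B) (μ' * fst G B)).2 ⟨snd G B, inv_mul_cancel_right _ _⟩).symm)
  have hsub : Set.range μ'.left.base ⊆ Set.range π.left.base := by
    rintro _ ⟨y, rfl⟩
    refine ⟨φ.left.base y, ?_⟩
    have : φ ≫ π = μ' := by rw [← Category.assoc, hφ, lift_fst]
    rw [← this]; rfl
  have hUsub : (U : Set G.left) ⊆ Set.range π.left.base := fun z hz => hsub (by
    obtain ⟨y, hy⟩ := hU hz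
    refine ⟨(G ◁ fC).left.base y, ?_⟩
    rw [← hy, ← Scheme.Hom.comp_apply, ← Over.comp_left]
    congr 3
    simp [μ', MonObj.comp_mul, GrpObj.comp_inv, hfC])
  have := irreducibleSpace_of_connected G
  have huniv : Set.range π.left.base = Set.univ :=
    Set.univ_subset_iff.1 ((U.2.dense hUne).closure_eq ▸ closure_minimal hUsub hclosed)
  have : LocallyOfFiniteType E.hom := by rw [← Over.w π]; infer_instance
  obtain ⟨e, he⟩ := exists_rpt_lift π g (by
    have := Set.mem_univ (rpt g)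
    rw [← huniv] at this
    exact this)
  have hfix := (hε _ (e ≫ ε)).1 ⟨e, rfl⟩
  obtain ⟨y, hy⟩ := exists_rpt_lift (a.orbitMap o) ((e ≫ ε) ≫ snd G X) (hX.2.2.1.surj _)
  have hg : (e ≫ ε) ≫ fst G X = g := by rw [Category.assoc]; exact he
  have h2 : (g * y) ≫ a.orbitMap o = y ≫ a.orbitMap o := by
    rw [comp_orbit, a.lift_mul_act, ← comp_orbit, hy]
    rw [← hg]
    refine Eq.trans ?_ hfix
    rw [← comp_lift_assoc, lift_fst_snd, Category.id_comp]
  obtain ⟨h, hh⟩ := (comp_orbit_eq_iff hX _ _ _).1 h2.symm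
  exact ⟨y, h, by rw [← hh, mul_inv_cancel_right]⟩

end Groth.AlgGrp1
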