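import Groth.Agent.AlgGrp1.BorelImage

/-!
Borel subgroups mapping onto a given Borel subgroup.
-/

set_option autoImplicit false
universe u

open CategoryTheory Limits MonoidalCategory CartesianMonoidalCategory MonObj GrpObj AlgebraicGeometry

noncomputable section

namespace Groth.AlgGrp1

variable {k : Type u} [Field k] [IsAlgClosed k] {G Q : Over (Spec (CommRingCat.of k))} [GrpObj G] [IsAffine G.left]
  [Smooth G.hom] [ConnectedSpace G.left] [GrpObj Q] [IsAffine Q.left] [Smooth Q.hom] [ConnectedSpace Q.left]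

omit [GrpObj Q] [IsAffine Q.left] [Smooth Q.hom] [ConnectedSpace Q.left] in
/-- Conjugates of Borel subgroups are Borel subgroups. -/
theorem isBorelOver_conj {B : Over (Spec (CommRingCat.of k))} [GrpObj B] {iB : B ⟶ G} (hB : Red.IsBorelOver k iB)
    (x : 𝟙_ (Over (Spec (CommRingCat.of k))) ⟶ G) : Red.IsBorelOver k (AGF.conjBy x iB) := by
  obtain ⟨hm, hc, hsm, hcn, hs, -⟩ := id hB
  have := isMonHom_conjBy x iB
  have := isClosedImmersion_conjBy x iB
  have : Mono iB := Over.mono_of_mono_left iB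
  have : Mono (AGF.conjBy x iB) := Over.mono_of_mono_left _
  have : LocallyOfFiniteType B.hom := by rw [← Over.w iB]; infer_instance
  have : QuasiCompact B.hom := by rw [← Over.w iB]; infer_instance
  obtain ⟨X₀, a₀, o₀, h₀⟩ := Groth.Agent.S3279.result k G B iB
  have h₀' : AGF.IsQuotient iB X₀ a₀ o₀ := ⟨h₀.1, h₀.2.2.1, h₀.2.2.2.1, h₀.2.2.2.2⟩
  have := isProper_quotient_borel hB h₀'
  obtain ⟨X₁, a₁, o₁, h₁⟩ := Groth.Agent.S3279.result k G B (AGF.conjBy x iB)
  have h₁' : AGF.IsQuotient (AGF.conjBy x iB) X₁ a₁ o₁ := ⟨h₁.1, h₁.2.2.1, h₁.2.2.2.1, h₁.2.2.2.2⟩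
  have := isProper_quotient_conj (Iso.refl B) x⁻¹
    (by rw [Iso.refl_hom, Category.id_comp, conjBy_conjBy, inv_mul_cancel, conjBy_one]) h₁' h₀'
  exact isBorelOver_of_proper _ hs h₁'

/-- **A Borel subgroup of a quotient is the image of a Borel subgroup.** -/
theorem exists_borel_lift (q : G ⟶ Q) [IsMonHom q] [Surjective q.left] {B' : Over (Spec (CommRingCat.of k))} [GrpObj B']
    {iB' : B' ⟶ Q} (hB' : Red.IsBorelOver k iB') :
    ∃ (B : Over (Spec (CommRingCat.of k))) (_ : GrpObj B) (iB : B ⟶ G) (p : B ⟶ B'),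
      Red.IsBorelOver k iB ∧ Surjective p.left ∧ p ≫ iB' = iB ≫ q := by
  obtain ⟨B, instB, iB, _, X, a, o, hB, hX, _⟩ := exists_borel_proper (G := G)
  have : IsClosedImmersion iB.left := hB.2.1
  have : Smooth B.hom := hB.2.2.1
  obtain ⟨B₁, _, i₁, _, p, hci, hred, hp, he⟩ := exists_image (q := q) iB
  have h₁ := isBorelOver_image (iB' := i₁) hB p he
  obtain ⟨g, f, hf⟩ := borel_conj h₁ hB'
  obtain ⟨x, hx⟩ := exists_rpt_lift q g (q.left.surjective _)
  have : IsIso f.hom.left := inferInstanceAs (IsIso ((Over.forget _).map f.hom))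
  refine ⟨B, instB, AGF.conjBy x iB, p ≫ f.hom, isBorelOver_conj hB x, by rw [Over.comp_left]; infer_instance, ?_⟩
  rw [Category.assoc, hf, comp_conjBy', he]
  unfold AGF.conjBy
  rw [MonObj.mul_comp, MonObj.mul_comp, GrpObj.inv_comp, Category.assoc, hx]

end Groth.AlgGrp1
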