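import Groth.Agent.AlgGrp1.RigidMT

/-!
A connected pointed family of homomorphisms of groups of multiplicative type is constant.
-/

set_option autoImplicit false
universe u

open CategoryTheory Limits MonoidalCategory CartesianMonoidalCategory MonObj GrpObj AlgebraicGeometry
open Groth.AlgGrp2

noncomputable section

namespace Groth.AlgGrp1

variable {k : Type u} [Field k]

/-- **Rigidity**: a family of homomorphisms into a separated group, parametrized by a connected group and
trivial at the unit, from a group of multiplicative type, is trivial. -/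
theorem pointed_family_hom_eq_one {G H N : Over (Spec (CommRingCat.of k))} [GrpObj H] [GrpObj N]
    [LocallyOfFiniteType G.hom] [QuasiCompact G.hom] [PreconnectedSpace G.left] [LocallyOfFiniteType N.hom] [IsSeparated G.hom] (y₀ : 𝟙_ (Over (Spec (CommRingCat.of k))) ⟶ G)
    (hH : SGA3x.IsMultTypeFT H) (ψ : G ⊗ H ⟶ N)
    (hψ : ∀ (T : Over (Spec (CommRingCat.of k))) (g : T ⟶ G) (h h' : T ⟶ H),
      lift g (h * h') ≫ ψ = (lift g h ≫ ψ) * (lift g h' ≫ ψ))
    (h1 : ∀ (T : Over (Spec (CommRingCat.of k))) (h : T ⟶ H), lift (toUnit T ≫ y₀) h ≫ ψ = 1) : ψ = 1 := by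
  have := isSeparated_grpObj N
  let φ : G.left ⟶ Spec (CommRingCat.of k) := G.hom
  let tg : ∀ W : Over G.left, (Over.map φ).obj W ⟶ G := fun W => Over.homMk W.hom rfl
  let u : Red.bc φ H ⟶ Red.bc φ N := bcPtInv φ (lift (tg _) (bcPt φ (𝟙 (Red.bc φ H))) ≫ ψ)
  have hu : ∀ {W : Over G.left} (x : W ⟶ Red.bc φ H), bcPt φ (x ≫ u) = lift (tg W) (bcPt φ x) ≫ ψ := by
    intro W x
    rw [bcPt_comp, bcPt_bcPtInv, comp_lift_assoc, ← bcPt_comp, Category.comp_id]
    congr 2
    exact Over.OverMorphism.ext (Over.w x)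
  have : IsMonHom u := isMonHom_of_points u fun W x y => bcPt_injective φ (by
    rw [hu, bcPt_mul, bcPt_mul, hu, hu, hψ])
  have : IsLocallyNoetherian G.left := isLocallyNoetherian_left G
  have : IsSeparated (Red.bc φ N).hom := inferInstanceAs (IsSeparated (pullback.snd N.hom φ))
  obtain ⟨U, hUc, hU, hUt⟩ := Groth.Reductive.FreeDiag.exists_clopen_trivLocus' (u := u)
    (Groth.Reductive.FreeDiag.isMultTypeFT_bc hH φ) (Or.inl inferInstance)
  -- the unit is in the locus
  have he : y₀.left (IsLocalRing.closedPoint k) ∈ U := by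
    rw [hU, Groth.Reductive.FreeDiag.pullback_map_eq_one_iff]
    intro W w x
    apply bcPt_injective φ
    set e := y₀.left (IsLocalRing.closedPoint k)
    let R : Over (Spec (CommRingCat.of k)) := Over.mk (G.left.fromSpecResidueField e ≫ G.hom)
    let r : R ⟶ G := Over.homMk (G.left.fromSpecResidueField e) rfl
    have : IsReduced R.left := inferInstanceAs (IsReduced (Spec (G.left.residueField e)))
    have : IsClosedImmersion y₀.left :=
      AlgebraicGeometry.isClosedImmersion_of_comp_eq_id G.hom y₀.left (Over.w y₀)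
    obtain ⟨z, hz⟩ := exists_factor_of_range_subset y₀ r (by
      rintro _ ⟨t, rfl⟩
      refine ⟨IsLocalRing.closedPoint k, ?_⟩
      have : r.left t ∈ Set.range (G.left.fromSpecResidueField e) := ⟨t, rfl⟩
      rw [Scheme.range_fromSpecResidueField, Set.mem_singleton_iff] at this
      exact this.symm)
    have htg : tg W = toUnit ((Over.map φ).obj W) ≫ y₀ := by
      let c : (Over.map φ).obj W ⟶ R := Over.homMk w.left (by
        show w.left ≫ G.left.fromSpecResidueField e ≫ G.hom = W.hom ≫ φ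
        rw [← Category.assoc]
        exact congrArg (· ≫ G.hom) (Over.w w))
      have : tg W = (c ≫ z) ≫ y₀ := by
        rw [Category.assoc, hz]
        exact Over.OverMorphism.ext (Over.w w).symm
      rw [this, toUnit_unique (c ≫ z) (toUnit _)]
    rw [hu, bcPt_one, htg, h1]
  have hall : ∀ y : G.left, y ∈ U := fun y => by
    have h : IsClopen (U : Set G.left) := ⟨hUc, U.2⟩
    have h2 := h.eq_univ ⟨_, he⟩
    exact (Set.eq_univ_iff_forall.1 h2) y
  -- hence the family is trivial
  have key : ∀ {T : Over (Spec (CommRingCat.of k))} (g : T ⟶ G) (h : T ⟶ H), lift g h ≫ ψ = 1 := by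
    intro T g h
    let W : Over G.left := Over.mk g.left
    let i : (Over.map φ).obj W ⟶ T := Over.homMk (𝟙 _) (by
      show 𝟙 _ ≫ T.hom = g.left ≫ G.hom
      rw [Category.id_comp, Over.w g])
    let i' : T ⟶ (Over.map φ).obj W := Over.homMk (𝟙 _) (by
      show 𝟙 _ ≫ g.left ≫ G.hom = T.hom
      rw [Category.id_comp, Over.w g])
    have hii : i' ≫ i = 𝟙 T := Over.OverMorphism.ext (Category.id_comp _)
    have hr : Set.range W.hom ⊆ Set.range U.ι := by
      rw [Scheme.Opens.range_ι]
      exact fun y _ => hall y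
    have h0 := hUt W (Over.homMk (IsOpenImmersion.lift U.ι W.hom hr) (IsOpenImmersion.lift_fac _ _ _))
      (bcPtInv φ (i ≫ h))
    have h2 := congrArg (fun z => i' ≫ bcPt φ z) h0
    rw [hu, bcPt_bcPtInv, bcPt_one, MonObj.comp_one, comp_lift_assoc, ← Category.assoc i', hii, Category.id_comp,
      show i' ≫ tg W = g from Over.OverMorphism.ext (Category.id_comp _)] at h2
    exact h2
  have := key (fst G H) (snd G H)
  rwa [lift_fst_snd, Category.id_comp] at this

/-- A pointed connected family of homomorphisms to a commutative group is constant. -/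
theorem pointed_family_hom_const {Y H N : Over (Spec (CommRingCat.of k))} [GrpObj H] [GrpObj N]
    [LocallyOfFiniteType Y.hom] [QuasiCompact Y.hom] [PreconnectedSpace Y.left] [LocallyOfFiniteType N.hom]
    [IsSeparated Y.hom] (y₀ : 𝟙_ (Over (Spec (CommRingCat.of k))) ⟶ Y)
    (hH : SGA3x.IsMultTypeFT H) (hN : ∀ (X : Over (Spec (CommRingCat.of k))) (a b : X ⟶ N), a * b = b * a)
    (φ : Y ⊗ H ⟶ N)
    (hφ : ∀ (T : Over (Spec (CommRingCat.of k))) (g : T ⟶ Y) (h h' : T ⟶ H),
      lift g (h * h') ≫ φ = (lift g h ≫ φ) * (lift g h' ≫ φ))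
    {T : Over (Spec (CommRingCat.of k))} (g : T ⟶ Y) (h : T ⟶ H) :
    lift g h ≫ φ = lift (toUnit T ≫ y₀) h ≫ φ := by
  let ψ : Y ⊗ H ⟶ N := φ * (lift (toUnit (Y ⊗ H) ≫ y₀) (snd Y H) ≫ φ)⁻¹
  have hψ : ∀ {T : Over (Spec (CommRingCat.of k))} (g : T ⟶ Y) (h : T ⟶ H),
      lift g h ≫ ψ = (lift g h ≫ φ) * (lift (toUnit T ≫ y₀) h ≫ φ)⁻¹ := fun {T} g h => by
    simp only [ψ, MonObj.comp_mul, GrpObj.comp_inv, comp_lift_assoc, lift_snd, ← Category.assoc (lift g h) (toUnit _),
      toUnit_unique (lift g h ≫ toUnit _) (toUnit T)]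
  have := pointed_family_hom_eq_one y₀ hH ψ (fun T g h h' => by
    rw [hψ, hψ, hψ, hφ, hφ, _root_.mul_inv_rev]
    generalize lift g h ≫ φ = a
    generalize lift g h' ≫ φ = b
    generalize (lift (toUnit T ≫ y₀) h' ≫ φ)⁻¹ = d
    generalize (lift (toUnit T ≫ y₀) h ≫ φ)⁻¹ = c
    rw [_root_.mul_assoc a b, ← _root_.mul_assoc b d c, hN _ (b * d) c, ← _root_.mul_assoc a c])
    (fun T h => by rw [hψ, mul_inv_cancel])
  have h2 := hψ g h
  rw [this, MonObj.comp_one] at h2
  exact (mul_inv_eq_one.1 h2.symm)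

end Groth.AlgGrp1
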