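import Groth.Agent.AlgGrp1.BorelCover
import Groth.Agent.AlgGrp1.CentInter
import Groth.Agent.AlgGrp1.RigidPointed
import Groth.Agent.AlgGrp1.OrbitScheme
import Groth.Agent.GrpschAbsch.FibreTranslate
import Groth.Agent.Reductive.TorusMT

/-!
A Borel subgroup meets the centralizer of a torus it contains in a Borel subgroup of that centralizer.
-/

set_option autoImplicit false
set_option linter.style.haveILetI false
universe u

open CategoryTheory Limits MonoidalCategory CartesianMonoidalCategory MonObj GrpObj AlgebraicGeometry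
open TopologicalSpace

noncomputable section

namespace Groth.AlgGrp1

variable {k : Type u} [Field k]

/-- A reduced closed subscheme on a closed set. -/
theorem exists_reduced_closedSet {X : Over (Spec (CommRingCat.of k))} (Z : Set X.left) (hZ : IsClosed Z) :
    ∃ (Y : Over (Spec (CommRingCat.of k))) (y : Y ⟶ X),
      IsClosedImmersion y.left ∧ IsReduced Y.left ∧ Set.range y.left.base = Z := by
  let J := Scheme.IdealSheafData.vanishingIdeal (⟨Z, hZ⟩ : Closeds X.left)
  let Y₀ : Over (Spec (CommRingCat.of k)) := Over.mk (J.subschemeι ≫ X.hom)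
  let y₀ : Y₀ ⟶ X := Over.homMk J.subschemeι rfl
  have h0 : Set.range y₀.left.base = Z := by
    show Set.range J.subschemeι = Z
    rw [J.range_subschemeι, Scheme.IdealSheafData.coe_support_vanishingIdeal]
    rfl
  have : IsClosedImmersion y₀.left := inferInstanceAs (IsClosedImmersion J.subschemeι)
  obtain ⟨Y, y, hy, hs, hr⟩ := exists_reduced Y₀
  refine ⟨Y, y ≫ y₀, by rw [Over.comp_left]; infer_instance, hr, ?_⟩
  rw [← h0, Over.comp_left]
  show Set.range (y₀.left.base ∘ y.left.base) = _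
  rw [Set.range_comp, y.left.surjective.range_eq, Set.image_univ]

/-- A subgroup of a solvable group is solvable. -/
theorem isSolvableGrp_of_mono_hom {S : Scheme.{u}} {D B : Over S} [GrpObj D] [GrpObj B] (d : D ⟶ B) [IsMonHom d]
    [Mono d] (h : Red.IsSolvableGrp B) : Red.IsSolvableGrp D := by
  obtain ⟨n, hn⟩ := h
  refine ⟨n, fun X => ?_⟩
  let f : (X ⟶ D) →* (X ⟶ B) := MonoidHom.mk' (· ≫ d) fun p q => MonObj.mul_comp p q d
  have hf : Function.Injective f := fun p q e => (cancel_mono d).1 e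
  have h1 : (derivedSeries (X ⟶ D) n).map f ≤ derivedSeries (X ⟶ B) n := map_derivedSeries_le_derivedSeries f n
  rw [hn, le_bot_iff, Subgroup.map_eq_bot_iff_of_injective _ hf] at h1
  exact h1

variable [IsAlgClosed k]

/-- A maximal torus of a connected solvable group is a retract absorbing all tori. -/
theorem exists_retraction_maxTorus {B T : Over (Spec (CommRingCat.of k))} [GrpObj B] [GrpObj T] [IsAffine B.left]
    [Smooth B.hom] [ConnectedSpace B.left] (hs : Red.IsSolvableGrp B) (t : T ⟶ B) [IsMonHom t]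
    (hT : Red.IsTorus T)
    (hmax : ∀ (T' : Over (Spec (CommRingCat.of k))) [GrpObj T'] (j : T' ⟶ B) [IsMonHom j] [Mono j] (f : T ⟶ T'),
      Red.IsTorus T' → f ≫ j = t → IsIso f) :
    ∃ π : B ⟶ T, IsMonHom π ∧ t ≫ π = 𝟙 T ∧
      ∀ (U : Over (Spec (CommRingCat.of k))) [GrpObj U] (j : U ⟶ B) [IsMonHom j], Red.IsTorus U →
        ∃ b : 𝟙_ (Over (Spec (CommRingCat.of k))) ⟶ B, (j ≫ π) ≫ t = AGF.conjBy b j := by
  obtain ⟨S, _, iS, π₀, hiS, hπ₀, hret, hcl, hS, habs⟩ := exists_torus_absorbing' B hs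
  have := hiS; have := hπ₀; have := hcl
  have : Mono iS := Over.mono_of_mono_left iS
  obtain ⟨b, f, hf⟩ := habs T t hT
  have := isMonHom_conjBy b⁻¹ iS
  have := mono_conjBy b⁻¹ iS
  have : IsIso f := hmax S (AGF.conjBy b⁻¹ iS) f hS
    (by rw [comp_conjBy', hf, conjBy_conjBy, inv_mul_cancel, conjBy_one])
  have hfm : IsMonHom f := isMonHom_of_points _ fun W p q => by
    rw [← cancel_mono iS, MonObj.mul_comp (p ≫ f), Category.assoc, Category.assoc, Category.assoc, hf]
    have := isMonHom_conjBy b t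
    exact MonObj.mul_comp p q _
  have hconj : ∀ {U : Over (Spec (CommRingCat.of k))} (x : 𝟙_ (Over (Spec (CommRingCat.of k))) ⟶ B) (j : U ⟶ B),
      AGF.conjBy x j ≫ π₀ = j ≫ π₀ := fun {U} x j => by
    simp only [AGF.conjBy, MonObj.mul_comp, GrpObj.inv_comp, Category.assoc,
      Groth.Reductive2.torus_mul_comm hS (toUnit U ≫ x ≫ π₀) (j ≫ π₀), mul_inv_cancel_right]
  have htπ : t ≫ π₀ = f := by
    have := congrArg (· ≫ π₀) hf
    simp only [hconj, Category.assoc, hret, Category.comp_id] at this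
    exact this.symm
  haveI : IsMonHom (inv f) := isMonHom_of_points _ fun W p q => by
    rw [← cancel_mono f, MonObj.mul_comp (p ≫ inv f)]
    simp
  refine ⟨π₀ ≫ inv f, inferInstance, by rw [← Category.assoc, htπ, IsIso.hom_inv_id], fun U _ j _ hU => ?_⟩
  obtain ⟨b', f', hf'⟩ := habs U j hU
  refine ⟨b⁻¹ * b', ?_⟩
  have h1 : j ≫ π₀ = f' := by
    have := congrArg (· ≫ π₀) hf'
    simp only [hconj, Category.assoc, hret, Category.comp_id] at this
    exact this.symm
  have ht : t = f ≫ AGF.conjBy b⁻¹ iS := by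
    rw [comp_conjBy', hf, conjBy_conjBy, inv_mul_cancel, conjBy_one]
  conv_lhs => rw [ht]
  rw [Category.assoc j, Category.assoc, IsIso.inv_hom_id_assoc, ← Category.assoc, h1, comp_conjBy', hf', conjBy_conjBy]

variable {G B T S C : Over (Spec (CommRingCat.of k))} [GrpObj G] [GrpObj B] [GrpObj T] [GrpObj S] [GrpObj C]
  [IsAffine G.left] [Smooth G.hom]

/-- The set `C · B` is the set of rational points of a closed set. -/
theorem exists_closed_CB [ConnectedSpace G.left] {iB : B ⟶ G} (hB : Red.IsBorelOver k iB) {iT : T ⟶ G}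
    (hT : AGF.IsMaxTorus iT) (t : T ⟶ B) (ht : t ≫ iB = iT) (iS : S ⟶ G) [IsMonHom iS] [Mono iS]
    (hS : Red.IsTorus S) (u : S ⟶ T) (hu : u ≫ iT = iS) {c : C ⟶ G} (hc : Red.IsCentralizerOf iS c) :
    ∃ Z : Set G.left, IsClosed Z ∧ ∀ x : 𝟙_ (Over (Spec (CommRingCat.of k))) ⟶ G,
      rpt x ∈ Z ↔ ∃ (a : 𝟙_ (Over (Spec (CommRingCat.of k))) ⟶ C)
        (b : 𝟙_ (Over (Spec (CommRingCat.of k))) ⟶ B), x = (a ≫ c) * (b ≫ iB) := by
  obtain ⟨hmB, hcB, hsB, hnB, hsol, -⟩ := hB
  haveI := hmB; haveI := hcB; haveI := hsB; haveI := hnB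
  haveI : Mono iB := Over.mono_of_mono_left iB
  haveI : IsAffine B.left := isAffine_of_isAffineHom iB.left
  obtain ⟨hmT, hmoT, hTT, hmax⟩ := hT
  haveI := hmT; haveI := hmoT
  obtain ⟨hSa, hSs, hSc⟩ := isAffine_smooth_connected_of_isTorus hS
  obtain ⟨hTa, hTs, -⟩ := isAffine_smooth_connected_of_isTorus hTT
  have htm : IsMonHom t := isMonHom_of_points _ fun W p q => by
    rw [← cancel_mono iB, MonObj.mul_comp (p ≫ t), Category.assoc, Category.assoc, Category.assoc, ht,
      MonObj.mul_comp]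
  obtain ⟨π, hπm, hπ, habs⟩ := exists_retraction_maxTorus hsol t hTT fun T' _ j _ _ f hT' hf =>
    hmax T' (j ≫ iB) f hT' (by rw [← Category.assoc, hf, ht])
  haveI := hπm
  obtain ⟨hCs, hCc⟩ := smooth_centralizer_torus iS (isClosedImmersion_of_isTorus iS hS) hS c hc
  haveI := connectedSpace_centralizer_torus iS hS c hc
  haveI := hCs
  -- elements moving the torus into the Borel subgroup
  let F : (𝟙_ (Over (Spec (CommRingCat.of k))) ⟶ S) → (G ⟶ G) := fun s =>
    (𝟙 G)⁻¹ * (toUnit G ≫ s ≫ iS) * 𝟙 G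
  have hF : ∀ (s : 𝟙_ (Over (Spec (CommRingCat.of k))) ⟶ S) {W : Over (Spec (CommRingCat.of k))} (y : W ⟶ G),
      y ≫ F s = y⁻¹ * (toUnit W ≫ s ≫ iS) * y := fun s {W} y => by
    simp only [F, MonObj.comp_mul, GrpObj.comp_inv, Category.comp_id, ← Category.assoc y (toUnit G),
      toUnit_unique (y ≫ toUnit G) (toUnit W)]
  let Z : Set G.left := ⋂ s, (F s).left.base ⁻¹' Set.range iB.left.base
  have hZc : IsClosed Z := isClosed_iInter fun s =>
    iB.left.isClosedEmbedding.isClosed_range.preimage (F s).left.continuous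
  have hZpt : ∀ y : 𝟙_ (Over (Spec (CommRingCat.of k))) ⟶ G,
      rpt y ∈ Z ↔ ∀ s, ∃ b, b ≫ iB = y⁻¹ * (toUnit _ ≫ s ≫ iS) * y := fun y => by
    simp only [Z, Set.mem_iInter, Set.mem_preimage]
    refine forall_congr' fun s => ?_
    rw [← hF s y]
    exact ⟨fun h => exists_rpt_lift iB (y ≫ F s) h, fun ⟨b, hb⟩ => ⟨rpt b, show rpt (b ≫ iB) = rpt (y ≫ F s) from congrArg rpt hb⟩⟩
  let mu0 : C ⊗ B ⟶ G := (fst C B ≫ c) * (snd C B ≫ iB)
  have : Smooth (C ⊗ B).hom := smooth_tensor_over C B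
  have : LocallyOfFiniteType (C ⊗ B).hom := inferInstance
  haveI := connectedSpace_tensor_of_point C B
  have hmuZ : Set.range mu0.left.base ⊆ Z := by
    rintro _ ⟨z, rfl⟩
    refine subset_of_rpt (A := Set.univ) isOpen_univ.isLocallyClosed (hZc.preimage mu0.left.continuous)
      (fun x _ => ?_) (Set.mem_univ z)
    show rpt (x ≫ mu0) ∈ Z
    rw [hZpt]
    intro s
    have hcs := (hc.2.2 _ (x ≫ fst C B ≫ c)).1 ⟨x ≫ fst C B, Category.assoc _ _ _⟩ _ (𝟙 _) s
    rw [Category.id_comp] at hcs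
    refine ⟨(x ≫ snd C B)⁻¹ * (s ≫ u ≫ t) * (x ≫ snd C B), ?_⟩
    simp only [mu0, MonObj.mul_comp, GrpObj.inv_comp, MonObj.comp_mul, Category.assoc, ht, hu,
      toUnit_unique (toUnit (𝟙_ (Over (Spec (CommRingCat.of k))))) (𝟙 _), Category.id_comp]
    rw [_root_.mul_inv_rev]
    generalize x ≫ fst C B ≫ c = p at *
    generalize x ≫ snd C B ≫ iB = q at *
    generalize s ≫ iS = r at *
    calc q⁻¹ * r * q = q⁻¹ * (p⁻¹ * (p * r)) * q := by group
      _ = q⁻¹ * (p⁻¹ * (r * p)) * q := by rw [hcs]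
      _ = q⁻¹ * p⁻¹ * r * (p * q) := by group
  let Y₀ : Set G.left := connectedComponentIn Z (rpt (1 : 𝟙_ (Over (Spec (CommRingCat.of k))) ⟶ G))
  have h1Z : rpt (1 : 𝟙_ (Over (Spec (CommRingCat.of k))) ⟶ G) ∈ Z := hmuZ
    ⟨rpt (lift (1 : 𝟙_ (Over (Spec (CommRingCat.of k))) ⟶ C) (1 : 𝟙_ (Over (Spec (CommRingCat.of k))) ⟶ B)),
      by
        have := hc.1
        rw [← Scheme.Hom.comp_apply, ← Over.comp_left]
        refine congrArg rpt ?_
        simp [mu0, MonObj.comp_mul]⟩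
  have hY₀c : IsClosed Y₀ := by
    refine isClosed_of_closure_subset ?_
    exact isPreconnected_connectedComponentIn.closure.subset_connectedComponentIn
      (subset_closure (mem_connectedComponentIn h1Z))
      (closure_minimal (connectedComponentIn_subset _ _) hZc)
  obtain ⟨Y, y, hyc, hYr, hyr⟩ := exists_reduced_closedSet Y₀ hY₀c
  haveI := hyc; haveI := hYr
  refine ⟨Y₀, hY₀c, fun x => ⟨fun hx => ?_, ?_⟩⟩
  · haveI : LocallyOfFiniteType Y.hom := by rw [← Over.w y]; infer_instance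
    haveI : QuasiCompact Y.hom := by rw [← Over.w y]; infer_instance
    haveI : IsSeparated Y.hom := by rw [← Over.w y]; infer_instance
    haveI : PreconnectedSpace Y.left := by
      rw [preconnectedSpace_iff_univ]
      refine y.left.isClosedEmbedding.isInducing.isPreconnected_image.1 ?_
      rw [Set.image_univ, hyr]
      exact isPreconnected_connectedComponentIn
    haveI := Groth.GrpschAbsch.FibreTranslate.geometricallyReduced_of_perfectField Y
    haveI := geometricallyReduced_of_smooth_hom S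
    haveI : GeometricallyReduced (Y ⊗ S).hom := geometricallyReduced_tensorObj Y S
    haveI : LocallyOfFiniteType (Y ⊗ S).hom :=
      inferInstanceAs (LocallyOfFiniteType (pullback.fst Y.hom S.hom ≫ Y.hom))
    let cj : Y ⊗ S ⟶ G := (fst Y S ≫ y)⁻¹ * (snd Y S ≫ iS) * (fst Y S ≫ y)
    have hcjl : ∀ {W : Over (Spec (CommRingCat.of k))} (a : W ⟶ Y) (s : W ⟶ S),
        lift a s ≫ cj = (a ≫ y)⁻¹ * (s ≫ iS) * (a ≫ y) := fun a s => by
      simp [cj, MonObj.comp_mul, GrpObj.comp_inv]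
    obtain ⟨J, hJ⟩ := factor_of_sepClosed_points k iB cj fun q => by
      let q' : 𝟙_ (Over (Spec (CommRingCat.of k))) ⟶ Y ⊗ S := unitSp.hom ≫ q
      have hq : toUnit _ ≫ q' = q := by
        have h0 : toUnit (specAlg k k) ≫ unitSp.hom = 𝟙 _ := by
          rw [← cancel_mono (unitSp (k := k)).inv]
          exact toUnit_unique _ _
        exact (Category.assoc _ _ _).symm.trans ((congrArg (· ≫ q) h0).trans (Category.id_comp _))
      have hmem : rpt (q' ≫ fst Y S ≫ y) ∈ Y₀ := hyr ▸ ⟨rpt (q' ≫ fst Y S), by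
        rw [← Scheme.Hom.comp_apply, ← Over.comp_left]; exact congrArg rpt (Category.assoc _ _ _)⟩
      obtain ⟨b, hb⟩ := (hZpt _).1 (connectedComponentIn_subset _ _ hmem) (q' ≫ snd Y S)
      refine ⟨toUnit _ ≫ b, ?_⟩
      rw [Category.assoc, hb, ← hq]
      simp [cj, MonObj.comp_mul, GrpObj.comp_inv, toUnit_unique (toUnit (𝟙_ (Over (Spec (CommRingCat.of k))))) (𝟙 _)]
    have hJl : ∀ {W : Over (Spec (CommRingCat.of k))} (a : W ⟶ Y) (s : W ⟶ S),
        (lift a s ≫ J) ≫ iB = (a ≫ y)⁻¹ * (s ≫ iS) * (a ≫ y) := fun a s => by rw [Category.assoc, hJ, hcjl]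
    obtain ⟨y₁, hy₁⟩ := exists_rpt_lift y (1 : 𝟙_ (Over (Spec (CommRingCat.of k))) ⟶ G)
      (hyr ▸ mem_connectedComponentIn h1Z)
    obtain ⟨x', hx'⟩ := exists_rpt_lift y x (hyr ▸ hx)
    have hJm : ∀ (W : Over (Spec (CommRingCat.of k))) (a : W ⟶ Y) (s s' : W ⟶ S),
        lift a (s * s') ≫ J = (lift a s ≫ J) * (lift a s' ≫ J) := fun W a s s' => by
      rw [← cancel_mono iB, MonObj.mul_comp (lift a s ≫ J), hJl, hJl, hJl, MonObj.mul_comp]
      group
    obtain ⟨jx, hjxdef⟩ : ∃ jx : S ⟶ B, jx = lift (toUnit S ≫ x') (𝟙 S) ≫ J := ⟨_, rfl⟩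
    have hjx : jx ≫ iB = AGF.conjBy x⁻¹ iS := by
      rw [hjxdef, hJl, Category.id_comp, Category.assoc, hx']
      unfold AGF.conjBy
      rw [GrpObj.comp_inv, _root_.inv_inv]
    haveI := isMonHom_conjBy x⁻¹ iS
    have hjxm : IsMonHom jx := isMonHom_of_points _ fun W p q => by
      rw [← cancel_mono iB, MonObj.mul_comp (p ≫ jx), Category.assoc, Category.assoc, Category.assoc, hjx,
        MonObj.mul_comp]
    have hjxπ : jx ≫ π = u := by
      have key := pointed_family_hom_const y₁ (Groth.Reductive.FreeDiag.isMultTypeFT_of_isTorus hS)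
        (fun W a b => Groth.Reductive2.torus_mul_comm hTT a b) (J ≫ π)
        (fun W a s s' => by
          rw [← Category.assoc, hJm, MonObj.mul_comp, Category.assoc, Category.assoc])
        (toUnit S ≫ x') (𝟙 S)
      rw [← Category.assoc, ← Category.assoc, ← hjxdef] at key
      refine key.trans ?_
      have e : lift (toUnit S ≫ y₁) (𝟙 S) ≫ J = u ≫ t := by
        rw [← cancel_mono iB, hJl, Category.assoc u, ht, hu, Category.id_comp, Category.assoc, hy₁, MonObj.comp_one,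
          inv_one, _root_.one_mul, _root_.mul_one]
      rw [e, Category.assoc, hπ, Category.comp_id]
    obtain ⟨b, hb⟩ := habs S jx hS
    rw [hjxπ] at hb
    have hfix : AGF.conjBy ((b ≫ iB) * x⁻¹) iS = iS := by
      have h2 := congrArg (· ≫ iB) hb
      simp only [AGF.conjBy, MonObj.mul_comp, GrpObj.inv_comp, Category.assoc, ht, hu, hjx] at h2
      rw [← conjBy_conjBy]
      exact h2.symm
    obtain ⟨a, ha⟩ := (hc.2.2 _ ((b ≫ iB) * x⁻¹)).2 fun W w s => by
      have h2 := congrArg (s ≫ ·) hfix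
      simp only [comp_conjBy] at h2
      rw [toUnit_unique w (toUnit W)]
      exact mul_inv_eq_iff_eq_mul.1 h2
    have := hc.1
    refine ⟨a⁻¹, b, ?_⟩
    rw [GrpObj.inv_comp, ha, _root_.mul_inv_rev, _root_.inv_inv, inv_mul_cancel_right]
  · rintro ⟨a, b, rfl⟩
    have hsub : Set.range mu0.left.base ⊆ Y₀ :=
      (isPreconnected_range mu0.left.continuous).subset_connectedComponentIn
        ⟨rpt (lift (1 : 𝟙_ (Over (Spec (CommRingCat.of k))) ⟶ C) (1 : 𝟙_ (Over (Spec (CommRingCat.of k))) ⟶ B)),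
          by
            have := hc.1
            rw [← Scheme.Hom.comp_apply, ← Over.comp_left]
            refine congrArg rpt ?_
            simp [mu0, MonObj.comp_mul]⟩ hmuZ
    refine hsub ⟨rpt (lift a b), ?_⟩
    rw [← Scheme.Hom.comp_apply, ← Over.comp_left]
    refine congrArg rpt ?_
    simp [mu0, MonObj.comp_mul]

/-- **A Borel subgroup meets the centralizer of a torus it contains in a Borel subgroup.** -/
theorem exists_borel_centralizer [ConnectedSpace G.left] {iB : B ⟶ G} (hB : Red.IsBorelOver k iB) {iT : T ⟶ G}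
    (hT : AGF.IsMaxTorus iT) (t : T ⟶ B) (ht : t ≫ iB = iT) (iS : S ⟶ G) [IsMonHom iS] [Mono iS]
    (hS : Red.IsTorus S) (u : S ⟶ T) (hu : u ≫ iT = iS) {c : C ⟶ G} (hc : Red.IsCentralizerOf iS c) :
    ∃ (D : Over (Spec (CommRingCat.of k))) (_ : GrpObj D) (iD : D ⟶ C) (d : D ⟶ B),
      Red.IsBorelOver k iD ∧ iD ≫ c = d ≫ iB ∧ IsPullback d iD iB c := by
  obtain ⟨Z, hZ, hZpt⟩ := exists_closed_CB hB hT t ht iS hS u hu hc
  have hB0 := hB
  obtain ⟨hmB, hcB, hsB, hnB, hsol, -⟩ := hB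
  haveI := hmB; haveI := hcB; haveI := hsB; haveI := hnB
  haveI : Mono iB := Over.mono_of_mono_left iB
  obtain ⟨hCs, hCc⟩ := smooth_centralizer_torus iS (isClosedImmersion_of_isTorus iS hS) hS c hc
  haveI := hCs; haveI := hCc
  haveI := connectedSpace_centralizer_torus iS hS c hc
  haveI := hc.1
  haveI : Mono c := hc.2.1
  haveI : IsAffine C.left := isAffine_of_isAffineHom c.left
  obtain ⟨D, d, iD, sq⟩ : ∃ (D : Over (Spec (CommRingCat.of k))) (d : D ⟶ B) (iD : D ⟶ C), IsPullback d iD iB c :=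
    ⟨_, _, _, IsPullback.of_hasPullback iB c⟩
  haveI : Mono iD := sq.mono_snd_of_mono
  haveI : Mono d := sq.mono_fst_of_mono
  obtain ⟨_, hiDm⟩ := Groth.Agf.exists_grpObj_of_subgroup iD (fun W a => ∃ b : W ⟶ B, b ≫ iB = a ≫ c)
    (fun W a => ⟨fun ⟨z, hz⟩ => ⟨z ≫ d, by rw [Category.assoc, sq.w, ← Category.assoc, hz]⟩,
      fun ⟨b, hb⟩ => ⟨sq.lift b a hb, sq.lift_snd b a hb⟩⟩)
    (fun W => ⟨1, by rw [MonObj.one_comp, MonObj.one_comp]⟩)
    (fun W a a' ⟨x, hx⟩ ⟨y, hy⟩ => ⟨x * y, by rw [MonObj.mul_comp, MonObj.mul_comp, hx, hy]⟩)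
    (fun W a ⟨x, hx⟩ => ⟨x⁻¹, by rw [GrpObj.inv_comp, GrpObj.inv_comp, hx]⟩)
  haveI := hiDm
  have hdm : IsMonHom d := isMonHom_of_points _ fun W p q => by
    rw [← cancel_mono iB, MonObj.mul_comp (p ≫ d), Category.assoc, Category.assoc, Category.assoc, sq.w,
      ← Category.assoc, MonObj.mul_comp p q iD, MonObj.mul_comp, Category.assoc, Category.assoc]
  have hiDc : IsClosedImmersion iD.left :=
    MorphismProperty.of_isPullback (sq.map (Over.forget _)) ‹IsClosedImmersion iB.left›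
  obtain ⟨hDs, hDc⟩ := smooth_connected_centralizer_inter iS hS c hc iB
    (fun W s h => ⟨(s ≫ u ≫ t) * h * (s ≫ u ≫ t)⁻¹, by
      simp only [MonObj.mul_comp, GrpObj.inv_comp, Category.assoc, ht, hu]⟩) iD d sq.flip
  -- the quotient
  have : QuasiCompact B.hom := by rw [← Over.w iB]; infer_instance
  obtain ⟨X, a, o, h₁⟩ := Groth.Agent.S3279.result k G B iB
  have hX : AGF.IsQuotient iB X a o := ⟨h₁.1, h₁.2.2.1, h₁.2.2.2.1, h₁.2.2.2.2⟩
  have hp : IsProper X.hom := isProper_quotient_borel hB0 hX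
  have : LocallyOfFiniteType X.hom := hX.1
  have := h₁.2.1
  have horb : (a.restrict c).orbitMap o = c ≫ a.orbitMap o := by
    rw [← Category.id_comp ((a.restrict c).orbitMap o), comp_orbit, AlgGrp.Action.lift_restrict_act,
      Category.id_comp, comp_orbit]
  have ho : (1 : 𝟙_ (Over (Spec (CommRingCat.of k))) ⟶ G) ≫ a.orbitMap o = o := by
    rw [comp_orbit, a.lift_one_act, toUnit_unique (toUnit (𝟙_ _)) (𝟙 _), Category.id_comp]
  have hpt : ∀ {W : Over (Spec (CommRingCat.of k))} (z : W ⟶ C),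
      z ≫ (a.restrict c).orbitMap o = toUnit W ≫ o ↔ ∃ b : W ⟶ B, b ≫ iB = z ≫ c := by
    intro W z
    rw [horb, ← Category.assoc, show toUnit W ≫ o = (1 : W ⟶ G) ≫ a.orbitMap o from
      ((congrArg (toUnit W ≫ ·) ho).symm.trans (by rw [← Category.assoc, MonObj.comp_one])), eq_comm,
      comp_orbit_eq_iff hX]
    exact exists_congr fun b => by rw [_root_.one_mul, eq_comm]
  have hGo : IsPullback iD (toUnit D) ((a.restrict c).orbitMap o) o := by
    refine ⟨⟨(hpt iD).2 ⟨d, sq.w⟩⟩, ⟨PullbackCone.IsLimit.mk _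
      (fun s => sq.lift ((hpt s.fst).1 (s.condition.trans (by rw [toUnit_unique s.snd (toUnit _)]))).choose s.fst
        ((hpt s.fst).1 (s.condition.trans (by rw [toUnit_unique s.snd (toUnit _)]))).choose_spec)
      (fun s => sq.lift_snd _ _ _) (fun s => toUnit_unique _ _)
      fun s m hm _ => by rw [← cancel_mono iD]; exact hm.trans (sq.lift_snd _ _ _).symm⟩⟩
  obtain ⟨X', a', o', j, hj, -, -, hqc, hX', horb'⟩ := exists_isQuotient_stabilizer (a.restrict c) o iD hGo
  rw [horb] at horb'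
  -- the image is closed
  have hpopen : IsOpenMap (a.orbitMap o).left.base := by
    have := hX.2.1
    have := lfp_left (a.orbitMap o)
    exact (a.orbitMap o).left.isOpenMap
  have hR : Set.range j.left.base = Set.range (c ≫ a.orbitMap o).left.base := by
    rw [← horb', Over.comp_left]
    show _ = Set.range (j.left.base ∘ (a'.orbitMap o').left.base)
    rw [Set.range_comp, hX'.2.2.1.surj.range_eq, Set.image_univ]
  set R := Set.range (c ≫ a.orbitMap o).left.base with hRdef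
  have hRlc : IsLocallyClosed R := by
    rw [hRdef, ← horb]
    exact isLocallyClosed_range_orbitMap (a.restrict c) o
  have hpre : ∀ x : 𝟙_ (Over (Spec (CommRingCat.of k))) ⟶ G,
      rpt x ∈ (a.orbitMap o).left.base ⁻¹' R ↔ rpt x ∈ Z := by
    intro x
    rw [hZpt]
    constructor
    · intro h
      obtain ⟨z, hz⟩ := exists_rpt_lift (c ≫ a.orbitMap o) (x ≫ a.orbitMap o) h
      rw [← Category.assoc, comp_orbit_eq_iff hX] at hz
      obtain ⟨b, hb⟩ := hz
      exact ⟨z, b, hb⟩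
    · rintro ⟨z, b, rfl⟩
      refine ⟨rpt z, ?_⟩
      have e : ((z ≫ c) * (b ≫ iB)) ≫ a.orbitMap o = z ≫ c ≫ a.orbitMap o := by
        rw [← Category.assoc]
        exact ((comp_orbit_eq_iff hX _ _ _).2 ⟨b, rfl⟩).symm
      show ((c ≫ a.orbitMap o).left.base) (rpt z) = rpt (((z ≫ c) * (b ≫ iB)) ≫ a.orbitMap o)
      rw [e]
      rfl
  have hW : IsLocallyClosed ((a.orbitMap o).left.base ⁻¹' R) := hRlc.preimage (a.orbitMap o).left.continuous
  have heq : (a.orbitMap o).left.base ⁻¹' R = Z := by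
    refine Set.Subset.antisymm (subset_of_rpt hW hZ fun x => (hpre x).1) fun z hz => ?_
    obtain ⟨U, F, hU, hF, hUF⟩ := hW
    by_contra hzn
    rw [hUF] at hzn
    rcases not_and_or.1 hzn with h | h
    · exact subset_of_rpt (A := Z ∩ Uᶜ) (hZ.inter hU.isClosed_compl).isLocallyClosed isClosed_empty
        (fun x hx => hx.2 ((hUF ▸ (hpre x).2 hx.1 : rpt x ∈ U ∩ F).1)) ⟨hz, h⟩
    · exact subset_of_rpt (A := Z ∩ Fᶜ) (hZ.isLocallyClosed.inter hF.isOpen_compl.isLocallyClosed) isClosed_empty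
        (fun x hx => hx.2 ((hUF ▸ (hpre x).2 hx.1 : rpt x ∈ U ∩ F).2)) ⟨hz, h⟩
  have hRc : IsClosed R := by
    rw [← isOpen_compl_iff]
    have : Rᶜ = (a.orbitMap o).left.base '' Zᶜ := by
      rw [← heq, ← Set.preimage_compl, Set.image_preimage_eq _ hX.2.2.1.surj]
    rw [this]
    exact hpopen _ hZ.isOpen_compl
  have : IsImmersion j.left := hj
  have : IsClosedImmersion j.left := .of_isPreimmersion _ (hR ▸ hRc)
  have : IsProper X'.hom := by rw [← Over.w j]; infer_instance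
  exact ⟨D, inferInstance, iD, d, isBorelOver_of_proper iD (isSolvableGrp_of_mono_hom d hsol) hX', sq.w.symm, sq⟩

end Groth.AlgGrp1
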