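import Groth.Agent.AlgGrp1.LiftConj
import Groth.Agent.AlgGrp1.TorusSplit
import Groth.Agent.AlgGrp1.AffineGrp
import Groth.Agent.Misc1.Unip.LieKolchin
import Groth.Agent.Misc1.Unip.DimOne.Classify
import Groth.Agent.S7967
import Groth.Agent.S4128

/-!
A connected solvable group contains a torus into which every subtorus can be conjugated.
-/

set_option autoImplicit false
set_option linter.style.haveILetI false
universe u

open CategoryTheory Limits MonoidalCategory CartesianMonoidalCategory MonObj GrpObj AlgebraicGeometry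
open TensorProduct WithConv
open Groth.Sga3.UnipotentExt Groth.Sga3.SectionConj

noncomputable section

namespace Groth.AlgGrp1

variable {k : Type u} [Field k]

/-- A bialgebra map gives a homomorphism of groups. -/
theorem isMonHom_pt_bialg {A C : Type u} [CommRing A] [HopfAlgebra k A] [CommRing C] [HopfAlgebra k C]
    (φ : A →ₐc[k] C) : IsMonHom (CoactBr.pt (φ : A →ₐ[k] C)) := by
  refine Groth.AlgGrp2.isMonHom_of_pt _ fun g h => ?_
  obtain ⟨g, rfl⟩ := Groth.AlgGrp2.pt_surjective g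
  obtain ⟨h, rfl⟩ := Groth.AlgGrp2.pt_surjective h
  rw [CoactBr.pt_mul_pt, ← CoactBr.pt_comp, ← CoactBr.pt_comp, ← CoactBr.pt_comp, CoactBr.pt_mul_pt]
  refine congrArg CoactBr.pt (AlgHom.ext fun a => ?_)
  simp only [AlgHom.comp_apply, Bialgebra.comulAlgHom_apply, BialgHom.coe_toAlgHom]
  rw [← CoalgHomClass.map_comp_comul_apply φ a]
  generalize Coalgebra.comul (R := k) a = z
  induction z using TensorProduct.induction_on with
  | zero => simp
  | tmul x y => simp
  | add x y hx hy => simp only [map_add, hx, hy]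

/-- A homomorphism of groups comes from a bialgebra map. -/
theorem exists_bialgHom_of_isMonHom {A C : Type u} [CommRing A] [HopfAlgebra k A] [CommRing C]
    [HopfAlgebra k C] (j : CoactBr.sp k C ⟶ CoactBr.sp k A) [IsMonHom j] :
    ∃ φ : A →ₐc[k] C, CoactBr.pt (φ : A →ₐ[k] C) = j := by
  obtain ⟨f, rfl⟩ := Groth.AlgGrp2.pt_surjective j
  have hε : (Bialgebra.counitAlgHom k C).comp f = Bialgebra.counitAlgHom k A := by
    have h : (1 : CoactBr.sp k k ⟶ CoactBr.sp k C) ≫ CoactBr.pt f = 1 := MonObj.one_comp _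
    rw [CoactBr.one_eq_pt, CoactBr.one_eq_pt, ← CoactBr.pt_comp] at h
    refine AlgHom.ext fun a => ?_
    simpa [Algebra.ofId_apply] using AlgHom.congr_fun (CoactBr.pt_injective h) a
  have hΔ : (Algebra.TensorProduct.map f f).comp (Bialgebra.comulAlgHom k A) =
      (Bialgebra.comulAlgHom k C).comp f := by
    let iL : C →ₐ[k] C ⊗[k] C := Algebra.TensorProduct.includeLeft
    let iR : C →ₐ[k] C ⊗[k] C := Algebra.TensorProduct.includeRight
    have h := MonObj.mul_comp (CoactBr.pt iL) (CoactBr.pt iR) (CoactBr.pt f)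
    rw [CoactBr.pt_mul_pt, ← CoactBr.pt_comp, ← CoactBr.pt_comp, ← CoactBr.pt_comp, CoactBr.pt_mul_pt] at h
    refine AlgHom.ext fun a => ?_
    have h' := AlgHom.congr_fun (CoactBr.pt_injective h) a
    simp only [AlgHom.comp_apply] at h' ⊢
    refine Eq.trans ?_ (h'.symm.trans ?_)
    · generalize Bialgebra.comulAlgHom k A a = z
      induction z using TensorProduct.induction_on with
      | zero => simp
      | tmul x y => simp [iL, iR]
      | add x y hx hy => simp only [map_add, hx, hy]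
    · generalize Bialgebra.comulAlgHom k C (f a) = z
      induction z using TensorProduct.induction_on with
      | zero => simp
      | tmul x y => simp [iL, iR]
      | add x y hx hy => simp only [map_add, hx, hy]
  exact ⟨BialgHom.ofAlgHom f hε hΔ, rfl⟩

/-- The spectrum of the group algebra of `ℤ^r` is a torus. -/
theorem isTorus_of_diag_iso {T : Over (Spec (CommRingCat.of k))} [GrpObj T] {r : ℕ}
    (e : CoactBr.sp k (MonoidAlgebra k (Multiplicative (Fin r → ℤ))) ≅ T) (he : IsMonHom e.hom) :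
    Red.IsTorus T := by
  have hs : Surjective (Groth.AlgGrp2.str k k) := ⟨fun x => ⟨x, Subsingleton.elim _ _⟩⟩
  have hf : Flat (Groth.AlgGrp2.str k k) :=
    Flat.SpecMap_iff.mpr (RingHom.flat_algebraMap_iff.mpr inferInstance)
  refine ⟨Spec (CommRingCat.of k), Groth.AlgGrp2.str k k, hf, hs, fun V hV => ⟨_,
    (hV.preimage (Groth.AlgGrp2.str k k)).isCompact, Set.image_preimage_eq _ hs.surj⟩,
    fun s' => ⟨⊤, trivial, r, ?_⟩⟩
  let e0 : Red.diag k (Fin r → ℤ) ≅ T := e
  haveI : IsMonHom e0.hom := he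
  let e' : Red.DS (Spec (CommRingCat.of k)) (Fin r → ℤ) ≅ Red.bc (Groth.AlgGrp2.str k k) T :=
    (Groth.AlgGrp2.diagIsoDS k (Fin r → ℤ)).symm ≪≫ Groth.AlgGrp2.diagBC k k (Fin r → ℤ) ≪≫
      (Over.pullback (Groth.AlgGrp2.str k k)).mapIso e0
  haveI : IsMonHom ((Over.pullback (Groth.AlgGrp2.str k k)).map e0.hom) :=
    Groth.Abvar.isMonHom_map (f := Groth.AlgGrp2.str k k) e0.hom
  haveI : IsMonHom e'.hom := by
    simp only [e', Iso.trans_hom, Iso.symm_hom, Functor.mapIso_hom]
    infer_instance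
  obtain ⟨i, hi⟩ := Groth.Reductive.FreeDiag.exists_trivialisation_comp T
    (⊤ : (Spec (CommRingCat.of k)).Opens).ι (Groth.AlgGrp2.str k k) e'
  haveI := hi
  exact ⟨(Grp.mkIso' i).symm⟩

variable [IsAlgClosed k]

/-- A connected trigonalizable group is an extension of a split torus by a unipotent group, with a
splitting. -/
theorem exists_split_extension (A : Type u) [CommRing A] [IsDomain A] [HopfAlgebra k A]
    [Algebra.FiniteType k A] (hT : HopfRep.IsTrigonalizable k A) :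
    ∃ (r : ℕ) (ψ : MonoidAlgebra k (Multiplicative (Fin r → ℤ)) →ₐc[k] A)
      (ρ : A →ₐc[k] MonoidAlgebra k (Multiplicative (Fin r → ℤ))) (J : Ideal A) (_ : J.IsHopfIdeal k),
      ρ.comp ψ = BialgHom.id k _ ∧
      J = Ideal.map (ψ : MonoidAlgebra k (Multiplicative (Fin r → ℤ)) →+* A)
        (RingHom.ker (Bialgebra.counitAlgHom k (MonoidAlgebra k (Multiplicative (Fin r → ℤ))))) ∧
      HopfRep.IsUnipotent k (A ⧸ J) := by
  classical
  obtain ⟨B, _, _, ψ₀, J, hJh, hinj, hdiag, hJ, hU⟩ := (Groth.Agent.S7967.result k A).1 hT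
  haveI := hJh
  let M := GroupLike k B
  let L : MonoidAlgebra k M →ₐc[k] B := MonoidAlgebra.liftGroupLikeBialgHom
  have hLs : ∀ m : M, L (MonoidAlgebra.single m 1) = m.1 := fun m => by
    simp [L, MonoidAlgebra.liftGroupLikeBialgHom]
  have hLsurj : Function.Surjective L := by
    intro b
    have hb : b ∈ Submodule.span k {a : B | IsGroupLikeElem k a} := by
      rw [show Submodule.span k {a : B | IsGroupLikeElem k a} = ⊤ from hdiag]
      exact Submodule.mem_top
    induction hb using Submodule.span_induction with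
    | mem g hg => exact ⟨MonoidAlgebra.single ⟨g, hg⟩ 1, hLs _⟩
    | zero => exact ⟨0, map_zero _⟩
    | add x y _ _ hx hy =>
      obtain ⟨p, rfl⟩ := hx
      obtain ⟨q, rfl⟩ := hy
      exact ⟨p + q, map_add _ _ _⟩
    | smul c x _ hx =>
      obtain ⟨p, rfl⟩ := hx
      exact ⟨c • p, map_smul _ _ _⟩
  have hLinj : Function.Injective L := by
    intro p q h
    have hli := linearIndep_groupLikeVal (R := k) (A := B)
    have key : ∀ p : MonoidAlgebra k M,
        L p = Finsupp.linearCombination k (GroupLike.val (R := k) (A := B)) p.coeff := by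
      intro p
      induction p using MonoidAlgebra.induction_on with
      | of m => simp [hLs]
      | add x y hx hy => simp [hx, hy]
      | smul c x hx => simp [hx]
    rw [key, key] at h
    exact MonoidAlgebra.coeff_injective (hli h)
  let e₀ : MonoidAlgebra k M ≃ₐc[k] B := BialgEquiv.ofBijective L ⟨hLinj, hLsurj⟩
  obtain ⟨ρ₀, hρ₀⟩ := Groth.Agent.S4128.result k A B ⟨M, inferInstance, ⟨e₀.symm⟩⟩ ψ₀ hinj J hJ hU
  haveI : IsDomain B := hinj.isDomain ψ₀
  haveI : Algebra.FiniteType k B := Algebra.FiniteType.of_surjective (ρ₀ : A →ₐ[k] B)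
    (fun b => ⟨ψ₀ b, DFunLike.congr_fun hρ₀ b⟩)
  haveI : Group.FG M := by
    rw [← MonoidAlgebra.finiteType_iff_group_fg (R := k)]
    exact Algebra.FiniteType.equiv ‹_› e₀.toAlgEquiv.symm
  haveI : IsMulTorsionFree M := ⟨fun n hn a b hab => by
    have h1 : (a / b) ^ n = 1 := by rw [div_pow]; exact div_eq_one.2 hab
    have h2 := Groth.Misc1.Unip.DimOne.groupLike_torsion (a / b).2 hn (congrArg GroupLike.val h1)
    exact div_eq_one.1 (GroupLike.ext h2)⟩
  haveI : AddGroup.FG (Additive M) := AddGroup.fg_iff_addMonoid_fg.2 inferInstance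
  haveI : Module.Finite ℤ (Additive M) := Module.Finite.iff_addGroup_fg.2 inferInstance
  haveI : Module.Free ℤ (Additive M) := Module.free_of_finite_type_torsion_free'
  let b := Module.finBasis ℤ (Additive M)
  let σ : M ≃* Multiplicative (Fin (Module.finrank ℤ (Additive M)) → ℤ) :=
    AddEquiv.toMultiplicativeRight b.equivFun.toAddEquiv
  let e := (MonoidAlgebra.domCongrBialgEquiv k k σ).symm.trans e₀
  let N := MonoidAlgebra k (Multiplicative (Fin (Module.finrank ℤ (Additive M)) → ℤ))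
  refine ⟨_, ψ₀.comp (e : N →ₐc[k] B), (e.symm : B →ₐc[k] N).comp ρ₀, J, hJh, ?_, ?_, hU⟩
  · refine BialgHom.ext fun x => ?_
    change e.symm (ρ₀ (ψ₀ (e x))) = x
    rw [show ρ₀ (ψ₀ (e x)) = e x from DFunLike.congr_fun hρ₀ (e x)]
    exact e.symm_apply_apply x
  · rw [hJ]
    refine le_antisymm (Ideal.map_le_iff_le_comap.2 fun y hy => ?_) (Ideal.map_le_iff_le_comap.2 fun x hx => ?_)
    · rw [Ideal.mem_comap]
      rw [← e.apply_symm_apply y]
      refine Ideal.mem_map_of_mem ((ψ₀.comp (e : N →ₐc[k] B) : N →ₐc[k] A) : N →+* A) ?_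
      rw [RingHom.mem_ker] at hy ⊢
      rw [Bialgebra.counitAlgHom_apply] at hy ⊢
      exact (CoalgHomClass.counit_comp_apply (e.symm : B →ₐc[k] N) y).trans hy
    · rw [Ideal.mem_comap]
      refine Ideal.mem_map_of_mem (ψ₀ : B →+* A) ?_
      rw [RingHom.mem_ker] at hx ⊢
      rw [Bialgebra.counitAlgHom_apply] at hx ⊢
      exact (CoalgHomClass.counit_comp_apply (e : N →ₐc[k] B) x).trans hx

/-- An absorbing torus of a connected solvable group, with a retraction of the group onto it. -/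
theorem exists_torus_absorbing' (B : Over (Spec (CommRingCat.of k))) [GrpObj B] [IsAffine B.left]
    [Smooth B.hom] [ConnectedSpace B.left] (hs : Red.IsSolvableGrp B) :
    ∃ (S : Over (Spec (CommRingCat.of k))) (_ : GrpObj S) (iS : S ⟶ B) (π : B ⟶ S),
      IsMonHom iS ∧ IsMonHom π ∧ iS ≫ π = 𝟙 S ∧ IsClosedImmersion iS.left ∧ Red.IsTorus S ∧
      ∀ (T : Over (Spec (CommRingCat.of k))) [GrpObj T] (j : T ⟶ B) [IsMonHom j],
        Red.IsTorus T → ∃ (b : 𝟙_ (Over (Spec (CommRingCat.of k))) ⟶ B) (f : T ⟶ S),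
          f ≫ iS = AGF.conjBy b j := by
  obtain ⟨n, hn⟩ := hs
  haveI : IsReduced B.left := isReduced_of_smooth B.hom
  obtain ⟨A, _, _, _, e, he⟩ := exists_hopf_iso B
  have : IsIso e.hom.left := inferInstanceAs (IsIso ((Over.forget _).map e.hom))
  have h_red : IsReduced (CoactBr.sp k A).left := isReduced_of_isOpenImmersion e.hom.left
  haveI : IsReduced (Spec (CommRingCat.of A)) := h_red
  haveI : _root_.IsReduced A := (AlgebraicGeometry.affine_isReduced_iff (CommRingCat.of A)).1 ‹_›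
  haveI : ConnectedSpace (PrimeSpectrum A) := by
    have h : IsIso e.inv.left := inferInstanceAs (IsIso ((Over.forget _).map e.inv))
    exact e.inv.left.homeomorph.surjective.connectedSpace e.inv.left.homeomorph.continuous
  haveI : IsDomain A := Groth.Misc1.Unip.isDomain_of_connected' (k := k) fun x hx => by
    have hc := PrimeSpectrum.isClopen_iff.2 ⟨x, hx, rfl⟩
    rcases isClopen_iff.1 hc with h | h
    · left
      exact hx.eq_zero_of_isNilpotent ((PrimeSpectrum.basicOpen_eq_bot_iff x).1 (SetLike.coe_injective h))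
    · right
      refine sub_eq_zero.1 (neg_eq_zero.1 ?_)
      rw [neg_sub]
      refine hx.one_sub.eq_zero_of_isNilpotent ((PrimeSpectrum.basicOpen_eq_bot_iff _).1 ?_)
      refine SetLike.coe_injective (Set.eq_empty_of_forall_notMem fun p hp => ?_)
      have hp' : x ∉ p.asIdeal := by
        have : p ∈ (PrimeSpectrum.basicOpen x : Set (PrimeSpectrum A)) := h.symm ▸ Set.mem_univ p
        exact this
      have h0 : x * (1 - x) = 0 := hx.mul_one_sub_self
      rcases p.isPrime.mem_or_mem (h0 ▸ p.asIdeal.zero_mem : x * (1 - x) ∈ p.asIdeal) with h1 | h1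
      exacts [hp' h1, hp h1]
  haveI : Group.IsSolvable (WithConv (A →ₐ[k] k)) := by
    let P : WithConv (A →ₐ[k] k) →* (CoactBr.sp k k ⟶ B) :=
      MonoidHom.mk' (fun f => CoactBr.pt f.ofConv ≫ e.hom) fun f g => by
        rw [← MonObj.mul_comp]
        congr 1
        exact map_mul Spec.mapMulEquiv f g
    haveI : Group.IsSolvable (CoactBr.sp k k ⟶ B) := ⟨⟨n, hn _⟩⟩
    exact Group.isSolvable_of_isSolvable_injective (f := P) fun f g h =>
      WithConv.ofConv_injective (CoactBr.pt_injective ((cancel_mono e.hom).1 h))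
  obtain ⟨r, ψ, ρ, J, hJh, hρ, hJ, hU⟩ :=
    exists_split_extension (k := k) A Groth.Misc1.Unip.isTrigonalizable_of_solvable
  haveI := hJh
  let N := MonoidAlgebra k (Multiplicative (Fin r → ℤ))
  let iS : CoactBr.sp k N ⟶ B := CoactBr.pt (ρ : A →ₐ[k] N) ≫ e.hom
  haveI := isMonHom_pt_bialg ρ
  haveI := isMonHom_pt_bialg ψ
  refine ⟨CoactBr.sp k N, inferInstance, iS, e.inv ≫ CoactBr.pt (ψ : N →ₐ[k] A), inferInstance, inferInstance, ?_,
    ?_, isTorus_of_diag_iso (Iso.refl _)
    (inferInstanceAs (IsMonHom (𝟙 _))), fun T _ j _ hT => ?_⟩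
  · show (CoactBr.pt (ρ : A →ₐ[k] N) ≫ e.hom) ≫ e.inv ≫ CoactBr.pt (ψ : N →ₐ[k] A) = 𝟙 _
    rw [Category.assoc, e.hom_inv_id_assoc, ← CoactBr.pt_comp]
    rw [show (ρ : A →ₐ[k] N).comp (ψ : N →ₐ[k] A) = AlgHom.id k N from
      AlgHom.ext fun x => DFunLike.congr_fun hρ x]
    exact CoactBr.pt_id
  · have : IsClosedImmersion (CoactBr.pt (ρ : A →ₐ[k] N)).left := by
      rw [CoactBr.pt_left]
      exact IsClosedImmersion.spec_of_surjective _ fun b => ⟨ψ b, DFunLike.congr_fun hρ b⟩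
    change IsClosedImmersion ((CoactBr.pt (ρ : A →ₐ[k] N)).left ≫ e.hom.left)
    infer_instance
  obtain ⟨r', eT, heT⟩ := exists_diag_iso_of_isTorus hT
  haveI := heT
  let C := MonoidAlgebra k (Multiplicative (Fin r' → ℤ))
  obtain ⟨φ, hφ⟩ := exists_bialgHom_of_isMonHom (eT.hom ≫ j ≫ e.inv)
  let φ₀ : A →ₐc[k] C := (φ.comp ψ).comp ρ
  have hφ₀ : φ₀.comp ψ = φ.comp ψ := BialgHom.ext fun x => by
    change φ (ψ (ρ (ψ x))) = φ (ψ x)
    rw [show ρ (ψ x) = x from DFunLike.congr_fun hρ x]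
  have hC : SGA3b.IsDiag k C := by
    let σ : Multiplicative (ULift.{u} (Fin r' → ℤ)) ≃* Multiplicative (Fin r' → ℤ) :=
      AddEquiv.toMultiplicative AddEquiv.ulift
    exact ⟨_, inferInstance, ⟨MonoidAlgebra.domCongrBialgEquiv k k σ.symm⟩⟩
  obtain ⟨v, -, hv⟩ := LiftConj.exists_conj_lift hC ψ J hJ hU (φ.comp ψ) φ φ₀ rfl hφ₀
  -- translate to schemes
  let c : CoactBr.sp k C ⟶ CoactBr.sp k A :=
    CoactBr.pt ((Algebra.ofId k C).comp v)
  have hc : CoactBr.pt (φ : A →ₐ[k] C) = c * CoactBr.pt (φ₀ : A →ₐ[k] C) * c⁻¹ := by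
    rw [show (φ : A →ₐ[k] C) = (conjP v (toConv (φ₀ : A →ₐ[k] C))).ofConv from congrArg WithConv.ofConv hv]
    rw [conjP, CoactBr.pt_inv]
    rw [show c * CoactBr.pt (φ₀ : A →ₐ[k] C) *
      CoactBr.pt (((Algebra.ofId k C).comp v).comp (HopfAlgebra.antipodeAlgHom k A)) =
        CoactBr.pt (pt C v * toConv (φ₀ : A →ₐ[k] C) * pinv (pt C v).ofConv).ofConv from
      ((congrArg₂ (· * ·) (map_mul Spec.mapMulEquiv (pt C v) (toConv (φ₀ : A →ₐ[k] C))).symm rfl).trans
        (map_mul Spec.mapMulEquiv _ _).symm)]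
  let E : 𝟙_ (Over (Spec (CommRingCat.of k))) ≅ CoactBr.sp k k :=
    Over.isoMk (Iso.refl _) (by
      change Spec.map (CommRingCat.ofHom (algebraMap k k)) = 𝟙 _
      rw [Algebra.algebraMap_self, CommRingCat.ofHom_id, Spec.map_id])
  let b : 𝟙_ (Over (Spec (CommRingCat.of k))) ⟶ B := E.hom ≫ CoactBr.pt v ≫ e.hom
  refine ⟨b⁻¹, eT.inv ≫ CoactBr.pt ((φ.comp ψ : N →ₐc[k] C) : N →ₐ[k] C), ?_⟩
  have hb : toUnit T ≫ b = eT.inv ≫ c ≫ e.hom := by
    have : toUnit T ≫ E.hom = eT.inv ≫ CoactBr.pt (Algebra.ofId k C) := by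
      rw [← cancel_mono E.inv]
      exact toUnit_unique _ _
    simp only [b, c, CoactBr.pt_comp, reassoc_of% this, Category.assoc]
  have hj : j = eT.inv ≫ CoactBr.pt (φ : A →ₐ[k] C) ≫ e.hom := by
    rw [hφ]; simp
  have h0 : (eT.inv ≫ CoactBr.pt ((φ.comp ψ : N →ₐc[k] C) : N →ₐ[k] C)) ≫ iS =
      eT.inv ≫ CoactBr.pt (φ₀ : A →ₐ[k] C) ≫ e.hom := by
    rw [Category.assoc]
    show eT.inv ≫ _ ≫ CoactBr.pt _ ≫ e.hom = _
    rw [← Category.assoc (CoactBr.pt _) (CoactBr.pt _) e.hom, ← CoactBr.pt_comp]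
    rfl
  have hj' : j = (toUnit T ≫ b) * ((eT.inv ≫ CoactBr.pt ((φ.comp ψ : N →ₐc[k] C) : N →ₐ[k] C)) ≫ iS) *
      (toUnit T ≫ b)⁻¹ := by
    rw [h0, hb, hj, hc, MonObj.mul_comp, MonObj.mul_comp, GrpObj.inv_comp, MonObj.comp_mul, MonObj.comp_mul,
      GrpObj.comp_inv]
  unfold AGF.conjBy
  rw [GrpObj.comp_inv, _root_.inv_inv]
  conv_rhs => rw [hj']
  simp [_root_.mul_assoc]

/-- **In a connected solvable group there is a torus into which every subtorus can be conjugated.** -/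
theorem exists_torus_absorbing (B : Over (Spec (CommRingCat.of k))) [GrpObj B] [IsAffine B.left]
    [Smooth B.hom] [ConnectedSpace B.left] (hs : Red.IsSolvableGrp B) :
    ∃ (S : Over (Spec (CommRingCat.of k))) (_ : GrpObj S) (iS : S ⟶ B),
      IsMonHom iS ∧ IsClosedImmersion iS.left ∧ Red.IsTorus S ∧
      ∀ (T : Over (Spec (CommRingCat.of k))) [GrpObj T] (j : T ⟶ B) [IsMonHom j],
        Red.IsTorus T → ∃ (b : 𝟙_ (Over (Spec (CommRingCat.of k))) ⟶ B) (f : T ⟶ S),
          f ≫ iS = AGF.conjBy b j := by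
  obtain ⟨S, iG, iS, π, h1, -, -, h2, h3, h4⟩ := exists_torus_absorbing' B hs
  exact ⟨S, iG, iS, h1, h2, h3, h4⟩

end Groth.AlgGrp1
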