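import Groth.Agent.AlgGrp1.Rigidity
import Groth.Agent.AlgGrp1.ClosedFunctor

/-!
# The fixed point scheme of an action on a separated scheme over a field
-/

universe u

open CategoryTheory Limits MonoidalCategory CartesianMonoidalCategory MonObj AlgebraicGeometry
  TopologicalSpace
open scoped TensorProduct

namespace Groth.AlgGrp1

variable {k : Type u} [Field k]

theorem coord_map {A B C : Type u} [CommRing A] [Algebra k A] [CommRing B] [Algebra k B]
    [CommRing C] [Algebra k C] {I : Type*} [DecidableEq I] (b : Module.Basis I k A) (φ : B →ₐ[k] C) (z : A ⊗[k] B) (j : I) :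
    TensorProduct.equivFinsuppOfBasisLeft b (Algebra.TensorProduct.map (AlgHom.id k A) φ z) j =
      φ (TensorProduct.equivFinsuppOfBasisLeft b z j) := by
  induction z with
  | zero => simp
  | tmul a r => simp
  | add z w hz hw => simp only [map_add, Finsupp.add_apply, hz, hw]

/-- The largest quotient over which a given ideal of `A ⊗ B` vanishes. -/
theorem exists_coeff_ideal (A B : Type u) [CommRing A] [Algebra k A] [CommRing B] [Algebra k B]
    (I : Ideal (A ⊗[k] B)) : ∃ J : Ideal B, ∀ (C : Type u) [CommRing C] [Algebra k C] (φ : B →ₐ[k] C),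
      I ≤ RingHom.ker (Algebra.TensorProduct.map (AlgHom.id k A) φ).toRingHom ↔ J ≤ RingHom.ker φ.toRingHom := by
  classical
  let b := Module.Free.chooseBasis k A
  refine ⟨Ideal.span {y | ∃ w ∈ I, ∃ j, TensorProduct.equivFinsuppOfBasisLeft b w j = y}, fun C _ _ φ => ?_⟩
  rw [Ideal.span_le]
  constructor
  · rintro h _ ⟨w, hw, j, rfl⟩
    show φ _ = 0
    rw [← coord_map b φ, show Algebra.TensorProduct.map (AlgHom.id k A) φ w = 0 from h hw]
    simp
  · intro h w hw
    show Algebra.TensorProduct.map (AlgHom.id k A) φ w = 0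
    apply (TensorProduct.equivFinsuppOfBasisLeft b).injective
    ext j
    rw [coord_map, map_zero]
    exact h ⟨w, hw, j, rfl⟩

theorem cover_member_eq {S : Scheme.{u}} {X U T : Over S} (a : U ⟶ X) {u : U.left ⟶ X.left}
    (hu : a.left = u) {W : Scheme.{u}} (p q : (X ⊗ T).left ⟶ W)
    (h : (a ▷ T).left ≫ p = (a ▷ T).left ≫ q) :
    pullback.map (u ≫ X.hom) T.hom X.hom T.hom u (𝟙 T.left) (𝟙 S) (Category.comp_id _) rfl ≫ p =
      pullback.map (u ≫ X.hom) T.hom X.hom T.hom u (𝟙 T.left) (𝟙 S) (Category.comp_id _) rfl ≫ q := by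
  subst hu
  rw [← cover_member, Category.assoc, Category.assoc]
  exact congrArg (_ ≫ ·) h

/-- The fixed points of an action on a separated scheme form a closed subscheme. -/
theorem exists_closed_fixedPoints {G X : Over (Spec (CommRingCat.of k))} [GrpObj G]
    [IsSeparated X.hom] (a : AlgGrp.Action G X) :
    ∃ (Z : Over (Spec (CommRingCat.of k))) (incl : Z ⟶ X), IsClosedImmersion incl.left ∧
      ∀ (T : Over (Spec (CommRingCat.of k))) (f : T ⟶ X),
        (∀ (T' : Over (Spec (CommRingCat.of k))) (t : T' ⟶ T) (g : T' ⟶ G), lift g (t ≫ f) ≫ a.act = t ≫ f) ↔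
          ∃ f' : T ⟶ Z, f' ≫ incl = f := by
  let P : ∀ {T : Scheme.{u}}, (T ⟶ X.left) → Prop := fun {T} f =>
    ∀ (T' : Over (Spec (CommRingCat.of k))) (y : T' ⟶ X) (g : T' ⟶ G) (r : T'.left ⟶ T),
      r ≫ f = y.left → lift g y ≫ a.act = y
  refine Exists.elim (exists_closed_of_affine_ideals (X := X.left) P
    (fun q f hf T' y g r hr => hf T' y g (r ≫ q) (by rw [Category.assoc, hr])) ?_ ?_) fun Z ⟨iz, hiz, hZ⟩ => ?_
  · intro T f 𝒰 h T' y g r hr
    ext
    refine Scheme.Cover.hom_ext (𝒰.pullback₁ r) _ _ fun i => ?_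
    let T'' : Over (Spec (CommRingCat.of k)) := Over.mk ((𝒰.pullback₁ r).f i ≫ T'.hom)
    let w : T'' ⟶ T' := Over.homMk ((𝒰.pullback₁ r).f i) rfl
    have key := h i T'' (w ≫ y) (w ≫ g) (pullback.snd r (𝒰.f i)) (by
      rw [Over.comp_left, ← hr]
      show pullback.snd r (𝒰.f i) ≫ 𝒰.f i ≫ f = pullback.fst r (𝒰.f i) ≫ r ≫ f
      rw [pullback.condition_assoc])
    rw [← comp_lift_assoc] at key
    exact congr(($key).left)
  · intro U
    obtain ⟨instB, xB, hxB⟩ := exists_algebra (X := X) U.2.fromSpec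
    let 𝒱 := G.left.affineOpenCover
    have hJ : ∀ i, ∃ (_ : Algebra k (𝒱.X i)) (α : specAlg k (𝒱.X i : CommRingCat) ⟶ G),
        α.left = 𝒱.f i ∧ ∃ J : Ideal Γ(X.left, U), ∀ (C : Type u) [CommRing C] [Algebra k C]
          (φ : Γ(X.left, U) →ₐ[k] C),
          ((specAlg k (𝒱.X i : CommRingCat) ◁ specAlgMap φ) ≫ (α ⊗ₘ xB) ≫ a.act =
            (specAlg k (𝒱.X i : CommRingCat) ◁ specAlgMap φ) ≫ (α ⊗ₘ xB) ≫ snd G X) ↔
          J ≤ RingHom.ker φ.toRingHom := by
      intro i
      obtain ⟨instA, α, hα⟩ := exists_algebra (X := G) (𝒱.f i)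
      refine ⟨instA, α, hα, ?_⟩
      obtain ⟨E, c, _, hc⟩ := exists_equalizer ((α ⊗ₘ xB) ≫ a.act) ((α ⊗ₘ xB) ≫ snd G X)
      let e := pullbackSpecIso k (𝒱.X i) Γ(X.left, U)
      have : IsClosedImmersion (c.left ≫ e.hom) := inferInstance
      let I : Ideal (𝒱.X i ⊗[k] Γ(X.left, U)) :=
        (RingHom.ker (c.left ≫ e.hom).appTop.hom).comap (Scheme.ΓSpecIso (CommRingCat.of (𝒱.X i ⊗[k] Γ(X.left, U)))).inv.hom
      obtain ⟨J, hJ⟩ := exists_coeff_ideal (k := k) (𝒱.X i) Γ(X.left, U) I
      refine ⟨J, fun C _ _ φ => ?_⟩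
      rw [← hc, ← hJ C φ]
      let t := Algebra.TensorProduct.map (AlgHom.id k (𝒱.X i)) φ
      let e' := pullbackSpecIso k (𝒱.X i) C
      have hbox : e'.inv ≫ (specAlg k (𝒱.X i : CommRingCat) ◁ specAlgMap φ).left =
          Spec.map (CommRingCat.ofHom t.toRingHom) ≫ e.inv := box_lift_aux φ
      have step1 : (∃ z, z ≫ c = specAlg k (𝒱.X i : CommRingCat) ◁ specAlgMap φ) ↔
          ∃ z, z ≫ (c.left ≫ e.hom) = Spec.map (CommRingCat.ofHom t.toRingHom) := by
        constructor
        · rintro ⟨z, hz⟩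
          refine ⟨e'.inv ≫ z.left, ?_⟩
          rw [Category.assoc, ← Category.assoc z.left, ← Over.comp_left, hz, ← Category.assoc, hbox,
            Category.assoc, Iso.inv_hom_id, Category.comp_id]
        · rintro ⟨z, hz⟩
          have h1 : (e'.hom ≫ z) ≫ c.left = (specAlg k (𝒱.X i : CommRingCat) ◁ specAlgMap φ).left := by
            rw [← cancel_mono e.hom, Category.assoc, Category.assoc, hz, ← Iso.eq_inv_comp,
              ← Category.assoc, hbox, Category.assoc, Iso.inv_hom_id, Category.comp_id]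
          exact ⟨Over.homMk (e'.hom ≫ z) (by rw [← Over.w c, ← Category.assoc, h1, Over.w]),
            Over.OverMorphism.ext h1⟩
      rw [step1, exists_factor_iff_of_isAffine]
      have nat := Scheme.ΓSpecIso_inv_naturality (CommRingCat.ofHom t.toRingHom)
      constructor
      · intro h w hw
        have h1 := h hw
        have h2 := congr($(nat).hom w)
        rw [RingHom.mem_ker] at h1
        apply (ConcreteCategory.bijective_of_isIso (Scheme.ΓSpecIso (CommRingCat.of (𝒱.X i ⊗[k] C))).inv).1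
        rw [map_zero]
        exact h2.trans h1
      · intro h w hw
        obtain ⟨w', rfl⟩ := (ConcreteCategory.bijective_of_isIso
          (Scheme.ΓSpecIso (CommRingCat.of (𝒱.X i ⊗[k] Γ(X.left, U)))).inv).2 w
        have h2 := congr($(nat).hom w')
        rw [RingHom.mem_ker]
        refine h2.symm.trans ?_
        show (Scheme.ΓSpecIso (CommRingCat.of (𝒱.X i ⊗[k] C))).inv.hom (t w') = 0
        rw [show t w' = 0 from h hw, map_zero]
    choose instA α hα J hJ using hJ
    refine ⟨⨆ i, J i, fun C φ => ?_⟩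
    let instC : Algebra k C := (φ.hom.comp (algebraMap k Γ(X.left, U))).toAlgebra
    let φA : Γ(X.left, U) →ₐ[k] C := ⟨φ.hom, fun _ => rfl⟩
    let xC := specAlgMap φA ≫ xB
    have hxC : xC.left = Spec.map φ ≫ U.2.fromSpec := by
      show Spec.map _ ≫ xB.left = _
      rw [hxB]; rfl
    rw [iSup_le_iff]
    have hm : ∀ i, (@specAlg k _ (𝒱.X i : CommRingCat) _ (instA i) ◁ specAlgMap φA) ≫ (α i ⊗ₘ xB) =
        (α i ▷ specAlg k C) ≫ (G ◁ xC) := fun i => by
      apply CartesianMonoidalCategory.hom_ext <;> simp [xC]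
    constructor
    · intro h i
      refine (hJ i C φA).1 ?_
      rw [reassoc_of% (hm i), reassoc_of% (hm i)]
      have key := h _ (snd _ (specAlg k C) ≫ xC) (fst (@specAlg k _ (𝒱.X i : CommRingCat) _ (instA i)) _ ≫ α i)
        (snd (@specAlg k _ (𝒱.X i : CommRingCat) _ (instA i)) (specAlg k C)).left (by rw [Over.comp_left, hxC])
      have e1 : lift (fst (@specAlg k _ (𝒱.X i : CommRingCat) _ (instA i)) (specAlg k C) ≫ α i) (snd _ _ ≫ xC) =
          (α i ▷ specAlg k C) ≫ (G ◁ xC) := by
        apply CartesianMonoidalCategory.hom_ext <;> simp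
      rw [e1, Category.assoc] at key
      rw [key]
      simp
    · intro h T' y g r hr
      let y' : T' ⟶ specAlg k C := Over.homMk r (by
        rw [← Over.w y, ← hr, ← hxC, Category.assoc, Over.w xC])
      have hy : y = y' ≫ xC := Over.OverMorphism.ext (by rw [Over.comp_left, hxC]; exact hr.symm)
      have key : (G ◁ xC) ≫ a.act = (G ◁ xC) ≫ snd G X := by
        ext
        refine (Scheme.Pullback.openCoverOfLeft 𝒱.openCover G.hom (specAlg k C).hom).hom_ext _ _ fun i => ?_
        let := instA i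
        refine cover_member_eq (α i) (hα i) _ _ ?_
        have := (hJ i C φA).2 (h i)
        rw [reassoc_of% (hm i), reassoc_of% (hm i)] at this
        exact congr(($this).left)
      rw [hy, ← lift_whiskerLeft_assoc, key, lift_whiskerLeft_assoc, lift_snd]
  · refine ⟨Over.mk (iz ≫ X.hom), Over.homMk iz rfl, hiz, fun T f => ?_⟩
    constructor
    · intro h
      obtain ⟨z, hz⟩ := (hZ f.left).1 fun T' y g r hr => by
        let t : T' ⟶ T := Over.homMk r (by rw [← Over.w f, ← Category.assoc, hr, Over.w y])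
        have hy : y = t ≫ f := Over.OverMorphism.ext hr.symm
        rw [hy]
        exact h T' t g
      exact ⟨Over.homMk z (by show z ≫ iz ≫ X.hom = _; rw [← Category.assoc, hz, Over.w f]),
        Over.OverMorphism.ext hz⟩
    · rintro ⟨f', rfl⟩ T' t g
      exact (hZ iz).2 ⟨𝟙 _, Category.id_comp _⟩ T' (t ≫ f' ≫ Over.homMk iz rfl) g (t.left ≫ f'.left)
        (Category.assoc _ _ _)

end Groth.AlgGrp1
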