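import Groth.Agent.AlgGrp1.Act
import Groth.Agent.AlgGrp1.Rigidity
import Groth.Agent.GrpschAbsch.Basic
import Groth.Agent.ZetaAn.Constructible
import Mathlib.AlgebraicGeometry.Morphisms.FinitePresentation
import Mathlib.AlgebraicGeometry.Morphisms.UniversallyOpen

/-!
# Invariant sets of an action, orbits
-/

universe u

open CategoryTheory Limits MonoidalCategory CartesianMonoidalCategory MonObj AlgebraicGeometry
  TopologicalSpace Topology

namespace Groth.AlgGrp1

/-- Above every point of the closure of a constructible set lies a maximal point of the closure,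
which belongs to the set. -/
theorem exists_maximal_of_mem_closure {α : Type*} [TopologicalSpace α] [NoetherianSpace α]
    [QuasiSober α] [T0Space α] {T : Set α} (hT : IsConstructible T) {c : α} (hc : c ∈ closure T) :
    ∃ ξ ∈ T, ξ ⤳ c ∧ ∀ y ∈ closure T, y ⤳ ξ → y = ξ := by
  have hemb : IsClosedEmbedding (Subtype.val : closure T → α) := isClosed_closure.isClosedEmbedding_subtypeVal
  have : QuasiSober (closure T) := hemb.quasiSober
  let Z := irreducibleComponent (⟨c, hc⟩ : closure T)
  obtain ⟨g, hg⟩ := QuasiSober.sober (show IsIrreducible Z from isIrreducible_irreducibleComponent)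
    isClosed_irreducibleComponent
  have hmax : ∀ y ∈ closure T, y ⤳ (g : α) → y = g := by
    intro y hy hyg
    have h1 : (⟨y, hy⟩ : closure T) ⤳ g := hemb.isInducing.specializes_iff.1 hyg
    refine (hyg.antisymm ((hg.specializes (y := ⟨y, hy⟩) ?_).map continuous_subtype_val)).eq
    have hle : Z ⊆ closure ({⟨y, hy⟩} : Set (closure T)) := by
      rw [← hg.def]
      exact closure_minimal (Set.singleton_subset_iff.2 h1.mem_closure) isClosed_closure
    rw [show Z = closure ({⟨y, hy⟩} : Set (closure T)) from
      (eq_irreducibleComponent (isIrreducible_singleton.closure.isPreirreducible) hle).symm]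
    exact subset_closure rfl
  obtain ⟨e0, he0, hyg0⟩ := Groth.ZetaAn.exists_specializes_of_mem_closure hT g.2
  exact ⟨g, hmax e0 (subset_closure he0) hyg0 ▸ he0,
    (hg.specializes mem_irreducibleComponent).map continuous_subtype_val, hmax⟩

/-- The relative interior of a constructible set in its closure. -/
theorem nonempty_relInterior {α : Type*} [TopologicalSpace α] [NoetherianSpace α]
    [QuasiSober α] [T0Space α] {T : Set α} (hT : IsConstructible T) (hne : T.Nonempty) :
    (T \ closure (closure T \ T)).Nonempty := by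
  obtain ⟨c, hc⟩ := hne
  obtain ⟨ξ, hξ, -, hmax⟩ := exists_maximal_of_mem_closure hT (subset_closure hc)
  refine ⟨ξ, hξ, fun h => ?_⟩
  have hcl : IsConstructible (closure T) :=
    have hr : IsRetrocompact (closure T)ᶜ := fun _ _ _ => NoetherianSpace.isCompact _
    compl_compl (closure T) ▸ (hr.isConstructible isClosed_closure.isOpen_compl).compl
  obtain ⟨e0, he0, hsp⟩ := Groth.ZetaAn.exists_specializes_of_mem_closure (hcl.sdiff hT) h
  exact he0.2 (hmax e0 he0.1 hsp ▸ hξ)

variable {k : Type u} [Field k] {G X Y : Over (Spec (CommRingCat.of k))} [GrpObj G]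

/-- A subset is invariant if its preimages under the action and the projection agree. -/
def IsInvariant (a : AlgGrp.Action G X) (S : Set X.left) : Prop :=
  a.act.left.base ⁻¹' S = (snd G X).left.base ⁻¹' S

theorem isOpenMap_snd (G X : Over (Spec (CommRingCat.of k))) : IsOpenMap (snd G X).left.base :=
  (pullback.snd G.hom X.hom).isOpenMap

theorem isOpenMap_act (a : AlgGrp.Action G X) : IsOpenMap a.act.left.base := by
  have h : (shear a).hom ≫ snd G X = a.act := lift_snd _ _
  rw [← h, Over.comp_left, Scheme.Hom.comp_base, TopCat.coe_comp]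
  exact (isOpenMap_snd G X).comp ((asIso (shear a).hom.left).hom.isOpenEmbedding.isOpenMap)

theorem IsInvariant.closure {a : AlgGrp.Action G X} {S : Set X.left} (h : IsInvariant a S) :
    IsInvariant a (closure S) := by
  unfold IsInvariant
  rw [(isOpenMap_act a).preimage_closure_eq_closure_preimage a.act.left.continuous,
    (isOpenMap_snd G X).preimage_closure_eq_closure_preimage (snd G X).left.continuous, h]

theorem IsInvariant.compl {a : AlgGrp.Action G X} {S : Set X.left} (h : IsInvariant a S) :
    IsInvariant a Sᶜ := by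
  unfold IsInvariant
  rw [Set.preimage_compl, Set.preimage_compl, h]

theorem IsInvariant.diff {a : AlgGrp.Action G X} {S T : Set X.left} (h : IsInvariant a S)
    (h' : IsInvariant a T) : IsInvariant a (S \ T) := by
  unfold IsInvariant
  rw [Set.preimage_sdiff, Set.preimage_sdiff, h, h']

/-- The image of an equivariant morphism is invariant. -/
theorem isInvariant_range (a : AlgGrp.Action G X) (b : AlgGrp.Action G Y) (f : X ⟶ Y)
    (hf : (G ◁ f) ≫ b.act = a.act ≫ f) : IsInvariant b (Set.range f.left.base) := by
  refine Set.eq_of_subset_of_subset (fun z hz => ?_) (fun z hz => ?_)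
  · let z' := (shear b).hom.left.base z
    have hz' : (snd G Y).left.base z' ∈ Set.range f.left.base := by
      have : (snd G Y).left.base z' = b.act.left.base z :=
        congr(($(show (shear b).hom ≫ snd G Y = b.act from lift_snd _ _)).left.base z)
      rwa [this]
    obtain ⟨q, hq⟩ := (mem_range_whiskerLeft_iff G f z').2 hz'
    have hq' : (G ◁ f) ≫ (shear b).inv = (shear a).inv ≫ (G ◁ f) := by
      rw [Iso.comp_inv_eq, Category.assoc, Iso.eq_inv_comp]
      apply CartesianMonoidalCategory.hom_ext <;> simp [shear, hf]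
    refine ⟨(snd G X).left.base ((shear a).inv.left.base q), ?_⟩
    have h1 := congr(($(congrArg (· ≫ snd G Y) hq')).left.base q)
    have h2 : (shear b).inv.left.base z' = z :=
      congr(($((shear b).hom_inv_id)).left.base z)
    simp only [Category.assoc, whiskerLeft_snd] at h1
    rw [← h2, ← hq]
    exact h1.symm
  · obtain ⟨q, hq⟩ := (mem_range_whiskerLeft_iff G f z).2 hz
    exact ⟨a.act.left.base q, by rw [← hq]; exact congr(($hf.symm).left.base q)⟩

/-- The action of a group on itself by left translation. -/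
noncomputable def regularAction (G : Over (Spec (CommRingCat.of k))) [GrpObj G] : AlgGrp.Action G G where
  act := μ[G]
  one_act := MonObj.one_mul G
  mul_act := MonObj.mul_assoc G

theorem orbitMap_equivariant (a : AlgGrp.Action G X) (x : 𝟙_ _ ⟶ X) :
    (G ◁ a.orbitMap x) ≫ a.act = (regularAction G).act ≫ a.orbitMap x := by
  apply AlgGrp.Action.hom_ext_lift₂
  intro T g h
  rw [lift_whiskerLeft_assoc, comp_orbit, show (regularAction G).act = μ[G] from rfl,
    ← Category.assoc, ← Hom.mul_def, comp_orbit, a.lift_mul_act]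

/-- A nonempty invariant subset of the group is everything. -/
theorem IsInvariant.eq_univ_regular {S : Set G.left} (h : IsInvariant (regularAction G) S)
    (hne : S.Nonempty) : S = Set.univ := by
  obtain ⟨g0, hg0⟩ := hne
  refine Set.eq_univ_of_forall fun g => ?_
  let e : G ⊗ G ≅ G ⊗ G := Groth.GrpschAbsch.shearR (T := G) (𝟙 G)
  obtain ⟨z, hz1, hz2⟩ := Scheme.Pullback.exists_preimage_pullback (f := G.hom) (g := G.hom) g g0
    (Subsingleton.elim _ _)
  let q := e.inv.left.base z
  have e1 : e.inv ≫ μ[G] = fst G G := by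
    rw [Iso.inv_comp_eq]
    simp [e, Groth.GrpschAbsch.shearR, Hom.mul_def]
  have e2 : e.inv ≫ snd G G = snd G G := lift_snd _ _
  have hq : q ∈ (snd G G).left.base ⁻¹' S := by
    have : (snd G G).left.base q = g0 := congr(($e2).left.base z).trans hz2
    rwa [Set.mem_preimage, this]
  rw [← h] at hq
  have hg : μ[G].left.base q = g := congr(($e1).left.base z).trans hz1
  exact hg ▸ hq

theorem IsInvariant.preimage_orbitMap {a : AlgGrp.Action G X} {S : Set X.left} (h : IsInvariant a S)
    (x : 𝟙_ _ ⟶ X) : IsInvariant (regularAction G) ((a.orbitMap x).left.base ⁻¹' S) := by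
  unfold IsInvariant
  rw [← Set.preimage_comp, ← Set.preimage_comp, ← TopCat.coe_comp, ← TopCat.coe_comp,
    ← Scheme.Hom.comp_base, ← Scheme.Hom.comp_base, ← Over.comp_left, ← Over.comp_left,
    ← orbitMap_equivariant a x, ← whiskerLeft_snd G (a.orbitMap x), Over.comp_left, Over.comp_left,
    Scheme.Hom.comp_base, Scheme.Hom.comp_base, TopCat.coe_comp, TopCat.coe_comp,
    Set.preimage_comp, Set.preimage_comp, h]

/-- An orbit is locally closed. -/
theorem isLocallyClosed_range_orbitMap [LocallyOfFiniteType G.hom] [QuasiCompact G.hom]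
    [LocallyOfFiniteType X.hom] [QuasiCompact X.hom] (a : AlgGrp.Action G X) (x : 𝟙_ _ ⟶ X) :
    IsLocallyClosed (Set.range (a.orbitMap x).left.base) := by
  set O := Set.range (a.orbitMap x).left.base
  have := isLocallyNoetherian_left X
  have : CompactSpace X.left := QuasiCompact.compactSpace_of_compactSpace X.hom
  have : AlgebraicGeometry.IsNoetherian X.left := ⟨⟩
  have : CompactSpace G.left := QuasiCompact.compactSpace_of_compactSpace G.hom
  have := lfp_left (a.orbitMap x)
  have : QuasiCompact ((a.orbitMap x).left ≫ X.hom) := by rw [Over.w]; infer_instance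
  have : QuasiCompact (a.orbitMap x).left := QuasiCompact.of_comp _ X.hom
  have hO : IsConstructible O := by
    rw [show O = (a.orbitMap x).left.base '' Set.univ from Set.image_univ.symm]
    exact (a.orbitMap x).left.isConstructible_image IsConstructible.univ
  have hinv := isInvariant_range (regularAction G) a (a.orbitMap x) (orbitMap_equivariant a x)
  have hne : O.Nonempty := ⟨_, η[G].left.base (IsLocalRing.closedPoint k), rfl⟩
  have hW := hinv.diff ((hinv.closure.diff hinv).closure)
  obtain ⟨_, hc, ⟨g, rfl⟩⟩ : ∃ y, y ∉ closure (closure O \ O) ∧ y ∈ O := by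
    obtain ⟨y, h1, h2⟩ := nonempty_relInterior hO hne
    exact ⟨y, h2, h1⟩
  have huniv := (hW.preimage_orbitMap x).eq_univ_regular ⟨g, ⟨g, rfl⟩, hc⟩
  have heq : O = (closure (closure O \ O))ᶜ ∩ closure O := by
    refine Set.eq_of_subset_of_subset ?_ ?_
    · rintro _ ⟨h, rfl⟩
      exact ⟨(huniv.ge (Set.mem_univ h)).2, subset_closure ⟨h, rfl⟩⟩
    · rintro y ⟨h1, h2⟩
      by_contra h
      exact h1 (subset_closure ⟨h2, h⟩)
  exact ⟨_, _, isClosed_closure.isOpen_compl, isClosed_closure, heq⟩

/-- Over an algebraically closed field there is a closed orbit. -/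
theorem exists_isClosed_range_orbitMap [IsAlgClosed k] [LocallyOfFiniteType G.hom] [QuasiCompact G.hom]
    [LocallyOfFiniteType X.hom] [QuasiCompact X.hom] [Nonempty X.left] (a : AlgGrp.Action G X) :
    ∃ x : 𝟙_ _ ⟶ X, IsClosed (Set.range (a.orbitMap x).left.base) := by
  have := isLocallyNoetherian_left X
  have : CompactSpace X.left := QuasiCompact.compactSpace_of_compactSpace X.hom
  have : AlgebraicGeometry.IsNoetherian X.left := ⟨⟩
  obtain ⟨Z, ⟨hZne, hZinv⟩, hmin⟩ := (wellFounded_lt (α := Closeds X.left)).has_min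
    {C | (C : Set X.left).Nonempty ∧ IsInvariant a C} ⟨⊤, ⟨Set.univ_nonempty, rfl⟩⟩
  have := LocallyOfFiniteType.jacobsonSpace X.hom
  obtain ⟨p, hp, hpc⟩ := nonempty_inter_closedPoints hZne Z.2.isLocallyClosed
  let x : 𝟙_ (Over (Spec (CommRingCat.of k))) ⟶ X :=
    Over.homMk _ ((pointEquivClosedPoint X.hom).symm ⟨p, hpc⟩).2
  refine ⟨x, ?_⟩
  set O := Set.range (a.orbitMap x).left.base
  have hsub : O ⊆ (Z : Set X.left) := by
    rintro _ ⟨g, rfl⟩
    let q := (lift (𝟙 G) (toUnit G ≫ x)).left.base g
    have hq : q ∈ (snd G X).left.base ⁻¹' (Z : Set X.left) := by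
      have h1 : (snd G X).left.base q = x.left.base ((toUnit G).left.base g) :=
        congr(($(lift_snd (𝟙 G) (toUnit G ≫ x))).left.base g)
      have h2 : x.left.base ((toUnit G).left.base g) = p := by
        rw [show (toUnit G).left.base g = IsLocalRing.closedPoint k from (Subsingleton.elim (α := ↥(Spec (CommRingCat.of k))) _ _)]
        simp [x, pointEquivClosedPoint]
      rw [Set.mem_preimage, h1, h2]
      exact hp
    rw [← hZinv] at hq
    exact hq
  have hinv := isInvariant_range (regularAction G) a (a.orbitMap x) (orbitMap_equivariant a x)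
  have hO : (closure O).Nonempty := ⟨_, subset_closure ⟨η[G].left.base (IsLocalRing.closedPoint k), rfl⟩⟩
  have hle : (⟨closure O, isClosed_closure⟩ : Closeds X.left) ≤ Z := closure_minimal hsub Z.2
  have heq : closure O = Z := congrArg (fun C : Closeds X.left => (C : Set X.left))
    (hle.eq_of_not_lt (hmin ⟨closure O, isClosed_closure⟩ ⟨hO, hinv.closure⟩))
  rw [← closure_subset_iff_isClosed]
  intro y hy
  by_contra hyO
  obtain ⟨U, C, hU, hC, hUC⟩ := isLocallyClosed_range_orbitMap a x
  have hd : IsClosed (closure O \ O) := by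
    have : closure O \ O = closure O \ U := Set.ext fun w => by
      refine ⟨fun ⟨h1, h2⟩ => ⟨h1, fun hw => h2 ?_⟩, fun ⟨h1, h2⟩ => ⟨h1, fun hw => h2 ?_⟩⟩
      · show w ∈ Set.range _
        rw [hUC]
        exact ⟨hw, closure_minimal (s := Set.range (a.orbitMap x).left.base) (by rw [hUC]; exact Set.inter_subset_right) hC h1⟩
      · exact (hUC ▸ hw : w ∈ U ∩ C).1
    rw [this]
    exact isClosed_closure.sdiff hU
  refine hmin ⟨_, hd⟩ ⟨⟨y, hy, hyO⟩, hinv.closure.diff hinv⟩ ⟨fun w hw => heq.le hw.1, fun h => ?_⟩
  exact (h (hsub ⟨η[G].left.base (IsLocalRing.closedPoint k), rfl⟩)).2 ⟨_, rfl⟩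

end Groth.AlgGrp1
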