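import Groth.Agent.AlgGrp1.GenSubgroup
import Groth.Agent.AlgGrp1.FixedPoints
import Groth.Agent.AlgGrp1.AffineQuot
import Groth.Agent.AlgGrp1.OrbitScheme
import Groth.Agent.AlgGrp1.QuotGrp
import Groth.Agent.AlgGrp1.Orbit
import Groth.Agent.AlgGrp1.Points
import Groth.Agent.AlgGrp1.Geom

/-!
Borel's fixed point theorem.
-/

set_option autoImplicit false
universe u

open scoped commutatorElement
open CategoryTheory Limits MonoidalCategory CartesianMonoidalCategory MonObj GrpObj AlgebraicGeometry

noncomputable section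

namespace Groth.AlgGrp1

variable {k : Type u} [Field k] [IsAlgClosed k]

local notation "Sch" => Over (Spec (CommRingCat.of k))

/-- Conjugation preserves a closed reduced subgroup containing all commutators. -/
theorem exists_commutator_lift {G D : Sch} [GrpObj G] [Smooth G.hom] [QuasiCompact G.hom]
    (i : D ⟶ G) [IsClosedImmersion i.left]
    (h : ∀ a b : 𝟙_ Sch ⟶ G, ∃ d, d ≫ i = a * b * a⁻¹ * b⁻¹) (T : Sch) (a b : T ⟶ G) :
    ∃ d : T ⟶ D, d ≫ i = a * b * a⁻¹ * b⁻¹ := by
  have : Smooth (G ⊗ G).hom := inferInstanceAs (Smooth (pullback.fst G.hom G.hom ≫ G.hom))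
  have := geometricallyReduced_of_smooth_hom (G ⊗ G)
  have := isReduced_left (G ⊗ G)
  let f : G ⊗ G ⟶ G := fst G G * snd G G * (fst G G)⁻¹ * (snd G G)⁻¹
  have hf : ∀ {T : Sch} (a b : T ⟶ G), lift a b ≫ f = a * b * a⁻¹ * b⁻¹ := fun a b => by
    simp [f, MonObj.comp_mul, GrpObj.comp_inv]
  obtain ⟨z, hz⟩ := exists_factor_of_range_subset i f (by
    rintro _ ⟨w, rfl⟩
    suffices h' : Set.univ ⊆ f.left ⁻¹' Set.range i.left from h' (Set.mem_univ w)
    refine subset_of_rpt isOpen_univ.isLocallyClosed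
      (i.left.isClosedEmbedding.isClosed_range.preimage f.left.continuous) fun x _ => ?_
    obtain ⟨d, hd⟩ := h (x ≫ fst G G) (x ≫ snd G G)
    refine ⟨rpt d, congrArg rpt (show d ≫ i = x ≫ f from ?_)⟩
    rw [hd, ← hf, CartesianMonoidalCategory.lift_comp_fst_snd])
  exact ⟨lift a b ≫ z, by rw [Category.assoc, hz, hf]⟩

/-- The derived subgroup of a connected group. -/
theorem exists_derived (G : Sch) [GrpObj G] [Smooth G.hom] [QuasiCompact G.hom] [ConnectedSpace G.left] :
    ∃ (D : Sch) (_ : GrpObj D) (i : D ⟶ G), IsMonHom i ∧ IsClosedImmersion i.left ∧ Smooth D.hom ∧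
      ConnectedSpace D.left ∧
      Set.range (fun d : 𝟙_ Sch ⟶ D => d ≫ i) = (commutator (𝟙_ Sch ⟶ G) : Set (𝟙_ Sch ⟶ G)) := by
  have := geometricallyIrreducible_of_connected G
  have : GeometricallyIrreducible (G ⊗ G).hom :=
    (GeometricallyIrreducible.comp (pullback.fst G.hom G.hom) G.hom :)
  have : Smooth (G ⊗ G).hom := inferInstanceAs (Smooth (pullback.fst G.hom G.hom ≫ G.hom))
  have : QuasiCompact (G ⊗ G).hom := inferInstanceAs (QuasiCompact (pullback.fst G.hom G.hom ≫ G.hom))
  let f : G ⊗ G ⟶ G := fst G G * snd G G * (fst G G)⁻¹ * (snd G G)⁻¹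
  have hf : ∀ a b : 𝟙_ Sch ⟶ G, lift a b ≫ f = ⁅a, b⁆ := fun a b => by
    simp [f, MonObj.comp_mul, GrpObj.comp_inv, commutatorElement_def]
  have hq : ∀ q : 𝟙_ Sch ⟶ G ⊗ G, q ≫ f = ⁅q ≫ fst G G, q ≫ snd G G⁆ := fun q => by
    rw [← hf, CartesianMonoidalCategory.lift_comp_fst_snd]
  obtain ⟨D, _, c, hc, hci, hsm, hcn, hr⟩ := Groth.AlgGrp1.exists_generated_subgroup (f := f)
    ⟨lift 1 1, by rw [hf, commutatorElement_one_left]⟩
    (fun q => ⟨lift (q ≫ snd G G) (q ≫ fst G G), by rw [hf, hq, commutatorElement_inv]⟩)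
  refine ⟨D, _, c, hc, hci, hsm, hcn, hr.trans ?_⟩
  congr 1
  rw [commutator_eq_closure]
  congr 1
  refine subset_antisymm ?_ ?_
  · rintro _ ⟨q, rfl⟩
    exact ⟨_, _, (hq q).symm⟩
  · rintro _ ⟨a, b, rfl⟩
    exact ⟨lift a b, hf a b⟩

theorem eq_one_of_points_trivial {G : Sch} [GrpObj G] [Smooth G.hom] [QuasiCompact G.hom]
    (h : ∀ g : 𝟙_ Sch ⟶ G, g = 1) {T : Sch} (g : T ⟶ G) : g = 1 := by
  have := geometricallyReduced_of_smooth_hom G
  have := isReduced_left G
  have := isSeparated_grpObj G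
  let o : 𝟙_ Sch ⟶ G := 1
  have : IsClosedImmersion (o.left ≫ G.hom) := by
    rw [Over.w o]; exact inferInstanceAs (IsClosedImmersion (𝟙 _))
  have : IsClosedImmersion o.left := IsClosedImmersion.of_comp o.left G.hom
  obtain ⟨z, hz⟩ := exists_factor_of_range_subset o (𝟙 G) (by
    rintro w -
    suffices h' : Set.univ ⊆ Set.range o.left from h' (Set.mem_univ w)
    exact subset_of_rpt isOpen_univ.isLocallyClosed o.left.isClosedEmbedding.isClosed_range fun x _ =>
      ⟨rpt (𝟙 _), congrArg rpt (show 𝟙 _ ≫ o = x by rw [Category.id_comp, h x])⟩)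
  have e : (𝟙 G : G ⟶ G) = 1 := by rw [← hz, MonObj.comp_one]
  rw [← Category.comp_id g, e, MonObj.comp_one]

theorem exists_fixedPt_of_derivedSeries (n : ℕ) : ∀ (G : Sch) [GrpObj G] [IsAffine G.left] [Smooth G.hom]
    [ConnectedSpace G.left], derivedSeries (𝟙_ Sch ⟶ G) n = ⊥ → ∀ (X : Sch) [IsProper X.hom] [Nonempty X.left]
    (a : AlgGrp.Action G X), ∃ x : 𝟙_ Sch ⟶ X, a.IsFixedPt x := by
  induction n with
  | zero =>
    intro G _ _ _ _ hd X _ _ a
    have := LocallyOfFiniteType.jacobsonSpace X.hom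
    obtain ⟨p, -, hp⟩ := nonempty_inter_closedPoints (Z := (Set.univ : Set X.left)) Set.univ_nonempty
      isOpen_univ.isLocallyClosed
    obtain ⟨x, -⟩ := exists_rpt hp
    refine ⟨x, fun T g => ?_⟩
    rw [eq_one_of_points_trivial (fun g' => Subgroup.mem_bot.1 (hd ▸ Subgroup.mem_top g')) g, a.lift_one_act]
  | succ n ih =>
    intro G _ _ _ _ hd X _ _ a
    obtain ⟨D, _, i, hi, hci, hDs, hDc, hr⟩ := exists_derived G
    have : Mono i := Over.mono_of_mono_left i
    have : IsAffine D.left := isAffine_of_isAffineHom i.left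
    have hcomm : ∀ (T : Sch) (p q : T ⟶ G), ∃ d : T ⟶ D, d ≫ i = p * q * p⁻¹ * q⁻¹ :=
      exists_commutator_lift i fun p q => by
        have : p * q * p⁻¹ * q⁻¹ ∈ commutator (𝟙_ Sch ⟶ G) :=
          Subgroup.commutator_mem_commutator (Subgroup.mem_top p) (Subgroup.mem_top q)
        rw [← SetLike.mem_coe, ← hr] at this
        exact this
    -- fixed points of `D`
    let aD : AlgGrp.Action D X := a.restrict i
    have hact : ∀ {T : Sch} (d : T ⟶ D) (y : T ⟶ X), lift d y ≫ aD.act = lift (d ≫ i) y ≫ a.act := fun d y =>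
      a.lift_restrict_act i d y
    let φ : (𝟙_ Sch ⟶ D) →* (𝟙_ Sch ⟶ G) := MonoidHom.mk' (· ≫ i) fun d e => MonObj.mul_comp d e i
    have hφ : Function.Injective φ := fun d e h => (cancel_mono i).1 h
    have hle : ∀ m, (derivedSeries (𝟙_ Sch ⟶ D) m).map φ ≤ derivedSeries (𝟙_ Sch ⟶ G) (m + 1) := by
      intro m
      induction m with
      | zero =>
        rw [derivedSeries_one]
        rintro _ ⟨d, -, rfl⟩
        rw [← SetLike.mem_coe, ← hr]
        exact ⟨d, rfl⟩
      | succ m ihm =>
        rw [derivedSeries_succ, Subgroup.map_commutator, derivedSeries_succ _ (m + 1)]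
        exact Subgroup.commutator_mono ihm ihm
    have hdD : derivedSeries (𝟙_ Sch ⟶ D) n = ⊥ :=
      (Subgroup.map_eq_bot_iff_of_injective _ hφ).1 (le_bot_iff.1 (hd ▸ hle n))
    obtain ⟨x₀, hx₀⟩ := ih D hdD X aD
    obtain ⟨Z, incl, hic, hZ⟩ := exists_closed_fixedPoints aD
    have : Mono incl := Over.mono_of_mono_left incl
    have : IsProper Z.hom := by rw [← Over.w incl]; infer_instance
    have hx₀Z : ∃ z, z ≫ incl = x₀ := (hZ _ x₀).1 fun T' t g => by
      rw [toUnit_unique t (toUnit T')]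
      exact hx₀ T' g
    have : Nonempty Z.left := ⟨rpt hx₀Z.choose⟩
    have hfix : ∀ {T : Sch} (z : T ⟶ Z) (d : T ⟶ D), lift (d ≫ i) (z ≫ incl) ≫ a.act = z ≫ incl := by
      intro T z d
      have := (hZ T (z ≫ incl)).2 ⟨z, rfl⟩ T (𝟙 _) d
      simpa [hact] using this
    -- `G` acts on `Z`
    obtain ⟨zact, hzact⟩ := (hZ (G ⊗ Z) ((G ◁ incl) ≫ a.act)).1 (by
      intro T' t d
      have e : t ≫ (G ◁ incl) ≫ a.act = lift (t ≫ fst G Z) ((t ≫ snd G Z) ≫ incl) ≫ a.act := by
        rw [← Category.assoc]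
        congr 1
        apply CartesianMonoidalCategory.hom_ext <;> simp
      rw [hact, e]
      set g := t ≫ fst G Z
      set z := t ≫ snd G Z
      obtain ⟨c, hc⟩ := hcomm T' g⁻¹ (d ≫ i)
      have h1 : d ≫ i * g = g * ((c * d) ≫ i) := by
        rw [MonObj.mul_comp, hc]
        group
      rw [← a.lift_mul_act, h1, a.lift_mul_act, hfix])
    let b : AlgGrp.Action G Z :=
      { act := zact
        one_act := by
          rw [← cancel_mono incl, Category.assoc, hzact]
          apply AlgGrp.Action.hom_ext_lift₂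
          intro T v z
          rw [lift_whiskerRight_assoc, lift_whiskerLeft_assoc, ← toUnit_unique (toUnit T) v, ← Hom.one_def, a.lift_one_act,
            leftUnitor_hom, lift_snd_assoc]
        mul_act := by
          rw [← cancel_mono incl]
          simp only [Category.assoc]
          rw [hzact]
          apply AlgGrp.Action.hom_ext_lift₃
          intro T g g' z
          rw [lift_whiskerRight_assoc, ← Hom.mul_def, lift_whiskerLeft_assoc, a.lift_mul_act,
            lift_lift_associator_hom_assoc, lift_whiskerLeft_assoc, lift_whiskerLeft_assoc, Category.assoc, hzact,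
            lift_whiskerLeft_assoc] }
    obtain ⟨x, hxcl⟩ := exists_isClosed_range_orbitMap b
    -- the stabilizer
    have : IsClosedImmersion x.left := by
      have : IsClosedImmersion (x.left ≫ Z.hom) := by
        rw [Over.w x]; exact inferInstanceAs (IsClosedImmersion (𝟙 _))
      exact IsClosedImmersion.of_comp x.left Z.hom
    obtain ⟨St, c, hcc, hSt⟩ := Groth.Agf.exists_preimage (b.orbitMap x) x
    have : Mono c := Over.mono_of_mono_left c
    have hSt' : ∀ (T : Sch) (g : T ⟶ G), (∃ e, e ≫ c = g) ↔ g ≫ b.orbitMap x = toUnit T ≫ x := fun T g =>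
      (hSt T g).trans ⟨fun ⟨y, hy⟩ => by rw [hy, toUnit_unique y (toUnit T)], fun h => ⟨toUnit T, h⟩⟩
    obtain ⟨_, hcm⟩ := Groth.Agf.exists_grpObj_of_subgroup c (fun T g => g ≫ b.orbitMap x = toUnit T ≫ x)
      (fun T g => hSt' T g)
      (fun T => by rw [comp_orbit, b.lift_one_act])
      (fun T p q hp hq => by
        rw [comp_orbit] at hp hq ⊢
        rw [b.lift_mul_act, hq, hp])
      (fun T p hp => by
        rw [comp_orbit] at hp ⊢
        conv_lhs => rw [← hp, inv_act_cancel])
    have hDst : ∀ {T : Sch} (d : T ⟶ D), (d ≫ i) ≫ b.orbitMap x = toUnit T ≫ x := fun {T} d => by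
      rw [comp_orbit, ← cancel_mono incl, Category.assoc, show b.act ≫ incl = (G ◁ incl) ≫ a.act from hzact,
        lift_whiskerLeft_assoc, hfix]
    have hnor : AlgGrp.IsNormalHom c := fun T g s => by
      obtain ⟨d, hd'⟩ := hcomm T g (s ≫ c)
      obtain ⟨e, he⟩ := (hSt' T _).2 (hDst d)
      refine ⟨e * s, ?_⟩
      rw [MonObj.mul_comp, he, hd']
      group
    have hGo : IsPullback c (toUnit St) (b.orbitMap x) x := by
      have hw := (hSt' _ c).1 ⟨𝟙 _, Category.id_comp _⟩
      have hf : ∀ s : Limits.PullbackCone (b.orbitMap x) x, ∃ w : s.pt ⟶ St, w ≫ c = s.fst :=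
        fun s => (hSt' _ s.fst).2 (by rw [s.condition, toUnit_unique s.snd (toUnit _)])
      choose f hf using hf
      exact ⟨⟨hw⟩, ⟨Limits.PullbackCone.IsLimit.mk hw f hf (fun s => toUnit_unique _ _)
        fun s m hm _ => by rw [← cancel_mono c, hm, hf]⟩⟩
    have : LocallyOfFiniteType St.hom := by rw [← Over.w c]; infer_instance
    have : QuasiCompact St.hom := by rw [← Over.w c]; infer_instance
    obtain ⟨O, bo, o, j, hj, -, ho, hqc, ⟨hlft, hfl, hsur, hp⟩, horb⟩ := exists_isQuotient_stabilizer b x c hGo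
    obtain ⟨_, hq, -⟩ := exists_grpObj_quotient c hnor (bo.orbitMap o) (isCover _) fun T u v => by
      constructor
      · intro h
        refine ⟨hp.lift u v h ≫ snd _ _, ?_⟩
        have e := congrArg (hp.lift u v h ≫ ·) (show (G ◁ c) ≫ μ[G] = fst G St * (snd G St ≫ c) by
          rw [Hom.mul_def]
          congr 1)
        refine ((hp.lift_snd u v h).symm.trans e).trans ?_
        rw [MonObj.comp_mul, hp.lift_fst, ← Category.assoc]
      · rintro ⟨m, rfl⟩
        have e := congrArg (lift u m ≫ ·) hp.w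
        simp only [← Category.assoc, lift_fst] at e
        rw [e]
        simp [lift_whiskerLeft, ← Hom.mul_def]
    have : IsAffine O.left := isAffine_of_quotient (bo.orbitMap o)
    have hrj : Set.range j.left = Set.range (b.orbitMap x).left := by
      rw [← horb, Over.comp_left, Scheme.Hom.comp_base, TopCat.coe_comp, Set.range_comp,
        (bo.orbitMap o).left.surjective.range_eq, Set.image_univ]
    have : IsClosedImmersion j.left :=
      IsClosedImmersion.of_isPreimmersion j.left (by rw [hrj]; exact hxcl)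
    have : IsProper O.hom := by rw [← Over.w j]; infer_instance
    have : IsFinite O.hom := (IsFinite.iff_isProper_and_isAffineHom (f := O.hom)).2 ⟨inferInstance, inferInstance⟩
    have : Finite O.left := by
      have h := O.hom.finite_preimage_singleton (IsLocalRing.closedPoint k)
      exact Set.finite_univ_iff.1 (h.subset fun w _ => Subsingleton.elim (α := ↥(Spec (CommRingCat.of k))) _ _)
    have := LocallyOfFiniteType.jacobsonSpace O.hom
    have := connectedSpace_of_surjective (bo.orbitMap o)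
    have : Subsingleton O.left := subsingleton_of_preconnected_totallyDisconnected (α := O.left)
    have := geometricallyReduced_of_smooth_hom G
    have := isReduced_left G
    obtain ⟨w, hw⟩ := exists_factor_of_range_subset x (b.orbitMap x) (by
      rw [← hrj]
      rintro _ ⟨y, rfl⟩
      refine ⟨rpt (𝟙 _), ?_⟩
      rw [Subsingleton.elim y (rpt o)]
      show rpt (𝟙 _ ≫ x) = rpt (o ≫ j)
      rw [Category.id_comp, ho])
    rw [toUnit_unique w (toUnit G)] at hw
    refine ⟨x ≫ incl, fun T g => ?_⟩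
    have := congrArg (fun m => (g ≫ m) ≫ incl) hw
    rw [comp_orbit, ← Category.assoc, toUnit_unique (g ≫ toUnit G) (toUnit T), Category.assoc,
      Category.assoc, show b.act ≫ incl = (G ◁ incl) ≫ a.act from hzact, lift_whiskerLeft_assoc, Category.assoc] at this
    exact this.symm

end Groth.AlgGrp1
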