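import Groth.Agent.AlgGrp1.CartanNilp
import Groth.Agent.AlgGrp1.CartanDense
import Groth.Agent.AlgGrp1.TorusField
import Groth.Agent.AlgGrp1.BorelField
import Groth.Agent.EtaleBase.FpqcDescent

/-!
Centralizers of maximal tori over any field.
-/

set_option autoImplicit false
set_option linter.style.haveILetI false
universe u

open CategoryTheory Limits MonoidalCategory CartesianMonoidalCategory MonObj GrpObj AlgebraicGeometry

noncomputable section

namespace Groth.AlgGrp1

variable {k : Type u} [Field k] {K : Type u} [Field K] (φ : Spec (CommRingCat.of K) ⟶ Spec (CommRingCat.of k))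

theorem pullback_map_injective {W G : Over (Spec (CommRingCat.of k))} :
    Function.Injective fun m : W ⟶ G => (Over.pullback φ).map m := by
  intro a b h
  have h2 := congrArg (fun m => m.left ≫ pullback.fst G.hom φ) h
  have e : ∀ m : W ⟶ G, ((Over.pullback φ).map m).left ≫ pullback.fst G.hom φ = pullback.fst W.hom φ ≫ m.left :=
    fun m => pullback.lift_fst _ _ _
  simp only [e] at h2
  have : Flat φ := flat_fieldMap φ
  have : Surjective φ := (fpqc_fieldMap φ).1.1
  have : Epi (pullback.fst W.hom φ) := Flat.epi_of_flat_of_surjective _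
  exact Over.OverMorphism.ext ((cancel_epi _).1 h2)

theorem mem_ucs_of_injective {P Q : Type*} [Group P] [Group Q] (f : P →* Q) (hf : Function.Injective f) :
    ∀ (n : ℕ) (x : P), f x ∈ Subgroup.upperCentralSeries Q n → x ∈ Subgroup.upperCentralSeries P n
  | 0, x, h => by
    rw [Subgroup.upperCentralSeries_zero, Subgroup.mem_bot] at h ⊢
    exact hf (h.trans (map_one f).symm)
  | n + 1, x, h => by
    rw [Subgroup.mem_upperCentralSeries_succ_iff] at h ⊢
    intro y
    refine mem_ucs_of_injective f hf n _ ?_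
    rw [map_commutatorElement]
    exact h (f y)

/-- Nilpotency descends. -/
theorem isNilpotentGrp_of_bc (G : Over (Spec (CommRingCat.of k))) [GrpObj G]
    (h : AGF.IsNilpotentGrp (Red.bc φ G)) : AGF.IsNilpotentGrp G := by
  obtain ⟨n, hn⟩ := h
  refine ⟨n, fun X => eq_top_iff.2 fun x _ => ?_⟩
  let f : (X ⟶ G) →* (Red.bc φ X ⟶ Red.bc φ G) :=
    MonoidHom.mk' (fun m => (Over.pullback φ).map m) fun a b => Functor.map_mul _ _ _
  exact mem_ucs_of_injective f (pullback_map_injective φ) n x (by rw [hn]; trivial)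

/-- Smoothness descends. -/
theorem smooth_of_bc {X : Over (Spec (CommRingCat.of k))} (h : Smooth (Red.bc φ X).hom) : Smooth X.hom := by
  have hh := fpqc_fieldMap φ
  exact MorphismProperty.of_pullback_snd_of_descendsAlong (P := @Smooth)
    (Q := @Surjective ⊓ @Flat ⊓ @QuasiCompact) (f := X.hom) (g := φ) ⟨⟨hh.1.1, hh.1.2⟩, hh.2⟩ h

/-- A maximal torus becomes a maximal torus over the algebraic closure. -/
theorem isMaxTorus_geom {G T : Over (Spec (CommRingCat.of k))} [GrpObj G] [GrpObj T] {iT : T ⟶ G}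
    (hT : Red.IsMaximalTorus iT) (s : (Spec (CommRingCat.of k) : Scheme.{u})) :
    AGF.IsMaxTorus ((Over.pullback (Red.geomPt s)).map iT) := by
  obtain ⟨hm, hmo, ht, hgeo⟩ := hT
  exact ⟨Groth.Abvar.isMonHom_map (f := Red.geomPt s) iT, inferInstance, isTorus_bc _ ht,
    fun T' _ j _ _ f hT' hf => hgeo s T' j f hT' hf⟩

/-- The centralizer of a maximal torus over an algebraically closed field is nilpotent. -/
theorem isNilpotentGrp_centralizer_maxTorus [IsAlgClosed k] {G T C : Over (Spec (CommRingCat.of k))}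
    [GrpObj G] [GrpObj T] [GrpObj C] [IsAffine G.left] [Smooth G.hom] [ConnectedSpace G.left] {iT : T ⟶ G}
    (hT : AGF.IsMaxTorus iT) {c : C ⟶ G} (hc : Red.IsCentralizerOf iT c) :
    Smooth C.hom ∧ IsClosedImmersion c.left ∧ ConnectedSpace C.left ∧ AGF.IsNilpotentGrp C := by
  obtain ⟨hm, hmo, htor, hmax⟩ := hT
  haveI := hm; haveI := hmo
  obtain ⟨hs, hcl⟩ := smooth_centralizer_torus iT (isClosedImmersion_of_isTorus iT htor) htor c hc
  have hcn := connectedSpace_centralizer_torus iT htor c hc
  refine ⟨hs, hcl, hcn, ?_⟩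
  obtain ⟨hcm, hcmo, hcp⟩ := hc
  haveI := hcm; haveI := hcmo; haveI := hcn
  have : IsAffine C.left := isAffine_of_isAffineHom c.left
  obtain ⟨t, ht⟩ := (hcp T iT).2 fun X' x y => by
    rw [← MonObj.mul_comp, ← MonObj.mul_comp, Groth.Reductive2.torus_mul_comm htor x y]
  have : IsMonHom t := isMonHom_of_points _ fun W p q => by
    rw [← cancel_mono c, Category.assoc, ht, MonObj.mul_comp, MonObj.mul_comp, Category.assoc, ht,
      Category.assoc, ht]
  have hmt : Mono t := by
    have : Mono (t ≫ c) := by rw [ht]; infer_instance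
    exact mono_of_mono t c
  refine isNilpotentGrp_of_central_maxTorus (iT := t) ⟨‹_›, hmt, htor, fun T' _ j _ _ f hT' hf => ?_⟩ ?_
  · exact hmax T' (j ≫ c) f hT' (by rw [← Category.assoc, hf, ht])
  · intro X s g
    rw [← cancel_mono c, MonObj.mul_comp, MonObj.mul_comp, Category.assoc, ht]
    have := (hcp X (g ≫ c)).1 ⟨g, rfl⟩ X (𝟙 X) s
    rwa [Category.id_comp] at this

/-- **Cartan subgroups over any field are smooth, connected and nilpotent.** -/
theorem cartan_props {G T C : Over (Spec (CommRingCat.of k))} [GrpObj G] [GrpObj T] [GrpObj C] [IsAffine G.left]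
    [Smooth G.hom] [ConnectedSpace G.left] {iT : T ⟶ G} (hT : Red.IsMaximalTorus iT) {c : C ⟶ G}
    (hc : Red.IsCentralizerOf iT c) :
    Smooth C.hom ∧ ConnectedSpace C.left ∧ AGF.IsNilpotentGrp C := by
  let s : (Spec (CommRingCat.of k) : Scheme.{u}) := spt k
  let ψ := Red.geomPt s
  have := smooth_bc ψ G
  have := isAffine_bc ψ G
  have := connectedSpace_bc ψ G
  obtain ⟨h1, -, h3, h4⟩ := isNilpotentGrp_centralizer_maxTorus (isMaxTorus_geom hT s) (isCentralizerOf_bc ψ hc)
  haveI := h3
  exact ⟨smooth_of_bc ψ h1, connectedSpace_of_bc ψ, isNilpotentGrp_of_bc ψ C h4⟩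

end Groth.AlgGrp1
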