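import Groth.Agent.AlgGrp1.MonoHom
import Groth.Agent.AlgGrp1.OrbitScheme
import Groth.Agent.Hopf.Coeff
import Groth.Agent.Misc12.AntipodeComul
import Groth.Agent.Misc7.HopfPointsExtend
import Groth.Agent.Misc7.AffineGroupPoints
import Groth.Agent.Sga3.SubHopfStruct
import Mathlib.AlgebraicGeometry.Morphisms.Flat

/-!
# The affine hull of an algebraic group

`G → Spec O(G)` is a homomorphism to an affine group of finite type, flat and surjective.
-/

set_option autoImplicit false

universe u

open CategoryTheory Limits MonoidalCategory CartesianMonoidalCategory AlgebraicGeometry TopologicalSpace Opposite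
open scoped MonObj TensorProduct

noncomputable section

namespace Groth.AlgGrp1.AffineHull

variable {k : Type u} [Field k]

/-- A morphism is a global-functions isomorphism. -/
abbrev GammaIso {X Y : Over (Spec (CommRingCat.of k))} (p : X ⟶ Y) : Prop := IsIso p.left.appTop

theorem hom_ext {X X' Y : Over (Spec (CommRingCat.of k))} (p : X ⟶ X') [GammaIso p] [IsAffine Y.left]
    {f g : X' ⟶ Y} (h : p ≫ f = p ≫ g) : f = g := by
  apply Over.OverMorphism.ext
  refine ext_of_isAffine ?_
  have h1 := congrArg (fun φ : X ⟶ Y => φ.left.appTop) h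
  simp only [Over.comp_left, Scheme.Hom.comp_appTop] at h1
  exact (cancel_mono p.left.appTop).1 h1

theorem exists_desc {X X' Y : Over (Spec (CommRingCat.of k))} (p : X ⟶ X') [GammaIso p] [IsAffine Y.left]
    (g : X ⟶ Y) : ∃ f : X' ⟶ Y, p ≫ f = g := by
  let φ : X'.left ⟶ Y.left :=
    X'.left.toSpecΓ ≫ Spec.map (g.left.appTop ≫ inv p.left.appTop) ≫ Y.left.isoSpec.inv
  have hφ : p.left ≫ φ = g.left := by
    simp only [φ, ← Category.assoc, Iso.comp_inv_eq, Scheme.isoSpec_hom]
    rw [Scheme.toSpecΓ_naturality, Category.assoc, ← Spec.map_comp, Category.assoc, IsIso.inv_hom_id,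
      Category.comp_id, Scheme.toSpecΓ_naturality]
  refine ⟨Over.homMk φ ?_, Over.OverMorphism.ext hφ⟩
  refine ext_of_isAffine ((cancel_mono p.left.appTop).1 ?_)
  rw [← Scheme.Hom.comp_appTop, ← Scheme.Hom.comp_appTop, ← Category.assoc, hφ, Over.w g, Over.w p]

theorem isPushout_sections {X Y : Over (Spec (CommRingCat.of k))} [QuasiCompact X.hom]
    [QuasiSeparated X.hom] [QuasiCompact Y.hom] [QuasiSeparated Y.hom] :
    IsPushout X.hom.appTop Y.hom.appTop (fst X Y).left.appTop (snd X Y).left.appTop := by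
  have : CompactSpace X.left := QuasiCompact.compactSpace_of_compactSpace X.hom
  have : CompactSpace Y.left := QuasiCompact.compactSpace_of_compactSpace Y.hom
  have : QuasiSeparatedSpace X.left := quasiSeparatedSpace_of_quasiSeparated X.hom
  have : QuasiSeparatedSpace Y.left := quasiSeparatedSpace_of_quasiSeparated Y.hom
  have : IsReduced (Spec (CommRingCat.of k)) := inferInstance
  have hf : ∀ {Z : Scheme.{u}} (h : Z ⟶ Spec (CommRingCat.of k)), Flat h := fun h => inferInstance
  have := hf Y.hom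
  have hflat : (X.hom.appLE ⊤ ⊤ (le_of_eq (Scheme.Hom.preimage_top X.hom).symm)).hom.Flat := by
    have h2 : IsField Γ(Spec (CommRingCat.of k), ⊤) := MulEquiv.isField (Field.toIsField k)
      (Scheme.ΓSpecIso (CommRingCat.of k)).commRingCatIsoToRingEquiv.toMulEquiv
    let := h2.toField
    generalize X.hom.appLE ⊤ ⊤ _ = ψ
    algebraize [ψ.hom]
    exact Module.Flat.of_free
  have h := (isIso_pushoutSection_iff
    (IsPullback.of_hasPullback X.hom Y.hom) (UT := ⊤) (UX := ⊤) (US := ⊤) (UY := ⊤)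
    (le_of_eq (Scheme.Hom.preimage_top Y.hom).symm) (le_of_eq (Scheme.Hom.preimage_top X.hom).symm)
    (by simp)).1
    (isIso_pushoutSection_of_isCompact_of_flat_right_of_ringHomFlat _ _ _ _ (isAffineOpen_top _)
      isCompact_univ isQuasiSeparated_univ isCompact_univ isQuasiSeparated_univ hflat)
  simp only [Scheme.Hom.appTop, Scheme.Hom.app_eq_appLE]
  exact h

theorem gammaIso_tensor {X X' Y Y' : Over (Spec (CommRingCat.of k))} [QuasiCompact X.hom]
    [QuasiSeparated X.hom] [QuasiCompact Y.hom] [QuasiSeparated Y.hom] [QuasiCompact X'.hom]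
    [QuasiSeparated X'.hom] [QuasiCompact Y'.hom] [QuasiSeparated Y'.hom] (p : X ⟶ X') (q : Y ⟶ Y')
    [GammaIso p] [GammaIso q] : GammaIso (p ⊗ₘ q) := by
  have H := isPushout_sections (X := X) (Y := Y)
  have H' := isPushout_sections (X := X') (Y := Y')
  have hp : p.left.appTop ≫ (fst X Y).left.appTop = (fst X' Y').left.appTop ≫ (p ⊗ₘ q).left.appTop := by
    rw [← Scheme.Hom.comp_appTop, ← Scheme.Hom.comp_appTop, ← Over.comp_left, ← Over.comp_left, tensorHom_fst]
  have hq : q.left.appTop ≫ (snd X Y).left.appTop = (snd X' Y').left.appTop ≫ (p ⊗ₘ q).left.appTop := by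
    rw [← Scheme.Hom.comp_appTop, ← Scheme.Hom.comp_appTop, ← Over.comp_left, ← Over.comp_left, tensorHom_snd]
  have hXp : X'.hom.appTop ≫ p.left.appTop = X.hom.appTop := by
    rw [← Scheme.Hom.comp_appTop, Over.w p]
  have hYq : Y'.hom.appTop ≫ q.left.appTop = Y.hom.appTop := by
    rw [← Scheme.Hom.comp_appTop, Over.w q]
  let d : Γ((X ⊗ Y).left, ⊤) ⟶ Γ((X' ⊗ Y').left, ⊤) :=
    H.desc (inv p.left.appTop ≫ (fst X' Y').left.appTop) (inv q.left.appTop ≫ (snd X' Y').left.appTop) (by
      rw [← hXp, ← hYq, Category.assoc, Category.assoc, IsIso.hom_inv_id_assoc, IsIso.hom_inv_id_assoc]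
      exact H'.w)
  refine ⟨d, H'.hom_ext ?_ ?_, H.hom_ext ?_ ?_⟩
  · rw [← Category.assoc, ← hp, Category.assoc, H.inl_desc, IsIso.hom_inv_id_assoc, Category.comp_id]
  · rw [← Category.assoc, ← hq, Category.assoc, H.inr_desc, IsIso.hom_inv_id_assoc, Category.comp_id]
  · rw [H.inl_desc_assoc, Category.assoc, ← hp, IsIso.inv_hom_id_assoc, Category.comp_id]
  · rw [H.inr_desc_assoc, Category.assoc, ← hq, IsIso.inv_hom_id_assoc, Category.comp_id]

variable (G : Over (Spec (CommRingCat.of k))) [GrpObj G]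

/-- The affine hull. -/
abbrev hull : Over (Spec (CommRingCat.of k)) :=
  Over.mk (Spec.map G.hom.appTop ≫ (Spec (CommRingCat.of k)).isoSpec.inv)

/-- The canonical morphism to the affine hull. -/
def toHull : G ⟶ hull G := Over.homMk G.left.toSpecΓ (by
  show G.left.toSpecΓ ≫ Spec.map G.hom.appTop ≫ _ = G.hom
  rw [← Scheme.toSpecΓ_naturality_assoc, ← Scheme.isoSpec_hom, Iso.hom_inv_id, Category.comp_id])

variable [LocallyOfFiniteType G.hom] [QuasiCompact G.hom]

/-- The affine hull is a group and the canonical morphism is a homomorphism. -/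
theorem exists_grpObj_hull : GammaIso (toHull G) ∧ ∃ _ : GrpObj (hull G), IsMonHom (toHull G) := by
  have : QuasiSeparated G.hom := by
    have := isSeparated_grpObj G; infer_instance
  have : IsAffine (hull G).left := inferInstanceAs (IsAffine (Spec _))
  have : QuasiCompact (hull G).hom := inferInstance
  have : QuasiSeparated (hull G).hom := inferInstance
  let ρ := toHull G
  have : GammaIso ρ := by
    show IsIso G.left.toSpecΓ.appTop
    rw [Scheme.toSpecΓ_appTop]
    infer_instance
  have h2 : GammaIso (ρ ⊗ₘ ρ) := gammaIso_tensor ρ ρ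
  have : QuasiCompact (G ⊗ G).hom :=
    inferInstanceAs (QuasiCompact (pullback.fst G.hom G.hom ≫ G.hom))
  have : QuasiSeparated (G ⊗ G).hom :=
    inferInstanceAs (QuasiSeparated (pullback.fst G.hom G.hom ≫ G.hom))
  have : IsAffine (hull G ⊗ hull G).left := inferInstanceAs (IsAffine (pullback (hull G).hom (hull G).hom))
  have : QuasiCompact (hull G ⊗ hull G).hom := inferInstance
  have : QuasiSeparated (hull G ⊗ hull G).hom := inferInstance
  have h3 : GammaIso ((ρ ⊗ₘ ρ) ⊗ₘ ρ) := gammaIso_tensor (ρ ⊗ₘ ρ) ρ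
  obtain ⟨m, hm⟩ := exists_desc (ρ ⊗ₘ ρ) (μ[G] ≫ ρ)
  obtain ⟨v, hv⟩ := exists_desc ρ (ι[G] ≫ ρ)
  let o : 𝟙_ _ ⟶ hull G := η[G] ≫ ρ
  have h0 : GammaIso (𝟙 (𝟙_ (Over (Spec (CommRingCat.of k))))) := by
    show IsIso (Scheme.Hom.appTop (𝟙 (Spec (CommRingCat.of k))))
    rw [Scheme.Hom.id_appTop]; infer_instance
  have : QuasiCompact (𝟙_ (Over (Spec (CommRingCat.of k)))).hom :=
    inferInstanceAs (QuasiCompact (𝟙 (Spec (CommRingCat.of k))))
  have : QuasiSeparated (𝟙_ (Over (Spec (CommRingCat.of k)))).hom :=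
    inferInstanceAs (QuasiSeparated (𝟙 (Spec (CommRingCat.of k))))
  have hm' : ∀ {T : Over (Spec (CommRingCat.of k))} (a b : T ⟶ G),
      lift (a ≫ ρ) (b ≫ ρ) ≫ m = (a * b) ≫ ρ := fun a b => by
    rw [← lift_map_assoc, hm, ← Category.assoc, Hom.mul_def]
  refine ⟨‹GammaIso ρ›, ?_⟩
  let inst : GrpObj (hull G) :=
    { one := o
      mul := m
      one_mul := by
        have : GammaIso (𝟙 (𝟙_ (Over (Spec (CommRingCat.of k)))) ⊗ₘ ρ) := gammaIso_tensor _ _
        refine hom_ext (𝟙 _ ⊗ₘ ρ) ?_
        have e : (𝟙 (𝟙_ _) ⊗ₘ ρ) ≫ o ▷ hull G = (η[G] ▷ G) ≫ (ρ ⊗ₘ ρ) := by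
          ext <;> simp [o]
        rw [← Category.assoc, e, Category.assoc, hm, ← Category.assoc, MonObj.one_mul, leftUnitor_hom,
          leftUnitor_hom, tensorHom_snd]
      mul_one := by
        have : GammaIso (ρ ⊗ₘ 𝟙 (𝟙_ (Over (Spec (CommRingCat.of k))))) := gammaIso_tensor _ _
        refine hom_ext (ρ ⊗ₘ 𝟙 _) ?_
        have e : (ρ ⊗ₘ 𝟙 (𝟙_ _)) ≫ hull G ◁ o = (G ◁ η[G]) ≫ (ρ ⊗ₘ ρ) := by
          simp only [o, ← id_tensorHom, tensorHom_comp_tensorHom, Category.id_comp, Category.comp_id]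
        rw [← Category.assoc, e, Category.assoc, hm, ← Category.assoc, MonObj.mul_one, rightUnitor_hom,
          rightUnitor_hom, tensorHom_fst]
      mul_assoc := by
        refine hom_ext ((ρ ⊗ₘ ρ) ⊗ₘ ρ) ?_
        have e₁ : ((ρ ⊗ₘ ρ) ⊗ₘ ρ) ≫ m ▷ hull G = (μ[G] ▷ G) ≫ (ρ ⊗ₘ ρ) := by
          simp only [← tensorHom_id, tensorHom_comp_tensorHom, hm, Category.id_comp, Category.comp_id]
        have e₂ : ((ρ ⊗ₘ ρ) ⊗ₘ ρ) ≫ (α_ (hull G) (hull G) (hull G)).hom ≫ hull G ◁ m =
            (α_ G G G).hom ≫ (G ◁ μ[G]) ≫ (ρ ⊗ₘ ρ) := by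
          rw [MonoidalCategory.associator_naturality_assoc]
          simp [← id_tensorHom, tensorHom_comp_tensorHom, hm]
        rw [← Category.assoc, e₁, Category.assoc, hm, ← Category.assoc, MonObj.mul_assoc,
          Category.assoc, Category.assoc, ← hm, reassoc_of% e₂]
      inv := v
      left_inv := by
        refine hom_ext ρ ?_
        have e : ρ ≫ lift v (𝟙 _) = lift (ι[G] ≫ ρ) (𝟙 G ≫ ρ) := by ext <;> simp [hv]
        rw [← Category.assoc, e, hm', GrpObj.inv_eq_inv, inv_mul_cancel, Hom.one_def, Category.assoc,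
          ← Category.assoc ρ, toUnit_unique (ρ ≫ toUnit _) (toUnit G)]
      right_inv := by
        refine hom_ext ρ ?_
        have e : ρ ≫ lift (𝟙 _) v = lift (𝟙 G ≫ ρ) (ι[G] ≫ ρ) := by ext <;> simp [hv]
        rw [← Category.assoc, e, hm', GrpObj.inv_eq_inv, mul_inv_cancel, Hom.one_def, Category.assoc,
          ← Category.assoc ρ, toUnit_unique (ρ ≫ toUnit _) (toUnit G)] }
  exact ⟨inst, { one_hom := rfl, mul_hom := hm.symm }⟩

section Hopf

variable {A : Type u} [CommRing A] [HopfAlgebra k A]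

/-- Finitely many elements lie in a finitely generated Hopf subalgebra. -/
theorem exists_fg_hopfSubalgebra {s : Set A} (hs : s.Finite) :
    ∃ B : Subalgebra k A, B.FG ∧ s ⊆ B ∧ SGA3.IsHopfSubalgebra k A B := by
  classical
  obtain ⟨C, hfin, hsC, hC⟩ := Groth.ComodLib.exists_finite_subcoalg (k := k) (A := A) hs
  obtain ⟨t, ht⟩ := Module.Finite.iff_fg.1 hfin
  let S : A →ₐ[k] A := HopfAlgebra.antipodeAlgHom k A
  let B : Subalgebra k A := Algebra.adjoin k ((t ∪ t.image S : Finset A) : Set A)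
  have htB : ∀ x ∈ C, x ∈ B ∧ S x ∈ B := by
    intro x hx
    rw [← ht] at hx
    induction hx using Submodule.span_induction with
    | mem y hy =>
      exact ⟨Algebra.subset_adjoin (Finset.mem_coe.2 (Finset.mem_union_left _ hy)),
        Algebra.subset_adjoin (Finset.mem_coe.2 (Finset.mem_union_right _ (Finset.mem_image_of_mem _ hy)))⟩
    | zero => simp [B.zero_mem]
    | add y z _ _ hy hz => exact ⟨B.add_mem hy.1 hz.1, by rw [map_add]; exact B.add_mem hy.2 hz.2⟩
    | smul c y _ hy => exact ⟨B.smul_mem hy.1 c, by rw [map_smul]; exact B.smul_mem hy.2 c⟩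
  refine ⟨B, ⟨_, rfl⟩, fun x hx => (htB x (hsC hx)).1, ?_⟩
  show B ≤ (Algebra.TensorProduct.map B.val B.val).range.comap (Bialgebra.comulAlgHom k A) ∧
    B ≤ B.comap (HopfAlgebra.antipodeAlgHom k A)
  refine ⟨Algebra.adjoin_le fun y hy => ?_, Algebra.adjoin_le fun y hy => ?_⟩
  · show Coalgebra.comul (R := k) y ∈ (Algebra.TensorProduct.map B.val B.val).range
    rcases Finset.mem_union.1 (Finset.mem_coe.1 hy) with hy | hy
    · obtain ⟨z, hz⟩ := hC y (ht ▸ Submodule.subset_span hy)
      rw [← hz]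
      clear hz
      induction z using TensorProduct.induction_on with
      | zero => simp [Subalgebra.zero_mem]
      | tmul a b => exact ⟨⟨a.1, (htB _ a.2).1⟩ ⊗ₜ ⟨b.1, (htB _ b.2).1⟩, rfl⟩
      | add a b ha hb => rw [map_add]; exact Subalgebra.add_mem _ ha hb
    · obtain ⟨x, hx, rfl⟩ := Finset.mem_image.1 hy
      show Coalgebra.comul (R := k) (HopfAlgebra.antipode k x) ∈ _
      rw [Groth.Misc12.comul_antipode_eq]
      obtain ⟨z, hz⟩ := hC x (ht ▸ Submodule.subset_span hx)
      rw [← hz]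
      clear hz
      induction z using TensorProduct.induction_on with
      | zero => simp [Subalgebra.zero_mem]
      | tmul a b => exact ⟨⟨S b.1, (htB _ b.2).2⟩ ⊗ₜ ⟨S a.1, (htB _ a.2).2⟩, rfl⟩
      | add a b ha hb => rw [map_add, map_add, map_add]; exact Subalgebra.add_mem _ ha hb
  · show S y ∈ B
    rcases Finset.mem_union.1 (Finset.mem_coe.1 hy) with hy | hy
    · exact (htB _ (ht ▸ Submodule.subset_span hy)).2
    · obtain ⟨x, hx, rfl⟩ := Finset.mem_image.1 hy
      rw [show S (S x) = x from congrArg (fun f : WithConv (A →ₐ[k] A) => f.ofConv x) (inv_inv (WithConv.toConv (AlgHom.id k A)))]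
      exact (htB _ (ht ▸ Submodule.subset_span hx)).1

end Hopf

theorem isSchemeTheoreticallyDominant_of_appTop {X Y : Scheme.{u}} (f : X ⟶ Y) [IsAffine Y] [QuasiCompact f]
    (h : Function.Injective f.appTop) : IsSchemeTheoreticallyDominant f :=
  ⟨Scheme.IdealSheafData.ext_of_isAffine (by
    rw [Scheme.Hom.ker_apply, Scheme.IdealSheafData.ideal_bot]
    exact (RingHom.injective_iff_ker_eq_bot _).1 h)⟩

/-- A scheme-theoretically dominant homomorphism of algebraic groups is flat and surjective. -/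
theorem flat_surjective_of_dominant {G H : Over (Spec (CommRingCat.of k))} [GrpObj G] [GrpObj H]
    [LocallyOfFiniteType G.hom] [LocallyOfFiniteType H.hom] [QuasiCompact G.hom] [QuasiCompact H.hom]
    (f : G ⟶ H) [IsMonHom f] [QuasiCompact f.left] [IsSchemeTheoreticallyDominant f.left] :
    Flat f.left ∧ Surjective f.left := by
  refine ⟨?_, Groth.Agf.surjective_of_dominant f⟩
  obtain ⟨P, p₁, p₂, sq⟩ : ∃ (P : Over (Spec (CommRingCat.of k))) (p₁ : P ⟶ G) (p₂ : P ⟶ 𝟙_ _),
      IsPullback p₁ p₂ f η[H] := ⟨_, _, _, IsPullback.of_hasPullback f η[H]⟩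
  obtain rfl : p₂ = toUnit P := toUnit_unique _ _
  have : Mono p₁ := ⟨fun _ _ h => sq.hom_ext h (toUnit_unique _ _)⟩
  have key : ∀ {T : Over (Spec (CommRingCat.of k))} (g : T ⟶ G), (∃ z : T ⟶ P, z ≫ p₁ = g) ↔ g ≫ f = 1 :=
    fun {T} g => ⟨fun ⟨z, hz⟩ => by
        rw [← hz, Category.assoc, sq.w, ← Category.assoc, toUnit_unique (z ≫ toUnit P) (toUnit T)]; rfl,
      fun hg => ⟨sq.lift g (toUnit T) hg, sq.lift_fst _ _ _⟩⟩
  obtain ⟨_, _⟩ := Groth.Agf.exists_grpObj_of_subgroup p₁ (fun T g => g ≫ f = 1) (fun T g => key g)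
    (fun T => MonObj.one_comp f) (fun T u v hu hv => by rw [MonObj.mul_comp, hu, hv, _root_.one_mul])
    (fun T u hu => by rw [GrpObj.inv_comp, hu, inv_one])
  let a := transAction f
  have horb : a.orbitMap η[H] = f := by
    have h := comp_orbit a (𝟙 G) η[H]
    rw [Category.id_comp] at h
    rw [h]
    show lift (𝟙 G) (toUnit G ≫ η[H]) ≫ ((fst G H ≫ f) * snd G H) = f
    rw [MonObj.comp_mul, lift_fst_assoc, lift_snd, Category.id_comp,
      show toUnit G ≫ η[H] = 1 from rfl, _root_.mul_one]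
  have hpb := (Groth.Agf.isPullback_of_stabilizer a η[H] p₁ (by rw [horb]; exact sq)).map (Over.forget _)
  have : QuasiCompact (a.orbitMap η[H]).left := horb.symm ▸ inferInstance
  have : IsSchemeTheoreticallyDominant (a.orbitMap η[H]).left := horb.symm ▸ inferInstance
  have h := flat_orbitMap a η[H] (by
    refine (MorphismProperty.cancel_left_of_respectsIso @Flat hpb.isoPullback.hom _).1 ?_
    erw [IsPullback.isoPullback_hom_fst]
    exact inferInstanceAs (Flat (pullback.fst G.hom P.hom)))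
  rwa [horb] at h

/-- A homomorphism to an affine group inducing an isomorphism on global functions is flat and
surjective, onto a group of finite type. -/
theorem flat_surjective_finiteType (G E : Over (Spec (CommRingCat.of k))) [GrpObj G] [GrpObj E]
    [LocallyOfFiniteType G.hom] [QuasiCompact G.hom] [IsAffine E.left] (ρ : G ⟶ E) [IsMonHom ρ]
    [GammaIso ρ] : LocallyOfFiniteType E.hom ∧ Flat ρ.left ∧ Surjective ρ.left := by
  obtain ⟨A, ⟨e₀⟩⟩ := Groth.Misc7.AffineGroupPoints.exists_hopf E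
  let eE : Groth.Misc7.AffineGroupPoints.specObj A ≅ E := (Grp.forget _).mapIso e₀
  have : IsMonHom eE.hom := inferInstanceAs (IsMonHom e₀.hom.hom.hom)
  have : IsMonHom eE.inv := inferInstanceAs (IsMonHom e₀.inv.hom.hom)
  let r : G ⟶ Groth.Misc7.AffineGroupPoints.specObj A := ρ ≫ eE.inv
  have : IsIso eE.inv.left := inferInstanceAs (IsIso ((Over.forget _).map eE.inv))
  have hr : GammaIso r := by
    show IsIso (ρ.left ≫ eE.inv.left).appTop
    rw [Scheme.Hom.comp_appTop]
    have : IsIso ρ.left.appTop := ‹GammaIso ρ›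
    have : IsIso eE.inv.left.appTop := inferInstanceAs (IsIso (eE.inv.left.app ⊤))
    exact IsIso.comp_isIso
  have : IsIso r.left.appTop := hr
  have hciso : IsIso ((Scheme.ΓSpecIso (CommRingCat.of A)).inv ≫ r.left.appTop) :=
    @IsIso.comp_isIso _ _ _ _ _ _ _ inferInstance this
  -- elements of `A` as functions on `G`
  let c : A →+* Γ(G.left, ⊤) := ((Scheme.ΓSpecIso (CommRingCat.of A)).inv ≫ r.left.appTop).hom
  have hc : Function.Bijective c :=
    ConcreteCategory.bijective_of_isIso ((Scheme.ΓSpecIso (CommRingCat.of A)).inv ≫ r.left.appTop)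
  let v : A → A := fun a => a - algebraMap k A (Coalgebra.counit (R := k) a)
  -- finitely many functions cut out the kernel
  have : IsLocallyNoetherian G.left := isLocallyNoetherian_left G
  have : CompactSpace G.left := QuasiCompact.compactSpace_of_compactSpace G.hom
  obtain ⟨s, hsf, hs⟩ : ∃ s : Set A, s.Finite ∧ ∀ x : G.left, ∃ U : G.left.affineOpens, x ∈ U.1 ∧
      ∀ a, G.left.presheaf.map (homOfLE (le_top : U.1 ≤ ⊤)).op (c (v a)) ∈
        Ideal.span ((fun b => G.left.presheaf.map (homOfLE (le_top : U.1 ≤ ⊤)).op (c (v b))) '' s) := by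
    obtain ⟨t, ht⟩ := isCompact_univ.elim_finite_subcover (fun U : G.left.affineOpens => (U.1 : Set G.left))
      (fun U => U.1.2) (fun x _ => by
        obtain ⟨W, hW, hx, -⟩ := exists_isAffineOpen_mem_and_subset (x := x) (U := (⊤ : G.left.Opens)) trivial
        exact Set.mem_iUnion.2 ⟨⟨W, hW⟩, hx⟩)
    let g : ∀ U : G.left.affineOpens, A → Γ(G.left, U.1) := fun U a =>
      G.left.presheaf.map (homOfLE (le_top : U.1 ≤ ⊤)).op (c (v a))
    have hgen : ∀ U : G.left.affineOpens, ∃ w : Set A, w.Finite ∧ ∀ a, g U a ∈ Ideal.span (g U '' w) := by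
      intro U
      have := IsLocallyNoetherian.component_noetherian U
      obtain ⟨w', hw, hwspan⟩ :=
        (Submodule.fg_span_iff_fg_span_finset_subset (R := Γ(G.left, U.1)) (Set.range (g U))).1
          (IsNoetherian.noetherian _)
      let w : Set Γ(G.left, U.1) := ↑w'
      have hwf : w.Finite := w'.finite_toSet
      choose pre hpre using fun y : w => hw y.2
      have := hwf.to_subtype
      refine ⟨Set.range pre, Set.finite_range _, fun a => ?_⟩
      have h1 : g U a ∈ Submodule.span Γ(G.left, U.1) w :=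
        hwspan.le (Submodule.subset_span ⟨a, rfl⟩)
      refine Submodule.span_mono ?_ h1
      intro y hy
      exact ⟨pre ⟨y, hy⟩, ⟨_, rfl⟩, hpre ⟨y, hy⟩⟩
    choose w hwf hw using hgen
    refine ⟨⋃ U ∈ t, w U, Set.Finite.biUnion t.finite_toSet (fun U _ => hwf U), fun x => ?_⟩
    obtain ⟨U, hU, hxU⟩ : ∃ U ∈ t, x ∈ U.1 := by simpa using ht (Set.mem_univ x)
    exact ⟨U, hxU, fun a => Ideal.span_mono (Set.image_mono (Set.subset_biUnion_of_mem (u := w) hU)) (hw U a)⟩
  obtain ⟨B, hBfg, hsB, hB⟩ := exists_fg_hopfSubalgebra (k := k) hsf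
  letI := Groth.Sga3.SubHopfStruct.hopfAlgebra hB
  let H : Over (Spec (CommRingCat.of k)) := Groth.Misc7.AffineGroupPoints.specObj (CommHopfAlgCat.of k B)
  let P : Groth.Misc7.AffineGroupPoints.specObj A ⟶ H :=
    ((hopfSpec (CommRingCat.of k)).map
      (CommHopfAlgCat.ofHom (Groth.Sga3.SubHopfStruct.incl hB) : CommHopfAlgCat.of k B ⟶ A).op).hom.hom
  have : IsMonHom P := inferInstanceAs (IsMonHom
    ((hopfSpec (CommRingCat.of k)).map
      (CommHopfAlgCat.ofHom (Groth.Sga3.SubHopfStruct.incl hB) : CommHopfAlgCat.of k B ⟶ A).op).hom.hom)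
  have hP : P.left = Spec.map (CommRingCat.ofHom B.val.toRingHom) := rfl
  have hft : LocallyOfFiniteType H.hom := by
    rw [Groth.Misc7.AffineGroupPoints.specObj_hom]
    exact (HasRingHomProperty.Spec_iff (P := @LocallyOfFiniteType)).2
      (RingHom.finiteType_algebraMap.2 (B.fg_iff_finiteType.1 hBfg))
  have : QuasiCompact H.hom := by
    rw [Groth.Misc7.AffineGroupPoints.specObj_hom]; exact inferInstanceAs (QuasiCompact (Spec.map _))
  let f : G ⟶ H := r ≫ P
  have : IsAffine H.left := inferInstanceAs (IsAffine (Spec (CommRingCat.of B)))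
  have : QuasiCompact f.left := by
    have : IsSeparated H.hom := inferInstance
    have : QuasiCompact (f.left ≫ H.hom) := by rw [Over.w]; infer_instance
    exact QuasiCompact.of_comp f.left H.hom
  have hfc : ∀ b : B, f.left.appTop ((Scheme.ΓSpecIso (CommRingCat.of B)).inv b) = c b := by
    intro b
    show (r.left ≫ P.left).appTop _ = r.left.appTop ((Scheme.ΓSpecIso (CommRingCat.of A)).inv (b : A))
    rw [Scheme.Hom.comp_appTop, hP, ConcreteCategory.comp_apply]
    congr 1
    exact (ConcreteCategory.congr_hom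
      (Scheme.ΓSpecIso_inv_naturality (CommRingCat.ofHom B.val.toRingHom)) b).symm
  have : IsSchemeTheoreticallyDominant f.left := by
    refine isSchemeTheoreticallyDominant_of_appTop f.left fun y y' h => ?_
    obtain ⟨b, rfl⟩ := (ConcreteCategory.bijective_of_isIso (Scheme.ΓSpecIso (CommRingCat.of B)).inv).2 y
    obtain ⟨b', rfl⟩ := (ConcreteCategory.bijective_of_isIso (Scheme.ΓSpecIso (CommRingCat.of B)).inv).2 y'
    rw [hfc, hfc] at h
    rw [Subtype.ext (hc.1 h)]
  obtain ⟨hflat, hsurj⟩ := flat_surjective_of_dominant f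
  -- the kernel of `f` is killed by `r`
  have hker : ∀ {T : Over (Spec (CommRingCat.of k))} (n : T ⟶ G), n ≫ f = 1 → n ≫ r = 1 := by
    intro T n hn
    have hB0 : ∀ b : B, n.left.appTop (c (v b)) = 0 := by
      intro b
      let b' : B := b - algebraMap k B (Coalgebra.counit (R := k) (b : A))
      have hb' : (b' : A) = v b := rfl
      rw [← hb', ← hfc]
      show (n.left.appTop).hom (f.left.appTop ((Scheme.ΓSpecIso (CommRingCat.of B)).inv b')) = 0
      rw [← ConcreteCategory.comp_apply, ← Scheme.Hom.comp_appTop, ← Over.comp_left, hn]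
      show (toUnit T ≫ η[H]).left.appTop _ = 0
      rw [Over.comp_left, Scheme.Hom.comp_appTop, ConcreteCategory.comp_apply]
      convert map_zero (toUnit T).left.appTop.hom
      show (Spec.map (CommRingCat.ofHom (Bialgebra.counitAlgHom k B).toRingHom)).appTop _ = 0
      have := ConcreteCategory.congr_hom
        (Scheme.ΓSpecIso_inv_naturality (CommRingCat.ofHom (Bialgebra.counitAlgHom k B).toRingHom)) b'
      refine this.symm.trans ?_
      show (Scheme.ΓSpecIso (CommRingCat.of k)).inv (Bialgebra.counitAlgHom k B b') = 0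
      rw [map_sub, AlgHom.commutes]
      show (Scheme.ΓSpecIso (CommRingCat.of k)).inv
        (Coalgebra.counit (R := k) (b : A) - Coalgebra.counit (R := k) (b : A)) = 0
      rw [sub_self, map_zero]
    have hA0 : ∀ a : A, n.left.appTop (c (v a)) = 0 := by
      intro a
      choose U hxU hU using hs
      refine TopCat.Sheaf.eq_of_locally_eq' T.left.sheaf (fun x : G.left => n.left ⁻¹ᵁ (U x).1) ⊤
        (fun x => homOfLE le_top) (fun z _ => Opens.mem_iSup.2 ⟨n.left z, hxU (n.left z)⟩) _ _ fun x => ?_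
      have hnat : ∀ y : Γ(G.left, ⊤), T.left.presheaf.map (homOfLE le_top).op (n.left.appTop y) =
          n.left.app (U x).1 (G.left.presheaf.map (homOfLE (le_top : (U x).1 ≤ ⊤)).op y) := fun y =>
        (ConcreteCategory.congr_hom (n.left.naturality (homOfLE (le_top : (U x).1 ≤ ⊤)).op) y).symm
      show T.left.presheaf.map _ _ = T.left.presheaf.map _ 0
      rw [map_zero, hnat]
      have hle : Ideal.span ((fun b => G.left.presheaf.map (homOfLE (le_top : (U x).1 ≤ ⊤)).op (c (v b))) '' s) ≤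
          RingHom.ker (n.left.app (U x).1).hom := by
        rw [Ideal.span_le]
        rintro _ ⟨b, hb, rfl⟩
        show n.left.app (U x).1 _ = 0
        rw [← hnat, hB0 ⟨b, hsB hb⟩, map_zero]
      exact hle (hU x a)
    apply Over.OverMorphism.ext
    have : IsAffine (Groth.Misc7.AffineGroupPoints.specObj A).left := inferInstanceAs (IsAffine (Spec _))
    refine ext_of_isAffine (CommRingCat.hom_ext (RingHom.ext fun y => ?_))
    obtain ⟨a, rfl⟩ := (ConcreteCategory.bijective_of_isIso (Scheme.ΓSpecIso (CommRingCat.of A)).inv).2 y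
    have e1 : c a = c (v a) + (G.hom.appTop ((Scheme.ΓSpecIso (CommRingCat.of k)).inv
        (Coalgebra.counit (R := k) a))) := by
      have e2 : c (algebraMap k A (Coalgebra.counit (R := k) a)) =
          G.hom.appTop ((Scheme.ΓSpecIso (CommRingCat.of k)).inv (Coalgebra.counit (R := k) a)) := by
        rw [← Over.w r, Scheme.Hom.comp_appTop]
        show r.left.appTop _ = r.left.appTop _
        congr 1
        exact (ConcreteCategory.congr_hom
          (Scheme.ΓSpecIso_inv_naturality (CommRingCat.ofHom (algebraMap k A))) _)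
      rw [← e2, ← map_add, sub_add_cancel]
    show (n.left ≫ r.left).appTop _ = (toUnit T ≫ η).left.appTop _
    rw [Scheme.Hom.comp_appTop, ConcreteCategory.comp_apply]
    show n.left.appTop (c a) = _
    rw [e1, map_add, hA0, zero_add, ← ConcreteCategory.comp_apply, ← Scheme.Hom.comp_appTop, Over.w n,
      Over.comp_left, Scheme.Hom.comp_appTop, ConcreteCategory.comp_apply]
    have e3 : (toUnit T).left = T.hom := by simpa using Over.w (toUnit T)
    rw [e3]
    congr 1
    exact (ConcreteCategory.congr_hom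
      (Scheme.ΓSpecIso_inv_naturality (CommRingCat.ofHom (Bialgebra.counitAlgHom k A).toRingHom)) a)
  -- descend `r` along `f`
  have := isLocallyNoetherian_left H
  have : LocallyOfFinitePresentation f.left := lfp_left f
  obtain ⟨σ, hσ⟩ := Groth.Agf.exists_desc_of_fppf f (pullback.fst f f) (pullback.snd f f)
    (IsPullback.of_hasPullback f f) r (by
      have h := hker ((pullback.snd f f)⁻¹ * pullback.fst f f) (by
        rw [MonObj.mul_comp, GrpObj.inv_comp, ← pullback.condition, inv_mul_cancel])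
      rw [MonObj.mul_comp, GrpObj.inv_comp, inv_mul_eq_one] at h
      exact h.symm)
  have hsurjB : Function.Surjective B.val := by
    intro a
    let b : B := (Scheme.ΓSpecIso (CommRingCat.of B)).hom (σ.left.appTop ((Scheme.ΓSpecIso (CommRingCat.of A)).inv a))
    refine ⟨b, hc.1 ?_⟩
    show c (b : A) = c a
    rw [← hfc]
    show f.left.appTop ((Scheme.ΓSpecIso (CommRingCat.of B)).inv ((Scheme.ΓSpecIso (CommRingCat.of B)).hom _)) = _
    rw [← ConcreteCategory.comp_apply (Scheme.ΓSpecIso (CommRingCat.of B)).hom, Iso.hom_inv_id,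
      ConcreteCategory.id_apply, ← ConcreteCategory.comp_apply, ← Scheme.Hom.comp_appTop, ← Over.comp_left, hσ]
    rfl
  have : IsIso P.left := by
    rw [hP]
    have : IsIso (CommRingCat.ofHom B.val.toRingHom) :=
      (ConcreteCategory.isIso_iff_bijective _).2 ⟨Subtype.val_injective, hsurjB⟩
    exact inferInstanceAs (IsIso (Spec.map (CommRingCat.ofHom B.val.toRingHom)))
  have hEH : eE.inv.left ≫ P.left ≫ H.hom = E.hom := by rw [Over.w P, Over.w eE.inv]
  refine ⟨by rw [← hEH]; infer_instance, ?_, ?_⟩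
  · have h1 : f.left = ρ.left ≫ (eE.inv.left ≫ P.left) := by simp [f, r]
    exact (MorphismProperty.cancel_right_of_respectsIso @Flat ρ.left (eE.inv.left ≫ P.left)).1 (h1 ▸ hflat)
  · have h1 : f.left = ρ.left ≫ (eE.inv.left ≫ P.left) := by simp [f, r]
    exact (MorphismProperty.cancel_right_of_respectsIso @Surjective ρ.left (eE.inv.left ≫ P.left)).1 (h1 ▸ hsurj)

end Groth.AlgGrp1.AffineHull
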