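import Groth.Agent.AlgGrp1.Translates
import Groth.Agent.AlgGrp1.FiniteHom
import Groth.Agent.AlgGrp2.GLnPts

/-!
A smooth algebraic group over an algebraically closed field whose global functions separate the unit
from every other rational point is affine.
-/

set_option autoImplicit false
universe u

open CategoryTheory MonoidalCategory CartesianMonoidalCategory MonObj GrpObj AlgebraicGeometry
open Groth.Agf (Fn pull evalPt evalPt_comp evalPt_comp_apply evalPt_ptMap)
open scoped TensorProduct Groth.Agf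

noncomputable section

namespace Groth.AlgGrp1

variable {k : Type u} [Field k]

/-- The morphism to an affine scheme given by a homomorphism into the functions. -/
def toAffine {X : Over (Spec (CommRingCat.of k))} {A : Type u} [CommRing A] [Algebra k A]
    (φ : A →ₐ[k] Fn X) : X ⟶ CoactBr.sp k A :=
  Over.homMk (X.left.toSpecΓ ≫ Spec.map (CommRingCat.ofHom φ.toRingHom)) (by
    show (X.left.toSpecΓ ≫ Spec.map _) ≫ Spec.map (CommRingCat.ofHom (algebraMap k A)) = X.hom
    rw [Category.assoc, ← Spec.map_comp]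
    have : CommRingCat.ofHom (algebraMap k A) ≫ CommRingCat.ofHom φ.toRingHom =
        (Scheme.ΓSpecIso (CommRingCat.of k)).inv ≫ X.hom.appTop := by
      ext c
      exact φ.commutes c
    rw [this, Spec.map_comp, ← Category.assoc, ← Scheme.toSpecΓ_naturality, Category.assoc,
      toSpecΓ_SpecMap_ΓSpecIso_inv, Category.comp_id])

theorem comp_toAffine {X : Over (Spec (CommRingCat.of k))} {A : Type u} [CommRing A] [Algebra k A]
    (φ : A →ₐ[k] Fn X) {B : Type u} [CommRing B] [Algebra k B] (g : VecGrp.pt k B ⟶ X) :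
    (g ≫ toAffine φ : CoactBr.sp k B ⟶ CoactBr.sp k A) = CoactBr.pt ((evalPt g).comp φ) := by
  apply Over.OverMorphism.ext
  rw [CoactBr.pt_left]
  show g.left ≫ X.left.toSpecΓ ≫ Spec.map (CommRingCat.ofHom φ.toRingHom) = _
  rw [← Category.assoc, Scheme.toSpecΓ_naturality, Category.assoc]
  rw [show (VecGrp.pt k B).left.toSpecΓ = Spec.map (Scheme.ΓSpecIso (CommRingCat.of B)).hom from
      (SpecMap_ΓSpecIso_hom (CommRingCat.of B)).symm, ← Spec.map_comp, ← Spec.map_comp]
  rfl

variable [IsAlgClosed k] {G : Over (Spec (CommRingCat.of k))} [GrpObj G] [Smooth G.hom] [QuasiCompact G.hom]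

variable (G) in
/-- A smooth algebraic group has a matrix of functions multiplicative on rational points and trivial
exactly at the points at which every function takes its value at the unit. -/
theorem exists_matRep :
    ∃ (n : ℕ) (Mat : Matrix (Fin n) (Fin n) (Fn G)),
      (∀ g h : VecGrp.pt k k ⟶ G,
        (evalPt (g * h)).mapMatrix Mat = (evalPt g).mapMatrix Mat * (evalPt h).mapMatrix Mat) ∧
      (evalPt (1 : VecGrp.pt k k ⟶ G)).mapMatrix Mat = 1 ∧
      ∀ g : VecGrp.pt k k ⟶ G, (evalPt g).mapMatrix Mat = 1 →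
        ∀ f : Fn G, evalPt g f = evalPt (1 : VecGrp.pt k k ⟶ G) f := by
  classical
  have := geometricallyReduced_of_smooth_hom G
  have := isReduced_left G
  have := isLocallyNoetherian_left G
  have : CompactSpace G.left := QuasiCompact.compactSpace_of_compactSpace G.hom
  have : AlgebraicGeometry.IsNoetherian G.left := ⟨⟩
  -- finitely many functions suffice
  let D : Fn G → Set G.left := fun f =>
    G.left.basicOpen (f - algebraMap k (Fn G) (evalPt (1 : VecGrp.pt k k ⟶ G) f))
  have hD : ∀ (g : VecGrp.pt k k ⟶ G) (f : Fn G), g.left.base (IsLocalRing.closedPoint k) ∈ D f ↔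
      evalPt g f ≠ evalPt (1 : VecGrp.pt k k ⟶ G) f := by
    intro g f
    set c := f - algebraMap k (Fn G) (evalPt (1 : VecGrp.pt k k ⟶ G) f)
    have h1 : evalPt g c = evalPt g f - evalPt (1 : VecGrp.pt k k ⟶ G) f := by
      rw [map_sub, AlgHom.commutes]; rfl
    have h2 : IsLocalRing.closedPoint k ∈ g.left ⁻¹ᵁ G.left.basicOpen c ↔ evalPt g c ≠ 0 := by
      rw [Scheme.preimage_basicOpen]
      show (IsLocalRing.closedPoint k : Spec (CommRingCat.of k)) ∈ (Spec (CommRingCat.of k)).basicOpen (g.left.app ⊤ c) ↔ _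
      erw [basicOpen_eq_of_affine']
      show evalPt g c ∉ (IsLocalRing.closedPoint k).asIdeal ↔ _
      rw [show (IsLocalRing.closedPoint k).asIdeal = (⊥ : Ideal k) from IsLocalRing.maximalIdeal_eq_bot,
        Ideal.mem_bot]
    exact h2.trans (by rw [h1, sub_ne_zero])
  have hcpt : IsCompact (⋃ f, D f) := TopologicalSpace.NoetherianSpace.isCompact _
  obtain ⟨S, hS⟩ := hcpt.elim_finite_subcover D (fun f => (G.left.basicOpen _).2) subset_rfl
  -- a finite-dimensional space of functions stable under translations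
  choose Vf hVf hfV hst using fun f : Fn G => exists_finite_translates f
  let V : Submodule k (Fn G) := S.sup Vf
  have hVfin : Module.Finite k V := Submodule.finite_finset_sup _ _
  have hV : ∀ (x : VecGrp.pt k k ⟶ G), ∀ v ∈ V, pull (rTr x) v ∈ V := by
    intro x
    have : V ≤ V.comap (pull (rTr x)).toLinearMap :=
      Finset.sup_le fun f hf v hv => Finset.le_sup (f := Vf) hf (hst f x v hv)
    exact fun v hv => this hv
  let T : (VecGrp.pt k k ⟶ G) → (V →ₗ[k] V) := fun x => (pull (rTr x)).toLinearMap.restrict (hV x)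
  have hTmul : ∀ x y, T (x * y) = T x ∘ₗ T y := fun x y => by
    refine LinearMap.ext fun v => Subtype.ext ?_
    show pull (rTr (x * y)) v.1 = pull (rTr x) (pull (rTr y) v.1)
    rw [← rTr_comp, Groth.Agf.pull_comp]
  have hTone : T 1 = LinearMap.id := LinearMap.ext fun v => Subtype.ext (by
    show pull (rTr 1) v.1 = v.1
    rw [rTr_one, Groth.Agf.pull_id]; rfl)
  -- evaluations span the dual
  let ev : (VecGrp.pt k k ⟶ G) → Module.Dual k V := fun y => (evalPt y).toLinearMap ∘ₗ V.subtype
  have hspan : Submodule.span k (Set.range ev) = ⊤ := by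
    by_contra hne
    obtain ⟨φ, hφ, hφ0⟩ := Submodule.exists_le_ker_of_lt_top _ (lt_top_iff_ne_top.2 hne)
    obtain ⟨v, rfl⟩ := (Module.evalEquiv k V).surjective φ
    refine hφ ?_
    rw [show v = 0 from Subtype.ext (fn_ext_points fun y => ?_), map_zero]
    show evalPt y v.1 = evalPt y 0
    rw [map_zero]
    exact hφ0 (Submodule.subset_span ⟨y, rfl⟩)
  have hcoef : ∀ (φ : Module.Dual k V) (v : V), ∃ F : Fn G, ∀ g, evalPt g F = φ (T g v) := by
    intro φ
    have : φ ∈ Submodule.span k (Set.range ev) := hspan ▸ Submodule.mem_top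
    induction this using Submodule.span_induction with
    | zero => exact fun v => ⟨0, fun g => by simp⟩
    | add a b _ _ ha hb =>
      intro v
      obtain ⟨F, hF⟩ := ha v
      obtain ⟨F', hF'⟩ := hb v
      exact ⟨F + F', fun g => by simp [hF, hF']⟩
    | smul r a _ ha =>
      intro v
      obtain ⟨F, hF⟩ := ha v
      exact ⟨r • F, fun g => by simp [hF]⟩
    | mem a ha =>
      obtain ⟨y, rfl⟩ := ha
      intro v
      refine ⟨pull (lTr y) v.1, fun g => ?_⟩
      show evalPt g (pull (lTr y) v.1) = evalPt y (pull (rTr g) v.1)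
      rw [← evalPt_comp_apply, ← evalPt_comp_apply, comp_lTr, comp_rTr]
  -- the representation
  let n := Module.finrank k V
  let b : Module.Basis (Fin n) k V := Module.finBasis k V
  choose M hM using fun i j : Fin n => hcoef (b.coord i) (b j)
  let Mat : Matrix (Fin n) (Fin n) (Fn G) := Matrix.of M
  have hMat : ∀ g : VecGrp.pt k k ⟶ G, (evalPt g).mapMatrix Mat = LinearMap.toMatrix b b (T g) := fun g => by
    ext i j
    rw [LinearMap.toMatrix_apply]
    exact hM i j g
  refine ⟨n, Mat, fun g h => by rw [hMat, hMat, hMat, hTmul, LinearMap.toMatrix_comp b b b],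
    by rw [hMat, hTone, LinearMap.toMatrix_id], fun g hg f => ?_⟩
  have hTg : T g = T 1 := (LinearMap.toMatrix b b).injective (by
    rw [← hMat, ← hMat, hg, hMat, hTone, LinearMap.toMatrix_id])
  by_contra hne
  have hmem : g.left.base (IsLocalRing.closedPoint k) ∈ ⋃ f ∈ S, D f :=
    hS (Set.mem_iUnion.2 ⟨f, (hD g f).2 hne⟩)
  obtain ⟨f', hf', hgf'⟩ := Set.mem_iUnion₂.1 hmem
  refine (hD g f').1 hgf' ?_
  have := congrArg (fun v : V => evalPt (1 : VecGrp.pt k k ⟶ G) v.1)
    (LinearMap.congr_fun hTg ⟨f', Finset.le_sup (f := Vf) hf' (hfV f')⟩)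
  simpa [T, ← evalPt_comp_apply, comp_rTr, rTr_one, Groth.Agf.pull_id] using this

variable (G) in
/-- A smooth algebraic group has a linear representation whose rational kernel consists of the
points at which every function takes its value at the unit. -/
theorem exists_rep :
    ∃ (H : Over (Spec (CommRingCat.of k))) (_ : GrpObj H) (u : G ⟶ H), IsMonHom u ∧ IsAffine H.left ∧
      LocallyOfFiniteType H.hom ∧ QuasiCompact H.hom ∧
      ∀ g : VecGrp.pt k k ⟶ G, g ≫ u = 1 → ∀ f : Fn G, evalPt g f = evalPt (1 : VecGrp.pt k k ⟶ G) f := by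
  have := geometricallyReduced_of_smooth_hom G
  have := isReduced_left G
  obtain ⟨n, Mat, hmul, hone, hker⟩ := exists_matRep G
  have hinv : Mat * (pull (ι[G] : G ⟶ G)).mapMatrix Mat = 1 := by
    ext i j
    refine fn_ext_points fun g => ?_
    have e : ∀ A : Matrix (Fin n) (Fin n) (Fn G), evalPt g (A i j) = (evalPt g).mapMatrix A i j :=
      fun A => rfl
    rw [e, e, map_mul, map_one]
    have : (evalPt g).mapMatrix ((pull (ι[G] : G ⟶ G)).mapMatrix Mat) = (evalPt (g⁻¹)).mapMatrix Mat := by
      rw [Hom.inv_def]; rfl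
    rw [this, ← hmul, mul_inv_cancel, hone]
  obtain ⟨du, hdu⟩ := (Matrix.isUnit_iff_isUnit_det Mat).1 ⟨⟨Mat, _, hinv, mul_eq_one_comm.1 hinv⟩, rfl⟩
  let φ : CoordGrp.GLn n k →ₐ[k] Fn G :=
    CoordGrp.GLn.pt n k Mat (↑du⁻¹ : Fn G) (by rw [← hdu, Units.mul_inv])
  let H : Over (Spec (CommRingCat.of k)) := CoactBr.sp k (CoordGrp.GLn n k)
  let u : G ⟶ H := toAffine φ
  have hpt : ∀ g : VecGrp.pt k k ⟶ G, Groth.AlgGrp2.ptMat (R := k) (L := k) (m := n) (g ≫ u) =
      (evalPt g).mapMatrix Mat := fun g => by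
    rw [show (g ≫ u : CoactBr.sp k k ⟶ H) = CoactBr.pt ((evalPt g).comp φ) from comp_toAffine φ g,
      Groth.AlgGrp2.ptMat_pt]
    ext i j
    simp [Groth.AlgGrp2.glMat, φ]
  have : IsAffine H.left := inferInstanceAs (IsAffine (Spec (CommRingCat.of (CoordGrp.GLn n k))))
  have hftA : Algebra.FiniteType k (CoordGrp.GLn n k) := by
    have h0 : Algebra.FiniteType k (CoordGrp.GLb n k) :=
      inferInstanceAs (Algebra.FiniteType k (MvPolynomial ((Fin n × Fin n) ⊕ Unit) k))
    exact Algebra.FiniteType.of_surjective (CoordGrp.GLn.mk n k) Ideal.Quotient.mk_surjective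
  have : LocallyOfFiniteType H.hom :=
    (HasRingHomProperty.Spec_iff (P := @LocallyOfFiniteType)).2 (RingHom.finiteType_algebraMap.2 hftA)
  have : QuasiCompact H.hom := inferInstanceAs (QuasiCompact (Spec.map _))
  have := isSeparated_grpObj H
  have : LocallyOfFiniteType (G ⊗ G).hom :=
    inferInstanceAs (LocallyOfFiniteType (Limits.pullback.fst G.hom G.hom ≫ G.hom))
  have := geometricallyReduced_tensorObj G G
  have key : μ[G] ≫ u = (fst G G ≫ u) * (snd G G ≫ u) := eq_of_sepClosed_points k _ _ fun t => by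
    have hμ : μ[G] = fst G G * snd G G := by rw [Hom.mul_def, lift_fst_snd, Category.id_comp]
    rw [MonObj.comp_mul, ← Category.assoc, ← Category.assoc, ← Category.assoc, hμ, MonObj.comp_mul]
    refine Groth.AlgGrp2.ptMat_injective (R := k) (L := k) (m := n) ?_
    exact ((hpt _).trans (by rw [hmul, ← hpt, ← hpt]; rfl)).trans
      (Groth.AlgGrp2.ptMat_mul _ _).symm
  have : IsMonHom u := isMonHom_of_points u fun U a c => by
    have := congrArg (lift a c ≫ ·) key
    simp only [MonObj.comp_mul, lift_fst_assoc, lift_snd_assoc] at this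
    rwa [← Category.assoc, ← Hom.mul_def] at this
  refine ⟨H, inferInstance, u, inferInstance, inferInstance, inferInstance, inferInstance, fun g hg f => ?_⟩
  refine hker g ?_ f
  have e1 : (1 : VecGrp.pt k k ⟶ G) ≫ u = 1 := MonObj.one_comp u
  rw [← hpt, ← hone, ← hpt]
  exact congrArg _ (hg.trans e1.symm)

/-- **Affineness criterion.** -/
theorem isAffine_of_separated_points_smooth
    (h : ∀ g : VecGrp.pt k k ⟶ G, (∀ f : Fn G, evalPt g f = evalPt (1 : VecGrp.pt k k ⟶ G) f) → g = 1) :
    IsAffine G.left := by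
  obtain ⟨H, _, u, _, _, _, _, hu⟩ := exists_rep G
  have : IsFinite u.left := isFinite_of_points u fun g hg => h g (hu g hg)
  exact isAffine_of_isAffineHom u.left

end Groth.AlgGrp1
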