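import Groth.Agent.AlgGrp1.AffineHull
import Groth.Agent.AlgGrp1.Const

/-!
# The kernel of the affine hull has only constant functions
-/

set_option autoImplicit false

universe u

open CategoryTheory Limits MonoidalCategory CartesianMonoidalCategory AlgebraicGeometry TopologicalSpace
open scoped MonObj

noncomputable section

namespace Groth.AlgGrp1.AntiAffineKernel

variable {k : Type u} [Field k]

/-- The kernel of a flat homomorphism to an affine group inducing an isomorphism on global functions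
has only constant functions. -/
theorem hasConstFunctions_kernel {G H N : Over (Spec (CommRingCat.of k))} [GrpObj G] [GrpObj H]
    [QuasiCompact G.hom] [QuasiSeparated G.hom] [IsAffine H.left] (ρ : G ⟶ H) [IsMonHom ρ]
    [AffineHull.GammaIso ρ] [Flat ρ.left] (n : N ⟶ G) [Mono n]
    (hN : ∀ (T : Over (Spec (CommRingCat.of k))) (g : T ⟶ G), (∃ z : T ⟶ N, z ≫ n = g) ↔ g ≫ ρ = 1) :
    HasConstFunctions N := by
  -- an affine open around the unit
  obtain ⟨W, hW, heW, -⟩ := exists_isAffineOpen_mem_and_subset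
    (x := η[G].left (IsLocalRing.closedPoint k)) (U := (⊤ : G.left.Opens)) trivial
  let U : Over (Spec (CommRingCat.of k)) := Over.mk (W.ι ≫ G.hom)
  let u : U ⟶ G := Over.homMk W.ι rfl
  have : IsAffine U.left := hW
  obtain ⟨eU, heU⟩ : ∃ eU : 𝟙_ (Over (Spec (CommRingCat.of k))) ⟶ U, eU ≫ u = η[G] := by
    have hr : Set.range η[G].left ⊆ Set.range W.ι := by
      rw [Scheme.Opens.range_ι]
      rintro _ ⟨x, rfl⟩
      have hx : x = IsLocalRing.closedPoint k :=
        @Subsingleton.elim _ (inferInstanceAs (Subsingleton ↥(Spec (CommRingCat.of k)))) _ _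
      rw [hx]
      exact heW
    refine ⟨Over.homMk (IsOpenImmersion.lift W.ι η[G].left hr) ?_,
      Over.OverMorphism.ext (IsOpenImmersion.lift_fac _ _ _)⟩
    show IsOpenImmersion.lift W.ι η[G].left hr ≫ W.ι ≫ G.hom = _
    rw [IsOpenImmersion.lift_fac_assoc]
    exact Over.w η[G]
  obtain ⟨P, x, y, sq⟩ : ∃ (P : Over (Spec (CommRingCat.of k))) (x : P ⟶ G) (y : P ⟶ U),
      IsPullback x y ρ (u ≫ ρ) := ⟨_, _, _, IsPullback.of_hasPullback ρ (u ≫ ρ)⟩
  -- functions on the pullback come from the affine open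
  have hy : IsIso y.left.appTop := by
    have : CompactSpace G.left := QuasiCompact.compactSpace_of_compactSpace G.hom
    have : QuasiSeparatedSpace G.left := quasiSeparatedSpace_of_quasiSeparated G.hom
    have : CompactSpace U.left := HasAffineProperty.iff_of_isAffine.1 (inferInstance : QuasiCompact U.hom)
    have : Flat (u ≫ ρ).left := inferInstanceAs (Flat (W.ι ≫ ρ.left))
    have hflat : (ρ.left.appLE ⊤ ⊤ (le_of_eq (Scheme.Hom.preimage_top ρ.left).symm)).hom.Flat := by
      have : IsIso ρ.left.appTop := ‹AffineHull.GammaIso ρ›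
      rw [show ρ.left.appLE ⊤ ⊤ _ = ρ.left.appTop from Scheme.Hom.appLE_eq_app _]
      exact RingHom.Flat.of_bijective (ConcreteCategory.bijective_of_isIso ρ.left.appTop)
    have sq' : CategoryTheory.IsPullback x.left y.left ρ.left (u ≫ ρ).left := sq.map (Over.forget _)
    have h := (isIso_pushoutSection_iff
      sq' (UT := ⊤) (UX := ⊤) (US := ⊤) (UY := ⊤)
      (le_of_eq (Scheme.Hom.preimage_top (u ≫ ρ).left).symm) (le_of_eq (Scheme.Hom.preimage_top ρ.left).symm)
      (by simp)).1
      (isIso_pushoutSection_of_isCompact_of_flat_right_of_ringHomFlat _ _ _ _ (isAffineOpen_top _)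
        isCompact_univ isQuasiSeparated_univ isCompact_univ isQuasiSeparated_univ hflat)
    have h' : IsPushout ρ.left.appTop (u ≫ ρ).left.appTop x.left.appTop y.left.appTop := by
      simp only [Scheme.Hom.appTop, Scheme.Hom.app_eq_appLE]
      exact h
    have : IsIso ρ.left.appTop := ‹AffineHull.GammaIso ρ›
    exact h'.isIso_inr_of_isIso
  obtain ⟨τ, hτ⟩ := (hN P (x * (y ≫ u)⁻¹)).2 (by
    rw [MonObj.mul_comp, GrpObj.inv_comp, sq.w, Category.assoc, mul_inv_cancel])
  have hn : n ≫ ρ = 1 := (hN N n).1 ⟨𝟙 N, Category.id_comp n⟩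
  have hone : (toUnit N ≫ eU) ≫ u = 1 := by
    rw [Category.assoc, heU]; rfl
  obtain ⟨σ, hσx, hσy⟩ : ∃ σ : N ⟶ P, σ ≫ x = n ∧ σ ≫ y = toUnit N ≫ eU := by
    have hw : n ≫ ρ = (toUnit N ≫ eU) ≫ u ≫ ρ := by
      rw [hn, ← Category.assoc, hone, MonObj.one_comp]
    exact ⟨sq.lift _ _ hw, sq.lift_fst _ _ hw, sq.lift_snd _ _ hw⟩
  have hστ : σ ≫ τ = 𝟙 N := by
    rw [← cancel_mono n, Category.assoc, hτ, MonObj.comp_mul, GrpObj.comp_inv, hσx, ← Category.assoc, hσy,
      hone, inv_one, _root_.mul_one, Category.id_comp]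
  have hsurj : Function.Surjective N.hom.appTop.hom := by
    intro f
    obtain ⟨g, hg⟩ := (ConcreteCategory.bijective_of_isIso y.left.appTop).2 (τ.left.appTop f)
    refine ⟨eU.left.appTop g, ?_⟩
    have h1 : σ.left.appTop (τ.left.appTop f) = f := by
      rw [← ConcreteCategory.comp_apply, ← Scheme.Hom.comp_appTop, ← Over.comp_left, hστ, Over.id_left,
        Scheme.Hom.id_appTop]
      rfl
    conv_rhs => rw [← h1, ← hg, ← ConcreteCategory.comp_apply, ← Scheme.Hom.comp_appTop, ← Over.comp_left, hσy,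
      Over.comp_left, Scheme.Hom.comp_appTop, show (toUnit N).left = N.hom by simpa using Over.w (toUnit N)]
    rfl
  obtain ⟨e, -⟩ := (hN (𝟙_ _) 1).2 (MonObj.one_comp ρ)
  refine ⟨?_, fun f => ?_⟩
  · have : Nontrivial Γ(N.left, ⊤) := RingHom.domain_nontrivial
      (e.left.appTop ≫ (Scheme.ΓSpecIso (CommRingCat.of k)).hom).hom
    exact RingHom.injective _
  · obtain ⟨c', hc'⟩ := hsurj f
    obtain ⟨c, hc⟩ := (ConcreteCategory.bijective_of_isIso (Scheme.ΓSpecIso (CommRingCat.of k)).inv).2 c'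
    exact ⟨c, by rw [← hc', ← hc]; rfl⟩

end Groth.AlgGrp1.AntiAffineKernel
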