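import Groth.Agent.AlgGrp1.FrobPow
import Groth.Agent.AlgGrp1.Antiaffine
import Groth.Agent.AlgGrp1.Sub
import Groth.Agent.AlgGrp1.AffineHull
import Groth.Agent.AlgGrp1.SmoothReduced
import Groth.Agent.S3278
import Groth.Agent.GrpschAbsch.Cartier
import Groth.Agent.AlgGrp1.Points
import Groth.Agent.GrpschAbsch.FibreTranslate
import Groth.Agent.GrpschAbsch.SmoothField
import Groth.Agent.Misc7.Perfection.Basic
import Groth.Agent.S19702

/-!
# Anti-affine groups are smooth

In characteristic `p`, over an algebraically closed field, a power of Frobenius shows that `N` is the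
product of `N_red` and a finite subgroup `K`; the affine quotient `K / K ∩ N_red` receives `N`.
-/

set_option autoImplicit false

universe u

open CategoryTheory Limits MonoidalCategory CartesianMonoidalCategory AlgebraicGeometry TopologicalSpace
open scoped MonObj

noncomputable section

namespace Groth.AlgGrp1.AntiAffineSmooth

open Groth.AlgGrp1.FrobPow

variable {k : Type u} [Field k]

/-- A morphism from a scheme with only constant functions to an affine scheme is constant. -/
theorem eq_const {X Y : Over (Spec (CommRingCat.of k))} (hX : HasConstFunctions X) [IsAffine Y.left]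
    (e : 𝟙_ _ ⟶ X) (f : X ⟶ Y) : f = toUnit X ≫ e ≫ f := by
  have := hX.isIso_appTop
  have : AffineHull.GammaIso (toUnit X) := by
    show IsIso (toUnit X).left.appTop
    rwa [show (toUnit X).left = X.hom by simpa using Over.w (toUnit X)]
  obtain ⟨g, rfl⟩ := AffineHull.exists_desc (toUnit X) f
  rw [← Category.assoc e, toUnit_unique (e ≫ toUnit X) (𝟙 _), Category.id_comp]

/-- An anti-affine group over an algebraically closed field of positive characteristic is reduced. -/
theorem isReduced_of_charP [IsAlgClosed k] (p : ℕ) [Fact p.Prime] [CharP k p]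
    (N : Over (Spec (CommRingCat.of k))) [GrpObj N] [LocallyOfFiniteType N.hom] [QuasiCompact N.hom]
    (hN : HasConstFunctions N) : IsReduced N.left := by
  have hch : ∀ T : Over (Spec (CommRingCat.of k)), FrobSch.IsCharP T.left p :=
    fun T => FrobSch.IsCharP.of_hom T.hom p
  have := isSeparated_grpObj N
  have := isLocallyNoetherian_left N
  have : CompactSpace N.left := QuasiCompact.compactSpace_of_compactSpace N.hom
  have : PreconnectedSpace N.left := hN.connectedSpace.toPreconnectedSpace
  have hcomm : ∀ {T : Over (Spec (CommRingCat.of k))} (a b : T ⟶ N), a * b = b * a := fun a b => by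
    simpa using comm_of_hasConstFunctions hN (𝟙 N) a b
  -- the reduced subgroup
  obtain ⟨R, i, _, _, _⟩ := exists_reduced N
  have : Mono i := Over.mono_of_mono_left i
  have : LocallyOfFiniteType R.hom := by rw [← Over.w i]; infer_instance
  have : QuasiCompact R.hom := by rw [← Over.w i]; infer_instance
  have hfac : ∀ {T : Over (Spec (CommRingCat.of k))} [IsReduced T.left] (g : T ⟶ N), ∃ z : T ⟶ R, z ≫ i = g :=
    fun g => exists_factor_of_range_subset i g (fun x _ => i.left.surjective x)
  have := Groth.GrpschAbsch.FibreTranslate.geometricallyReduced_of_perfectField R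
  have := geometricallyReduced_tensorObj R R
  have := isReduced_left (R ⊗ R)
  have : IsReduced (𝟙_ (Over (Spec (CommRingCat.of k)))).left := inferInstanceAs (IsReduced (Spec _))
  obtain ⟨m, hm⟩ := hfac ((fst R R ≫ i) * (snd R R ≫ i))
  obtain ⟨v, hv⟩ := hfac i⁻¹
  obtain ⟨o, ho⟩ := hfac (1 : 𝟙_ _ ⟶ N)
  obtain ⟨_, _⟩ := Groth.Agf.exists_grpObj_of_subgroup i (fun T g => ∃ z : T ⟶ R, z ≫ i = g) (fun T g => Iff.rfl)
    (fun T => ⟨toUnit T ≫ o, by rw [Category.assoc, ho, MonObj.comp_one]⟩)
    (fun T a b ⟨z, hz⟩ ⟨w, hw⟩ => ⟨lift z w ≫ m, by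
      rw [Category.assoc, hm, MonObj.comp_mul, lift_fst_assoc, lift_snd_assoc, hz, hw]⟩)
    (fun T a ⟨z, hz⟩ => ⟨z ≫ v, by rw [Category.assoc, hv, GrpObj.comp_inv, hz]⟩)
  let : GrpObj (Over.mk R.hom) := ‹GrpObj R›
  have : Smooth R.hom := Groth.GrpschAbsch.smooth_of_isAlgClosed_of_isReduced R.hom
  -- Frobenius
  obtain ⟨r, ψ, hψ⟩ := exists_Fp_factor N.left p i.left
  have hFk : ∀ r, IsIso (Fp (Spec (CommRingCat.of k)) p r) := fun r => by
    have := Groth.Misc7.Perfection.isPerfect_specField (p := p) k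
    induction r with
    | zero => exact inferInstanceAs (IsIso (𝟙 _))
    | succ r ih => rw [Fp_succ]; infer_instance
  have := hFk r
  let FR := Fp R.left p r
  have : Flat FR := flat_Fp R.left p R.hom r
  have : Surjective FR := ⟨fun x => ⟨x, Fp_apply R.left p r x⟩⟩
  have : LocallyOfFiniteType FR := locallyOfFiniteType_Fp R.left p R.hom r
  have := isLocallyNoetherian_left R
  have : LocallyOfFinitePresentation FR := inferInstance
  -- the twisted structure, making Frobenius a morphism over the base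
  let tw : Over (Spec (CommRingCat.of k)) → Over (Spec (CommRingCat.of k)) := fun T =>
    Over.mk (Fp T.left p r ≫ T.hom)
  let φ : ∀ T, tw T ⟶ T := fun T => Over.homMk (Fp T.left p r) rfl
  have hφ : ∀ {T : Over (Spec (CommRingCat.of k))} (g h : T ⟶ N),
      g.left ≫ Fp N.left p r = h.left ≫ Fp N.left p r ↔ φ T ≫ g = φ T ≫ h := fun g h => by
    rw [← Fp_comp, ← Fp_comp]
    exact ⟨fun e => Over.OverMorphism.ext e, fun e => congrArg (fun x => x.left) e⟩
  -- the Frobenius kernel
  let eF : Spec (CommRingCat.of k) ⟶ N.left := η[N].left ≫ Fp N.left p r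
  have : IsClosedImmersion eF := by
    show IsClosedImmersion (η[N].left ≫ Fp N.left p r)
    have : IsClosedImmersion η[N].left := by
      have h : η[N].left ≫ N.hom = 𝟙 _ := Over.w η[N]
      have : IsClosedImmersion (η[N].left ≫ N.hom) := by rw [h]; infer_instance
      exact IsClosedImmersion.of_comp _ N.hom
    rw [← Fp_comp]
    exact inferInstanceAs (IsClosedImmersion (Fp (Spec (CommRingCat.of k)) p r ≫ η[N].left))
  have : FrobSch.IsCharP (pullback (Fp N.left p r) eF) p := FrobSch.IsCharP.of_hom (pullback.fst _ _) p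
  let K : Over (Spec (CommRingCat.of k)) := Over.mk (pullback.fst (Fp N.left p r) eF ≫ N.hom)
  let j : K ⟶ N := Over.homMk (pullback.fst (Fp N.left p r) eF) rfl
  have : IsClosedImmersion j.left := inferInstanceAs (IsClosedImmersion (pullback.fst (Fp N.left p r) eF))
  have : Mono j := Over.mono_of_mono_left j
  have hsnd : pullback.snd (Fp N.left p r) eF = K.hom := by
    refine (cancel_mono (Fp (Spec (CommRingCat.of k)) p r)).1 ?_
    show pullback.snd (Fp N.left p r) eF ≫ Fp (Spec (CommRingCat.of k)) p r =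
      (pullback.fst (Fp N.left p r) eF ≫ N.hom) ≫ Fp (Spec (CommRingCat.of k)) p r
    rw [Category.assoc, ← Fp_comp p N.hom, pullback.condition_assoc]
    congr 1
    show _ = (η[N].left ≫ Fp N.left p r) ≫ N.hom
    rw [Category.assoc, Fp_comp, ← Category.assoc, show η[N].left ≫ N.hom = 𝟙 _ from Over.w η[N]]
    exact (Category.id_comp _).symm
  have hK : ∀ (T : Over (Spec (CommRingCat.of k))) (g : T ⟶ N), (∃ z : T ⟶ K, z ≫ j = g) ↔ φ T ≫ g = φ T ≫ 1 := by
    intro T g
    rw [← hφ]
    have h1 : (1 : T ⟶ N).left ≫ Fp N.left p r = T.hom ≫ eF := by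
      show (toUnit T ≫ η[N]).left ≫ _ = _
      rw [Over.comp_left, Category.assoc, show (toUnit T).left = T.hom by simpa using Over.w (toUnit T)]
    rw [h1]
    constructor
    · rintro ⟨z, rfl⟩
      show (z.left ≫ pullback.fst (Fp N.left p r) eF) ≫ Fp N.left p r = _
      rw [Category.assoc, pullback.condition, ← Category.assoc, hsnd, Over.w z]
    · intro h
      exact ⟨Over.homMk (pullback.lift g.left T.hom h)
          (show pullback.lift g.left T.hom h ≫ pullback.fst _ _ ≫ N.hom = T.hom by
            rw [pullback.lift_fst_assoc, Over.w g]),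
        Over.OverMorphism.ext (pullback.lift_fst _ _ _)⟩
  obtain ⟨_, _⟩ := Groth.Agf.exists_grpObj_of_subgroup j (fun T g => φ T ≫ g = φ T ≫ 1) hK (fun T => rfl)
    (fun T a b ha hb => by rw [MonObj.comp_mul, ha, hb, ← MonObj.comp_mul, _root_.one_mul])
    (fun T a ha => by rw [GrpObj.comp_inv, ha, ← GrpObj.comp_inv, inv_one])
  have haff : ∀ m, IsAffineHom (Fp N.left p m) := fun m => by
    induction m with
    | zero => exact inferInstanceAs (IsAffineHom (𝟙 _))
    | succ m ih => rw [Fp_succ]; infer_instance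
  have := haff r
  have : IsAffineHom (pullback.snd (Fp N.left p r) eF) := MorphismProperty.pullback_snd _ _ ‹IsAffineHom (Fp N.left p r)›
  have : IsAffine K.left := isAffine_of_isAffineHom (pullback.snd (Fp N.left p r) eF)
  have : LocallyOfFiniteType K.hom := by rw [← Over.w j]; infer_instance
  -- the intersection and the affine quotient
  obtain ⟨L, l, _, hL⟩ := Groth.Agf.exists_preimage j i
  have : Mono l := Over.mono_of_mono_left l
  have hL' : ∀ (T : Over (Spec (CommRingCat.of k))) (g : T ⟶ K),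
      (∃ z : T ⟶ L, z ≫ l = g) ↔ ∃ z : T ⟶ R, z ≫ i = g ≫ j := fun T g =>
    (hL T g).trans ⟨fun ⟨z, h⟩ => ⟨z, h.symm⟩, fun ⟨z, h⟩ => ⟨z, h.symm⟩⟩
  obtain ⟨_, _⟩ := Groth.Agf.exists_grpObj_of_subgroup l (fun T g => ∃ z : T ⟶ R, z ≫ i = g ≫ j) hL'
    (fun T => ⟨1, by rw [MonObj.one_comp, MonObj.one_comp]⟩)
    (fun T a b ⟨z, hz⟩ ⟨w, hw⟩ => ⟨z * w, by rw [MonObj.mul_comp, MonObj.mul_comp, hz, hw]⟩)
    (fun T a ⟨z, hz⟩ => ⟨z⁻¹, by rw [GrpObj.inv_comp, GrpObj.inv_comp, hz]⟩)
  obtain ⟨C, _, q, _, _, -, -, -, hker⟩ := Groth.Agent.S3278.result k K L l (fun T g n => ⟨n, by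
    rw [← cancel_mono j, MonObj.mul_comp, MonObj.mul_comp, GrpObj.inv_comp, hcomm (g ≫ j), mul_inv_cancel_right]⟩)
  -- the fppf cover `R × K → N`
  have : FrobSch.IsCharP (pullback ψ FR) p := FrobSch.IsCharP.of_hom (pullback.fst _ _) p
  let P : Over (Spec (CommRingCat.of k)) := Over.mk (pullback.fst ψ FR ≫ N.hom)
  let n : P ⟶ N := Over.homMk (pullback.fst ψ FR) rfl
  let a : P ⟶ R := Over.homMk (pullback.snd ψ FR) (by
    refine (cancel_mono (Fp (Spec (CommRingCat.of k)) p r)).1 ?_
    show (pullback.snd ψ FR ≫ R.hom) ≫ _ = (pullback.fst ψ FR ≫ N.hom) ≫ _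
    rw [Category.assoc, Category.assoc, ← Fp_comp p N.hom, ← hψ, Category.assoc, Over.w i,
      pullback.condition_assoc, Fp_comp p R.hom])
  have : Flat n.left := inferInstanceAs (Flat (pullback.fst ψ FR))
  have : Surjective n.left := inferInstanceAs (Surjective (pullback.fst ψ FR))
  have : LocallyOfFinitePresentation n.left := inferInstanceAs (LocallyOfFinitePresentation (pullback.fst ψ FR))
  obtain ⟨z, hz⟩ : ∃ z : P ⟶ K, z ≫ j = n * (a ≫ i)⁻¹ := by
    rw [hK, MonObj.comp_mul, GrpObj.comp_inv, MonObj.comp_one, mul_inv_eq_one, ← hφ]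
    show pullback.fst ψ FR ≫ Fp N.left p r = (pullback.snd ψ FR ≫ i.left) ≫ Fp N.left p r
    rw [Category.assoc, ← Fp_comp p i.left, ← hψ, pullback.condition_assoc]
  have hn : n = (z ≫ j) * (a ≫ i) := by rw [hz, inv_mul_cancel_right]
  -- descend to a morphism to the quotient
  obtain ⟨σ, hσ⟩ := Groth.Agf.exists_desc_of_fppf n (pullback.fst n n) (pullback.snd n n)
    (IsPullback.of_hasPullback n n) (z ≫ q) (by
      have hc := pullback.condition (f := n) (g := n)
      generalize pullback.fst n n = x at hc ⊢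
      generalize pullback.snd n n = y at hc ⊢
      replace hc : x ≫ ((z ≫ j) * (a ≫ i)) = y ≫ ((z ≫ j) * (a ≫ i)) := by rw [← hn]; exact hc
      rw [MonObj.comp_mul, MonObj.comp_mul] at hc
      obtain ⟨w, hw⟩ := (hL' _ ((x ≫ z)⁻¹ * (y ≫ z))).2 ⟨(x ≫ a) * (y ≫ a)⁻¹, by
        rw [MonObj.mul_comp, MonObj.mul_comp, GrpObj.inv_comp, GrpObj.inv_comp, Category.assoc, Category.assoc,
          Category.assoc, Category.assoc, eq_inv_mul_iff_mul_eq, ← _root_.mul_assoc, hc, mul_inv_cancel_right]⟩
      have h1 : ((x ≫ z)⁻¹ * (y ≫ z)) ≫ q = 1 := by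
        rw [← hw, Category.assoc, IsKernel.comp_eq_one hker, MonObj.comp_one]
      rw [MonObj.mul_comp, GrpObj.inv_comp, inv_mul_eq_one, Category.assoc, Category.assoc] at h1
      exact h1)
  -- lift points
  have hpt : ∀ {T : Over (Spec (CommRingCat.of k))} (g : T ⟶ K), ∃ t : T ⟶ P, t ≫ n = g ≫ j ∧ t ≫ z = g := by
    intro T g
    have h : (g ≫ j).left ≫ ψ = (1 : T ⟶ R).left ≫ FR := by
      rw [← cancel_mono i.left, Category.assoc, Category.assoc, hψ, Fp_comp, ← Category.assoc,
        ← Over.comp_left, MonObj.one_comp, hφ]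
      exact (hK T (g ≫ j)).1 ⟨g, rfl⟩
    refine ⟨Over.homMk (pullback.lift (g ≫ j).left (1 : T ⟶ R).left h) ?_, ?_, ?_⟩
    · show pullback.lift _ _ h ≫ pullback.fst ψ FR ≫ N.hom = T.hom
      rw [pullback.lift_fst_assoc, Over.w]
    · exact Over.OverMorphism.ext (pullback.lift_fst _ _ _)
    · rw [← cancel_mono j, Category.assoc, hz, MonObj.comp_mul, GrpObj.comp_inv]
      have e1 : Over.homMk (pullback.lift (g ≫ j).left (1 : T ⟶ R).left h) (by
          show pullback.lift _ _ h ≫ pullback.fst ψ FR ≫ N.hom = T.hom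
          rw [pullback.lift_fst_assoc, Over.w]) ≫ n = g ≫ j := Over.OverMorphism.ext (pullback.lift_fst _ _ _)
      have e2 : Over.homMk (pullback.lift (g ≫ j).left (1 : T ⟶ R).left h) (by
          show pullback.lift _ _ h ≫ pullback.fst ψ FR ≫ N.hom = T.hom
          rw [pullback.lift_fst_assoc, Over.w]) ≫ a = 1 := Over.OverMorphism.ext (pullback.lift_snd _ _ _)
      rw [e1, ← Category.assoc, e2, MonObj.one_comp, inv_one, _root_.mul_one]
  -- the quotient is trivial
  have hq : q = 1 := by
    obtain ⟨t, ht, htz⟩ := hpt (𝟙 K)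
    obtain ⟨t₁, ht₁, ht₁z⟩ := hpt (1 : 𝟙_ _ ⟶ K)
    have hσ1 : η[N] ≫ σ = 1 := by
      have e : η[N] = (1 : 𝟙_ _ ⟶ K) ≫ j := by
        rw [MonObj.one_comp]
        show η[N] = toUnit (𝟙_ _) ≫ η[N]
        rw [toUnit_unique (toUnit (𝟙_ (Over (Spec (CommRingCat.of k))))) (𝟙 _), Category.id_comp]
      rw [e, ← ht₁, Category.assoc, hσ, reassoc_of% ht₁z, MonObj.one_comp]
    calc q = t ≫ z ≫ q := by rw [reassoc_of% htz]
      _ = (t ≫ n) ≫ σ := by rw [Category.assoc, hσ]
      _ = j ≫ σ := by rw [ht, Category.id_comp]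
      _ = j ≫ toUnit N ≫ η[N] ≫ σ := by rw [← eq_const hN η[N] σ]
      _ = 1 := by rw [hσ1, MonObj.comp_one, MonObj.comp_one]
  -- hence `i` is an isomorphism
  obtain ⟨z', hz'⟩ := IsKernel.exists_lift hker z (by rw [hq, MonObj.comp_one])
  obtain ⟨w, hw⟩ := (hL' _ z).1 ⟨z', hz'⟩
  have hni : (w * a) ≫ i = n := by rw [MonObj.mul_comp, hw, ← hn]
  have : IsReduced N.left := by
    have : IsIso i.left := by
      obtain ⟨σ', hσ'⟩ := Groth.Agf.exists_desc_of_fppf n (pullback.fst n n) (pullback.snd n n)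
        (IsPullback.of_hasPullback n n) (w * a) (by
          rw [← cancel_mono i, Category.assoc, Category.assoc, hni, pullback.condition])
      have he := Groth.Agf.epi_of_fppf n
      have hsec : σ' ≫ i = 𝟙 N := (cancel_epi n).1 (by rw [reassoc_of% hσ', hni, Category.comp_id])
      have : IsIso i := ⟨σ', by rw [← cancel_mono i, Category.assoc, hsec, Category.comp_id, Category.id_comp], hsec⟩
      exact inferInstanceAs (IsIso ((Over.forget _).map i))
    exact isReduced_of_isOpenImmersion (inv i.left)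
  exact this

/-- An anti-affine group over an algebraically closed field is reduced, hence smooth. -/
theorem smooth_of_algClosed [IsAlgClosed k] (N : Over (Spec (CommRingCat.of k))) [GrpObj N]
    [LocallyOfFiniteType N.hom] [QuasiCompact N.hom] (hN : HasConstFunctions N) : Smooth N.hom := by
  obtain ⟨p, hp⟩ := CharP.exists k
  rcases CharP.char_is_prime_or_zero k p with hpr | rfl
  · have := Fact.mk hpr
    have := isReduced_of_charP p N hN
    let : GrpObj (Over.mk N.hom) := ‹GrpObj N›
    exact Groth.GrpschAbsch.smooth_of_isAlgClosed_of_isReduced N.hom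
  · have : CharZero k := CharP.charP_to_charZero k
    exact Groth.GrpschAbsch.smooth_of_charZero N

/-- An anti-affine group is smooth. -/
theorem smooth_of_hasConstFunctions (N : Over (Spec (CommRingCat.of k))) [GrpObj N]
    [LocallyOfFiniteType N.hom] [QuasiCompact N.hom] (hN : HasConstFunctions N) : Smooth N.hom := by
  let g := Spec.map (CommRingCat.ofHom (algebraMap k (AlgebraicClosure k)))
  apply MorphismProperty.of_pullback_snd_of_descendsAlong
    (Q := @Surjective ⊓ @Flat ⊓ @QuasiCompact) (g := g)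
  · exact ⟨⟨inferInstance, inferInstance⟩, inferInstance⟩
  · have : LocallyOfFiniteType (Red.bc g N).hom := inferInstanceAs (LocallyOfFiniteType (pullback.snd N.hom g))
    have : QuasiCompact (Red.bc g N).hom := inferInstanceAs (QuasiCompact (pullback.snd N.hom g))
    exact smooth_of_algClosed (Red.bc g N)
      ((Groth.Agent.S19702.result k (AlgebraicClosure k) N).1 hN)

end Groth.AlgGrp1.AntiAffineSmooth
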