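import Groth.Agent.AlgGrp1.AntiAffineKernel
import Groth.Agent.AlgGrp1.AntiAffineSmooth
import Groth.Agent.AlgGrp1.ImageHom
import Groth.Agent.AlgGrp1.Extension
import Groth.Agent.AlgGrp1.GeomRedDense

/-!
# Products of an affine normal subgroup and the anti-affine part
-/

set_option autoImplicit false

universe u

open CategoryTheory Limits MonoidalCategory CartesianMonoidalCategory AlgebraicGeometry TopologicalSpace
open scoped MonObj

noncomputable section

namespace Groth.AlgGrp1.AntiAffineProd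

variable {k : Type u} [Field k]

/-- All morphisms to affine schemes are topologically constant. -/
def AffTopConst (X : Over (Spec (CommRingCat.of k))) : Prop :=
  ∀ (Q : Over (Spec (CommRingCat.of k))) [IsAffine Q.left] [LocallyOfFiniteType Q.hom] (f : X ⟶ Q) (x y : X.left),
    f.left x = f.left y

theorem affTopConst_of_hasConst {X : Over (Spec (CommRingCat.of k))} (h : HasConstFunctions X)
    (e : 𝟙_ _ ⟶ X) : AffTopConst X := by
  intro Q _ _ f x y
  rw [AntiAffineSmooth.eq_const h e f]
  show (toUnit X ≫ e ≫ f).left x = (toUnit X ≫ e ≫ f).left y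
  rw [Over.comp_left, Scheme.Hom.comp_apply, Scheme.Hom.comp_apply]
  exact congrArg _ (@Subsingleton.elim _ (inferInstanceAs (Subsingleton ↥(Spec (CommRingCat.of k)))) _ _)

theorem affTopConst_of_proper (X : Over (Spec (CommRingCat.of k))) [IsProper X.hom] [ConnectedSpace X.left] :
    AffTopConst X := by
  intro Q _ _ f x y
  have : IsProper f.left := by
    have : IsProper (f.left ≫ Q.hom) := by rw [Over.w f]; infer_instance
    exact IsProper.of_comp f.left Q.hom
  let Z := f.left.image
  have : Surjective f.left.toImage :=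
    ⟨Set.range_eq_univ.1 <| by
      rw [← (f.left.toImage.isClosedMap.isClosed_range).closure_eq]
      exact f.left.toImage.denseRange.closure_range⟩
  have : UniversallyClosed (f.left.imageι ≫ Q.hom) := by
    have : UniversallyClosed (f.left.toImage ≫ f.left.imageι ≫ Q.hom) := by
      rw [Scheme.Hom.toImage_imageι_assoc, Over.w f]; infer_instance
    exact UniversallyClosed.of_comp_surjective f.left.toImage _
  have : IsProper (f.left.imageι ≫ Q.hom) := { }
  have : IsFinite (f.left.imageι ≫ Q.hom) :=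
    IsFinite.iff_isProper_and_isAffineHom.2 ⟨inferInstance, inferInstance⟩
  have : Finite ↑((f.left.imageι ≫ Q.hom) ⁻¹' {IsLocalRing.closedPoint k}) :=
    (Scheme.Hom.finite_preimage_singleton (f.left.imageι ≫ Q.hom) (IsLocalRing.closedPoint k)).to_subtype
  have : Finite Z := Finite.of_injective (fun z => (⟨z, Subsingleton.elim _ _⟩ :
      ↑((f.left.imageι ≫ Q.hom) ⁻¹' {IsLocalRing.closedPoint k}))) (fun a b h => congrArg Subtype.val h)
  have : JacobsonSpace Z := LocallyOfFiniteType.jacobsonSpace (f.left.imageι ≫ Q.hom)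
  have : ConnectedSpace Z := f.left.toImage.surjective.connectedSpace f.left.toImage.continuous
  have : Subsingleton Z := PreconnectedSpace.trivial_of_discrete
  rw [← f.left.toImage_imageι, Scheme.Hom.comp_apply, Scheme.Hom.comp_apply]
  exact congrArg _ (Subsingleton.elim _ _)

/-- If `G/N` has no nonconstant maps to affine schemes, then `G = N · ker (G → G_aff)`. -/
theorem surjective_mul_hullKernel {G A N : Over (Spec (CommRingCat.of k))} [GrpObj G] [GrpObj A] [GrpObj N]
    [LocallyOfFiniteType G.hom] [QuasiCompact G.hom] [LocallyOfFiniteType A.hom]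
    (i : N ⟶ G) [IsMonHom i] [IsClosedImmersion i.left]
    (q : G ⟶ A) [IsMonHom q] [Flat q.left] [Surjective q.left] (hq : AlgGrp.IsKernel i q)
    (hA : AffTopConst A) :
    ∃ (K : Over (Spec (CommRingCat.of k))) (_ : GrpObj K) (c : K ⟶ G), IsMonHom c ∧ IsClosedImmersion c.left ∧
      LocallyOfFiniteType K.hom ∧ QuasiCompact K.hom ∧ HasConstFunctions K ∧
      Surjective ((i ⊗ₘ c) ≫ μ[G]).left := by
  obtain ⟨hΓ, g, hρ⟩ := AffineHull.exists_grpObj_hull G
  let := g
  let H := AffineHull.hull G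
  let ρ : G ⟶ H := AffineHull.toHull G
  have : IsAffine H.left := inferInstanceAs (IsAffine (Spec _))
  obtain ⟨hHlft, hflat, hsurj⟩ := AffineHull.flat_surjective_finiteType G H ρ
  have := quasiSeparated_of_locallyOfFiniteType G
  have := isSeparated_grpObj H
  have : QuasiCompact H.hom := inferInstance
  have := isLocallyNoetherian_left H
  have : LocallyOfFiniteType ρ.left := by
    have : LocallyOfFiniteType (ρ.left ≫ H.hom) := by rw [Over.w]; infer_instance
    exact locallyOfFiniteType_of_comp ρ.left H.hom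
  have : LocallyOfFinitePresentation ρ.left := inferInstance
  -- the kernel
  have : IsClosedImmersion η[H].left := by
    have h : η[H].left ≫ H.hom = 𝟙 _ := Over.w η[H]
    have : IsClosedImmersion (η[H].left ≫ H.hom) := by rw [h]; infer_instance
    exact IsClosedImmersion.of_comp _ H.hom
  obtain ⟨K, c, _, hc⟩ := Groth.Agf.exists_preimage ρ η[H]
  have : Mono c := Over.mono_of_mono_left c
  have hK : ∀ (T : Over (Spec (CommRingCat.of k))) (x : T ⟶ G), (∃ z : T ⟶ K, z ≫ c = x) ↔ x ≫ ρ = 1 := by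
    intro T x
    rw [hc]
    exact ⟨fun ⟨z, hz⟩ => hz.trans (congrArg (· ≫ η[H]) (toUnit_unique z (toUnit T))),
      fun h => ⟨toUnit T, h⟩⟩
  obtain ⟨_, _⟩ := Groth.Agf.exists_grpObj_of_subgroup c (fun T x => x ≫ ρ = 1) hK (fun T => MonObj.one_comp ρ)
    (fun T a b ha hb => by rw [MonObj.mul_comp, ha, hb, _root_.one_mul])
    (fun T a ha => by rw [GrpObj.inv_comp, ha, inv_one])
  have : LocallyOfFiniteType K.hom := by rw [← Over.w c]; infer_instance
  have : QuasiCompact K.hom := by rw [← Over.w c]; infer_instance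
  refine ⟨K, ‹_›, c, ‹_›, ‹_›, ‹_›, ‹_›, AntiAffineKernel.hasConstFunctions_kernel ρ c hK, ?_⟩
  -- the image of `N` in the hull is normal with affine quotient
  have : LocallyOfFiniteType N.hom := by rw [← Over.w i]; infer_instance
  have : QuasiCompact N.hom := by rw [← Over.w i]; infer_instance
  obtain ⟨I, _, b, s, _, _, _, _, _, _, _, hsb⟩ := exists_image_hom (i ≫ ρ)
  have : Mono b := Over.mono_of_mono_left b
  have := isLocallyNoetherian_left I
  have hcov_s : IsCover s := isCover s
  have hcov_ρ : IsCover ρ := isCover ρ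
  have hnorm : AlgGrp.IsNormalHom b := by
    have hN' := fun {T : Over (Spec (CommRingCat.of k))} (x : T ⟶ G) (n : T ⟶ N) =>
      IsKernel.exists_lift hq (x * (n ≫ i) * x⁻¹) (by
        rw [MonObj.mul_comp, MonObj.mul_comp, GrpObj.inv_comp, Category.assoc, IsKernel.comp_eq_one hq,
          MonObj.comp_one, _root_.mul_one, mul_inv_cancel])
    obtain ⟨m, hm⟩ := hN' (fst G N) (snd G N)
    have hcov : IsCover ((ρ ▷ N) ≫ (H ◁ s)) := (hcov_ρ.whiskerRight N).comp (hcov_s.whiskerLeft H)
    obtain ⟨d, hd⟩ := hcov.exists_desc (m ≫ s) (fun T u v huv => by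
      have h1 : (u ≫ fst G N) ≫ ρ = (v ≫ fst G N) ≫ ρ := by simpa using congrArg (· ≫ fst H I) huv
      have h2 : (u ≫ snd G N) ≫ s = (v ≫ snd G N) ≫ s := by simpa using congrArg (· ≫ snd H I) huv
      have h3 : ∀ w : T ⟶ G ⊗ N, (w ≫ m ≫ s) ≫ b =
          ((w ≫ fst G N) ≫ ρ) * (((w ≫ snd G N) ≫ s) ≫ b) * ((w ≫ fst G N) ≫ ρ)⁻¹ := fun w => by
        rw [Category.assoc, Category.assoc, hsb, ← Category.assoc m, hm]
        simp only [MonObj.comp_mul, GrpObj.comp_inv, MonObj.mul_comp, GrpObj.inv_comp, Category.assoc, hsb]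
      rw [← cancel_mono b, h3, h3, h1, h2])
    intro T x n
    refine ⟨lift x n ≫ d, ?_⟩
    have h4 : d ≫ b = fst H I * (snd H I ≫ b) * (fst H I)⁻¹ := hcov.cancel (by
      rw [← Category.assoc, hd, Category.assoc, hsb, ← Category.assoc, hm]
      simp only [MonObj.comp_mul, GrpObj.comp_inv, MonObj.mul_comp, GrpObj.inv_comp, Category.assoc,
        whiskerRight_fst_assoc, whiskerRight_snd_assoc, whiskerLeft_fst_assoc, whiskerLeft_snd_assoc,
        whiskerLeft_fst, whiskerRight_fst, hsb])
    rw [Category.assoc, h4, MonObj.comp_mul, MonObj.comp_mul, GrpObj.comp_inv, lift_fst, lift_snd_assoc]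
  obtain ⟨Q, _, p, _, _, _, _, _, hp⟩ := Groth.Agent.S3278.result k H I b hnorm
  -- descend to `A`
  have := isLocallyNoetherian_left A
  have : LocallyOfFiniteType q.left := by
    have : LocallyOfFiniteType (q.left ≫ A.hom) := by rw [Over.w]; infer_instance
    exact locallyOfFiniteType_of_comp q.left A.hom
  have : LocallyOfFinitePresentation q.left := inferInstance
  obtain ⟨σ, hσ⟩ := Groth.Agf.exists_desc_of_fppf q (fst G N) (fst G N * (snd G N ≫ i))
    (IsKernel.isPullback_mul hq) (ρ ≫ p) (by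
      rw [MonObj.mul_comp, Category.assoc, ← Category.assoc i, ← hsb, Category.assoc, IsKernel.comp_eq_one hp,
        MonObj.comp_one, MonObj.comp_one, _root_.mul_one])
  -- `N → H` is surjective
  have hbs : Surjective (i ≫ ρ).left := by
    have hb : Surjective b.left := by
      refine ⟨fun y => ?_⟩
      obtain ⟨x, rfl⟩ := hsurj.surj y
      let t : (𝟙_ (Over (Spec (CommRingCat.of k)))).left := IsLocalRing.closedPoint k
      have h1 : (ρ ≫ p).left x = η[Q].left t := by
        rw [← hσ, Over.comp_left, Scheme.Hom.comp_apply, hA Q σ (q.left x) (q.left (η[G].left t)),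
          ← Scheme.Hom.comp_apply, ← Scheme.Hom.comp_apply, ← Over.comp_left, ← Over.comp_left]
        have e : (η[G] ≫ q) ≫ σ = η[Q] := by
          rw [Category.assoc, hσ, ← Category.assoc, IsMonHom.one_hom ρ, IsMonHom.one_hom p]
        rw [← e]
        rfl
      obtain ⟨z, hz, -⟩ := Scheme.Pullback.exists_preimage_pullback (f := p.left) (g := η[Q].left) (ρ.left x) t h1
      have hp' : CategoryTheory.IsPullback b.left (toUnit I).left p.left η[Q].left :=
        CategoryTheory.IsPullback.map (Over.forget _) (show CategoryTheory.IsPullback b (toUnit I) p η[Q] from hp)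
      refine ⟨hp'.isoPullback.inv z, Eq.trans ?_ hz⟩
      exact (Scheme.Hom.comp_apply _ _ _).symm.trans (congrArg (fun φ => φ z) hp'.isoPullback_inv_fst)
    rw [← hsb, Over.comp_left]
    infer_instance
  -- every point of `G` is a product
  let T : Over (Spec (CommRingCat.of k)) := pullback ρ (i ≫ ρ)
  have : Surjective (pullback.fst ρ (i ≫ ρ)).left := by
    have hP : CategoryTheory.IsPullback (pullback.fst ρ (i ≫ ρ)).left (pullback.snd ρ (i ≫ ρ)).left ρ.left (i ≫ ρ).left :=
      (IsPullback.of_hasPullback ρ (i ≫ ρ)).map (Over.forget _)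
    exact MorphismProperty.of_isPullback hP.flip hbs
  obtain ⟨z, hz⟩ := (hK T ((pullback.snd ρ (i ≫ ρ) ≫ i)⁻¹ * pullback.fst ρ (i ≫ ρ))).2 (by
    rw [MonObj.mul_comp, GrpObj.inv_comp, pullback.condition, Category.assoc, inv_mul_cancel])
  have hfac : lift (pullback.snd ρ (i ≫ ρ)) z ≫ ((i ⊗ₘ c) ≫ μ[G]) = pullback.fst ρ (i ≫ ρ) := by
    rw [lift_map_assoc, ← Hom.mul_def, hz, mul_inv_cancel_left]
  have hs' := ‹Surjective (pullback.fst ρ (i ≫ ρ)).left›
  rw [← hfac, Over.comp_left] at hs'
  exact Surjective.of_comp (lift (pullback.snd ρ (i ≫ ρ)) z).left _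

/-- An anti-affine group which is the product of an affine and another closed subgroup is that
subgroup. -/
theorem isIso_of_surjective_mul {M E L : Over (Spec (CommRingCat.of k))} [GrpObj M] [GrpObj E] [GrpObj L]
    [LocallyOfFiniteType M.hom] [QuasiCompact M.hom] (hM : HasConstFunctions M) [IsAffine E.left]
    (e : E ⟶ M) [IsMonHom e] [IsClosedImmersion e.left] (g : L ⟶ M) [IsMonHom g] [IsClosedImmersion g.left]
    (hs : Surjective ((fst E L ≫ e) * (snd E L ≫ g)).left) : IsIso g := by
  have : PreconnectedSpace M.left := hM.connectedSpace.toPreconnectedSpace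
  have hcomm : ∀ {T : Over (Spec (CommRingCat.of k))} (a b : T ⟶ M), a * b = b * a := fun a b => by
    simpa using comm_of_hasConstFunctions hM (𝟙 M) a b
  have := AntiAffineSmooth.smooth_of_hasConstFunctions M hM
  have := geometricallyReduced_of_smooth_hom M
  have : IsReduced M.left := isReduced_left M
  have : Mono e := Over.mono_of_mono_left e
  have : Mono g := Over.mono_of_mono_left g
  have := isSeparated_grpObj M
  have : LocallyOfFiniteType E.hom := by rw [← Over.w e]; infer_instance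
  have : QuasiCompact E.hom := by rw [← Over.w e]; infer_instance
  have : LocallyOfFiniteType L.hom := by rw [← Over.w g]; infer_instance
  have : QuasiCompact L.hom := by rw [← Over.w g]; infer_instance
  have : LocallyOfFiniteType (E ⊗ L).hom := inferInstanceAs (LocallyOfFiniteType (pullback.fst E.hom L.hom ≫ E.hom))
  have : QuasiCompact (E ⊗ L).hom := inferInstanceAs (QuasiCompact (pullback.fst E.hom L.hom ≫ E.hom))
  let f : E ⊗ L ⟶ M := (fst E L ≫ e) * (snd E L ≫ g)
  have hf : IsMonHom f := by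
    have key : ∀ {T : Over (Spec (CommRingCat.of k))} (u v : T ⟶ E ⊗ L), (u * v) ≫ f = (u ≫ f) * (v ≫ f) := by
      intro T u v
      simp only [f, MonObj.comp_mul, ← Category.assoc, MonObj.mul_comp]
      rw [_root_.mul_assoc, ← _root_.mul_assoc ((v ≫ fst E L) ≫ e), hcomm ((v ≫ fst E L) ≫ e),
        _root_.mul_assoc, ← _root_.mul_assoc]
    constructor
    · show η ≫ ((fst E L ≫ e) * (snd E L ≫ g)) = η
      rw [MonObj.comp_mul, IsMonHom.one_hom_assoc, IsMonHom.one_hom_assoc, IsMonHom.one_hom, IsMonHom.one_hom,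
        show η[M] = (1 : 𝟙_ _ ⟶ M) from by
          show η[M] = toUnit (𝟙_ _) ≫ η[M]
          rw [toUnit_unique (toUnit (𝟙_ (Over (Spec (CommRingCat.of k))))) (𝟙 _), Category.id_comp],
        _root_.one_mul]
    · have hμ : μ[E ⊗ L] = fst (E ⊗ L) (E ⊗ L) * snd (E ⊗ L) (E ⊗ L) := by
        rw [Hom.mul_def, lift_fst_snd, Category.id_comp]
      rw [hμ, key, Hom.mul_def, ← tensorHom_fst f f, ← tensorHom_snd f f]
      rw [← comp_lift_assoc, lift_fst_snd, Category.id_comp]
  have : QuasiCompact f.left := by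
    have : QuasiCompact (f.left ≫ M.hom) := by rw [Over.w]; infer_instance
    exact QuasiCompact.of_comp f.left M.hom
  have hs' : Surjective f.left := hs
  have : IsSchemeTheoreticallyDominant f.left := .of_isDominant f.left
  obtain ⟨_, _⟩ := AffineHull.flat_surjective_of_dominant f
  have := isLocallyNoetherian_left M
  have : LocallyOfFiniteType f.left := by
    have : LocallyOfFiniteType (f.left ≫ M.hom) := by rw [Over.w]; infer_instance
    exact locallyOfFiniteType_of_comp f.left M.hom
  have : LocallyOfFinitePresentation f.left := inferInstance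
  obtain ⟨D, d, _, hd⟩ := Groth.Agf.exists_preimage e g
  have : Mono d := Over.mono_of_mono_left d
  have hD : ∀ (T : Over (Spec (CommRingCat.of k))) (x : T ⟶ E),
      (∃ z : T ⟶ D, z ≫ d = x) ↔ ∃ z : T ⟶ L, z ≫ g = x ≫ e := fun T x =>
    (hd T x).trans ⟨fun ⟨z, h⟩ => ⟨z, h.symm⟩, fun ⟨z, h⟩ => ⟨z, h.symm⟩⟩
  obtain ⟨_, _⟩ := Groth.Agf.exists_grpObj_of_subgroup d (fun T x => ∃ z : T ⟶ L, z ≫ g = x ≫ e) hD
    (fun T => ⟨1, by rw [MonObj.one_comp, MonObj.one_comp]⟩)
    (fun T a b ⟨z, hz⟩ ⟨w, hw⟩ => ⟨z * w, by rw [MonObj.mul_comp, MonObj.mul_comp, hz, hw]⟩)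
    (fun T a ⟨z, hz⟩ => ⟨z⁻¹, by rw [GrpObj.inv_comp, GrpObj.inv_comp, hz]⟩)
  obtain ⟨C, _, q, _, _, -, -, -, hker⟩ := Groth.Agent.S3278.result k E D d (fun T x n => ⟨n, by
    rw [← cancel_mono e, MonObj.mul_comp, MonObj.mul_comp, GrpObj.inv_comp, hcomm (x ≫ e), mul_inv_cancel_right]⟩)
  obtain ⟨σ, hσ⟩ := Groth.Agf.exists_desc_of_fppf f (pullback.fst f f) (pullback.snd f f)
    (IsPullback.of_hasPullback f f) (fst E L ≫ q) (by
      have hc := pullback.condition (f := f) (g := f)
      generalize pullback.fst f f = x at hc ⊢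
      generalize pullback.snd f f = y at hc ⊢
      simp only [f, MonObj.comp_mul] at hc
      obtain ⟨w, hw⟩ := (hD _ ((x ≫ fst E L)⁻¹ * (y ≫ fst E L))).2 ⟨(x ≫ snd E L) * (y ≫ snd E L)⁻¹, by
        rw [MonObj.mul_comp, MonObj.mul_comp, GrpObj.inv_comp, GrpObj.inv_comp, Category.assoc, Category.assoc,
          Category.assoc, Category.assoc, eq_inv_mul_iff_mul_eq, ← _root_.mul_assoc, hc, mul_inv_cancel_right]⟩
      have h1 : ((x ≫ fst E L)⁻¹ * (y ≫ fst E L)) ≫ q = 1 := by
        rw [← hw, Category.assoc, IsKernel.comp_eq_one hker, MonObj.comp_one]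
      rw [MonObj.mul_comp, GrpObj.inv_comp, inv_mul_eq_one, Category.assoc, Category.assoc] at h1
      exact h1)
  have hlf : lift (𝟙 E) 1 ≫ f = e := by
    simp only [f, MonObj.comp_mul, lift_fst_assoc, lift_snd_assoc, Category.id_comp, MonObj.one_comp,
      _root_.mul_one]
  have hσ1 : η[M] ≫ σ = 1 := by
    rw [← IsMonHom.one_hom f, Category.assoc, hσ, IsMonHom.one_hom_assoc, IsMonHom.one_hom]
    show η[C] = toUnit (𝟙_ _) ≫ η[C]
    rw [toUnit_unique (toUnit (𝟙_ (Over (Spec (CommRingCat.of k))))) (𝟙 _), Category.id_comp]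
  have hq : q = 1 := by
    calc q = lift (𝟙 E) 1 ≫ fst E L ≫ q := by rw [lift_fst_assoc, Category.id_comp]
      _ = (lift (𝟙 E) 1 ≫ f) ≫ σ := by rw [Category.assoc, hσ]
      _ = e ≫ toUnit M ≫ η[M] ≫ σ := by rw [hlf, ← AntiAffineSmooth.eq_const hM η[M] σ]
      _ = 1 := by rw [hσ1, MonObj.comp_one, MonObj.comp_one]
  obtain ⟨z', hz'⟩ := IsKernel.exists_lift hker (fst E L) (by rw [hq, MonObj.comp_one])
  obtain ⟨w, hw⟩ := (hD _ (fst E L)).1 ⟨z', hz'⟩
  have hfg : (w * snd E L) ≫ g = f := by rw [MonObj.mul_comp, hw]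
  obtain ⟨σ', hσ'⟩ := Groth.Agf.exists_desc_of_fppf f (pullback.fst f f) (pullback.snd f f)
    (IsPullback.of_hasPullback f f) (w * snd E L) (by
      rw [← cancel_mono g, Category.assoc, Category.assoc, hfg, pullback.condition])
  have := Groth.Agf.epi_of_fppf f
  have hsec : σ' ≫ g = 𝟙 M := (cancel_epi f).1 (by rw [reassoc_of% hσ', hfg, Category.comp_id])
  exact ⟨σ', by rw [← cancel_mono g, Category.assoc, hsec, Category.comp_id, Category.id_comp], hsec⟩

/-- Pull back along a surjective morphism. -/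
theorem exists_surjective_pullback {X Y Z : Over (Spec (CommRingCat.of k))} (f : X ⟶ Z) [Surjective f.left]
    (g : Y ⟶ Z) : ∃ (T : Over (Spec (CommRingCat.of k))) (a : T ⟶ X) (b : T ⟶ Y),
      Surjective b.left ∧ a ≫ f = b ≫ g := by
  refine ⟨_, pullback.fst f g, pullback.snd f g, ?_, pullback.condition⟩
  exact MorphismProperty.of_isPullback (P := @Surjective)
    ((IsPullback.of_hasPullback f g).map (Over.forget _)) ‹Surjective f.left›

/-- A closed subgroup `H` with `H · N = G` contains the anti-affine part. -/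
theorem exists_factor {G N A M H : Over (Spec (CommRingCat.of k))} [GrpObj G] [GrpObj N] [GrpObj A] [GrpObj M]
    [GrpObj H] [LocallyOfFiniteType G.hom] [QuasiCompact G.hom] [ConnectedSpace G.left]
    (i : N ⟶ G) [IsMonHom i] [IsClosedImmersion i.left] [IsAffine N.left] [IsProper A.hom]
    (q : G ⟶ A) [IsMonHom q] [Surjective q.left] (hq : AlgGrp.IsKernel i q)
    [LocallyOfFiniteType M.hom] [QuasiCompact M.hom] (j : M ⟶ G) [IsMonHom j] [IsClosedImmersion j.left]
    (hM : HasConstFunctions M)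
    (hMmax : ∀ (M₁ : Over (Spec (CommRingCat.of k))) [GrpObj M₁] [LocallyOfFiniteType M₁.hom] [QuasiCompact M₁.hom]
      (j₁ : M₁ ⟶ G) [IsMonHom j₁] [IsClosedImmersion j₁.left],
      HasConstFunctions M₁ → ∃ g : M₁ ⟶ M, g ≫ j = j₁)
    (h : H ⟶ G) [IsMonHom h] [IsClosedImmersion h.left] (hs : Surjective ((h ⊗ₘ i) ≫ μ[G]).left) :
    ∃ g : M ⟶ H, g ≫ h = j := by
  have : LocallyOfFiniteType H.hom := by rw [← Over.w h]; infer_instance
  have : QuasiCompact H.hom := by rw [← Over.w h]; infer_instance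
  have : QuasiCompact A.hom := inferInstance
  obtain ⟨B, _, b, q', _, _, _, _, _, _, _, hb⟩ := exists_image_hom (h ≫ q)
  have : Mono b := Over.mono_of_mono_left b
  -- `B` is all of `A`
  have : Surjective b.left := by
    have h1 : ((h ⊗ₘ i) ≫ μ[G]) ≫ q = (fst H N ≫ q') ≫ b := by
      have h2 : (h ⊗ₘ i) ≫ μ[G] = (fst H N ≫ h) * (snd H N ≫ i) := by
        rw [Hom.mul_def, ← tensorHom_fst h i, ← tensorHom_snd h i, ← comp_lift_assoc, lift_fst_snd, Category.id_comp]
      rw [h2, MonObj.mul_comp, Category.assoc, Category.assoc, Category.assoc, IsKernel.comp_eq_one hq,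
        MonObj.comp_one, _root_.mul_one, hb]
    have h3 : Surjective (((h ⊗ₘ i) ≫ μ[G]) ≫ q).left := by rw [Over.comp_left]; infer_instance
    rw [h1, Over.comp_left] at h3
    exact Surjective.of_comp (fst H N ≫ q').left b.left
  have : ConnectedSpace A.left := connectedSpace_of_surjective q
  have : ConnectedSpace B.left := by
    let e := b.left.isClosedEmbedding.isEmbedding.toHomeomorphOfSurjective b.left.surjective
    exact e.symm.surjective.connectedSpace e.symm.continuous
  have : IsProper B.hom := by rw [← Over.w b]; infer_instance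
  -- the kernel of `H → B`
  obtain ⟨N', n', _, hn'⟩ := Groth.Agf.exists_preimage h i
  have : Mono n' := Over.mono_of_mono_left n'
  have : Mono i := Over.mono_of_mono_left i
  have hN' : ∀ (T : Over (Spec (CommRingCat.of k))) (x : T ⟶ H), (∃ z : T ⟶ N', z ≫ n' = x) ↔ x ≫ q' = 1 := by
    intro T x
    rw [hn', ← cancel_mono b, Category.assoc, hb, MonObj.one_comp, ← Category.assoc, ← IsKernel.exists_iff hq]
    exact ⟨fun ⟨z, hz⟩ => ⟨z, hz.symm⟩, fun ⟨z, hz⟩ => ⟨z, hz.symm⟩⟩
  obtain ⟨x', hx'⟩ := (hn' N' n').1 ⟨𝟙 _, Category.id_comp _⟩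
  have : IsAffine N'.left := by
    have h1 : IsClosedImmersion (x'.left ≫ i.left) := by
      rw [← Over.comp_left, ← hx', Over.comp_left]; infer_instance
    have : IsClosedImmersion x'.left := IsClosedImmersion.of_comp x'.left i.left
    exact isAffine_of_isAffineHom x'.left
  obtain ⟨_, _⟩ := Groth.Agf.exists_grpObj_of_subgroup n' (fun T x => x ≫ q' = 1) hN' (fun T => MonObj.one_comp q')
    (fun T a b ha hb => by rw [MonObj.mul_comp, ha, hb, _root_.one_mul])
    (fun T a ha => by rw [GrpObj.inv_comp, ha, inv_one])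
  obtain ⟨L, _, l, _, _, _, _, hL, hsurjL⟩ := surjective_mul_hullKernel n' q' (IsKernel.mk' inferInstance hN')
    (affTopConst_of_proper B)
  have : IsClosedImmersion (l ≫ h).left := by rw [Over.comp_left]; infer_instance
  obtain ⟨g, hg⟩ := hMmax L (l ≫ h) hL
  have : Mono j := Over.mono_of_mono_left j
  have : IsMonHom g := by
    constructor
    · rw [← cancel_mono j, Category.assoc, hg, IsMonHom.one_hom_assoc, IsMonHom.one_hom, IsMonHom.one_hom]
    · rw [← cancel_mono j, Category.assoc, hg, Category.assoc, IsMonHom.mul_hom j, tensorHom_comp_tensorHom_assoc,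
        hg, IsMonHom.mul_hom (l ≫ h)]
  have : IsClosedImmersion g.left := by
    have : IsClosedImmersion (g.left ≫ j.left) := by
      rw [← Over.comp_left, hg, Over.comp_left]; infer_instance
    exact IsClosedImmersion.of_comp g.left j.left
  obtain ⟨E, e, _, he⟩ := Groth.Agf.exists_preimage j i
  have : Mono e := Over.mono_of_mono_left e
  have hE : ∀ (T : Over (Spec (CommRingCat.of k))) (x : T ⟶ M), (∃ z : T ⟶ E, z ≫ e = x) ↔ (x ≫ j) ≫ q = 1 := by
    intro T x
    rw [he, ← IsKernel.exists_iff hq]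
    exact ⟨fun ⟨z, hz⟩ => ⟨z, hz.symm⟩, fun ⟨z, hz⟩ => ⟨z, hz.symm⟩⟩
  obtain ⟨xE, hxE⟩ := (he E e).1 ⟨𝟙 _, Category.id_comp _⟩
  have : IsAffine E.left := by
    have h1 : IsClosedImmersion (xE.left ≫ i.left) := by
      rw [← Over.comp_left, ← hxE, Over.comp_left]; infer_instance
    have : IsClosedImmersion xE.left := IsClosedImmersion.of_comp xE.left i.left
    exact isAffine_of_isAffineHom xE.left
  obtain ⟨_, _⟩ := Groth.Agf.exists_grpObj_of_subgroup e (fun T x => (x ≫ j) ≫ q = 1) hE
    (fun T => by rw [MonObj.one_comp, MonObj.one_comp])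
    (fun T a b ha hb => by rw [MonObj.mul_comp, MonObj.mul_comp, ha, hb, _root_.one_mul])
    (fun T a ha => by rw [GrpObj.inv_comp, GrpObj.inv_comp, ha, inv_one])
  have : IsIso g := by
    refine isIso_of_surjective_mul hM e g ?_
    -- every point of `M` is a product
    obtain ⟨T₀, t₀, m₀, _, ht₀⟩ := exists_surjective_pullback ((h ⊗ₘ i) ≫ μ[G]) j
    obtain ⟨T, t, m₁, _, ht⟩ := exists_surjective_pullback ((n' ⊗ₘ l) ≫ μ[H]) (t₀ ≫ fst H N)
    let m : T ⟶ M := m₁ ≫ m₀
    let u : T ⟶ L := t ≫ snd N' L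
    have hx : (((m * (u ≫ g)⁻¹) ≫ j)) ≫ q = 1 := by
      have hμ : ∀ {X Y Z : Over (Spec (CommRingCat.of k))} [GrpObj Z] (a : X ⟶ Z) (b : Y ⟶ Z),
          (a ⊗ₘ b) ≫ μ[Z] = (fst X Y ≫ a) * (snd X Y ≫ b) := fun a b => by
        rw [Hom.mul_def, ← tensorHom_fst a b, ← tensorHom_snd a b, ← comp_lift_assoc, lift_fst_snd, Category.id_comp]
      have e1 : (m ≫ j) ≫ q = (((t ≫ snd N' L) ≫ l) ≫ h) ≫ q := by
        have : n' ≫ q' = 1 := (hN' N' n').1 ⟨𝟙 _, Category.id_comp _⟩
        rw [Category.assoc m₁, ← ht₀, hμ, MonObj.comp_mul, MonObj.comp_mul, MonObj.mul_comp]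
        have e2 : (m₁ ≫ t₀ ≫ snd H N ≫ i) ≫ q = 1 := by
          rw [Category.assoc, Category.assoc, Category.assoc, IsKernel.comp_eq_one hq, MonObj.comp_one,
            MonObj.comp_one, MonObj.comp_one]
        rw [e2, _root_.mul_one, ← Category.assoc t₀, ← Category.assoc m₁, ← ht, hμ, MonObj.comp_mul,
          MonObj.mul_comp, MonObj.mul_comp]
        have e3 : ((t ≫ fst N' L ≫ n') ≫ h) ≫ q = 1 := by
          rw [Category.assoc, ← hb, ← Category.assoc, Category.assoc t, Category.assoc (fst N' L), this,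
            MonObj.comp_one, MonObj.comp_one, MonObj.one_comp]
        rw [e3, _root_.one_mul]
        simp only [Category.assoc]
      rw [MonObj.mul_comp, MonObj.mul_comp, GrpObj.inv_comp, GrpObj.inv_comp, e1]
      simp only [u, Category.assoc, reassoc_of% hg, mul_inv_cancel]
    obtain ⟨z, hz⟩ := (hE T _).2 hx
    have hfac : lift z u ≫ ((fst E L ≫ e) * (snd E L ≫ g)) = m := by
      rw [MonObj.comp_mul, lift_fst_assoc, lift_snd_assoc, hz, inv_mul_cancel_right]
    have : Surjective (lift z u ≫ ((fst E L ≫ e) * (snd E L ≫ g))).left := by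
      rw [hfac, Over.comp_left]; infer_instance
    rw [Over.comp_left] at this
    exact Surjective.of_comp (lift z u).left _
  exact ⟨inv g ≫ l, by rw [Category.assoc, IsIso.inv_comp_eq, hg]⟩

end Groth.AlgGrp1.AntiAffineProd
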