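import Groth.Agent.AlgGrp1.BorelConj
import Groth.Agent.Agf.GeomRed
import Groth.Agent.Flatmor4.ImageDom
import Groth.Agent.AlgGrp1.ImageHom

/-!
Images and preimages of Borel and parabolic subgroups.
-/

set_option autoImplicit false
universe u

open CategoryTheory Limits MonoidalCategory CartesianMonoidalCategory MonObj GrpObj AlgebraicGeometry

noncomputable section

namespace Groth.AlgGrp1

variable {k : Type u} [Field k]

/-- A reduced scheme receiving a surjection from a smooth one is geometrically reduced. -/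
theorem geometricallyReduced_of_surjective_reduced {X Y : Over (Spec (CommRingCat.of k))} (g : X ⟶ Y)
    [Surjective g.left] [IsReduced Y.left] [Smooth X.hom] [QuasiCompact g.left] :
    GeometricallyReduced Y.hom := by
  have : IsSchemeTheoreticallyDominant g.left := by
    exact IsSchemeTheoreticallyDominant.of_isDominant g.left
  have := geometricallyReduced_of_smooth_hom X
  have : GeometricallyReduced (g.left ≫ Y.hom) := by rw [Over.w]; infer_instance
  exact Groth.Agf.geometricallyReduced_of_dominant g.left Y.hom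

variable [IsAlgClosed k] {G Q : Over (Spec (CommRingCat.of k))} [GrpObj G] [IsAffine G.left] [Smooth G.hom]
  [GrpObj Q] [IsAffine Q.left] [Smooth Q.hom] (q : G ⟶ Q) [IsMonHom q] [Surjective q.left]

/-- Proper quotients map onto proper quotients. -/
theorem isProper_quotient_image {H H' X X' : Over (Spec (CommRingCat.of k))} [GrpObj H] [GrpObj H'] {i : H ⟶ G}
    {i' : H' ⟶ Q} [IsMonHom i'] [IsClosedImmersion i'.left] (p : H ⟶ H') (hp : p ≫ i' = i ≫ q)
    {a : AlgGrp.Action G X} {o : 𝟙_ (Over (Spec (CommRingCat.of k))) ⟶ X} (hX : AGF.IsQuotient i X a o) [IsProper X.hom]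
    {a' : AlgGrp.Action Q X'} {o' : 𝟙_ (Over (Spec (CommRingCat.of k))) ⟶ X'} (hX' : AGF.IsQuotient i' X' a' o') :
    IsProper X'.hom := by
  have := hX.1; have := hX.2.1; have := hX.2.2.1
  have := hX'.1; have := hX'.2.1; have := hX'.2.2.1
  have := isSeparated_quotient hX'
  have := quasiCompact_quotient hX'
  have := lfp_left (a.orbitMap o)
  obtain ⟨π, hπ⟩ := Groth.Agf.exists_desc_of_fppf (a.orbitMap o) _ _
    (IsPullback.of_hasPullback (a.orbitMap o) (a.orbitMap o)) (q ≫ a'.orbitMap o') (by
      obtain ⟨h, hh⟩ := (comp_orbit_eq_iff hX _ _ _).1 (pullback.condition (f := a.orbitMap o) (g := a.orbitMap o))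
      rw [← Category.assoc, ← Category.assoc]
      refine (comp_orbit_eq_iff hX' _ _ _).2 ⟨h ≫ p, ?_⟩
      rw [hh, MonObj.mul_comp, Category.assoc, Category.assoc, hp])
  have : Surjective π.left := by
    have : Surjective ((a.orbitMap o).left ≫ π.left) := by rw [← Over.comp_left, hπ, Over.comp_left]; infer_instance
    exact Surjective.of_comp (a.orbitMap o).left π.left
  have : IsProper (π.left ≫ X'.hom) := by rw [Over.w]; infer_instance
  have : UniversallyClosed X'.hom := UniversallyClosed.of_comp_surjective π.left X'.hom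
  exact ⟨⟩

variable {q}

/-- The reduced image of a smooth subgroup is smooth. -/
theorem smooth_image {H H' : Over (Spec (CommRingCat.of k))} [GrpObj H] [GrpObj H'] {i : H ⟶ G}
    [IsClosedImmersion i.left] {i' : H' ⟶ Q} [IsClosedImmersion i'.left] [Smooth H.hom] [IsReduced H'.left]
    (p : H ⟶ H') [Surjective p.left] : Smooth H'.hom := by
  have : LocallyOfFiniteType H'.hom := by rw [← Over.w i']; infer_instance
  have : QuasiCompact H.hom := by rw [← Over.w i]; infer_instance
  have : IsSeparated H'.hom := by rw [← Over.w i']; infer_instance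
  have : QuasiCompact (p.left ≫ H'.hom) := by rw [Over.w]; infer_instance
  have : QuasiCompact p.left := QuasiCompact.of_comp p.left H'.hom
  have := geometricallyReduced_of_surjective_reduced p
  exact Groth.GrpschAbsch.smooth_of_geometricallyReduced H'

variable [ConnectedSpace G.left] [ConnectedSpace Q.left]

/-- **The image of a Borel subgroup is a Borel subgroup.** -/
theorem isBorelOver_image {B B' : Over (Spec (CommRingCat.of k))} [GrpObj B] [GrpObj B'] {iB : B ⟶ G} {iB' : B' ⟶ Q}
    [IsMonHom iB'] [IsClosedImmersion iB'.left] [IsReduced B'.left] (hB : Red.IsBorelOver k iB)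
    (p : B ⟶ B') [Surjective p.left] (hp : p ≫ iB' = iB ≫ q) : Red.IsBorelOver k iB' := by
  obtain ⟨hm, hc, hsm, hcn, ⟨n, hn⟩, -⟩ := id hB
  have : Mono iB := Over.mono_of_mono_left iB
  have : Mono iB' := Over.mono_of_mono_left iB'
  have : LocallyOfFiniteType B'.hom := by rw [← Over.w iB']; infer_instance
  have : QuasiCompact B'.hom := by rw [← Over.w iB']; infer_instance
  have : QuasiCompact B.hom := by rw [← Over.w iB]; infer_instance
  have := smooth_image (i := iB) (i' := iB') p
  have := connectedSpace_of_surjective p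
  have hpm : ∀ (T : Over (Spec (CommRingCat.of k))) (s t : T ⟶ B), (s * t) ≫ p = (s ≫ p) * (t ≫ p) := fun T s t => by
    rw [← cancel_mono iB', Category.assoc, hp, ← Category.assoc, MonObj.mul_comp, MonObj.mul_comp, MonObj.mul_comp,
      Category.assoc, Category.assoc, Category.assoc, Category.assoc, hp]
  let φ : (𝟙_ (Over (Spec (CommRingCat.of k))) ⟶ B) →* (𝟙_ (Over (Spec (CommRingCat.of k))) ⟶ B') :=
    MonoidHom.mk' (· ≫ p) (hpm _)
  have hsur : Function.Surjective φ := fun y => exists_rpt_lift p y (p.left.surjective _)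
  have hs : Red.IsSolvableGrp B' := isSolvableGrp_of_derivedSeries n B' (by
    rw [← map_derivedSeries_eq hsur n, hn, Subgroup.map_bot])
  obtain ⟨X, a, o, hX⟩ := Groth.Agent.S3279.result k G B iB
  have hX' : AGF.IsQuotient iB X a o := ⟨hX.1, hX.2.2.1, hX.2.2.2.1, hX.2.2.2.2⟩
  obtain ⟨X₁, a₁, o₁, hX₁⟩ := Groth.Agent.S3279.result k Q B' iB'
  have hX₁' : AGF.IsQuotient iB' X₁ a₁ o₁ := ⟨hX₁.1, hX₁.2.2.1, hX₁.2.2.2.1, hX₁.2.2.2.2⟩
  have := isProper_quotient_borel hB hX'
  have := isProper_quotient_image q p hp hX' hX₁'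
  exact isBorelOver_of_proper iB' hs hX₁'

/-- **The image of a parabolic subgroup is parabolic.** -/
theorem isParabolicOver_image {P P' : Over (Spec (CommRingCat.of k))} [GrpObj P] [GrpObj P'] {iP : P ⟶ G} {iP' : P' ⟶ Q}
    [IsMonHom iP'] [IsClosedImmersion iP'.left] [IsReduced P'.left] (hP : Red.IsParabolicOver k iP)
    (p : P ⟶ P') [Surjective p.left] (hp : p ≫ iP' = iP ≫ q) : Red.IsParabolicOver k iP' := by
  obtain ⟨hm, hc, hsm, -⟩ := id hP
  have : Mono iP := Over.mono_of_mono_left iP
  have : Mono iP' := Over.mono_of_mono_left iP'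
  have : LocallyOfFiniteType P.hom := by rw [← Over.w iP]; infer_instance
  have : LocallyOfFiniteType P'.hom := by rw [← Over.w iP']; infer_instance
  have : QuasiCompact P'.hom := by rw [← Over.w iP']; infer_instance
  have : QuasiCompact P.hom := by rw [← Over.w iP]; infer_instance
  have := smooth_image (i := iP) (i' := iP') p
  obtain ⟨X, a, o, hX⟩ := Groth.Agent.S3279.result k G P iP
  have hX' : AGF.IsQuotient iP X a o := ⟨hX.1, hX.2.2.1, hX.2.2.2.1, hX.2.2.2.2⟩
  obtain ⟨X₁, a₁, o₁, hX₁⟩ := Groth.Agent.S3279.result k Q P' iP'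
  have hX₁' : AGF.IsQuotient iP' X₁ a₁ o₁ := ⟨hX₁.1, hX₁.2.2.1, hX₁.2.2.2.1, hX₁.2.2.2.2⟩
  have := (isProper_quotient_iff iP hX').2 hP
  have := isProper_quotient_image q p hp hX' hX₁'
  exact (isProper_quotient_iff iP' hX₁').1 inferInstance

omit [ConnectedSpace G.left] [ConnectedSpace Q.left] [Surjective q.left] in
/-- The reduced image of a smooth subgroup exists. -/
theorem exists_image {B : Over (Spec (CommRingCat.of k))} [GrpObj B] [Smooth B.hom] (iB : B ⟶ G) [IsMonHom iB]
    [IsClosedImmersion iB.left] :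
    ∃ (B' : Over (Spec (CommRingCat.of k))) (_ : GrpObj B') (i' : B' ⟶ Q) (_ : IsMonHom i') (p : B ⟶ B'),
      IsClosedImmersion i'.left ∧ IsReduced B'.left ∧ Surjective p.left ∧ p ≫ i' = iB ≫ q := by
  have : QuasiCompact B.hom := by rw [← Over.w iB]; infer_instance
  obtain ⟨B', _, i', p, hm, hci, hpm, hlft, hqc, hfl, hsur, he⟩ := exists_image_hom (iB ≫ q)
  have := smooth_of_flat_surjective_hom p
  have := geometricallyReduced_of_smooth_hom B'
  exact ⟨B', _, i', hm, p, hci, isReduced_left B', hsur, he⟩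

end Groth.AlgGrp1
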