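import Groth.Agent.AlgGrp1.AffineHull
import Groth.Agent.AlgGrp1.AntiAffineKernel
import Groth.Agent.AlgGrp1.AntiAffineSmooth
import Groth.Agent.AlgGrp1.ImageHom
import Groth.Agent.AlgGrp1.Extension
import Groth.Agent.AlgGrp1.RigidPointed
import Groth.Agent.AlgGrp1.CentTorus
import Groth.Agent.AlgGrp1.MaxTorus
import Groth.Agent.Agf.ClosedSubgroup
import Groth.Agent.Agf.SubobjGrp
import Groth.Agent.S3293
import Groth.Agent.S7996
import Groth.Agent.S5247
import Groth.Agent.AlgGrp1.NormalizerBorel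

/-!
Smooth connected algebraic groups as central extensions of affine groups by connected groups.
-/

set_option autoImplicit false
set_option linter.style.haveILetI false
universe u

open CategoryTheory Limits MonoidalCategory CartesianMonoidalCategory MonObj GrpObj AlgebraicGeometry

noncomputable section

namespace Groth.AlgGrp1

variable {k : Type u} [Field k]

/-- A smooth connected group is a central extension of an affine group by a smooth connected group. -/
theorem exists_central_affine_quotient (G : Over (Spec (CommRingCat.of k))) [GrpObj G] [Smooth G.hom]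
    [QuasiCompact G.hom] [ConnectedSpace G.left] :
    ∃ (M : Over (Spec (CommRingCat.of k))) (_ : GrpObj M) (m : M ⟶ G) (E : Over (Spec (CommRingCat.of k)))
      (_ : GrpObj E) (q : G ⟶ E), IsMonHom m ∧ IsClosedImmersion m.left ∧ Smooth M.hom ∧ QuasiCompact M.hom ∧
      ConnectedSpace M.left ∧ IsAffine E.left ∧ Smooth E.hom ∧ ConnectedSpace E.left ∧ IsMonHom q ∧ Flat q.left ∧
      Surjective q.left ∧ QuasiCompact q.left ∧ AlgGrp.IsKernel m q ∧ IsCommMonObj M ∧ HasConstFunctions M ∧
      ∀ (X : Over (Spec (CommRingCat.of k))) (a : X ⟶ M) (g : X ⟶ G), (a ≫ m) * g = g * (a ≫ m) := by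
  haveI := isSeparated_grpObj G
  obtain ⟨hΓ, gE, hρ⟩ := AffineHull.exists_grpObj_hull G
  let E := AffineHull.hull G
  let q : G ⟶ E := AffineHull.toHull G
  haveI : IsAffine E.left := inferInstanceAs (IsAffine (Spec _))
  obtain ⟨hElft, hqf, hqs⟩ := AffineHull.flat_surjective_finiteType G E q
  haveI := hElft; haveI := hqf; haveI := hqs
  haveI : Smooth E.hom := smooth_of_flat_surjective_hom q
  haveI : ConnectedSpace E.left := connectedSpace_of_surjective q
  haveI : IsClosedImmersion η[E].left := AlgebraicGeometry.isClosedImmersion_of_comp_eq_id E.hom η[E].left (Over.w η[E])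
  obtain ⟨M, m, hmc, hM⟩ := Groth.Agf.exists_preimage q η[E]
  haveI := hmc
  haveI : Mono m := Over.mono_of_mono_left m
  have hker : ∀ (T : Over (Spec (CommRingCat.of k))) (g : T ⟶ G), (∃ z : T ⟶ M, z ≫ m = g) ↔ g ≫ q = 1 :=
    fun T g => (hM T g).trans ⟨fun ⟨x, hx⟩ => by rw [hx, toUnit_unique x (toUnit T)]; rfl,
      fun h => ⟨toUnit T, h⟩⟩
  obtain ⟨_, hm⟩ := Groth.Agf.exists_grpObj_of_subgroup m (fun T g => g ≫ q = 1) hker
    (fun T => MonObj.one_comp q) (fun T a b ha hb => by rw [MonObj.mul_comp, ha, hb, _root_.mul_one])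
    (fun T a ha => by rw [GrpObj.inv_comp, ha, inv_one])
  haveI := hm
  haveI : LocallyOfFiniteType M.hom := by rw [← Over.w m]; infer_instance
  haveI : QuasiCompact M.hom := by rw [← Over.w m]; infer_instance
  haveI := Groth.AlgGrp1.quasiSeparated_of_locallyOfFiniteType G
  have hconst : HasConstFunctions M := AntiAffineKernel.hasConstFunctions_kernel q m hker
  have hsm : Smooth M.hom := AntiAffineSmooth.smooth_of_hasConstFunctions M hconst
  obtain ⟨hMc, hMcomm⟩ := Groth.Agent.S3293.result k M hconst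
  haveI : QuasiCompact q.left := by
    haveI : QuasiCompact (q.left ≫ E.hom) := by rw [Over.w]; infer_instance
    exact QuasiCompact.of_comp q.left E.hom
  refine ⟨M, inferInstance, m, E, inferInstance, q, hm, hmc, hsm, inferInstance, hMc, inferInstance, inferInstance,
    inferInstance, hρ, hqf, hqs, inferInstance, IsKernel.mk' inferInstance hker, hMcomm, hconst, fun X a g => ?_⟩
  have h := Groth.Agent.S7996.result k M G hconst m X a X (𝟙 X) g
  rwa [Category.id_comp] at h

/-- Centralizers of tori in smooth connected groups are smooth and connected. -/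
theorem smooth_connected_centralizer_torus [IsAlgClosed k] {G T C : Over (Spec (CommRingCat.of k))} [GrpObj G]
    [GrpObj T] [GrpObj C] [Smooth G.hom] [QuasiCompact G.hom] [ConnectedSpace G.left] (j : T ⟶ G) [IsMonHom j]
    (hT : Red.IsTorus T) (c : C ⟶ G) (hc : Red.IsCentralizerOf j c) :
    Smooth C.hom ∧ ConnectedSpace C.left := by
  obtain ⟨M, _, m, E, _, q, hm, hmc, hMs, hMq, hMc, hEa, hEs, hEc, hqm, hqf, hqs, hqq, hker, hMcomm, -, hcen⟩ :=
    exists_central_affine_quotient G
  haveI := hm; haveI := hmc; haveI := hMs; haveI := hMq; haveI := hMc; haveI := hEa; haveI := hEs; haveI := hEc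
  haveI := hqm; haveI := hqf; haveI := hqs; haveI := hqq
  haveI := hc.1; haveI : Mono c := hc.2.1
  haveI := isSeparated_grpObj G; haveI := isSeparated_grpObj M
  obtain ⟨hTa, hTs, hTc⟩ := isAffine_smooth_connected_of_isTorus hT
  haveI : Mono m := Over.mono_of_mono_left m
  obtain ⟨Z, _, z, hz, hzc, hzs⟩ := Groth.Agent.S5247.result T E
    (Groth.Reductive.FreeDiag.isMultTypeFT_of_isTorus hT) inferInstance inferInstance (j ≫ q)
  haveI := hz.1; haveI := hzc; haveI := hzs
  haveI : Mono z := hz.2.1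
  haveI : IsAffine Z.left := isAffine_of_isAffineHom z.left
  haveI := connectedSpace_centralizer_torus (j ≫ q) hT z hz
  -- the preimage of the centralizer
  obtain ⟨D, d, qD, sq⟩ : ∃ (D : Over (Spec (CommRingCat.of k))) (d : D ⟶ G) (qD : D ⟶ Z),
      IsPullback d qD q z := ⟨_, _, _, IsPullback.of_hasPullback q z⟩
  haveI : Mono d := sq.mono_fst_of_mono
  have hD : ∀ (W : Over (Spec (CommRingCat.of k))) (g : W ⟶ G),
      (∃ y, y ≫ d = g) ↔ ∃ y, y ≫ z = g ≫ q := fun W g =>
    ⟨fun ⟨y, hy⟩ => ⟨y ≫ qD, by rw [Category.assoc, ← sq.w, ← Category.assoc, hy]⟩,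
      fun ⟨y, hy⟩ => ⟨sq.lift g y hy.symm, sq.lift_fst _ _ _⟩⟩
  obtain ⟨_, hd⟩ := Groth.Agf.exists_grpObj_of_subgroup d (fun W g => ∃ y, y ≫ z = g ≫ q) hD
    (fun W => ⟨1, by rw [MonObj.one_comp, MonObj.one_comp]⟩)
    (fun W a b ⟨y, hy⟩ ⟨y', hy'⟩ => ⟨y * y', by rw [MonObj.mul_comp, MonObj.mul_comp, hy, hy']⟩)
    (fun W a ⟨y, hy⟩ => ⟨y⁻¹, by rw [GrpObj.inv_comp, GrpObj.inv_comp, hy]⟩)
  haveI := hd
  haveI : IsMonHom qD := isMonHom_of_points _ fun W a b => by
    rw [← cancel_mono z, MonObj.mul_comp (a ≫ qD), Category.assoc, Category.assoc, Category.assoc, ← sq.w,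
      ← Category.assoc, ← Category.assoc, ← Category.assoc, ← MonObj.mul_comp, MonObj.mul_comp a b d]
  haveI : IsClosedImmersion d.left :=
    MorphismProperty.of_isPullback (sq.map (Over.forget _)).flip ‹IsClosedImmersion z.left›
  haveI : Flat qD.left := MorphismProperty.of_isPullback (sq.map (Over.forget _)) ‹Flat q.left›
  haveI : Surjective qD.left := MorphismProperty.of_isPullback (sq.map (Over.forget _)) ‹Surjective q.left›
  haveI : Smooth q.left := IsKernel.descends hker @Smooth ‹Smooth M.hom›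
  haveI : Smooth qD.left := MorphismProperty.of_isPullback (sq.map (Over.forget _)) ‹Smooth q.left›
  haveI : Smooth D.hom := by rw [← Over.w qD]; infer_instance
  obtain ⟨mD, hmD⟩ := (hD M m).2 ⟨1, by rw [MonObj.one_comp, IsKernel.comp_eq_one hker]⟩
  have hkerD : AlgGrp.IsKernel mD qD := IsKernel.mk' (mono_of_mono_fac hmD) fun W g => by
    rw [← cancel_mono z, MonObj.one_comp, Category.assoc, ← sq.w, ← Category.assoc,
      ← IsKernel.exists_iff hker]
    exact exists_congr fun y => by rw [← cancel_mono d, Category.assoc, hmD]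
  haveI : QuasiCompact D.hom := by rw [← Over.w d]; infer_instance
  haveI : ConnectedSpace D.left := connectedSpace_of_extension hkerD inferInstance inferInstance
  haveI : IsSeparated D.hom := by rw [← Over.w d]; infer_instance
  haveI : PreconnectedSpace D.left := inferInstance
  -- the commutator with the torus is trivial on it
  let f : D ⊗ T ⟶ G := (fst D T ≫ d) * (snd D T ≫ j) * (fst D T ≫ d)⁻¹ * (snd D T ≫ j)⁻¹
  have hf : ∀ {W : Over (Spec (CommRingCat.of k))} (g : W ⟶ D) (t : W ⟶ T),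
      lift g t ≫ f = (g ≫ d) * (t ≫ j) * (g ≫ d)⁻¹ * (t ≫ j)⁻¹ := fun g t => by
    simp [f, MonObj.comp_mul, GrpObj.comp_inv]
  obtain ⟨ψ, hψ⟩ := IsKernel.exists_lift hker f (by
    obtain ⟨y, hy⟩ := (hD _ (fst D T ≫ d)).1 ⟨fst D T, rfl⟩
    have h := (hz.2.2 _ _).1 ⟨y, hy⟩ _ (𝟙 _) (snd D T)
    rw [Category.id_comp] at h
    simp only [f, MonObj.mul_comp, GrpObj.inv_comp, Category.assoc] at h ⊢
    rw [h]
    group)
  have hψ1 : ψ = 1 := pointed_family_hom_eq_one (1 : 𝟙_ _ ⟶ D)
    (Groth.Reductive.FreeDiag.isMultTypeFT_of_isTorus hT) ψ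
    (fun W g t t' => by
      have hc' := hcen W (lift g t' ≫ ψ) (t ≫ j)
      rw [← cancel_mono m, MonObj.mul_comp (lift g t ≫ ψ)]
      simp only [Category.assoc, hψ, hf] at hc' ⊢
      rw [MonObj.mul_comp]
      generalize g ≫ d = a at hc' ⊢
      generalize t ≫ j = b at hc' ⊢
      generalize t' ≫ j = b' at hc' ⊢
      calc a * (b * b') * a⁻¹ * (b * b')⁻¹
          = a * b * a⁻¹ * ((a * b' * a⁻¹ * b'⁻¹) * b⁻¹) := by group
        _ = a * b * a⁻¹ * (b⁻¹ * ((b * (a * b' * a⁻¹ * b'⁻¹)) * b⁻¹)) := by group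
        _ = a * b * a⁻¹ * (b⁻¹ * (((a * b' * a⁻¹ * b'⁻¹) * b) * b⁻¹)) := by rw [← hc']
        _ = _ := by group)
    (fun W t => by
      rw [← cancel_mono m, Category.assoc, hψ, hf, MonObj.comp_one, MonObj.one_comp, MonObj.one_comp]
      group)
  obtain ⟨f₁, hf₁⟩ := (hc.2.2 D d).2 fun W w t => by
    have h := congrArg (lift w t ≫ ·) hψ
    simp only [hψ1, MonObj.one_comp, MonObj.comp_one] at h
    rw [hf] at h
    exact mul_inv_eq_iff_eq_mul.1 (mul_inv_eq_one.1 h.symm)
  obtain ⟨f₂, hf₂⟩ := (hD C c).2 ((hz.2.2 C (c ≫ q)).2 fun W w t => by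
    have h := congrArg (· ≫ q) ((hc.2.2 C c).1 ⟨𝟙 C, Category.id_comp c⟩ W w t)
    simp only [MonObj.mul_comp, Category.assoc] at h
    exact h)
  let e : D ≅ C := ⟨f₁, f₂, by rw [← cancel_mono d, Category.assoc, hf₂, hf₁, Category.id_comp],
    by rw [← cancel_mono c, Category.assoc, hf₁, hf₂, Category.id_comp]⟩
  haveI : IsIso e.inv.left := ((Over.forget _).mapIso e).isIso_inv
  haveI : IsIso e.hom.left := ((Over.forget _).mapIso e).isIso_hom
  refine ⟨?_, connectedSpace_of_surjective e.hom⟩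
  rw [← Over.w e.inv]; infer_instance

end Groth.AlgGrp1
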