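import Groth.Agent.AlgGrp1.ParabolicNormalizer
import Groth.Agent.AlgGrp1.CentralAffine
import Groth.Agent.RedX.FibreIso
import Groth.Agent.S5260

/-!
Borel and parabolic subgroups over an arbitrary base are their own normalizers.
-/

set_option autoImplicit false
set_option linter.style.haveILetI false
universe u

open CategoryTheory Limits MonoidalCategory CartesianMonoidalCategory MonObj GrpObj AlgebraicGeometry
open Groth.AlgGrp2 (bcPt bcPtInv bcPt_injective bcPt_comp bcPt_comp_map bcPt_mul bcPt_inv bcPt_bcPtInv)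

noncomputable section

namespace Groth.AlgGrp1

/-- Factorization through a closed immersion descends along coverings. -/
theorem exists_factor_of_cover {S : Scheme.{u}} {A A' B G : Over S} (π : A' ⟶ A) [Flat π.left] [Surjective π.left]
    [QuasiCompact π.left] (i : B ⟶ G) [IsClosedImmersion i.left] (f : A ⟶ G) (b : A' ⟶ B) (hb : π ≫ f = b ≫ i) :
    ∃ a : A ⟶ B, a ≫ i = f := by
  obtain ⟨E, c, hc, hE⟩ := Groth.Agf.exists_preimage f i
  haveI := hc
  obtain ⟨e, he⟩ := (hE A' π).2 ⟨b, hb⟩
  let p₂ := pullback.snd c.left π.left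
  haveI : Mono c.left := inferInstance
  haveI : Mono p₂ := inferInstance
  haveI : IsSplitEpi p₂ := IsSplitEpi.mk' ⟨pullback.lift e.left (𝟙 _) (by rw [← Over.comp_left, he, Category.id_comp]),
    pullback.lift_snd _ _ _⟩
  have hiso : IsIso p₂ := isIso_of_mono_of_isSplitEpi p₂
  have : IsIso c.left := MorphismProperty.of_isPullback_of_descendsAlong
    (P := MorphismProperty.isomorphisms Scheme.{u}) (Q := @Surjective ⊓ @Flat ⊓ @QuasiCompact)
    (IsPullback.of_hasPullback c.left π.left).flip ⟨⟨‹_›, ‹_›⟩, ‹_›⟩ hiso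
  haveI : IsIso ((Over.forget S).map c) := this
  haveI := isIso_of_reflects_iso c (Over.forget S)
  obtain ⟨x, hx⟩ := (hE A (𝟙 A)).1 ⟨inv c, IsIso.inv_hom_id c⟩
  exact ⟨x, by rw [← hx, Category.id_comp]⟩

/-- Connected fibres of groups are geometrically connected. -/
theorem connectedSpace_geomFibre {S : Scheme.{u}} (X : Over S) [GrpObj X] [LocallyOfFiniteType X.hom] (s : S)
    (h : _root_.IsConnected (X.hom.base ⁻¹' {s})) : ConnectedSpace (Red.geomFibre s X).left := by
  let f := S.fromSpecResidueField s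
  let Xs : Over (Spec (CommRingCat.of (S.residueField s))) := Red.bc f X
  haveI : LocallyOfFiniteType Xs.hom := inferInstanceAs (LocallyOfFiniteType (pullback.snd X.hom f))
  haveI : ConnectedSpace (X.hom ⁻¹' {s} : Set X.left) := isConnected_iff_connectedSpace.1 h
  haveI : ConnectedSpace Xs.left :=
    (X.hom.fiberHomeo s).symm.surjective.connectedSpace (X.hom.fiberHomeo s).symm.continuous
  haveI := geometricallyConnected_of_point Xs.hom η[Xs].left (Over.w η[Xs])
  let ψ : Spec (CommRingCat.of (AlgebraicClosure (S.residueField s))) ⟶ Spec (CommRingCat.of (S.residueField s)) :=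
    Spec.map (CommRingCat.ofHom (algebraMap (S.residueField s) (AlgebraicClosure (S.residueField s))))
  have sq : IsPullback (pullback.fst X.hom (Red.geomPt s)) (pullback.snd X.hom (Red.geomPt s)) X.hom (ψ ≫ f) :=
    IsPullback.of_hasPullback X.hom (Red.geomPt s)
  exact GeometricallyConnected.geometrically_connectedSpace (f := Xs.hom) ψ _ _
    (IsPullback.of_right' (h₁₂ := pullback.fst X.hom f) (h₂₂ := f) sq (IsPullback.of_hasPullback X.hom f))

/-- Base change of a normalizing point normalizes. -/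
theorem normalizes_bc' {S S' : Scheme.{u}} (φ : S' ⟶ S) {G H : Over S} [GrpObj G] [GrpObj H] {i : H ⟶ G} {X : Over S}
    {g : X ⟶ G} (hg : Normalizes i g) : Normalizes ((Over.pullback φ).map i) ((Over.pullback φ).map g) := by
  intro X' x h
  obtain ⟨⟨a, ha⟩, ⟨b, hb⟩⟩ := hg _ (bcPt φ x) (bcPt φ h)
  refine ⟨⟨bcPtInv φ a, bcPt_injective φ ?_⟩, ⟨bcPtInv φ b, bcPt_injective φ ?_⟩⟩ <;>
    simp only [bcPt_mul, bcPt_inv, bcPt_comp_map, bcPt_bcPtInv, ha, hb]

/-- Being its own normalizer may be checked on geometric fibres. -/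
theorem isNormalizerOf_self_of_fibres {S : Scheme.{u}} {G B : Over S} [GrpObj G] [GrpObj B]
    [LocallyOfFiniteType G.hom] [QuasiSeparated G.hom] (i : B ⟶ G) [IsMonHom i] [Mono i] [Smooth B.hom]
    [QuasiCompact B.hom] [QuasiSeparated B.hom] (hconn : ∀ s : S, _root_.IsConnected (B.hom.base ⁻¹' {s}))
    (hfib : ∀ s : S, Red.IsNormalizerOf ((Over.pullback (Red.geomPt s)).map i) ((Over.pullback (Red.geomPt s)).map i)) :
    Red.IsNormalizerOf i i ∧ IsClosedImmersion i.left := by
  obtain ⟨N, _, n, hN, hnc, hnlfp⟩ := Groth.Agent.S5260.result G B (fun s => by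
    haveI : ConnectedSpace (B.hom ⁻¹' {s} : Set B.left) := isConnected_iff_connectedSpace.1 (hconn s)
    exact (B.hom.fiberHomeo s).symm.surjective.connectedSpace (B.hom.fiberHomeo s).symm.continuous) i
  haveI := hnc; haveI := hnlfp; haveI := hN.1; haveI : Mono n := hN.2.1
  haveI : LocallyOfFiniteType N.hom := by rw [← Over.w n]; infer_instance
  obtain ⟨f, hf⟩ := (hN.2.2 B i).2 (by
    have := normalizes_of_factor i (𝟙 B)
    rwa [Category.id_comp] at this)
  have : IsIso f := Groth.RedX.isIso_of_geomFibres f fun s => by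
    let p := Red.geomPt s
    obtain ⟨g, hg⟩ := ((hfib s).2.2 _ ((Over.pullback p).map n)).2
      (normalizes_bc' p ((hN.2.2 N n).1 ⟨𝟙 N, Category.id_comp n⟩))
    haveI := (hfib s).2.1
    have hfn : (Over.pullback p).map f ≫ (Over.pullback p).map n = (Over.pullback p).map i := by
      rw [← Functor.map_comp, hf]
    exact ⟨g, by rw [← cancel_mono ((Over.pullback p).map i), Category.assoc, hg, hfn, Category.id_comp],
      by rw [← cancel_mono ((Over.pullback p).map n), Category.assoc, hfn, hg, Category.id_comp]⟩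
  refine ⟨⟨inferInstance, inferInstance, fun X g => ⟨fun ⟨z, hz⟩ => hz ▸ normalizes_of_factor i z, fun hg => ?_⟩⟩, ?_⟩
  · obtain ⟨z, hz⟩ := (hN.2.2 X g).2 hg
    exact ⟨z ≫ inv f, by rw [Category.assoc, ← hf, IsIso.inv_hom_id_assoc, hz]⟩
  · haveI : IsIso f.left := inferInstanceAs (IsIso ((Over.forget S).map f))
    rw [← hf, Over.comp_left]; infer_instance

variable {k : Type u} [Field k] [IsAlgClosed k]

/-- Borel subgroups of smooth connected groups are their own normalizers. -/
theorem isNormalizerOf_borelOver_general {G B : Over (Spec (CommRingCat.of k))} [GrpObj G] [GrpObj B]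
    [Smooth G.hom] [QuasiCompact G.hom] [ConnectedSpace G.left] {iB : B ⟶ G} (hB : Red.IsBorelOver k iB) :
    Red.IsNormalizerOf iB iB := by
  obtain ⟨hmB, hcB, hsB, hnB, hrest⟩ := hB
  obtain ⟨n, hn⟩ := hrest.1
  haveI := hmB; haveI := hcB; haveI := hsB; haveI := hnB
  haveI : Mono iB := Over.mono_of_mono_left iB
  haveI : QuasiCompact B.hom := by rw [← Over.w iB]; infer_instance
  obtain ⟨M, _, m, E, _, q, hm, hmc, hMs, hMq, hMc, hEa, hEs, hEc, hqm, hqf, hqs, hqq, hker, hMcomm, -, hcen⟩ :=
    exists_central_affine_quotient G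
  haveI := hm; haveI := hmc; haveI := hMs; haveI := hMq; haveI := hMc; haveI := hEa; haveI := hEs; haveI := hEc
  haveI := hqm; haveI := hqf; haveI := hqs; haveI := hqq
  haveI : Smooth q.left := IsKernel.descends hker @Smooth ‹Smooth M.hom›
  haveI : Mono m := Over.mono_of_mono_left m
  -- inverse images of solvable subgroups are solvable
  have hpre : ∀ (Z : Over (Spec (CommRingCat.of k))) [GrpObj Z] (z : Z ⟶ E) [IsMonHom z] [IsClosedImmersion z.left]
      [Smooth Z.hom] [ConnectedSpace Z.left], Red.IsSolvableGrp Z → ∀ (b : B ⟶ Z), b ≫ z = iB ≫ q →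
      ∃ (D : Over (Spec (CommRingCat.of k))) (d : D ⟶ G) (qD : D ⟶ Z) (f : B ⟶ D),
        IsPullback d qD q z ∧ Surjective qD.left ∧ f ≫ d = iB ∧ IsIso f ∧ f ≫ qD = b := by
    intro Z _ z _ _ _ _ hsol b hb
    obtain ⟨l, hl⟩ := hsol
    haveI : Mono z := Over.mono_of_mono_left z
    obtain ⟨D, d, qD, sq⟩ : ∃ (D : Over (Spec (CommRingCat.of k))) (d : D ⟶ G) (qD : D ⟶ Z),
        IsPullback d qD q z := ⟨_, _, _, IsPullback.of_hasPullback q z⟩
    haveI : Mono d := sq.mono_fst_of_mono
    have hD : ∀ (W : Over (Spec (CommRingCat.of k))) (g : W ⟶ G),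
        (∃ y, y ≫ d = g) ↔ ∃ y, y ≫ z = g ≫ q := fun W g =>
      ⟨fun ⟨y, hy⟩ => ⟨y ≫ qD, by rw [Category.assoc, ← sq.w, ← Category.assoc, hy]⟩,
        fun ⟨y, hy⟩ => ⟨sq.lift g y hy.symm, sq.lift_fst _ _ _⟩⟩
    obtain ⟨_, hd⟩ := Groth.Agf.exists_grpObj_of_subgroup d (fun W g => ∃ y, y ≫ z = g ≫ q) hD
      (fun W => ⟨1, by rw [MonObj.one_comp, MonObj.one_comp]⟩)
      (fun W a b ⟨y, hy⟩ ⟨y', hy'⟩ => ⟨y * y', by rw [MonObj.mul_comp, MonObj.mul_comp, hy, hy']⟩)
      (fun W a ⟨y, hy⟩ => ⟨y⁻¹, by rw [GrpObj.inv_comp, GrpObj.inv_comp, hy]⟩)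
    haveI := hd
    haveI : IsMonHom qD := isMonHom_of_points _ fun W a b => by
      rw [← cancel_mono z, MonObj.mul_comp (a ≫ qD), Category.assoc, Category.assoc, Category.assoc, ← sq.w,
        ← Category.assoc, ← Category.assoc, ← Category.assoc, ← MonObj.mul_comp, MonObj.mul_comp a b d]
    haveI : IsClosedImmersion d.left :=
      MorphismProperty.of_isPullback (sq.map (Over.forget _)).flip ‹IsClosedImmersion z.left›
    haveI : Flat qD.left := MorphismProperty.of_isPullback (sq.map (Over.forget _)) ‹Flat q.left›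
    haveI hqDs : Surjective qD.left := MorphismProperty.of_isPullback (sq.map (Over.forget _)) ‹Surjective q.left›
    haveI : Smooth qD.left := MorphismProperty.of_isPullback (sq.map (Over.forget _)) ‹Smooth q.left›
    haveI : Smooth D.hom := by rw [← Over.w qD]; infer_instance
    obtain ⟨mD, hmD⟩ := (hD M m).2 ⟨1, by rw [MonObj.one_comp, IsKernel.comp_eq_one hker]⟩
    have hkerD : AlgGrp.IsKernel mD qD := IsKernel.mk' (mono_of_mono_fac hmD) fun W g => by
      rw [← cancel_mono z, MonObj.one_comp, Category.assoc, ← sq.w, ← Category.assoc,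
        ← IsKernel.exists_iff hker]
      exact exists_congr fun y => by rw [← cancel_mono d, Category.assoc, hmD]
    haveI : ConnectedSpace D.left := connectedSpace_of_extension hkerD inferInstance inferInstance
    have hsolD : Red.IsSolvableGrp D := ⟨l + 1, fun X => by
      let qh : (X ⟶ D) →* (X ⟶ Z) := MonoidHom.mk' (· ≫ qD) fun a b => MonObj.mul_comp a b qD
      have h1 : derivedSeries (X ⟶ D) l ≤ qh.ker := by
        rw [← Subgroup.map_eq_bot_iff, eq_bot_iff, ← hl X]
        exact map_derivedSeries_le_derivedSeries qh l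
      rw [derivedSeries_succ, eq_bot_iff, Subgroup.commutator_le]
      intro a ha c hc
      obtain ⟨y, hy⟩ := IsKernel.exists_lift hkerD a (h1 ha)
      rw [Subgroup.mem_bot, commutatorElement_eq_one_iff_mul_comm, ← hy, ← cancel_mono d, MonObj.mul_comp,
        MonObj.mul_comp, Category.assoc, hmD]
      exact hcen X y (c ≫ d)⟩
    obtain ⟨f, hf⟩ := (hD B iB).2 ⟨b, hb⟩
    haveI := hrest.2 D d f ‹_› ‹_› ‹_› hsolD hf
    refine ⟨D, d, qD, f, sq, hqDs, hf, inferInstance, ?_⟩
    rw [← cancel_mono z, Category.assoc, ← sq.w, ← Category.assoc, hf, hb]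
  -- the image
  obtain ⟨B', _, c, p, hcm, hcc, hpm, hlft, hqc, hpf, hps, hpc⟩ := exists_image_hom (iB ≫ q)
  haveI := hcm; haveI := hcc; haveI := hpm; haveI := hlft; haveI := hpf; haveI := hps
  haveI : Mono c := Over.mono_of_mono_left c
  haveI : Smooth B'.hom := smooth_of_flat_surjective_hom p
  haveI : ConnectedSpace B'.left := connectedSpace_of_surjective p
  haveI : QuasiCompact B'.hom := hqc
  haveI : QuasiCompact p.left := by
    haveI : IsSeparated B'.hom := by rw [← Over.w c]; infer_instance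
    haveI : QuasiCompact (p.left ≫ B'.hom) := by rw [Over.w]; infer_instance
    exact QuasiCompact.of_comp p.left B'.hom
  have hsol' : Red.IsSolvableGrp B' := isSolvableGrp_of_derivedSeries n B' (by
    let qh : (𝟙_ (Over (Spec (CommRingCat.of k))) ⟶ B) →* (𝟙_ _ ⟶ B') :=
      MonoidHom.mk' (· ≫ p) fun a b => MonObj.mul_comp a b p
    have hqsur : Function.Surjective qh := fun e => exists_rpt_lift p e (p.left.surjective _)
    rw [← map_derivedSeries_eq hqsur n, hn, Subgroup.map_bot])
  have hB' : Red.IsBorelOver k c := by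
    refine ⟨hcm, hcc, inferInstance, inferInstance, hsol', fun Z _ z _ f hzc hzs hzn hzsol hf => ?_⟩
    haveI := hzc; haveI := hzs; haveI := hzn
    obtain ⟨D, d, qD, f', sq, hqD, -, hiso, hf'⟩ := hpre Z z hzsol (p ≫ f) (by rw [Category.assoc, hf, hpc])
    haveI := hiso; haveI := hqD
    haveI : IsIso f'.left := inferInstanceAs (IsIso ((Over.forget _).map f'))
    haveI : IsClosedImmersion f.left := by
      have : IsClosedImmersion (f.left ≫ z.left) := by rw [← Over.comp_left, hf]; infer_instance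
      exact IsClosedImmersion.of_comp f.left z.left
    haveI : Surjective f.left := by
      have : Surjective (p ≫ f).left := by rw [← hf', Over.comp_left]; infer_instance
      refine ⟨fun y => ?_⟩
      obtain ⟨x, hx⟩ := (p ≫ f).left.surjective y
      exact ⟨p.left.base x, hx⟩
    have := geometricallyReduced_of_smooth_hom Z
    haveI := isReduced_left Z
    haveI : IsIso f.left := isIso_of_isClosedImmersion_of_surjective f.left
    haveI : IsIso ((Over.forget _).map f) := this
    exact isIso_of_reflects_iso f (Over.forget _)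
  obtain ⟨D, d, qD, f, sq, -, hfd, hiso, -⟩ := hpre B' c hsol' p hpc
  haveI := hiso
  have hN := isNormalizerOf_borelOver hB'
  refine ⟨inferInstance, inferInstance, fun X g => ⟨fun ⟨z, hz⟩ => hz ▸ normalizes_of_factor iB z, fun hg => ?_⟩⟩
  obtain ⟨z, hz⟩ := (hN.2.2 X (g ≫ q)).2 fun X' x h => by
    let X'' : Over (Spec (CommRingCat.of k)) := Limits.pullback h p
    have sqh : IsPullback (pullback.fst h p).left (pullback.snd h p).left h.left p.left :=
      (IsPullback.of_hasPullback h p).map (Over.forget _)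
    haveI : Flat (pullback.fst h p).left := MorphismProperty.of_isPullback sqh.flip ‹Flat p.left›
    haveI : Surjective (pullback.fst h p).left := MorphismProperty.of_isPullback sqh.flip ‹Surjective p.left›
    haveI : QuasiCompact (pullback.fst h p).left := MorphismProperty.of_isPullback sqh.flip ‹QuasiCompact p.left›
    obtain ⟨⟨a, ha⟩, ⟨b, hb⟩⟩ := hg X'' (pullback.fst h p ≫ x) (pullback.snd h p)
    have e1 : (pullback.snd h p ≫ iB) ≫ q = (pullback.fst h p ≫ h) ≫ c := by
      rw [Category.assoc, ← hpc, pullback.condition, Category.assoc]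
    have ea := congrArg (· ≫ q) ha
    have eb := congrArg (· ≫ q) hb
    simp only [MonObj.mul_comp, GrpObj.inv_comp, e1] at ea eb
    rw [Category.assoc a, ← hpc] at ea
    rw [Category.assoc b, ← hpc] at eb
    simp only [Category.assoc] at ea eb
    constructor
    · obtain ⟨r, hr⟩ := exists_factor_of_cover (pullback.fst h p) c
        ((x ≫ g ≫ q) * (h ≫ c) * (x ≫ g ≫ q)⁻¹) (a ≫ p) (by
          simp only [MonObj.comp_mul, GrpObj.comp_inv, Category.assoc]; exact ea)
      exact ⟨r, hr.symm⟩
    · obtain ⟨r, hr⟩ := exists_factor_of_cover (pullback.fst h p) c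
        ((x ≫ g ≫ q)⁻¹ * (h ≫ c) * (x ≫ g ≫ q)) (b ≫ p) (by
          simp only [MonObj.comp_mul, GrpObj.comp_inv, Category.assoc]; exact eb)
      exact ⟨r, hr.symm⟩
  exact ⟨sq.lift g z hz.symm ≫ inv f, by rw [Category.assoc, ← hfd, IsIso.inv_hom_id_assoc, sq.lift_fst]⟩

end Groth.AlgGrp1
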