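import Groth.Agent.AlgGrp1.CartanField
import Groth.Agent.AlgGrp1.BorelCover
import Groth.Agent.Reductive2.MaxTorusAlgClosed
import Groth.Agent.GrpschAbsch.NeutralSet

/-!
Centralizers of tori contain Cartan subgroups.
-/

set_option autoImplicit false
set_option linter.style.haveILetI false
universe u

open CategoryTheory Limits MonoidalCategory CartesianMonoidalCategory MonObj GrpObj AlgebraicGeometry

noncomputable section

namespace Groth.AlgGrp1

variable {k : Type u} [Field k] [IsAlgClosed k]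

/-- In an affine smooth group every torus is conjugate into every maximal torus. -/
theorem exists_conj_into_maxTorus {G T T' : Over (Spec (CommRingCat.of k))} [GrpObj G] [GrpObj T] [GrpObj T']
    [IsAffine G.left] [Smooth G.hom] (jT : T ⟶ G) [IsMonHom jT] [Mono jT] (hT : Red.IsTorus T) {i' : T' ⟶ G}
    (hT' : AGF.IsMaxTorus i') :
    ∃ (y : 𝟙_ (Over (Spec (CommRingCat.of k))) ⟶ G) (a : T ⟶ T'), a ≫ i' = AGF.conjBy y jT := by
  obtain ⟨H, _, i, hi, hopen, hr, hc⟩ := Groth.GrpschAbsch.NeutralSet.exists_neutral_openSubgroup G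
  haveI := hi; haveI := hopen; haveI := hc
  haveI hcl : IsClosedImmersion i.left :=
    IsClosedImmersion.of_isPreimmersion i.left (by rw [hr]; exact isClosed_connectedComponent)
  haveI : IsAffine H.left := isAffine_of_isAffineHom i.left
  haveI : Smooth H.hom := by rw [← Over.w i]; infer_instance
  haveI : Mono i := Over.mono_of_mono_left i
  have hfac : ∀ (U : Over (Spec (CommRingCat.of k))) [GrpObj U] (j : U ⟶ G) [IsMonHom j] [Mono j], Red.IsTorus U →
      ∃ j₀ : U ⟶ H, IsMonHom j₀ ∧ Mono j₀ ∧ j₀ ≫ i = j := fun U _ j _ _ hU => by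
    obtain ⟨-, -, hconn⟩ := isAffine_smooth_connected_of_isTorus hU
    have hsub : Set.range j.left ⊆ Set.range i.left := by
      rw [hr]
      refine (isPreconnected_range j.left.continuous).subset_connectedComponent
        ⟨η[U].left (IsLocalRing.closedPoint k), ?_⟩
      exact congr(($(IsMonHom.one_hom j)).left.base (IsLocalRing.closedPoint k))
    let j₀ : U ⟶ H := Over.homMk (IsOpenImmersion.lift i.left j.left hsub) (by
      rw [← Over.w i, IsOpenImmersion.lift_fac_assoc, Over.w j])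
    have hj₀ : j₀ ≫ i = j := Over.OverMorphism.ext (IsOpenImmersion.lift_fac _ _ _)
    refine ⟨j₀, isMonHom_of_points _ fun X a b => ?_, mono_of_mono_fac hj₀, hj₀⟩
    rw [← cancel_mono i, Category.assoc, hj₀, MonObj.mul_comp, MonObj.mul_comp, Category.assoc, hj₀,
      Category.assoc, hj₀]
  haveI := hT'.1; haveI := hT'.2.1
  obtain ⟨t, htm, htmo, ht⟩ := hfac T jT hT
  obtain ⟨t', ht'm, ht'mo, ht'⟩ := hfac T' i' hT'.2.2.1
  haveI := htm; haveI := htmo; haveI := ht'm; haveI := ht'mo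
  have hmax' : AGF.IsMaxTorus t' := ⟨ht'm, ht'mo, hT'.2.2.1, fun U _ j _ _ f hU hf =>
    hT'.2.2.2 U (j ≫ i) f hU (by rw [← Category.assoc, hf, ht'])⟩
  obtain ⟨B, _, iB, _, X, a, o, hB, -, -⟩ := exists_borel_proper (G := H)
  have := hB.2.1
  obtain ⟨S, _, s, hsm, hsc, hS, -, habs⟩ := exists_torus_absorbing_of_borel hB
  haveI := hsm; haveI := hsc; haveI := hB.1
  have : IsClosedImmersion (s ≫ iB).left := by rw [Over.comp_left]; infer_instance
  obtain ⟨x, e, he⟩ := (isMaxTorus_of_absorbing (s ≫ iB) hS habs).2 T' t' hmax'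
  obtain ⟨g, f, hf⟩ := habs T t hT
  have h1 : f ≫ e.inv ≫ t' = AGF.conjBy (x⁻¹ * g) t := by
    have e1 : e.inv ≫ AGF.conjBy x t' = s ≫ iB := by rw [← he, Iso.inv_hom_id_assoc]
    rw [← conjBy_conjBy, ← hf, ← e1, ← comp_conjBy', ← comp_conjBy', conjBy_conjBy, inv_mul_cancel, conjBy_one]
  refine ⟨(x⁻¹ * g) ≫ i, f ≫ e.inv, ?_⟩
  rw [← ht', Category.assoc, ← Category.assoc e.inv, ← Category.assoc, h1, ← ht]
  simp only [AGF.conjBy, MonObj.mul_comp, GrpObj.inv_comp, Category.assoc]

/-- The dimension of a Cartan subgroup is at most that of the centralizer of any torus. -/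
theorem dim_cartan_le {G T C C' : Over (Spec (CommRingCat.of k))} [GrpObj G] [GrpObj T] [GrpObj C] [GrpObj C']
    [IsAffine G.left] [Smooth G.hom] (jT : T ⟶ G) [IsMonHom jT] [Mono jT] (hT : Red.IsTorus T) {c : C ⟶ G}
    (hc : Red.IsCentralizerOf jT c) {c' : C' ⟶ G} (hc' : SGA3x.IsCartanOver k c') :
    topologicalKrullDim ↥C'.left ≤ topologicalKrullDim ↥C.left := by
  obtain ⟨-, -, T', _, i', hi', hC'⟩ := hc'
  have hi'' := (Reductive2.MaxTorus.isMaximalTorus_iff i').1 hi'
  haveI := hi''.1; haveI := hi''.2.1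
  obtain ⟨y, a, ha⟩ := exists_conj_into_maxTorus jT hT hi''
  obtain ⟨φ, hφ⟩ := (hc.2.2 C' (AGF.conjBy y⁻¹ c')).2 fun X x h => by
    have h1 := (hC'.2.2 C' c').1 ⟨𝟙 C', Category.id_comp c'⟩ X x (h ≫ a)
    rw [Category.assoc, ha] at h1
    simp only [AGF.conjBy, MonObj.comp_mul, GrpObj.comp_inv, ← Category.assoc,
      toUnit_unique (x ≫ toUnit C') (toUnit X), toUnit_unique (h ≫ toUnit T) (toUnit X)] at h1 ⊢
    generalize x ≫ c' = p at h1 ⊢
    generalize toUnit X ≫ y = q at h1 ⊢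
    generalize h ≫ jT = r at h1 ⊢
    calc q⁻¹ * p * q⁻¹⁻¹ * r = q⁻¹ * (p * (q * r * q⁻¹)) * q := by group
      _ = q⁻¹ * (q * r * q⁻¹ * p) * q := by rw [h1]
      _ = r * (q⁻¹ * p * q⁻¹⁻¹) := by group
  haveI := (smooth_centralizer_torus i' (isClosedImmersion_of_isTorus i' hi''.2.2.1) hi''.2.2.1 c' hC').2
  haveI := isClosedImmersion_conjBy y⁻¹ c'
  have : IsClosedImmersion (φ.left ≫ c.left) := by rw [← Over.comp_left, hφ]; infer_instance
  haveI := (smooth_centralizer_torus jT (isClosedImmersion_of_isTorus jT hT) hT c hc).2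
  haveI : IsClosedImmersion φ.left := IsClosedImmersion.of_comp φ.left c.left
  exact φ.left.isClosedEmbedding.isInducing.topologicalKrullDim_le

end Groth.AlgGrp1

end
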