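import Groth.Agent.AlgGrp1.OpenNormalizer
import Groth.Agent.AlgGrp1.TorusConjGeneral
import Groth.Agent.Reductive2.MaxTorusAlgClosed

/-!
Cartan subgroups of subgroups containing Cartan subgroups.
-/

set_option autoImplicit false
set_option linter.style.haveILetI false
universe u

open CategoryTheory Limits MonoidalCategory CartesianMonoidalCategory MonObj GrpObj AlgebraicGeometry

noncomputable section

namespace Groth.AlgGrp1

variable {k : Type u} [Field k] [IsAlgClosed k] {G H : Over (Spec (CommRingCat.of k))} [GrpObj G] [GrpObj H]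

/-- A maximal torus of a subgroup containing a Cartan subgroup is maximal in the group, and the
subgroup contains its centralizer. -/
theorem maxTorus_of_subgroup_cartan [Smooth H.hom] [QuasiCompact H.hom] [ConnectedSpace H.left] (iH : H ⟶ G)
    [IsMonHom iH] [Mono iH] {C : Over (Spec (CommRingCat.of k))} [GrpObj C] (c : C ⟶ H)
    (hc : SGA3x.IsCartanOver k (c ≫ iH)) {T : Over (Spec (CommRingCat.of k))} [GrpObj T] {t : T ⟶ H}
    (ht : AGF.IsMaxTorus t) :
    AGF.IsMaxTorus (t ≫ iH) ∧ ∀ (X : Over (Spec (CommRingCat.of k))) (g : X ⟶ G),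
      (∀ (X' : Over (Spec (CommRingCat.of k))) (x : X' ⟶ X) (s : X' ⟶ T),
        (x ≫ g) * (s ≫ t ≫ iH) = (s ≫ t ≫ iH) * (x ≫ g)) → ∃ y : X ⟶ H, y ≫ iH = g := by
  obtain ⟨-, -, T₀, _, i, hi, hC⟩ := hc
  have hi' := (Reductive2.MaxTorus.isMaximalTorus_iff i).1 hi
  haveI := hi'.1; haveI := hi'.2.1
  haveI := ht.1; haveI := ht.2.1
  obtain ⟨t₀, ht₀⟩ := (hC.2.2 T₀ i).2 fun X' x h => by
    rw [← MonObj.mul_comp, ← MonObj.mul_comp, Groth.Reductive2.torus_mul_comm hi'.2.2.1 x h]
  have hj : (t₀ ≫ c) ≫ iH = i := by rw [Category.assoc, ht₀]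
  haveI : Mono (t₀ ≫ c) := mono_of_mono_fac hj
  haveI : IsMonHom (t₀ ≫ c) := isMonHom_of_points _ fun W a b => by
    rw [← cancel_mono iH, MonObj.mul_comp (a ≫ t₀ ≫ c), Category.assoc, Category.assoc a, Category.assoc b, hj,
      MonObj.mul_comp]
  have hmax₀ : AGF.IsMaxTorus (t₀ ≫ c) := ⟨inferInstance, inferInstance, hi'.2.2.1,
    fun T' _ j _ _ f hT' hf => hi'.2.2.2 T' (j ≫ iH) f hT' (by rw [← Category.assoc, hf, hj])⟩
  obtain ⟨h, f, hf⟩ := maxTorus_conj_general hmax₀ ht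
  have hconj : AGF.conjBy (h ≫ iH) i = f.hom ≫ t ≫ iH := by
    rw [← Category.assoc, hf]
    simp only [AGF.conjBy, MonObj.mul_comp, GrpObj.inv_comp, Category.assoc, ← hj]
  have hmx := isMaxTorus_conjBy hi' (h ≫ iH)
  rw [hconj] at hmx
  refine ⟨⟨inferInstance, inferInstance, ht.2.2.1, fun T' _ j _ _ g hT' hg => ?_⟩, fun X g hg => ?_⟩
  · haveI := hmx.2.2.2 T' j (f.hom ≫ g) hT' (by rw [Category.assoc, hg])
    exact IsIso.of_isIso_comp_left f.hom g
  · let a : X ⟶ G := toUnit X ≫ h ≫ iH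
    obtain ⟨z, hz⟩ := (hC.2.2 X (a⁻¹ * g * a)).2 fun X' x s => by
      have h1 := hg X' x (s ≫ f.hom)
      rw [Category.assoc, ← hconj] at h1
      simp only [AGF.conjBy, MonObj.comp_mul, GrpObj.comp_inv, a, ← Category.assoc,
        toUnit_unique (s ≫ toUnit T₀) (toUnit X'), toUnit_unique (x ≫ toUnit X) (toUnit X')] at h1 ⊢
      generalize x ≫ g = p at h1 ⊢
      generalize (toUnit X' ≫ h) ≫ iH = q at h1 ⊢
      generalize s ≫ i = r at h1 ⊢
      calc q⁻¹ * p * q * r = q⁻¹ * (p * (q * r * q⁻¹)) * q := by group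
        _ = q⁻¹ * (q * r * q⁻¹ * p) * q := by rw [h1]
        _ = r * (q⁻¹ * p * q) := by group
    refine ⟨(toUnit X ≫ h) * (z ≫ c) * (toUnit X ≫ h)⁻¹, ?_⟩
    rw [MonObj.mul_comp, MonObj.mul_comp, GrpObj.inv_comp, Category.assoc, Category.assoc, hz]
    show a * (a⁻¹ * g * a) * a⁻¹ = g
    group

/-- A subgroup scheme of a subgroup containing a Cartan subgroup is a Cartan subgroup of the one iff of the other. -/
theorem isCartanOver_comp_iff [Smooth H.hom] [QuasiCompact H.hom] [ConnectedSpace H.left] (iH : H ⟶ G)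
    [IsMonHom iH] [Mono iH] {C₀ : Over (Spec (CommRingCat.of k))} [GrpObj C₀] (c₀ : C₀ ⟶ H)
    (hc₀ : SGA3x.IsCartanOver k (c₀ ≫ iH)) {C : Over (Spec (CommRingCat.of k))} [GrpObj C] (c : C ⟶ H) :
    SGA3x.IsCartanOver k c ↔ SGA3x.IsCartanOver k (c ≫ iH) := by
  constructor
  · rintro ⟨hm, hmo, T, _, t, ht, hC⟩
    haveI := hm; haveI := hmo
    obtain ⟨hmax, hcl⟩ := maxTorus_of_subgroup_cartan iH c₀ hc₀ ((Reductive2.MaxTorus.isMaximalTorus_iff t).1 ht)
    refine ⟨inferInstance, inferInstance, T, inferInstance, t ≫ iH,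
      (Reductive2.MaxTorus.isMaximalTorus_iff _).2 hmax, inferInstance, inferInstance, fun X g => ⟨?_, fun hg => ?_⟩⟩
    · rintro ⟨z, rfl⟩ X' x s
      have := congrArg (· ≫ iH) ((hC.2.2 X (z ≫ c)).1 ⟨z, rfl⟩ X' x s)
      simpa only [MonObj.mul_comp, Category.assoc] using this
    · obtain ⟨y, rfl⟩ := hcl X g hg
      obtain ⟨z, hz⟩ := (hC.2.2 X y).2 fun X' x s => by
        rw [← cancel_mono iH, MonObj.mul_comp, MonObj.mul_comp, Category.assoc, Category.assoc]
        exact hg X' x s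
      exact ⟨z, by rw [← Category.assoc, hz]⟩
  · rintro ⟨hm, hmo, T, _, i, hi, hC⟩
    haveI := hm; haveI := hmo
    haveI : Mono c := mono_of_mono c iH
    haveI : IsMonHom c := isMonHom_of_points _ fun W a b => by
      rw [← cancel_mono iH, MonObj.mul_comp (a ≫ c), Category.assoc, Category.assoc, Category.assoc, MonObj.mul_comp]
    have hi' := (Reductive2.MaxTorus.isMaximalTorus_iff i).1 hi
    haveI := hi'.1; haveI := hi'.2.1
    obtain ⟨t, ht⟩ := (hC.2.2 T i).2 fun X' x h => by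
      rw [← MonObj.mul_comp, ← MonObj.mul_comp, Groth.Reductive2.torus_mul_comm hi'.2.2.1 x h]
    have hj : (t ≫ c) ≫ iH = i := by rw [Category.assoc, ht]
    haveI : Mono (t ≫ c) := mono_of_mono_fac hj
    haveI : IsMonHom (t ≫ c) := isMonHom_of_points _ fun W a b => by
      rw [← cancel_mono iH, MonObj.mul_comp (a ≫ t ≫ c), Category.assoc, Category.assoc a, Category.assoc b, hj,
        MonObj.mul_comp]
    refine ⟨inferInstance, inferInstance, T, inferInstance, t ≫ c, (Reductive2.MaxTorus.isMaximalTorus_iff _).2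
      ⟨inferInstance, inferInstance, hi'.2.2.1, fun T' _ j _ _ f hT' hf => hi'.2.2.2 T' (j ≫ iH) f hT' (by
        rw [← Category.assoc, hf, hj])⟩, inferInstance, inferInstance, fun X g => ?_⟩
    have := hC.2.2 X (g ≫ iH)
    simp only [← Category.assoc, cancel_mono] at this
    refine this.trans (forall_congr' fun X' => forall_congr' fun x => forall_congr' fun s => ?_)
    rw [← cancel_mono iH, MonObj.mul_comp, MonObj.mul_comp]
    simp only [← hj, Category.assoc]

end Groth.AlgGrp1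

end
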