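import Groth.Agent.AlgGrp1.CentreQuot

/-!
The centre of a connected algebraic group is the stabilizer of an action, so the quotient by it exists.
-/

set_option autoImplicit false
universe u

open CategoryTheory Limits MonoidalCategory CartesianMonoidalCategory MonObj GrpObj AlgebraicGeometry
open Groth.GrassRep Groth.AlgGrp1.InfConj
open scoped TensorProduct

noncomputable section

namespace Groth.AlgGrp1

variable {k : Type u} [Field k] {G : Over (Spec (CommRingCat.of k))} [GrpObj G]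

theorem cnj_of_hom {B B' : CommAlgCat.{u} k} (p : B' ⟶ B) {j : Pt B ⟶ G} {j' : Pt B' ⟶ G}
    (hp : ptMap p ≫ j' = j) (R : CommAlgCat.{u} k) (g : Pt R ⟶ G)
    (h : cnj j' R g = ptMap (inR R B') ≫ j') : cnj j R g = ptMap (inR R B) ≫ j := by
  let q : tens R B' ⟶ tens R B := CommAlgCat.ofHom (Algebra.TensorProduct.map (AlgHom.id k R) p.hom)
  have e1 : inL R B' ≫ q = inL R B := by ext x; simp [q]
  have e2 : inR R B' ≫ q = p ≫ inR R B := by ext x; simp [q]
  have h' := congrArg (ptMap q ≫ ·) h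
  simp only [cnj, MonObj.comp_mul, GrpObj.comp_inv, ← Category.assoc, ← GrassRep.ptMap_comp, e1, e2] at h'
  rw [GrassRep.ptMap_comp, Category.assoc, hp] at h'
  exact h'

/-- Two open pieces where two maps agree: they agree on the union of all such pieces. -/
theorem exists_agree_open {X Y : Scheme.{u}} (f g : X ⟶ Y) :
    ∃ V : X.Opens, V.ι ≫ f = V.ι ≫ g ∧ ∀ {U : Scheme.{u}} (u : U ⟶ X) [IsOpenImmersion u],
      u ≫ f = u ≫ g → Set.range u ⊆ (V : Set X) := by
  refine ⟨⨆ O : {O : X.Opens // O.ι ≫ f = O.ι ≫ g}, O.1, ?_, fun {U} u _ hu => ?_⟩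
  · set V : X.Opens := ⨆ O : {O : X.Opens // O.ι ≫ f = O.ι ≫ g}, O.1 with hV
    refine Scheme.Cover.hom_ext (V.toScheme.openCoverOfIsOpenCover
      (fun O : {O : X.Opens // O.ι ≫ f = O.ι ≫ g} => V.ι ⁻¹ᵁ O.1) (eq_top_iff.2 fun x _ => ?_)) _ _ fun O => ?_
    · obtain ⟨O, hO⟩ := TopologicalSpace.Opens.mem_iSup.1 (show V.ι x ∈ V from x.2)
      exact TopologicalSpace.Opens.mem_iSup.2 ⟨O, hO⟩
    · show (V.ι ⁻¹ᵁ O.1).ι ≫ V.ι ≫ f = (V.ι ⁻¹ᵁ O.1).ι ≫ V.ι ≫ g
      rw [← morphismRestrict_ι_assoc, ← morphismRestrict_ι_assoc, O.2]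
  · have h : u.opensRange.ι ≫ f = u.opensRange.ι ≫ g := by
      rw [← u.isoOpensRange_inv_comp]
      simp only [Category.assoc, hu]
    exact fun x hx => (le_iSup (fun O : {O : X.Opens // O.ι ≫ f = O.ι ≫ g} => O.1) ⟨_, h⟩) hx

section Central

variable {A : CommAlgCat.{u} k} (aU : Pt A ⟶ G) (ψ : A ⟶ CommAlgCat.of k k)

/-- A family of points centralizing all infinitesimal neighbourhoods is central, if the group is connected. -/
theorem conj_eq_snd [LocallyOfFiniteType G.hom] [QuasiCompact G.hom] [ConnectedSpace G.left]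
    [IsOpenImmersion aU.left] (hψ : ptMap ψ ≫ aU = 1)
    {Z : Over (Spec (CommRingCat.of k))} [LocallyOfFiniteType Z.hom] (z : Z ⟶ G)
    (hz : ∀ (n : ℕ) (R : CommAlgCat.{u} k) (y : Pt R ⟶ Z),
      cnj (nbIn aU ψ n) R (y ≫ z) = ptMap (inR R (nb ψ n)) ≫ nbIn aU ψ n) :
    (fst Z G ≫ z) * snd Z G * (fst Z G ≫ z)⁻¹ = snd Z G := by
  have := isSeparated_grpObj G
  have := geometricallyIrreducible_of_connected G
  set c₁ : Z ⊗ G ⟶ G := (fst Z G ≫ z) * snd Z G * (fst Z G ≫ z)⁻¹
  have hc₁ : ∀ {T : Over (Spec (CommRingCat.of k))} (w : T ⟶ Z ⊗ G),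
      w ≫ c₁ = ((w ≫ fst Z G) ≫ z) * (w ≫ snd Z G) * ((w ≫ fst Z G) ≫ z)⁻¹ := fun w => by
    simp [c₁, MonObj.comp_mul, GrpObj.comp_inv]
  obtain ⟨V, hV, hVmax⟩ := exists_agree_open c₁.left (snd Z G).left
  let s : Z ⟶ Z ⊗ G := lift (𝟙 Z) 1
  have : LocallyOfFiniteType (Z ⊗ G).hom :=
    inferInstanceAs (LocallyOfFiniteType (pullback.fst Z.hom G.hom ≫ Z.hom))
  have : IsSeparated (fst Z G).left := inferInstanceAs (IsSeparated (pullback.fst Z.hom G.hom))
  have hsf : s.left ≫ (fst Z G).left = 𝟙 _ := by rw [← Over.comp_left, lift_fst]; rfl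
  have : IsClosedImmersion (s.left ≫ (fst Z G).left) := by rw [hsf]; infer_instance
  have : IsClosedImmersion s.left := IsClosedImmersion.of_comp s.left (fst Z G).left
  -- the unit section lies in `V`
  have hclosed : ∀ z₀ : Z.left, IsClosed ({z₀} : Set Z.left) → s.left z₀ ∈ V := by
    intro z₀ hz₀
    obtain ⟨S₀, R₀, t₀, ht₀, hcov⟩ := exists_cover (Z ⊗ G)
    obtain ⟨i, y, hy⟩ := hcov (s.left z₀)
    have := ht₀ i
    let R := R₀ i
    let t : Pt R ⟶ Z ⊗ G := t₀ i
    have hyc : IsClosed ({y} : Set (Pt R).left) := by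
      have : IsClosed (t.left ⁻¹' (s.left '' {z₀})) :=
        (s.left.isClosedEmbedding.isClosedMap _ hz₀).preimage t.left.continuous
      convert this using 1
      ext y'
      simp only [Set.image_singleton, Set.mem_preimage, Set.mem_singleton_iff]
      exact ⟨fun e => e ▸ hy, fun e => t.left.isOpenEmbedding.injective (e.trans hy.symm)⟩
    let m : Ideal R := PrimeSpectrum.asIdeal y
    have hm : m.IsMaximal := (PrimeSpectrum.isClosed_singleton_iff_isMaximal y).1 hyc
    have : IsNoetherianRing R := by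
      have h : LocallyOfFiniteType (Pt R).hom := by rw [← Over.w t]; infer_instance
      have : Algebra.FiniteType k R :=
        RingHom.finiteType_algebraMap.1 ((HasRingHomProperty.Spec_iff (P := @LocallyOfFiniteType)).1 h)
      exact Algebra.FiniteType.isNoetherianRing k R
    -- the residue point lies on the section
    let κ : CommAlgCat.{u} k := CommAlgCat.of k (R ⧸ m)
    let πκ : R ⟶ κ := CommAlgCat.ofHom (Ideal.Quotient.mkₐ k m)
    letI : Field κ := Ideal.Quotient.field m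
    have : IsReduced (Pt κ).left := by
      have : _root_.IsReduced (CommRingCat.of κ) := inferInstanceAs (_root_.IsReduced κ)
      exact inferInstanceAs (IsReduced (Spec (CommRingCat.of κ)))
    let w₀ : Pt κ ⟶ Z ⊗ G := ptMap πκ ≫ t
    have hw₀ : ∀ q : (Pt κ).left, w₀.left q = s.left z₀ := by
      intro q
      rw [Over.comp_left, Scheme.Hom.comp_apply, ← hy]
      congr 1
      refine PrimeSpectrum.ext (hm.eq_of_le (Ideal.IsPrime.ne_top inferInstance) fun x hx => ?_).symm
      show Ideal.Quotient.mk m x ∈ q.asIdeal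
      rw [Ideal.Quotient.eq_zero_iff_mem.2 hx]
      exact zero_mem _
    have hw₁ : w₀ ≫ snd Z G = 1 := by
      let P := pullback.snd s.left w₀.left
      have : Surjective P := ⟨fun q => by
        obtain ⟨p, -, hp⟩ := Scheme.Pullback.exists_preimage_pullback (f := s.left) (g := w₀.left) z₀ q (hw₀ q).symm
        exact ⟨p, hp⟩⟩
      have := AlgebraicGeometry.isIso_of_isClosedImmersion_of_surjective P
      have e : w₀.left = (inv P ≫ pullback.fst s.left w₀.left) ≫ s.left := by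
        rw [Category.assoc, pullback.condition, IsIso.inv_hom_id_assoc]
      let l : Pt κ ⟶ Z := Over.homMk (inv P ≫ pullback.fst s.left w₀.left) (by
        rw [← Over.w s, ← Category.assoc, ← e, Over.w w₀])
      rw [show w₀ = l ≫ s from Over.OverMorphism.ext e, Category.assoc, lift_snd, MonObj.comp_one]
    -- agreement on all infinitesimal neighbourhoods
    obtain ⟨r, hr, hrr⟩ := exists_localization_of_agree (k := k) (R := R) t c₁ (snd Z G) m (fun n => by
      let Q : CommAlgCat.{u} k := CommAlgCat.of k (R ⧸ m ^ (n + 1))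
      let π : R ⟶ Q := CommAlgCat.ofHom (Ideal.Quotient.mkₐ k _)
      let w : Pt Q ⟶ Z ⊗ G := ptMap π ≫ t
      show ptMap π ≫ t ≫ c₁ = ptMap π ≫ t ≫ snd Z G
      rw [← Category.assoc, ← Category.assoc]
      let ρ : Q ⟶ κ := CommAlgCat.ofHom (Ideal.Quotient.factorₐ k (Ideal.pow_le_self (Nat.succ_ne_zero n)))
      have hρ : ptMap ρ ≫ w = w₀ := by
        simp only [w, w₀]
        rw [← Category.assoc, ← GrassRep.ptMap_comp]
        congr 2
      have hker : RingHom.ker ρ.hom ≤ (m.map (Ideal.Quotient.mk (m ^ (n + 1)))) := by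
        intro x hx
        obtain ⟨x, rfl⟩ := Ideal.Quotient.mk_surjective x
        exact Ideal.mem_map_of_mem _ (Ideal.Quotient.eq_zero_iff_mem.1 hx)
      have hnil : (m.map (Ideal.Quotient.mk (m ^ (n + 1)))) ^ (n + 1) = ⊥ := by
        rw [← Ideal.map_pow, Ideal.map_quotient_self]
      have hsρ : Function.Surjective ρ.hom := Ideal.Quotient.factor_surjective (Ideal.pow_le_self (Nat.succ_ne_zero n))
      have := surjective_ptMap ρ hsρ fun x hx =>
        mem_nilradical.2 ⟨n + 1, by rw [← Ideal.mem_bot, ← hnil]; exact Ideal.pow_mem_pow (hker hx) _⟩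
      have h1 : ptMap ρ ≫ (w ≫ snd Z G) = 1 := by rw [← Category.assoc, hρ, hw₁]
      let uκ : CommAlgCat.of k k ⟶ κ := CommAlgCat.ofHom (Algebra.ofId k κ)
      obtain ⟨χ, hχ⟩ := exists_pt_lift aU (w ≫ snd Z G) (by
        rintro _ ⟨q, rfl⟩
        obtain ⟨q', rfl⟩ := (ptMap ρ).left.surjective q
        rw [← Scheme.Hom.comp_apply, ← Over.comp_left, h1, ← MonObj.comp_one (ptMap uκ), ← hψ, ← Category.assoc,
          Over.comp_left, Scheme.Hom.comp_apply]
        exact ⟨_, rfl⟩)
      have : Mono aU := Over.mono_of_mono_left _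
      have hsχ : χ ≫ ρ = ψ ≫ uκ := by
        have h := congrArg CommaMorphism.left ((cancel_mono aU).1
          (show ptMap (χ ≫ ρ) ≫ aU = ptMap (ψ ≫ uκ) ≫ aU by
            rw [GrassRep.ptMap_comp, GrassRep.ptMap_comp, Category.assoc, Category.assoc, hχ, h1, hψ, MonObj.comp_one]))
        ext x
        exact congr($(Spec.map_injective h).hom x)
      have hχ0 : ∀ x ∈ (RingHom.ker ψ.hom) ^ (n + 1), χ.hom x = 0 := by
        have hle : RingHom.ker ψ.hom ≤ (m.map (Ideal.Quotient.mk (m ^ (n + 1)))).comap χ.hom.toRingHom :=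
          fun x hx => hker (by
            have := congr($(hsχ).hom x)
            exact this.trans (by simp [RingHom.mem_ker.1 hx]))
        intro x hx
        have h := Ideal.pow_right_mono (Ideal.map_le_iff_le_comap.2 hle) (n + 1)
          ((Ideal.map_pow χ.hom.toRingHom (RingHom.ker ψ.hom) (n + 1)) ▸ Ideal.mem_map_of_mem _ hx)
        rw [hnil] at h
        exact Ideal.mem_bot.1 h
      let χ' : nb ψ n ⟶ Q := CommAlgCat.ofHom (Ideal.Quotient.liftₐ _ χ.hom hχ0)
      have hχ' : ptMap χ' ≫ nbIn aU ψ n = w ≫ snd Z G := by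
        rw [← hχ, ← Category.assoc, ← GrassRep.ptMap_comp]
        rfl
      let fold : tens Q (nb ψ n) ⟶ Q :=
        CommAlgCat.ofHom (Algebra.TensorProduct.lift (AlgHom.id k Q) χ'.hom fun _ _ => .all ..)
      have e1 : inL Q (nb ψ n) ≫ fold = 𝟙 Q := by ext x; simp [fold]
      have e2 : inR Q (nb ψ n) ≫ fold = χ' := by ext x; simp [fold]
      have h := congrArg (ptMap fold ≫ ·) (hz n Q (w ≫ fst Z G))
      have f1 : ∀ f : Pt Q ⟶ G, ptMap fold ≫ ptMap (inL Q (nb ψ n)) ≫ f = f := fun f => by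
        rw [← Category.assoc, ← GrassRep.ptMap_comp, e1, GrassRep.ptMap_id, Category.id_comp]
      have f2 : ∀ f : Pt (nb ψ n) ⟶ G, ptMap fold ≫ ptMap (inR Q (nb ψ n)) ≫ f = ptMap χ' ≫ f := fun f => by
        rw [← Category.assoc, ← GrassRep.ptMap_comp, e2]
      simp only [cnj, MonObj.comp_mul, GrpObj.comp_inv, f1, f2, hχ'] at h
      rw [hc₁, Category.assoc]
      exact h)
    let u : Pt (CommAlgCat.of k (Localization.Away r)) ⟶ Z ⊗ G :=
      specAlgMap (IsScalarTower.toAlgHom k R (Localization.Away r)) ≫ t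
    have : IsOpenImmersion (specAlgMap (IsScalarTower.toAlgHom k R (Localization.Away r))).left :=
      inferInstanceAs (IsOpenImmersion (Spec.map (CommRingCat.ofHom (algebraMap R (Localization.Away r)))))
    have : IsOpenImmersion u.left := by simp only [u, Over.comp_left]; infer_instance
    refine hVmax u.left (congrArg CommaMorphism.left (show u ≫ c₁ = u ≫ snd Z G by simpa [u] using hrr)) ?_
    obtain ⟨x, hx⟩ : (y : PrimeSpectrum R) ∈ Set.range (PrimeSpectrum.comap (algebraMap R (Localization.Away r))) := by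
      rw [PrimeSpectrum.localization_away_comap_range (Localization.Away r) r]
      exact hr
    refine ⟨x, ?_⟩
    rw [← hy]
    exact congrArg t.left hx
  have hsV : ∀ z₀ : Z.left, s.left z₀ ∈ V := by
    have := LocallyOfFiniteType.jacobsonSpace Z.hom
    intro z₀
    by_contra h
    obtain ⟨c, hc, hcc⟩ := nonempty_inter_closedPoints (Z := (s.left ⁻¹' (V : Set (Z ⊗ G).left))ᶜ) ⟨z₀, h⟩
      (V.2.preimage s.left.continuous).isClosed_compl.isLocallyClosed
    exact hc (hclosed c hcc)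
  -- products of two points of `V` cover everything
  let α : Z ⊗ (G ⊗ G) ⟶ Z ⊗ G := lift (fst _ _) (snd _ _ ≫ fst G G)
  let β : Z ⊗ (G ⊗ G) ⟶ Z ⊗ G := lift (fst _ _) (snd _ _ ≫ snd G G)
  let O3 : (Z ⊗ (G ⊗ G)).left.Opens := (α.left ⁻¹ᵁ V) ⊓ (β.left ⁻¹ᵁ V)
  let OW : Over (Spec (CommRingCat.of k)) := Over.mk (O3.ι ≫ (Z ⊗ (G ⊗ G)).hom)
  let jO : OW ⟶ Z ⊗ (G ⊗ G) := Over.homMk O3.ι rfl
  let p : OW ⟶ Z ⊗ G := jO ≫ (Z ◁ μ[G])
  have hagree : ∀ (cm : Z ⊗ (G ⊗ G) ⟶ Z ⊗ G), (∀ x ∈ O3, cm.left x ∈ V) →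
      (jO ≫ cm) ≫ c₁ = (jO ≫ cm) ≫ snd Z G := by
    intro cm hcm
    apply Over.OverMorphism.ext
    have hr : Set.range (jO ≫ cm).left ⊆ Set.range V.ι := by
      rw [Scheme.Opens.range_ι]
      rintro _ ⟨x, rfl⟩
      exact hcm _ x.2
    show (jO ≫ cm).left ≫ c₁.left = (jO ≫ cm).left ≫ (snd Z G).left
    rw [← IsOpenImmersion.lift_fac V.ι _ hr, Category.assoc, Category.assoc, hV]
  have hpeq : p ≫ c₁ = p ≫ snd Z G := by
    have ha := hagree α fun x hx => hx.1
    have hb := hagree β fun x hx => hx.2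
    simp only [α, comp_lift, hc₁, lift_fst, lift_snd, Category.assoc] at ha
    simp only [β, comp_lift, hc₁, lift_fst, lift_snd, Category.assoc] at hb
    have e1 : p ≫ fst Z G = jO ≫ fst _ _ := by simp [p]
    have e2 : p ≫ snd Z G = (jO ≫ snd _ _ ≫ fst G G) * (jO ≫ snd _ _ ≫ snd G G) := by
      simp only [p, Category.assoc, whiskerLeft_snd]
      rw [show μ[G] = fst G G * snd G G by rw [Hom.mul_def, lift_fst_snd, Category.id_comp], MonObj.comp_mul,
        MonObj.comp_mul]
    rw [hc₁, e1, e2, Category.assoc]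
    conv_rhs => rw [← ha, ← hb]
    group
  have : IsOpenImmersion jO.left := inferInstanceAs (IsOpenImmersion O3.ι)
  have : Flat μ[G].left := by
    have e : μ[G] = (Groth.GrpschAbsch.shearR (𝟙 G)).hom ≫ fst G G := by
      rw [Groth.GrpschAbsch.shearR_hom_fst, MonoidalCategory.whiskerLeft_id, Category.id_comp]
    have : Flat (fst G G).left := inferInstanceAs (Flat (pullback.fst G.hom G.hom))
    rw [e, Over.comp_left]
    infer_instance
  have : Flat (Z ◁ μ[G]).left :=
    MorphismProperty.of_isPullback (P := @Flat) (isPullback_whiskerLeft Z μ[G]) inferInstance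
  have : Flat p.left := by simp only [p, Over.comp_left]; infer_instance
  have : LocallyOfFiniteType (G ⊗ G).hom :=
    inferInstanceAs (LocallyOfFiniteType (pullback.fst G.hom G.hom ≫ G.hom))
  have : LocallyOfFiniteType (Z ⊗ (G ⊗ G)).hom :=
    inferInstanceAs (LocallyOfFiniteType (pullback.fst Z.hom (G ⊗ G).hom ≫ Z.hom))
  have : LocallyOfFiniteType OW.hom := inferInstanceAs (LocallyOfFiniteType (O3.ι ≫ (Z ⊗ (G ⊗ G)).hom))
  have hlfp : LocallyOfFinitePresentation p.left := lfp_left p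
  have : Surjective p.left := ⟨Set.range_eq_univ.1 (Set.eq_univ_of_univ_subset
    (subset_of_points (K := AlgebraicClosure k) _ isOpen_univ.isLocallyClosed p.left.isOpenMap.isOpen_range fun w _ => by
      let κ := w ≫ fst Z G
      let g := w ≫ snd Z G
      let iv : Z ⊗ G ⟶ Z ⊗ G := lift (fst Z G) (snd Z G)⁻¹
      let φ : (Z ⊗ G) ⊗ G ⟶ Z ⊗ G := lift (fst _ _ ≫ fst Z G) ((fst _ _ ≫ snd Z G) * snd _ _)
      let W : ((Z ⊗ G) ⊗ G).left.Opens := φ.left ⁻¹ᵁ (V ⊓ iv.left ⁻¹ᵁ V)
      have hφ : ∀ (a : specAlg k (AlgebraicClosure k) ⟶ G) (v : specAlg k (AlgebraicClosure k) ⟶ G),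
          lift (lift κ a) v ≫ φ = lift κ (a * v) := fun a v => by
        simp [φ, MonObj.comp_mul]
      have hunit : ∀ κ' : specAlg k (AlgebraicClosure k) ⟶ Z, ptOf (lift κ' 1) ∈ V := fun κ' => by
        rw [show lift κ' (1 : specAlg k (AlgebraicClosure k) ⟶ G) = κ' ≫ s by simp [s, comp_lift, MonObj.comp_one],
          ptOf_comp]
        exact hsV _
      have hiv : ∀ a : specAlg k (AlgebraicClosure k) ⟶ G, lift κ a ≫ iv = lift κ a⁻¹ := fun a => by
        simp [iv, GrpObj.comp_inv]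
      have hW : ∀ a v, lift κ (a * v) ≫ 𝟙 _ = lift κ (1 : specAlg k (AlgebraicClosure k) ⟶ G) →
          ptOf (lift (lift κ a) v) ∈ W := fun a v e => by
        show φ.left (ptOf _) ∈ V ⊓ iv.left ⁻¹ᵁ V
        rw [← ptOf_comp, hφ, show lift κ (a * v) = lift κ (1 : specAlg k (AlgebraicClosure k) ⟶ G) by simpa using e]
        refine ⟨hunit κ, show iv.left (ptOf _) ∈ V from ?_⟩
        rw [← ptOf_comp, hiv, inv_one]
        exact hunit κ
      obtain ⟨u, hu, hu'⟩ := exists_common_slice W (lift κ 1) (lift κ g⁻¹) 1 g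
        (hW 1 1 (by simp)) (hW g⁻¹ g (by simp))
      have hu₁ : ptOf (lift κ u) ∈ V := by
        have := (show φ.left (ptOf _) ∈ V ⊓ iv.left ⁻¹ᵁ V from hu).1
        rwa [← ptOf_comp, hφ, _root_.one_mul] at this
      have hu₂ : ptOf (lift κ (u⁻¹ * g)) ∈ V := by
        have : iv.left (φ.left (ptOf _)) ∈ V := (show φ.left (ptOf _) ∈ V ⊓ iv.left ⁻¹ᵁ V from hu').2
        rwa [← ptOf_comp, hφ, ← ptOf_comp, hiv, _root_.mul_inv_rev, _root_.inv_inv] at this
      let P := lift κ (lift u (u⁻¹ * g))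
      have hP : ptOf P ∈ O3 := by
        refine ⟨show α.left (ptOf P) ∈ V from ?_, show β.left (ptOf P) ∈ V from ?_⟩
        · rw [← ptOf_comp, show P ≫ α = lift κ u by simp [P, α]]
          exact hu₁
        · rw [← ptOf_comp, show P ≫ β = lift κ (u⁻¹ * g) by simp [P, β]]
          exact hu₂
      refine ⟨⟨ptOf P, hP⟩, ?_⟩
      show (Z ◁ μ[G]).left (ptOf P) = ptOf w
      rw [← ptOf_comp]
      congr 1
      apply CartesianMonoidalCategory.hom_ext
      · simp [P, κ]
      · simp only [P, Category.assoc, whiskerLeft_snd, lift_snd_assoc]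
        rw [← Hom.mul_def, mul_inv_cancel_left]))⟩
  exact (isCover p).cancel hpeq

end Central

end Groth.AlgGrp1
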