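import Groth.Agent.AlgGrp1.CentreAction

/-!
The centre of a connected algebraic group is a closed subgroup and the quotient by it is affine.
-/

set_option autoImplicit false
universe u

open CategoryTheory Limits MonoidalCategory CartesianMonoidalCategory MonObj GrpObj AlgebraicGeometry
open Groth.GrassRep Groth.AlgGrp1.InfConj

noncomputable section

namespace Groth.AlgGrp1

variable {k : Type u} [Field k]

/-- The centre of a connected algebraic group is a closed subgroup with affine quotient. -/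
theorem exists_centre_quotient (G : Over (Spec (CommRingCat.of k))) [GrpObj G] [LocallyOfFiniteType G.hom]
    [QuasiCompact G.hom] [ConnectedSpace G.left] :
    ∃ (Z : Over (Spec (CommRingCat.of k))) (_ : GrpObj Z) (i : Z ⟶ G), IsMonHom i ∧ IsClosedImmersion i.left ∧
      Red.IsCentre i ∧ (∀ (T : Over (Spec (CommRingCat.of k))) (g : T ⟶ G),
        (∃ z : T ⟶ Z, z ≫ i = g) ↔ ∀ (T' : Over (Spec (CommRingCat.of k))) (t : T' ⟶ T) (h : T' ⟶ G),
          (t ≫ g) * h = h * (t ≫ g)) ∧
      ∃ (Q : Over (Spec (CommRingCat.of k))) (_ : GrpObj Q) (q : G ⟶ Q), IsMonHom q ∧ IsAffine Q.left ∧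
        LocallyOfFiniteType Q.hom ∧ QuasiCompact Q.hom ∧ Flat q.left ∧ Surjective q.left ∧ AlgGrp.IsKernel i q := by
  classical
  have := isSeparated_grpObj G
  obtain ⟨A, aU, ψ, hU, hA, hψ⟩ := exists_chart_one (G := G)
  have hfin : ∀ n, Module.Finite k (nb ψ n) := by
    intro n
    have hm : (RingHom.ker ψ.hom).IsMaximal :=
      RingHom.ker_isMaximal_of_surjective ψ.hom fun c => ⟨algebraMap k A c, ψ.hom.commutes c⟩
    have : IsNoetherianRing A := Algebra.FiniteType.isNoetherianRing k A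
    have : IsArtinianRing (A ⧸ (RingHom.ker ψ.hom) ^ (n + 1)) := by
      refine isArtinianRing_iff_isNoetherianRing_krullDimLE_zero.2 ⟨inferInstance,
        Ring.krullDimLE_zero_iff.2 fun I hI => ?_⟩
      have hle : RingHom.ker ψ.hom ≤ I.comap (Ideal.Quotient.mk _) :=
        Ideal.IsPrime.le_of_pow_le (n := n + 1) fun r hr => by
          rw [Ideal.mem_comap, Ideal.Quotient.eq_zero_iff_mem.2 hr]
          exact zero_mem _
      have h2 := Ideal.map_eq_top_or_isMaximal_of_surjective (Ideal.Quotient.mk ((RingHom.ker ψ.hom) ^ (n + 1))) Ideal.Quotient.mk_surjective hm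
      rw [(congrArg (Ideal.map (Ideal.Quotient.mk ((RingHom.ker ψ.hom) ^ (n + 1))))
        (hm.eq_of_le (Ideal.IsPrime.ne_top inferInstance) hle)).trans
        (Ideal.map_comap_of_surjective _ Ideal.Quotient.mk_surjective _)] at h2
      exact h2.resolve_left hI.ne_top
    have : Algebra.FiniteType k (A ⧸ (RingHom.ker ψ.hom) ^ (n + 1)) :=
      .of_surjective (Ideal.Quotient.mkₐ k _) Ideal.Quotient.mk_surjective
    exact Module.finite_of_isArtinianRing k (A ⧸ (RingHom.ker ψ.hom) ^ (n + 1))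
  -- the actions and their stabilizers
  have hact : ∀ n, ∃ (X : Over (Spec (CommRingCat.of k))) (act : AlgGrp.Action G X)
      (o : 𝟙_ (Over (Spec (CommRingCat.of k))) ⟶ X) (Zn : Over (Spec (CommRingCat.of k))) (c : Zn ⟶ G),
      IsProper X.hom ∧ IsClosedImmersion c.left ∧
      (∀ (T : Over (Spec (CommRingCat.of k))) (g : T ⟶ G),
        (∃ e, e ≫ c = g) ↔ g ≫ act.orbitMap o = toUnit T ≫ o) ∧
      ∀ (R : CommAlgCat.{u} k) (g : Pt R ⟶ G),
        (∃ e, e ≫ c = g) ↔ cnj (nbIn aU ψ n) R g = ptMap (inR R (nb ψ n)) ≫ nbIn aU ψ n := by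
    intro n
    have := hfin n
    have := mono_nbIn aU ψ n
    obtain ⟨X, act, o, hX, hst⟩ := exists_centralizerAction (nbIn aU ψ n) (exists_conj_lift aU ψ hψ n)
    have : IsClosedImmersion o.left := by
      have : IsClosedImmersion (o.left ≫ X.hom) := by
        rw [Over.w o]
        exact inferInstanceAs (IsClosedImmersion (𝟙 _))
      exact IsClosedImmersion.of_comp o.left X.hom
    obtain ⟨Zn, c, hc, hZn⟩ := Groth.Agf.exists_preimage (act.orbitMap o) o
    have hZn' : ∀ (T : Over (Spec (CommRingCat.of k))) (g : T ⟶ G),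
        (∃ e, e ≫ c = g) ↔ g ≫ act.orbitMap o = toUnit T ≫ o := fun T g => (hZn T g).trans
      ⟨fun ⟨x, hx⟩ => by rw [hx, toUnit_unique x (toUnit T)], fun h => ⟨toUnit T, h⟩⟩
    exact ⟨X, act, o, Zn, c, hX, hc, hZn', fun R g => by rw [hZn', comp_orbit, hst]⟩
  choose X act o Zn c hX hc hZT hZR using hact
  have hmono : ∀ n, Mono (c n) := fun n => Over.mono_of_mono_left _
  have hdec : ∀ n, ∃ e, e ≫ c n = c (n + 1) := fun n => exists_factor_of_pts (c n) (c (n + 1)) fun R t => by
    have h := (hZR (n + 1) R (t ≫ c (n + 1))).1 ⟨t, rfl⟩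
    refine (hZR n R _).2 (cnj_of_hom (CommAlgCat.ofHom (Ideal.Quotient.factorₐ k (Ideal.pow_le_pow_right (Nat.le_succ _)))) ?_ R _ h)
    simp only [nbIn]
    rw [← Category.assoc, ← GrassRep.ptMap_comp]
    rfl
  have := isLocallyNoetherian_left G
  have : CompactSpace G.left := QuasiCompact.compactSpace_of_compactSpace G.hom
  have : AlgebraicGeometry.IsNoetherian G.left := ⟨⟩
  have : WellFoundedGT G.left.IdealSheafData := Groth.PropsBasic2.wellFoundedGT_idealSheafData _
  obtain ⟨N, hN⟩ := WellFoundedGT.monotone_chain_condition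
    (⟨fun n => (c n).left.ker, monotone_nat_of_le_succ fun n => by
      obtain ⟨e, he⟩ := hdec n
      show (c n).left.ker ≤ (c (n + 1)).left.ker
      rw [← he, Over.comp_left]
      exact Scheme.Hom.le_ker_comp _ _⟩ : ℕ →o G.left.IdealSheafData)
  have hall : ∀ n, ∃ e, e ≫ c n = c N := by
    intro n
    rcases le_total n N with h | h
    · clear hN
      induction N, h using Nat.le_induction with
      | base => exact ⟨𝟙 _, Category.id_comp _⟩
      | succ m _ ih =>
        obtain ⟨e, he⟩ := ih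
        obtain ⟨e', he'⟩ := hdec m
        exact ⟨e' ≫ e, by rw [Category.assoc, he, he']⟩
    · have hle : (c n).left.ker ≤ (c N).left.ker := (hN n h).ge
      let l : Zn N ⟶ Zn n := Over.homMk (IsClosedImmersion.lift (c n).left (c N).left hle) (by
        rw [← Over.w (c n), IsClosedImmersion.lift_fac_assoc, Over.w (c N)])
      exact ⟨l, Over.OverMorphism.ext (IsClosedImmersion.lift_fac _ _ _)⟩
  have : LocallyOfFiniteType (Zn N).hom := by rw [← Over.w (c N)]; infer_instance
  have : QuasiCompact (Zn N).hom := by rw [← Over.w (c N)]; infer_instance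
  have hconj := conj_eq_snd aU ψ hψ (c N) fun n R y => by
    obtain ⟨e, he⟩ := hall n
    exact (hZR n R (y ≫ c N)).1 ⟨y ≫ e, by rw [Category.assoc, he]⟩
  have hcomm : ∀ {T : Over (Spec (CommRingCat.of k))} (y : T ⟶ Zn N) (h : T ⟶ G), (y ≫ c N) * h = h * (y ≫ c N) := by
    intro T y h
    have := congrArg (lift y h ≫ ·) hconj
    simp only [MonObj.comp_mul, GrpObj.comp_inv, lift_fst_assoc, lift_snd] at this
    exact mul_inv_eq_iff_eq_mul.1 this
  have hZ : ∀ (T : Over (Spec (CommRingCat.of k))) (g : T ⟶ G),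
      (∃ z : T ⟶ Zn N, z ≫ c N = g) ↔ ∀ (T' : Over (Spec (CommRingCat.of k))) (t : T' ⟶ T) (h : T' ⟶ G),
          (t ≫ g) * h = h * (t ≫ g) := by
    intro T g
    refine ⟨?_, fun hg => exists_factor_of_pts (c N) g fun R t => (hZR N R _).2 ?_⟩
    · rintro ⟨z, rfl⟩ T' t h
      rw [← Category.assoc]
      exact hcomm _ _
    · rw [cnj_eq_iff, ← Category.assoc]
      exact hg _ _ _
  obtain ⟨_, _⟩ := Groth.Agf.exists_grpObj_of_subgroup (c N)
    (fun T g => ∀ (T' : Over (Spec (CommRingCat.of k))) (t : T' ⟶ T) (h : T' ⟶ G), (t ≫ g) * h = h * (t ≫ g)) hZ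
    (fun T T' t h => by simp [MonObj.comp_one])
    (fun T a b ha hb T' t h => by
      rw [MonObj.comp_mul, _root_.mul_assoc, hb, ← _root_.mul_assoc, ha, _root_.mul_assoc])
    (fun T a ha T' t h => by
      rw [GrpObj.comp_inv, inv_mul_eq_iff_eq_mul, ← _root_.mul_assoc, ha, mul_inv_cancel_right])
  have hmon : IsMonHom (c N) := ‹_›
  have hC : Red.IsCentre (c N) := ⟨hmon, hmono N, fun T g => (hZ T g).trans
    ⟨fun h T' t y => by simpa using h T' t y, fun h T' t y => by simpa using h T' t y⟩⟩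
  -- the quotient
  have hGo : IsPullback (c N) (toUnit (Zn N)) ((act N).orbitMap (o N)) (o N) := by
    have hw := (hZT N _ (c N)).1 ⟨𝟙 _, Category.id_comp _⟩
    have hf : ∀ s : Limits.PullbackCone ((act N).orbitMap (o N)) (o N), ∃ w : s.pt ⟶ Zn N, w ≫ c N = s.fst :=
      fun s => (hZT N _ s.fst).2 (by rw [s.condition, toUnit_unique s.snd (toUnit _)])
    choose f hf using hf
    exact ⟨⟨hw⟩, ⟨Limits.PullbackCone.IsLimit.mk hw f hf (fun s => toUnit_unique _ _)
      fun s m hm _ => by rw [← cancel_mono (c N), hm, hf]⟩⟩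
  have := hX N
  obtain ⟨Q, b, x, j, -, -, -, hqc, ⟨hlft, hfl, hs, hp⟩, -⟩ := exists_isQuotient_stabilizer (act N) (o N) (c N) hGo
  have hnor : AlgGrp.IsNormalHom (c N) := fun T g n => ⟨n, by rw [← hcomm n g, mul_inv_cancel_right]⟩
  obtain ⟨_, hq, hker⟩ := exists_grpObj_quotient (c N) hnor (b.orbitMap x) (isCover _) fun T u v => by
    constructor
    · intro h
      refine ⟨hp.lift u v h ≫ snd _ _, ?_⟩
      have e := congrArg (hp.lift u v h ≫ ·) (show (G ◁ c N) ≫ μ[G] = fst G (Zn N) * (snd G (Zn N) ≫ c N) by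
        rw [Hom.mul_def]
        congr 1)
      refine ((hp.lift_snd u v h).symm.trans e).trans ?_
      rw [MonObj.comp_mul, hp.lift_fst, ← Category.assoc]
    · rintro ⟨n, rfl⟩
      have e := congrArg (lift u n ≫ ·) hp.w
      simp only [← Category.assoc, lift_fst] at e
      rw [e]
      simp [lift_whiskerLeft, ← Hom.mul_def]
  have hk : AlgGrp.IsKernel (c N) (b.orbitMap x) :=
    IsKernel.mk' (hmono N) fun T g => (hker T g).symm
  exact ⟨Zn N, _, c N, hmon, hc N, hC, hZ, Q, _, b.orbitMap x, hq,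
    isAffine_quotient_centre G hC hk, hlft, hqc, hfl, hs, hk⟩

end Groth.AlgGrp1
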