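import Groth.Agent.FlatMorOne.ArtinianFlat
import Groth.Agent.FlatMorOne.FlatLocusNoeth
import Mathlib

/-!
An injective ring map of finite type `A → B`, `A` Noetherian, with `B ⊗[A] B` flat over `B`, is flat on
a nonempty principal open of `Spec B`.
-/

set_option autoImplicit false
universe u

open scoped TensorProduct

namespace Groth.AlgGrp1

theorem exists_flat_away_of_tensor_self_flat {A B : Type u} [CommRing A] [CommRing B] [Algebra A B]
    [IsNoetherianRing A] [Algebra.FiniteType A B] [Nontrivial A]
    (hinj : Function.Injective (algebraMap A B)) [hflat : Module.Flat B (B ⊗[A] B)] :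
    ∃ b : B, ¬ IsNilpotent b ∧ Module.Flat A (Localization.Away b) := by
  obtain ⟨p, hp⟩ := Ideal.nonempty_minimalPrimes (I := (⊥ : Ideal A)) bot_ne_top
  have : p.IsPrime := hp.1.1
  obtain ⟨q, hq, hqp⟩ := Ideal.exists_comap_eq_of_mem_minimalPrimes_of_injective hinj p hp
  let Ap := Localization.AtPrime p
  let Bp := Ap ⊗[A] B
  let : Algebra B Bp := Algebra.TensorProduct.rightAlgebra
  have : IsScalarTower A B Bp := Algebra.TensorProduct.right_isScalarTower
  -- `Bp` is flat over `A`
  have hne : IsNilpotent (IsLocalRing.maximalIdeal Ap) := by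
    have : Ring.KrullDimLE 0 Ap := by
      rw [Ring.krullDimLE_zero_iff]
      intro P hP
      have hmem := (IsLocalization.AtPrime.orderIsoOfPrime Ap p ⟨P, hP⟩)
      have hle : P.comap (algebraMap A Ap) ≤ p := by
        have := IsLocalRing.le_maximalIdeal hP.ne_top
        exact (Ideal.comap_mono this).trans (le_of_eq (Localization.AtPrime.under_maximalIdeal (I := p)))
      have heq : P.comap (algebraMap A Ap) = p :=
        le_antisymm hle (hp.2 ⟨inferInstance, bot_le⟩ hle)
      have : P = IsLocalRing.maximalIdeal Ap := by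
        rw [← IsLocalization.map_under p.primeCompl Ap P, show P.under A = p from heq,
          Localization.AtPrime.map_eq_maximalIdeal]
      rw [this]
      infer_instance
    have : IsArtinianRing Ap := isArtinianRing_iff_krullDimLE_zero.2 this
    rw [← IsLocalRing.jacobson_eq_maximalIdeal ⊥ bot_ne_top]
    exact IsArtinianRing.isNilpotent_jacobson_bot
  have hinjp : Function.Injective (algebraMap Ap Bp) := by
    have h1 : Function.Injective (LinearMap.lTensor Ap (Algebra.linearMap A B)) :=
      Module.Flat.lTensor_preserves_injective_linearMap _ hinj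
    intro x y h
    have e : ∀ z : Ap, algebraMap Ap Bp z = LinearMap.lTensor Ap (Algebra.linearMap A B) (z ⊗ₜ[A] 1) := fun z => by
      simp [Bp]
      rfl
    rw [e, e] at h
    exact (TensorProduct.rid A Ap).symm.injective (h1 h)
  have h1 : Module.Flat Bp (Bp ⊗[B] (B ⊗[A] B)) := inferInstance
  have h2 : Module.Flat Bp (Bp ⊗[A] B) :=
    Module.Flat.of_linearEquiv (TensorProduct.AlgebraTensorModule.cancelBaseChange A B Bp Bp B).symm
  have h3 : Module.Flat Bp (Bp ⊗[Ap] Bp) :=
    Module.Flat.of_linearEquiv (TensorProduct.AlgebraTensorModule.cancelBaseChange A Ap Bp Bp B)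
  have : Module.Free Ap Bp := Groth.FlatMorOne.free_of_injective_of_flat_baseChange hne hinjp Bp
  have hAB : Module.Flat A Bp := Module.Flat.trans A Ap Bp
  -- so is `B` localized at `q`
  let Bq := Localization.AtPrime q
  have : IsLocalization (Algebra.algebraMapSubmonoid B p.primeCompl) Bp := IsLocalization.tensorRight _ _
  have hle : Algebra.algebraMapSubmonoid B p.primeCompl ≤ q.primeCompl := by
    rintro _ ⟨x, hx, rfl⟩ hxq
    exact hx (hqp ▸ hxq : x ∈ p)
  let : Algebra Bp Bq := (IsLocalization.lift (M := Algebra.algebraMapSubmonoid B p.primeCompl)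
    (g := algebraMap B Bq) fun y => IsLocalization.map_units (M := q.primeCompl) Bq ⟨y, hle y.2⟩).toAlgebra
  have : IsScalarTower B Bp Bq := IsScalarTower.of_algebraMap_eq fun x => (IsLocalization.lift_eq _ x).symm
  have : IsScalarTower A Bp Bq := IsScalarTower.to₁₃₄ A B Bp Bq
  have : IsLocalization (Algebra.algebraMapSubmonoid Bp q.primeCompl) Bq :=
    IsLocalization.isLocalization_of_submonoid_le _ _ (Algebra.algebraMapSubmonoid B p.primeCompl) _ hle
  have : Module.Flat Bp Bq := IsLocalization.flat Bq (Algebra.algebraMapSubmonoid Bp q.primeCompl)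
  have hBq : Module.Flat A Bq := Module.Flat.trans A Bp Bq
  -- openness
  have hopen := Groth.FlatMorOne.isOpen_flatLocus_of_isNoetherianRing (R := A) (S := B) (M := B)
  obtain ⟨_, ⟨b, rfl⟩, hqb, hsub⟩ := PrimeSpectrum.isTopologicalBasis_basic_opens.exists_subset_of_mem_open
    (show (⟨q, hq⟩ : PrimeSpectrum B) ∈ {q : PrimeSpectrum B | Module.Flat A (LocalizedModule q.asIdeal.primeCompl B)}
      from hBq) hopen
  refine ⟨b, fun h => hqb (hq.mem_of_pow_mem _ (h.choose_spec ▸ q.zero_mem)), ?_⟩
  refine Module.flat_of_isLocalized_maximal (R := A) (Localization.Away b) (Localization.Away b)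
    (fun P _ => Localization.AtPrime P) (fun P _ => Algebra.linearMap _ _) fun P hP => ?_
  have := IsLocalization.isLocalization_isLocalization_atPrime_isLocalization (R := B)
    (Submonoid.powers b) (S := Localization.Away b) (T := Localization.AtPrime P) P
  let P' := P.under B
  have hP' : (⟨P', inferInstance⟩ : PrimeSpectrum B) ∈ PrimeSpectrum.basicOpen b := fun h =>
    hP.ne_top (Ideal.eq_top_of_isUnit_mem P h (IsLocalization.Away.algebraMap_isUnit b))
  have : Module.Flat A (Localization.AtPrime P') := hsub hP'
  exact Module.Flat.of_linearEquiv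
    ((IsLocalization.algEquiv P'.primeCompl (Localization.AtPrime P) (Localization.AtPrime P')).restrictScalars A).toLinearEquiv

end Groth.AlgGrp1
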