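import Groth.Prelude.Def_Frob
import Groth.Agent.Misc8.FrobRoot
import Groth.Agent.Variety2.Frobenius
import Mathlib.AlgebraicGeometry.Noetherian
import Mathlib.AlgebraicGeometry.Morphisms.Flat
import Mathlib.AlgebraicGeometry.Morphisms.Smooth

/-!
# Powers of the absolute Frobenius
-/

set_option autoImplicit false

universe u

open CategoryTheory CategoryTheory.Limits AlgebraicGeometry TopologicalSpace

noncomputable section

namespace Groth.AlgGrp1.FrobPow

variable (X : Scheme.{u}) (p : ℕ) [Fact p.Prime] [FrobSch.IsCharP X p]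

/-- The `r`-th power of the absolute Frobenius. -/
def Fp : ℕ → (X ⟶ X)
  | 0 => 𝟙 X
  | r + 1 => Fp r ≫ FrobSch.frob X p

@[simp] theorem Fp_zero : Fp X p 0 = 𝟙 X := rfl

@[simp] theorem Fp_succ (r : ℕ) : Fp X p (r + 1) = Fp X p r ≫ FrobSch.frob X p := rfl

@[simp] theorem Fp_apply (r : ℕ) (x : X) : Fp X p r x = x := by
  induction r with
  | zero => rfl
  | succ r ih => simp [ih]

variable {X} in
theorem Fp_comp {Y : Scheme.{u}} [FrobSch.IsCharP Y p] (f : X ⟶ Y) (r : ℕ) :
    Fp X p r ≫ f = f ≫ Fp Y p r := by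
  induction r with
  | zero => simp
  | succ r ih => rw [Fp_succ, Fp_succ, Category.assoc, FrobSch.frob_comp p f, reassoc_of% ih]

theorem app_eq_zero_of_pow : ∀ (r : ℕ) (U : X.Opens) (s : Γ(X, U)), s ^ p ^ r = 0 →
    (Fp X p r).app U s = 0
  | 0, U, s, hs => by
    rw [pow_zero, pow_one] at hs
    rw [hs, map_zero]
  | r + 1, U, s, hs => by
    show ((Fp X p r).app (FrobSch.frob X p ⁻¹ᵁ U)) ((FrobSch.frob X p).app U s) = 0
    rw [FrobSch.frob_app]
    refine app_eq_zero_of_pow r U _ ?_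
    rw [← pow_mul, mul_comm, ← pow_succ]
    exact hs

theorem exists_forall_stalk_pow_eq_zero (Y : Scheme.{u}) [IsLocallyNoetherian Y] [CompactSpace Y] :
    ∃ N : ℕ, ∀ (x : Y) (t : Y.presheaf.stalk x), IsNilpotent t → t ^ N = 0 := by
  classical
  obtain ⟨c, hc⟩ := isCompact_univ.elim_finite_subcover (fun U : Y.affineOpens => (U.1 : Set Y))
    (fun U => U.1.2) (fun x _ => by
      obtain ⟨W, hW, hx, -⟩ := exists_isAffineOpen_mem_and_subset (x := x) (U := (⊤ : Y.Opens)) trivial
      exact Set.mem_iUnion.2 ⟨⟨W, hW⟩, hx⟩)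
  have h : ∀ U : Y.affineOpens, ∃ N : ℕ, ∀ a : Γ(Y, U.1), IsNilpotent a → a ^ N = 0 := fun U => by
    have := IsLocallyNoetherian.component_noetherian U
    obtain ⟨N, hN⟩ := IsNoetherianRing.isNilpotent_nilradical Γ(Y, U.1)
    refine ⟨N, fun a ha => ?_⟩
    have : a ^ N ∈ nilradical Γ(Y, U.1) ^ N := Ideal.pow_mem_pow ha N
    rw [hN] at this
    exact this
  choose N hN using h
  refine ⟨c.sup N, fun x t ⟨m, hm⟩ => ?_⟩
  obtain ⟨U, hU, hxU⟩ : ∃ U ∈ c, x ∈ U.1 := by simpa using hc (Set.mem_univ x)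
  refine pow_eq_zero_of_le (Finset.le_sup hU) ?_
  let := Y.presheaf.algebra_section_stalk ⟨x, hxU⟩
  have := U.2.isLocalization_stalk ⟨x, hxU⟩
  obtain ⟨⟨a, s⟩, hat⟩ := IsLocalization.surj (U.2.primeIdealOf ⟨x, hxU⟩).asIdeal.primeCompl t
  simp only at hat
  have hu := IsLocalization.map_units (Y.presheaf.stalk x) s
  have h0 : algebraMap Γ(Y, U.1) (Y.presheaf.stalk x) (a ^ (m + 1)) = 0 := by
    rw [map_pow, ← hat, mul_pow, pow_succ, hm, zero_mul, zero_mul]
  obtain ⟨w, hw⟩ := (IsLocalization.map_eq_zero_iff (U.2.primeIdealOf ⟨x, hxU⟩).asIdeal.primeCompl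
    (Y.presheaf.stalk x) _).1 h0
  have hwa : ((w : Γ(Y, U.1)) * a) ^ N U = 0 := hN U _ ⟨m + 1, by rw [mul_pow, pow_succ, mul_assoc, hw, mul_zero]⟩
  have h1 := congrArg (algebraMap Γ(Y, U.1) (Y.presheaf.stalk x)) hwa
  rw [map_zero, map_pow, map_mul, ← hat, ← mul_assoc, mul_pow, mul_pow] at h1
  have hw' := IsLocalization.map_units (Y.presheaf.stalk x) w
  rw [mul_comm _ (t ^ N U), mul_assoc, ← mul_pow, ← mul_pow] at h1
  exact (((hw'.mul hu).pow (N U)).mul_left_eq_zero).1 (by rw [← h1, ← mul_pow])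

/-- A power of Frobenius factors through any surjective closed immersion. -/
theorem exists_Fp_factor [IsLocallyNoetherian X] [CompactSpace X] {Z : Scheme.{u}} (i : Z ⟶ X)
    [IsClosedImmersion i] [Surjective i] : ∃ (r : ℕ) (ψ : X ⟶ Z), ψ ≫ i = Fp X p r := by
  obtain ⟨N, hN⟩ := exists_forall_stalk_pow_eq_zero X
  refine ⟨N, IsClosedImmersion.lift i (Fp X p N) ?_, IsClosedImmersion.lift_fac _ _ _⟩
  intro U s hs
  rw [Scheme.Hom.ker_apply, RingHom.mem_ker] at hs ⊢
  refine app_eq_zero_of_pow X p N U.1 s ?_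
  have hb : i ⁻¹ᵁ X.basicOpen s = ⊥ := by
    rw [Scheme.preimage_basicOpen, hs, Scheme.basicOpen_zero]
  have hb' : X.basicOpen s = ⊥ := by
    refine eq_bot_iff.2 fun x hx => ?_
    obtain ⟨z, rfl⟩ := i.surjective x
    exact (hb.le (show z ∈ i ⁻¹ᵁ X.basicOpen s from hx)).elim
  have hnil : IsNilpotent s := (Scheme.isNilpotent_iff_basicOpen_eq_bot_of_isCompact U.2.isCompact s).2 hb'
  refine TopCat.Presheaf.section_ext X.sheaf U.1 (s ^ p ^ N) 0 fun x hx => ?_
  show X.presheaf.germ U.1 x hx (s ^ p ^ N) = X.presheaf.germ U.1 x hx 0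
  rw [map_zero, map_pow]
  exact pow_eq_zero_of_le (Nat.lt_pow_self (Fact.out : p.Prime).one_lt).le (hN x _ (hnil.map _))

/-- Frobenius powers of schemes smooth over a perfect field are flat. -/
theorem flat_Fp {k : Type u} [Field k] [CharP k p] [PerfectRing k p] (f : X ⟶ Spec (CommRingCat.of k)) [Smooth f] :
    ∀ r, Flat (Fp X p r)
  | 0 => inferInstanceAs (Flat (𝟙 X))
  | r + 1 => by
    have := flat_Fp f r
    have : Flat (FrobSch.frob X p) := by
      refine (HasRingHomProperty.iff_exists_appLE (P := @Flat)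
        (RingHom.Flat.stableUnderComposition.stableUnderCompositionWithLocalizationAway
          RingHom.Flat.holdsForLocalizationAway).left).mpr fun x => ?_
      obtain ⟨U, hU, hxU, -⟩ := exists_isAffineOpen_mem_and_subset (x := x) (U := (⊤ : X.Opens)) trivial
      refine ⟨⟨U, hU⟩, ⟨U, hU⟩, hxU, le_rfl, ?_⟩
      rw [show (FrobSch.frob X p).appLE U U le_rfl = (FrobSch.frob X p).app U from Scheme.Hom.appLE_eq_app _]
      let φ := ((Scheme.ΓSpecIso (CommRingCat.of k)).inv ≫ f.appLE ⊤ U (by simp)).hom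
      let := φ.toAlgebra
      have hA : (p : Γ(X, U)) = 0 := FrobSch.natCast_eq_zero_app X p U
      have : Nontrivial Γ(X, U) := by
        have : Nonempty U := ⟨⟨x, hxU⟩⟩
        infer_instance
      have : CharP Γ(X, U) p := (CharP.charP_iff_prime_eq_zero Fact.out).2 hA
      have hsm : φ.Smooth := by
        have h1 := HasRingHomProperty.appLE (P := @Smooth) f ‹_› ⟨⊤, isAffineOpen_top _⟩ ⟨U, hU⟩ (by simp)
        exact RingHom.Smooth.respectsIso.2 _
          (Scheme.ΓSpecIso (CommRingCat.of k)).commRingCatIsoToRingEquiv.symm h1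
      have : Algebra.Smooth k Γ(X, U) := RingHom.smooth_algebraMap.1 hsm
      have h2 := (Groth.Misc8.FrobRoot.frobenius_smooth (p := p) k Γ(X, U)).1.flat
      exact h2
    rw [Fp_succ]; infer_instance

theorem locallyOfFiniteType_Fp {k : Type u} [Field k] [CharP k p] [PerfectRing k p]
    (f : X ⟶ Spec (CommRingCat.of k)) [LocallyOfFiniteType f] (r : ℕ) :
    LocallyOfFiniteType (Fp X p r) := by
  have : IsIso (Fp (Spec (CommRingCat.of k)) p r) := by
    induction r with
    | zero => exact inferInstanceAs (IsIso (𝟙 _))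
    | succ r ih =>
      have : IsIso (FrobSch.frob (Spec (CommRingCat.of k)) p) := by
        have hk : (p : CommRingCat.of k) = 0 := CharP.cast_eq_zero k p
        rw [← Groth.Misc8.QuietComp.specMap_powHom (CommRingCat.of k) hk]
        have : IsIso (CommRingCat.ofHom (FrobSch.powHom p (CommRingCat.of k) hk)) :=
          (ConcreteCategory.isIso_iff_bijective _).2 (PerfectRing.bijective_frobenius (R := k) (p := p))
        infer_instance
      rw [Fp_succ]; infer_instance
  have : LocallyOfFiniteType (Fp X p r ≫ f) := by rw [Fp_comp]; infer_instance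
  exact locallyOfFiniteType_of_comp _ f

end Groth.AlgGrp1.FrobPow
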