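import Groth.Agent.Hopf.GLnHom
import Groth.Agent.Misc7.AffineGroupPoints
import Groth.Prelude.Def_FrameBundle
import Groth.Prelude.Def_CoactBr2

/-!
# Affine algebraic groups embed into `GL_n`
-/

set_option autoImplicit false

universe u

open CategoryTheory Limits MonoidalCategory CartesianMonoidalCategory AlgebraicGeometry Opposite
open scoped MonObj TensorProduct

noncomputable section

namespace Groth.AlgGrp1.GLnEmbed

variable {k : Type u} [Field k]

/-- The integers in universe `u`. -/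
abbrev Z : Type u := ULift.{u} ℤ

attribute [-instance] ULift.module ULift.smulLeft ULift.mulAction ULift.smulWithZero ULift.mulActionWithZero ULift.distribMulAction ULift.distribSMul

/-- A field as an algebra over the integers in universe `u`. -/
@[instance_reducible]
def algZk : Algebra Z.{u} k := ((Int.castRingHom k).comp (ULift.ringEquiv : Z.{u} ≃+* ℤ).toRingHom).toAlgebra

attribute [local instance] algZk

theorem exists_bialgHom_bc {A : Type u} [CommRing A] [HopfAlgebra k A] [Algebra.FiniteType k A]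
    [Algebra Z.{u} A] [IsScalarTower Z.{u} k A] :
    ∃ (n : ℕ) (π : (k ⊗[Z.{u}] CoordGrp.GLn n Z.{u}) →ₐc[k] A), Function.Surjective π := by
  obtain ⟨n, p, hp⟩ := Groth.ComodLib.exists_surjective_bialgHom_GLn (k := k) (A := A)
  let M : Matrix (Fin n) (Fin n) A := fun i j => p (CoordGrp.GLn.X i j)
  have hd : M.det * p CoordGrp.GLn.Dinv = 1 := by
    show (Matrix.of fun i j => (p : CoordGrp.GLn n k →ₐ[k] A) (CoordGrp.GLn.genMat n k i j)).det * _ = 1
    have h := congrArg (p : CoordGrp.GLn n k →ₐ[k] A) (CoordGrp.GLn.det_mul_Dinv (n := n) (k := k))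
    rw [map_mul, map_one, CoordGrp.GLn.det_eq, AlgHom.map_det] at h
    exact h
  let φ : CoordGrp.GLn n Z.{u} →ₐ[Z.{u}] A := CoordGrp.GLn.pt n Z.{u} M (p CoordGrp.GLn.Dinv) hd
  let P : k ⊗[Z.{u}] CoordGrp.GLn n Z.{u} →ₐ[k] A :=
    Algebra.TensorProduct.lift (Algebra.ofId k A) φ fun _ _ => .all _ _
  have hP : ∀ i j, P ((1 : k) ⊗ₜ[Z.{u}] (CoordGrp.GLn.X i j : CoordGrp.GLn n Z.{u})) = M i j := fun i j => by
    simp [P, φ, CoordGrp.GLn.pt_X]
  have hc : (Bialgebra.counitAlgHom k A).comp P = Bialgebra.counitAlgHom k _ := by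
    refine Algebra.TensorProduct.ext (Subsingleton.elim _ _) (Groth.ComodLib.glnAlgHom_ext fun i j => ?_)
    show Coalgebra.counit (R := k) (P ((1 : k) ⊗ₜ[Z.{u}] (CoordGrp.GLn.X i j : CoordGrp.GLn n Z.{u}))) =
      Coalgebra.counit (R := k) ((1 : k) ⊗ₜ[Z.{u}] (CoordGrp.GLn.X i j : CoordGrp.GLn n Z.{u}))
    rw [hP, TensorProduct.counit_tmul]
    simp [M, CoordGrp.GLn.counit_X]
  have hm : (Algebra.TensorProduct.map P P).comp (Bialgebra.comulAlgHom k _) =
      (Bialgebra.comulAlgHom k A).comp P := by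
    refine Algebra.TensorProduct.ext (Subsingleton.elim _ _) (Groth.ComodLib.glnAlgHom_ext fun i j => ?_)
    show Algebra.TensorProduct.map P P (Coalgebra.comul (R := k) ((1 : k) ⊗ₜ[Z.{u}] (CoordGrp.GLn.X i j : CoordGrp.GLn n Z.{u}))) =
      Coalgebra.comul (R := k) (P ((1 : k) ⊗ₜ[Z.{u}] (CoordGrp.GLn.X i j : CoordGrp.GLn n Z.{u})))
    rw [hP, ← CoalgHomClass.map_comp_comul_apply p, CoordGrp.GLn.comul_X, TensorProduct.comul_tmul,
      CoordGrp.GLn.comul_X, CommSemiring.comul_apply]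
    simp [TensorProduct.tmul_sum, map_sum, hP, M]
  refine ⟨n, BialgHom.ofAlgHom P hc hm, fun a => ?_⟩
  obtain ⟨b, rfl⟩ := hp a
  let ψ : CoordGrp.GLn n k →ₐ[k] k ⊗[Z.{u}] CoordGrp.GLn n Z.{u} :=
    CoordGrp.GLn.pt n k (Matrix.of fun i j => (1 : k) ⊗ₜ CoordGrp.GLn.X i j) ((1 : k) ⊗ₜ CoordGrp.GLn.Dinv) (by
      have h := congrArg (Algebra.TensorProduct.includeRight : _ →ₐ[Z.{u}] k ⊗[Z.{u}] CoordGrp.GLn n Z.{u})
        (CoordGrp.GLn.det_mul_Dinv (n := n) (k := Z.{u}))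
      rw [map_mul, map_one, CoordGrp.GLn.det_eq, AlgHom.map_det] at h
      exact h)
  have e : P.comp ψ = (p : CoordGrp.GLn n k →ₐ[k] A) :=
    Groth.ComodLib.glnAlgHom_ext fun i j => by simp [ψ, hP, M, CoordGrp.GLn.pt_X]
  exact ⟨ψ b, DFunLike.congr_fun e b⟩

/-- An affine algebraic group over a field embeds into some `GL_n`. -/
theorem exists_mono_GLn (E : Over (Spec (CommRingCat.of k))) [GrpObj E] [IsAffine E.left]
    [LocallyOfFiniteType E.hom] :
    ∃ (n : ℕ) (ρ : E ⟶ FrB.GLn n (Spec (CommRingCat.of k))), IsMonHom ρ ∧ Mono ρ := by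
  obtain ⟨A, ⟨e₀⟩⟩ := Groth.Misc7.AffineGroupPoints.exists_hopf E
  let eE : Groth.Misc7.AffineGroupPoints.specObj A ≅ E := (Grp.forget _).mapIso e₀
  have : IsMonHom eE.inv := inferInstanceAs (IsMonHom e₀.inv.hom.hom)
  have : Algebra.FiniteType k A := by
    rw [← RingHom.finiteType_algebraMap]
    refine (HasRingHomProperty.Spec_iff (P := @LocallyOfFiniteType)
      (φ := CommRingCat.ofHom (algebraMap k A))).1 ?_
    rw [← Groth.Misc7.AffineGroupPoints.specObj_hom A, ← Over.w eE.hom]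
    have : IsIso eE.hom.left := inferInstanceAs (IsIso ((Over.forget _).map eE.hom))
    exact (MorphismProperty.cancel_left_of_respectsIso @LocallyOfFiniteType eE.hom.left E.hom).2 ‹_›
  let : Algebra Z.{u} A := ((algebraMap k A).comp (algebraMap Z.{u} k)).toAlgebra
  have : IsScalarTower Z.{u} k A := IsScalarTower.of_algebraMap_eq' rfl
  obtain ⟨n, π, hπ⟩ := exists_bialgHom_bc (k := k) (A := A)
  let H := CoactBr.sp k (k ⊗[Z.{u}] CoordGrp.GLn n Z.{u})
  let P : Groth.Misc7.AffineGroupPoints.specObj A ⟶ H :=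
    ((hopfSpec (CommRingCat.of k)).map
      (CommHopfAlgCat.ofHom π : CommHopfAlgCat.of k (k ⊗[Z.{u}] CoordGrp.GLn n Z.{u}) ⟶ A).op).hom.hom
  have : IsMonHom P := inferInstanceAs (IsMonHom
    ((hopfSpec (CommRingCat.of k)).map
      (CommHopfAlgCat.ofHom π : CommHopfAlgCat.of k (k ⊗[Z.{u}] CoordGrp.GLn n Z.{u}) ⟶ A).op).hom.hom)
  have : Mono P.left := by
    have : IsClosedImmersion P.left := IsClosedImmersion.spec_of_surjective _ hπ
    infer_instance
  have : Mono P := Over.mono_of_mono_left P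
  have hg : IsTerminal.from specULiftZIsTerminal (Spec (CommRingCat.of k)) =
      Spec.map (CommRingCat.ofHom (algebraMap Z.{u} k)) := specULiftZIsTerminal.hom_ext _ _
  show ∃ (n : ℕ) (ρ : E ⟶ Red.bc (IsTerminal.from specULiftZIsTerminal _) (FrB.GLZ n)), IsMonHom ρ ∧ Mono ρ
  rw [hg]
  have hb := CoactBr.bcIso_isMonHom Z.{u} k (CoordGrp.GLn n Z.{u})
  let B := CoactBr.bcIso Z.{u} k (CoordGrp.GLn n Z.{u})
  letI := CoactBr.monBC Z.{u} k (CoordGrp.GLn n Z.{u})
  have : IsMonHom B.hom := hb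
  refine ⟨n, eE.inv ≫ P ≫ B.inv, ?_, ?_⟩
  · exact (inferInstance : IsMonHom (eE.inv ≫ P ≫ B.inv))
  · exact (inferInstance : Mono (eE.inv ≫ P ≫ B.inv))

end Groth.AlgGrp1.GLnEmbed
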