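import Groth.Agent.AlgGrp1.GenericCochar
import Mathlib.Algebra.DualNumber
import Mathlib.RingTheory.Jacobson.Ring
import Mathlib.RingTheory.Nullstellensatz
import Mathlib.FieldTheory.IsAlgClosed.Basic

/-!
A generic point of a torus: its fixed points are the fixed points of the torus, and on tangent vectors
the fixed part has a complement on which conjugation by the point has no eigenvalue one.
-/

set_option autoImplicit false
set_option linter.style.haveILetI false

universe u

open TensorProduct WithConv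
open Groth.Misc1.Dyn (post)
open scoped DualNumber

noncomputable section

namespace Groth.AlgGrp1

variable {k : Type u} [Field k] {A : Type u} [CommRing A] [HopfAlgebra k A] {r : ℕ}

local notation "Lat" => Multiplicative (Fin r → ℤ)

variable (φ : A →ₐc[k] MonoidAlgebra k (Multiplicative (Fin r → ℤ)))

/-- the weight component of a function -/
def wt (a : A) (m : Lat) : A := ((torOrbit φ A (AlgHom.id k A)).ofConv a).coeff m

theorem torOrbit_coeff {R : Type u} [CommRing R] [Algebra k R] (g : A →ₐ[k] R) (a : A) (m : Lat) :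
    ((torOrbit φ R g).ofConv a).coeff m = g (wt φ a m) := by
  have h : (torOrbit φ R g).ofConv a =
      MonoidAlgebra.mapAlgHom Lat g ((torOrbit φ A (AlgHom.id k A)).ofConv a) := by
    rw [← show g.comp (AlgHom.id k A) = g from AlgHom.comp_id g, ← torOrbit_natural]
    rfl
  rw [h, MonoidAlgebra.coeff_mapAlgHom]
  rfl

/-- doubling the exponents -/
def latDouble (R : Type u) [CommRing R] [Algebra k R] :
    MonoidAlgebra R Lat →ₐ[k] MonoidAlgebra (MonoidAlgebra R Lat) Lat :=
  (MonoidAlgebra.lift R (MonoidAlgebra (MonoidAlgebra R Lat) Lat) Lat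
    { toFun := fun m => MonoidAlgebra.single m (MonoidAlgebra.single m 1)
      map_one' := rfl
      map_mul' := fun a b => by simp }).restrictScalars k

theorem latDouble_single (R : Type u) [CommRing R] [Algebra k R] (m : Lat) (c : R) :
    latDouble (k := k) R (MonoidAlgebra.single m c) = MonoidAlgebra.single m (MonoidAlgebra.single m c) := by
  change MonoidAlgebra.lift R _ Lat _ (MonoidAlgebra.single m c) = _
  rw [MonoidAlgebra.lift_single]
  simp [MonoidAlgebra.smul_single]

/-- **Weight components are homogeneous.** -/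
theorem wt_wt (a : A) (m n : Lat) : wt φ (wt φ a m) n = if n = m then wt φ a m else 0 := by
  classical
  let B := MonoidAlgebra A Lat
  let g' : A →ₐ[k] B := (torOrbit φ A (AlgHom.id k A)).ofConv
  have hg : toConv g' = torOrbit φ A (AlgHom.id k A) := rfl
  have hP : post (latDouble A) (torPt φ A) = torPt φ B * post (torCst B) (torPt φ A) := by
    have e : toConv (MonoidAlgebra.mapAlgHom Lat (Algebra.ofId k B)) *
        toConv ((torCst (k := k) B).comp (MonoidAlgebra.mapAlgHom Lat (Algebra.ofId k A))) =
        toConv ((latDouble A).comp (MonoidAlgebra.mapAlgHom Lat (Algebra.ofId k A))) :=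
      WithConv.ofConv_injective (MonoidAlgebra.algHom_ext (fun m => by
        rw [AlgHom.convMul_def]
        simp [latDouble_single, MonoidAlgebra.coe_algebraMap, B]) (by ext))
    refine Eq.symm ?_
    refine (WithConv.ofConv_injective ?_).trans (congrArg
      (fun f : WithConv (MonoidAlgebra k Lat →ₐ[k] MonoidAlgebra B Lat) =>
        toConv (f.ofConv.comp (φ : A →ₐ[k] MonoidAlgebra k Lat))) e)
    exact (AlgHom.convMul_comp_bialgHom_distrib (toConv (MonoidAlgebra.mapAlgHom Lat (Algebra.ofId k B)))
      (toConv ((torCst (k := k) B).comp (MonoidAlgebra.mapAlgHom Lat (Algebra.ofId k A)))) φ).symm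
  have key : post (latDouble A) (torOrbit φ A (AlgHom.id k A)) = torOrbit φ B g' := by
    have hc : (latDouble (k := k) A).comp (torCst A) = (torCst B).comp (torCst A) := by
      refine AlgHom.ext fun c => ?_
      change latDouble (k := k) A (algebraMap A (MonoidAlgebra A Lat) c) = _
      simp [MonoidAlgebra.coe_algebraMap, latDouble_single, B]
    rw [show torOrbit φ B g' = torPt φ B * post (torCst B) (torOrbit φ A (AlgHom.id k A)) * (torPt φ B)⁻¹ from rfl,
      torOrbit, map_mul, map_mul, map_inv, hP, map_mul, map_mul, map_inv, Groth.Misc1.Dyn.post_comp, hc,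
      ← Groth.Misc1.Dyn.post_comp, mul_inv_rev]
    simp only [mul_assoc]
  have h := congrArg (fun f : WithConv (A →ₐ[k] MonoidAlgebra B Lat) => (f.ofConv a).coeff m) key
  rw [torOrbit_coeff] at h
  have h2 : (((post (latDouble A) (torOrbit φ A (AlgHom.id k A))).ofConv a).coeff m) =
      MonoidAlgebra.single m (wt φ a m) := by
    change (latDouble (k := k) A ((torOrbit φ A (AlgHom.id k A)).ofConv a)).coeff m = _
    conv_lhs => rw [← MonoidAlgebra.sum_coeff_single ((torOrbit φ A (AlgHom.id k A)).ofConv a), Finsupp.sum,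
      map_sum, MonoidAlgebra.coeff_sum, Finset.sum_apply']
    simp only [latDouble_single, MonoidAlgebra.coeff_single, Finsupp.single_apply]
    rw [Finset.sum_ite_eq' (_ : Finset Lat) m (fun x => MonoidAlgebra.single x
      (((torOrbit φ A (AlgHom.id k A)).ofConv a).coeff x))]
    split_ifs with hm
    · rfl
    · rw [wt, Finsupp.notMem_support_iff.1 hm, MonoidAlgebra.single_zero]
  rw [h2] at h
  have h3 := congrArg (fun p : B => p.coeff n) h.symm
  simpa [g', wt, Finsupp.single_apply, eq_comm] using h3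

variable (χ : MonoidAlgebra k (Multiplicative (Fin r → ℤ)) →ₐ[k] k)

/-- the value of a character at the point -/
def chVal (m : Lat) : k := χ (MonoidAlgebra.single m 1)

/-- the point -/
def sPt (R : Type u) [CommRing R] [Algebra k R] : WithConv (A →ₐ[k] R) :=
  toConv ((Algebra.ofId k R).comp (χ.comp (φ : A →ₐ[k] MonoidAlgebra k Lat)))

/-- evaluation at the point -/
def sEv (R : Type u) [CommRing R] [Algebra k R] : MonoidAlgebra R Lat →ₐ[k] R :=
  (MonoidAlgebra.lift R R Lat
    (((Algebra.ofId k R : k →ₐ[k] R) : k →* R).comp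
      ((χ : MonoidAlgebra k Lat →* k).comp (MonoidAlgebra.of k Lat)))).restrictScalars k

theorem sEv_single (R : Type u) [CommRing R] [Algebra k R] (m : Lat) (c : R) :
    sEv χ R (MonoidAlgebra.single m c) = c * algebraMap k R (chVal χ m) := by
  change MonoidAlgebra.lift R R Lat _ (MonoidAlgebra.single m c) = _
  rw [MonoidAlgebra.lift_single, smul_eq_mul]
  rfl

theorem sEv_torOrbit (R : Type u) [CommRing R] [Algebra k R] (g : A →ₐ[k] R) :
    post (sEv χ R) (torOrbit φ R g) = sPt φ χ R * toConv g * (sPt φ χ R)⁻¹ := by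
  have h1 : post (sEv χ R) (torPt φ R) = sPt φ χ R := by
    have e : (sEv χ R).comp (MonoidAlgebra.mapAlgHom Lat (Algebra.ofId k R)) = (Algebra.ofId k R).comp χ :=
      MonoidAlgebra.algHom_ext (fun m => by simp [sEv_single, chVal]) (by ext)
    refine WithConv.ofConv_injective (AlgHom.ext fun a => ?_)
    exact DFunLike.congr_fun e (φ a)
  have h2 : (sEv χ R).comp (torCst R) = AlgHom.id k R := AlgHom.ext fun c => by
    change sEv χ R (algebraMap R (MonoidAlgebra R Lat) c) = c
    simp [MonoidAlgebra.coe_algebraMap, sEv_single, chVal, ← MonoidAlgebra.one_def]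
  rw [torOrbit, map_mul, map_mul, map_inv, h1, Groth.Misc1.Dyn.post_comp, h2]
  rfl

/-- The point has generic weights for the given functions. -/
def IsGeneric (s : Finset A) : Prop :=
  ∀ a ∈ s, ∀ m ∈ ((torOrbit φ A (AlgHom.id k A)).ofConv a).coeff.support, m ≠ 1 → chVal χ m ≠ 1

/-- **Commuting with a generic point is commuting with the torus.** -/
theorem commute_sPt_iff {s : Finset A} (hs : Algebra.adjoin k (s : Set A) = ⊤) (hgen : IsGeneric φ χ s)
    {R : Type u} [CommRing R] [Algebra k R] (g : A →ₐ[k] R) :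
    sPt φ χ R * toConv g * (sPt φ χ R)⁻¹ = toConv g ↔ torOrbit φ R g = post (torCst R) (toConv g) := by
  classical
  constructor
  · intro h
    rw [← sEv_torOrbit] at h
    refine WithConv.ofConv_injective (AlgHom.ext_of_adjoin_eq_top hs fun a ha => ?_)
    have hvan : ∀ m, m ≠ 1 → g (wt φ a m) = 0 := by
      intro m hm
      by_cases hmem : m ∈ ((torOrbit φ A (AlgHom.id k A)).ofConv a).coeff.support
      · have h1 := congrArg (fun f : WithConv (A →ₐ[k] R) => f.ofConv (wt φ a m)) h
        simp only [Groth.Misc1.Dyn.ofConv_post, AlgHom.comp_apply, ofConv_toConv] at h1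
        have h2 : (torOrbit φ R g).ofConv (wt φ a m) = MonoidAlgebra.single m (g (wt φ a m)) := by
          ext n
          rw [torOrbit_coeff, wt_wt, MonoidAlgebra.coeff_single, Finsupp.single_apply]
          split_ifs with e1 e2 e2
          · rfl
          · exact absurd e1.symm e2
          · exact absurd e2.symm e1
          · exact map_zero g
        rw [h2, sEv_single] at h1
        have h3 : g (wt φ a m) * algebraMap k R (chVal χ m - 1) = 0 := by
          rw [map_sub, map_one, mul_sub, mul_one, h1, sub_self]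
        exact ((sub_ne_zero.2 (hgen a ha m hmem hm)).isUnit.map (algebraMap k R)).mul_left_eq_zero.1 h3
      · rw [wt, Finsupp.notMem_support_iff.1 hmem, map_zero]
    have hsum : (torOrbit φ R g).ofConv a = MonoidAlgebra.single 1 (g (wt φ a 1)) := by
      ext n
      rw [torOrbit_coeff, MonoidAlgebra.coeff_single, Finsupp.single_apply]
      split_ifs with e1
      · rw [← e1]
      · exact hvan n (Ne.symm e1)
    have h1 := congrArg (fun f : WithConv (A →ₐ[k] R) => f.ofConv a) h
    simp only [Groth.Misc1.Dyn.ofConv_post, AlgHom.comp_apply, ofConv_toConv, hsum, sEv_single] at h1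
    rw [show chVal χ (1 : Lat) = 1 by simp [chVal, ← MonoidAlgebra.one_def], map_one, mul_one] at h1
    rw [hsum]
    change _ = algebraMap R (MonoidAlgebra R Lat) (g a)
    rw [MonoidAlgebra.coe_algebraMap, Function.comp_apply, Algebra.algebraMap_self, RingHom.id_apply, h1]
  · intro h
    have h1 := sEv_torOrbit φ χ R g
    rw [h, Groth.Misc1.Dyn.post_comp] at h1
    rw [← h1]
    refine WithConv.ofConv_injective (AlgHom.ext fun a => ?_)
    change sEv χ R (algebraMap R (MonoidAlgebra R Lat) (g a)) = g a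
    simp [MonoidAlgebra.coe_algebraMap, sEv_single, chVal, ← MonoidAlgebra.one_def]

/-- A generic point exists. -/
theorem exists_isGeneric [IsAlgClosed k] (s : Finset A) :
    ∃ χ : MonoidAlgebra k Lat →ₐ[k] k, IsGeneric φ χ s := by
  classical
  let F : Finset Lat :=
    (s.biUnion fun a => ((torOrbit φ A (AlgHom.id k A)).ofConv a).coeff.support).erase 1
  let P : MonoidAlgebra k Lat := ∏ m ∈ F, (MonoidAlgebra.single m 1 - 1)
  have hP : P ≠ 0 := Finset.prod_ne_zero_iff.2 fun m hm h => by
    rw [sub_eq_zero, MonoidAlgebra.one_def] at h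
    exact Finset.ne_of_mem_erase hm (MonoidAlgebra.single_left_injective one_ne_zero h)
  obtain ⟨M, hM, hPM⟩ : ∃ M : Ideal (MonoidAlgebra k Lat), M.IsMaximal ∧ P ∉ M := by
    haveI : IsJacobsonRing (MonoidAlgebra k Lat) := isJacobsonRing_of_finiteType (A := k)
    by_contra hall
    push Not at hall
    have h1 : P ∈ (⊥ : Ideal (MonoidAlgebra k Lat)).jacobson := Ideal.mem_sInf.2 fun J hJ => hall J hJ.2
    rw [IsJacobsonRing.out inferInstance ((Ideal.isRadical_iff_quotient_reduced _).2
      (isReduced_of_injective (RingEquiv.quotientBot _) (RingEquiv.injective _)))] at h1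
    exact hP (Ideal.mem_bot.1 h1)
  letI := Ideal.Quotient.field M
  haveI : Module.Finite k (MonoidAlgebra k Lat ⧸ M) :=
    finite_of_finite_type_of_isJacobsonRing k (MonoidAlgebra k Lat ⧸ M)
  let e : k ≃ₐ[k] MonoidAlgebra k Lat ⧸ M := AlgEquiv.ofBijective (Algebra.ofId k _)
    ⟨RingHom.injective _, IsAlgClosed.algebraMap_bijective_of_isIntegral.2⟩
  let χ : MonoidAlgebra k Lat →ₐ[k] k := e.symm.toAlgHom.comp (Ideal.Quotient.mkₐ k M)
  refine ⟨χ, fun a ha m hm hm1 hc => hPM ?_⟩
  have hmF : m ∈ F := Finset.mem_erase.2 ⟨hm1, Finset.mem_biUnion.2 ⟨a, ha, hm⟩⟩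
  refine Ideal.Quotient.eq_zero_iff_mem.1 (e.symm.injective ?_)
  rw [map_zero]
  change χ P = 0
  rw [map_prod]
  exact Finset.prod_eq_zero hmF (by rw [map_sub, map_one, ← chVal, hc, sub_self])

section Tangent

private theorem conj_cancel {G : Type*} [Group G] (g s x : G) : g * (s * x * s⁻¹) * s * x⁻¹ = g * s := by
  group

theorem fst_convMul (x y : WithConv (A →ₐ[k] k[ε])) (hx : ∀ a, (x.ofConv a).fst = Coalgebra.counit (R := k) a)
    (hy : ∀ a, (y.ofConv a).fst = Coalgebra.counit (R := k) a) (a : A) :
    ((x * y).ofConv a).fst = Coalgebra.counit (R := k) a ∧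
      ((x * y).ofConv a).snd = (x.ofConv a).snd + (y.ofConv a).snd := by
  rw [AlgHom.convMul_apply, ← (Coalgebra.Repr.arbitrary k a).eq, map_sum]
  simp only [TrivSqZeroExt.fst_sum, TrivSqZeroExt.snd_sum, Algebra.TensorProduct.map_tmul,
    Algebra.TensorProduct.lmul'_apply_tmul, Algebra.TensorProduct.lift_tmul, TrivSqZeroExt.fst_mul, TrivSqZeroExt.snd_mul, hx, hy]
  refine ⟨?_, ?_⟩
  · have h := congrArg (Coalgebra.counit (R := k)) (Coalgebra.sum_counit_smul (Coalgebra.Repr.arbitrary k a))
    simpa [map_sum] using h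
  · rw [Finset.sum_add_distrib, add_comm (x.ofConv a).snd]
    refine congrArg₂ (· + ·) ?_ ?_
    · have h := congrArg (fun b => (y.ofConv b).snd) (Coalgebra.sum_counit_smul (Coalgebra.Repr.arbitrary k a))
      simpa [map_sum, TrivSqZeroExt.snd_sum] using h
    · have h1 := congrArg (TensorProduct.rid k A) (Coalgebra.sum_tmul_counit_eq (Coalgebra.Repr.arbitrary k a))
      simp only [map_sum, TensorProduct.rid_tmul, one_smul] at h1
      have h := congrArg (fun b => (x.ofConv b).snd) h1
      simp only [map_sum, map_smul, TrivSqZeroExt.snd_sum, TrivSqZeroExt.snd_smul, smul_eq_mul] at h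
      refine Eq.trans (Finset.sum_congr rfl fun i _ => ?_) h
      simp [mul_comm]

theorem wt_fst {g : A →ₐ[k] k[ε]} (hg : ∀ a, (g a).fst = Coalgebra.counit (R := k) a) (a : A) (m : Lat) :
    (g (wt φ a m)).fst = if m = 1 then Coalgebra.counit (R := k) a else 0 := by
  have e : (TrivSqZeroExt.fstHom k k k).comp g = Bialgebra.counitAlgHom k A := AlgHom.ext hg
  have h1 := torOrbit_coeff φ ((TrivSqZeroExt.fstHom k k k).comp g) a m
  rw [AlgHom.comp_apply] at h1
  refine Eq.trans h1.symm ?_
  rw [e]
  have h2 : toConv (Bialgebra.counitAlgHom k A) = 1 := rfl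
  rw [torOrbit, h2, map_one, mul_one, mul_inv_cancel]
  change (algebraMap k (MonoidAlgebra k Lat) (Coalgebra.counit (R := k) a)).coeff m = _
  simp [MonoidAlgebra.coe_algebraMap, Finsupp.single_apply, eq_comm]

/-- twisting a tangent vector at the unit by a function of the weight -/
def twist (ℓ : Lat → k) (g : A →ₐ[k] k[ε]) (hg : ∀ a, (g a).fst = Coalgebra.counit (R := k) a) :
    A →ₐ[k] k[ε] := by
  classical
  let V : A → MonoidAlgebra k[ε] Lat := fun a => (torOrbit φ k[ε] g).ofConv a
  let L : MonoidAlgebra k[ε] Lat → k := fun u => u.coeff.sum fun m c => ℓ m * c.snd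
  have hL : ∀ u v, L (u + v) = L u + L v := fun u v => by
    simp only [L, MonoidAlgebra.coeff_add]
    exact Finsupp.sum_add_index (fun m _ => by simp) (fun m _ c d => by simp [mul_add])
  have hsingle : ∀ m c, L (MonoidAlgebra.single m c) = ℓ m * c.snd := fun m c => by
    simp [L, MonoidAlgebra.coeff_single]
  have hfst : ∀ a m, ((V a).coeff m).fst = if m = 1 then Coalgebra.counit (R := k) a else 0 := fun a m => by
    rw [torOrbit_coeff]; exact wt_fst φ hg a m
  refine AlgHom.ofLinearMap
    { toFun := fun a => TrivSqZeroExt.inl (Coalgebra.counit (R := k) a) + TrivSqZeroExt.inr (L (V a))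
      map_add' := fun a b => by
        refine TrivSqZeroExt.ext (by simp) ?_
        simp [V, map_add, hL]
      map_smul' := fun c a => by
        refine TrivSqZeroExt.ext (by simp) ?_
        simp only [V, map_smul, RingHom.id_apply, TrivSqZeroExt.snd_add, TrivSqZeroExt.snd_inl,
          TrivSqZeroExt.snd_inr, zero_add, TrivSqZeroExt.snd_smul, smul_eq_mul, L]
        rw [show (c • (torOrbit φ k[ε] g).ofConv a).coeff = c • ((torOrbit φ k[ε] g).ofConv a).coeff from rfl,
          Finsupp.sum_of_support_subset _ Finsupp.support_smul _ (fun m _ => by simp), Finsupp.sum,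
          Finset.mul_sum]
        exact Finset.sum_congr rfl fun m _ => by simp; ring }
    ?_ ?_
  · refine TrivSqZeroExt.ext (by simp) ?_
    simp [V, hsingle, MonoidAlgebra.one_def]
  · intro a b
    refine TrivSqZeroExt.ext (by simp) ?_
    have hsplit : ∀ a, V a = algebraMap k (MonoidAlgebra k[ε] Lat) (Coalgebra.counit (R := k) a) +
        MonoidAlgebra.ofCoeff ((V a).coeff.mapRange (fun c => TrivSqZeroExt.inr c.snd) (by simp)) := by
      intro a
      refine MonoidAlgebra.coeff_injective (Finsupp.ext fun m => ?_)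
      rw [MonoidAlgebra.coeff_add]
      simp only [Finsupp.add_apply, MonoidAlgebra.coe_algebraMap, Function.comp_apply,
        MonoidAlgebra.coeff_single, Finsupp.single_apply, MonoidAlgebra.coeff_ofCoeff, Finsupp.mapRange_apply]
      refine TrivSqZeroExt.ext ?_ ?_
      · rw [hfst]
        rcases eq_or_ne m 1 with rfl | h1
        · simp [TrivSqZeroExt.algebraMap_eq_inl]
        · simp [h1, Ne.symm h1]
      · split_ifs <;> simp [TrivSqZeroExt.algebraMap_eq_inl]
    set N := fun a => MonoidAlgebra.ofCoeff ((V a).coeff.mapRange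
      (fun c : k[ε] => (TrivSqZeroExt.inr c.snd : k[ε])) (by simp)) with hN
    have hNN : ∀ a b, N a * N b = 0 := by
      intro a b
      refine MonoidAlgebra.coeff_injective (Finsupp.ext fun m => ?_)
      rw [MonoidAlgebra.coeff_mul]
      simp [hN, Finsupp.sum, Finset.sum_apply', Finsupp.single_apply]
    have hLs : ∀ (c : k) u, L (algebraMap k (MonoidAlgebra k[ε] Lat) c * u) = c * L u := by
      intro c u
      rw [← Algebra.smul_def]
      simp only [L]
      rw [show (c • u).coeff = c • u.coeff from rfl,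
        Finsupp.sum_of_support_subset _ Finsupp.support_smul _ (fun m _ => by simp), Finsupp.sum, Finset.mul_sum]
      exact Finset.sum_congr rfl fun m _ => by simp; ring
    have hLc : ∀ c : k, L (algebraMap k (MonoidAlgebra k[ε] Lat) c) = 0 := fun c => by
      simp [MonoidAlgebra.coe_algebraMap, hsingle, TrivSqZeroExt.algebraMap_eq_inl]
    have hLN : ∀ a, L (V a) = L (N a) := fun a => by
      conv_lhs => rw [hsplit a]
      rw [hL, hLc, zero_add]
    have hVab : V (a * b) = V a * V b := map_mul _ a b
    have e : L (V (a * b)) = Coalgebra.counit (R := k) a * L (V b) + Coalgebra.counit (R := k) b * L (V a) := by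
      rw [hVab, hLN a, hLN b]
      conv_lhs => rw [hsplit a, hsplit b]
      rw [show (algebraMap k (MonoidAlgebra k[ε] Lat) (Coalgebra.counit (R := k) a) + N a) *
          (algebraMap k _ (Coalgebra.counit (R := k) b) + N b) =
          algebraMap k _ (Coalgebra.counit (R := k) a * Coalgebra.counit (R := k) b) +
          (algebraMap k _ (Coalgebra.counit (R := k) a) * N b +
          algebraMap k _ (Coalgebra.counit (R := k) b) * N a) + N a * N b by rw [map_mul]; ring,
        hNN, add_zero, hL, hLc, zero_add, hL, hLs, hLs]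
    simp [e]
    ring

theorem twist_fst (ℓ : Lat → k) (g : A →ₐ[k] k[ε]) (hg : ∀ a, (g a).fst = Coalgebra.counit (R := k) a) (a : A) :
    (twist φ ℓ g hg a).fst = Coalgebra.counit (R := k) a := by
  simp [twist]

theorem twist_snd (ℓ : Lat → k) (g : A →ₐ[k] k[ε]) (hg : ∀ a, (g a).fst = Coalgebra.counit (R := k) a) (a : A) :
    (twist φ ℓ g hg a).snd =
      ∑ m ∈ ((torOrbit φ k[ε] g).ofConv a).coeff.support, ℓ m * (g (wt φ a m)).snd := by
  simp [twist, Finsupp.sum, torOrbit_coeff]

theorem twist_wt (ℓ : Lat → k) (g : A →ₐ[k] k[ε]) (hg : ∀ a, (g a).fst = Coalgebra.counit (R := k) a) (a : A)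
    (m : Lat) : (twist φ ℓ g hg (wt φ a m)).snd = ℓ m * (g (wt φ a m)).snd := by
  classical
  rw [twist_snd, Finset.sum_eq_single m]
  · rw [wt_wt, if_pos rfl]
  · intro n _ hn
    rw [wt_wt, if_neg hn, map_zero, TrivSqZeroExt.snd_zero, mul_zero]
  · intro hm
    rw [Finsupp.notMem_support_iff, torOrbit_coeff] at hm
    rw [hm, TrivSqZeroExt.snd_zero, mul_zero]

theorem conj_sPt (g : A →ₐ[k] k[ε]) (hg : ∀ a, (g a).fst = Coalgebra.counit (R := k) a) :
    sPt φ χ k[ε] * toConv g * (sPt φ χ k[ε])⁻¹ = toConv (twist φ (chVal χ) g hg) := by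
  classical
  rw [← sEv_torOrbit]
  refine WithConv.ofConv_injective (AlgHom.ext fun a => ?_)
  rw [Groth.Misc1.Dyn.ofConv_post, AlgHom.comp_apply, ofConv_toConv]
  conv_lhs => rw [← MonoidAlgebra.sum_coeff_single ((torOrbit φ k[ε] g).ofConv a), Finsupp.sum, map_sum]
  simp only [sEv_single, torOrbit_coeff]
  refine TrivSqZeroExt.ext ?_ ?_
  · rw [twist_fst, TrivSqZeroExt.fst_sum]
    simp only [TrivSqZeroExt.fst_mul, wt_fst φ hg, TrivSqZeroExt.algebraMap_eq_inl, TrivSqZeroExt.fst_inl,
      ite_mul, zero_mul, Finset.sum_ite_eq']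
    split_ifs with h1
    · simp [chVal, ← MonoidAlgebra.one_def]
    · rw [Finsupp.notMem_support_iff, torOrbit_coeff] at h1
      have h2 := congrArg TrivSqZeroExt.fst h1
      rw [wt_fst φ hg, if_pos rfl, TrivSqZeroExt.fst_zero] at h2
      exact h2.symm
  · rw [twist_snd, TrivSqZeroExt.snd_sum]
    refine Finset.sum_congr rfl fun m _ => ?_
    simp [TrivSqZeroExt.algebraMap_eq_inl, mul_comm]

/-- **Tangent vectors at a generic point come from conjugation and from fixed points.** -/
theorem exists_conj_decomp (g : A →ₐ[k] k[ε]) (hg : ∀ a, (g a).fst = Coalgebra.counit (R := k) a) :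
    ∃ x g₀ : WithConv (A →ₐ[k] k[ε]), (∀ a, (x.ofConv a).fst = Coalgebra.counit (R := k) a) ∧
      (∀ a, (g₀.ofConv a).fst = Coalgebra.counit (R := k) a) ∧
      sPt φ χ k[ε] * g₀ * (sPt φ χ k[ε])⁻¹ = g₀ ∧
      x * (g₀ * sPt φ χ k[ε]) * x⁻¹ = toConv g * sPt φ χ k[ε] := by
  classical
  let ℓ : Lat → k := fun m => if chVal χ m = 1 then 0 else (1 - chVal χ m)⁻¹
  let ι : Lat → k := fun m => if chVal χ m = 1 then 1 else 0
  have hid : ∀ m, ℓ m + ι m = 1 + chVal χ m * ℓ m := fun m => by
    simp only [ℓ, ι]
    split_ifs with h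
    · simp
    · have hne : (1 - chVal χ m) ≠ 0 := sub_ne_zero.2 (Ne.symm h)
      field_simp
      ring
  let x := twist φ ℓ g hg
  let g₀ := twist φ ι g hg
  have hx : ∀ a, (x a).fst = Coalgebra.counit (R := k) a := twist_fst φ ℓ g hg
  have hg₀ : ∀ a, (g₀ a).fst = Coalgebra.counit (R := k) a := twist_fst φ ι g hg
  have ext_pts : ∀ P Q : WithConv (A →ₐ[k] k[ε]), (∀ a, (P.ofConv a).fst = Coalgebra.counit (R := k) a) →
      (∀ a, (Q.ofConv a).fst = Coalgebra.counit (R := k) a) →
      (∀ a, (P.ofConv a).snd = (Q.ofConv a).snd) → P = Q :=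
    fun P Q hP hQ h => WithConv.ofConv_injective (AlgHom.ext fun a =>
      TrivSqZeroExt.ext ((hP a).trans (hQ a).symm) (h a))
  have hdecomp : ∀ (f : A →ₐ[k] k[ε]) (b : A),
      f b = ∑ m ∈ ((torOrbit φ A (AlgHom.id k A)).ofConv b).coeff.support, f (wt φ b m) := by
    intro f b
    let ev1 : MonoidAlgebra A Lat →ₐ[k] A := (MonoidAlgebra.lift A A Lat 1).restrictScalars k
    have h1 : post ev1 (torOrbit φ A (AlgHom.id k A)) = toConv (AlgHom.id k A) := by
      have e1 : post ev1 (torPt φ A) = 1 := by
        have e : ev1.comp (MonoidAlgebra.mapAlgHom Lat (Algebra.ofId k A)) =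
            (Algebra.ofId k A).comp (Bialgebra.counitAlgHom k (MonoidAlgebra k Lat)) :=
          MonoidAlgebra.algHom_ext (fun m => by simp [ev1]) (by ext)
        refine WithConv.ofConv_injective (AlgHom.ext fun a => ?_)
        refine (DFunLike.congr_fun e (φ a)).trans ?_
        simp [AlgHom.convOne_def, CoalgHomClass.counit_comp_apply]
      have e2 : ev1.comp (torCst A) = AlgHom.id k A := AlgHom.ext fun c => by
        simp [ev1, MonoidAlgebra.coe_algebraMap]
      rw [torOrbit, map_mul, map_mul, map_inv, e1, Groth.Misc1.Dyn.post_comp, e2, inv_one, mul_one, one_mul]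
      rfl
    have h2 := DFunLike.congr_fun (congrArg WithConv.ofConv h1) b
    simp only [Groth.Misc1.Dyn.ofConv_post, AlgHom.comp_apply, ofConv_toConv, AlgHom.id_apply] at h2
    conv_lhs => rw [← h2]
    conv_lhs => rw [← MonoidAlgebra.sum_coeff_single ((torOrbit φ A (AlgHom.id k A)).ofConv b), Finsupp.sum,
      map_sum, map_sum]
    exact Finset.sum_congr rfl fun m _ => by simp [ev1, wt]
  refine ⟨toConv x, toConv g₀, hx, hg₀, ?_, ?_⟩
  · rw [conj_sPt φ χ g₀ hg₀]
    refine ext_pts _ _ (twist_fst φ _ g₀ hg₀) hg₀ fun a => ?_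
    simp only [ofConv_toConv]
    rw [hdecomp (twist φ (chVal χ) g₀ hg₀) a, hdecomp g₀ a, TrivSqZeroExt.snd_sum, TrivSqZeroExt.snd_sum]
    refine Finset.sum_congr rfl fun m _ => ?_
    rw [twist_wt, twist_wt]
    simp only [ι]
    split_ifs with h <;> simp [h]
  · have hc := conj_sPt φ χ x hx
    have key : toConv x * toConv g₀ = toConv g * toConv (twist φ (chVal χ) x hx) := by
      refine ext_pts _ _ (fun a => (fst_convMul _ _ hx hg₀ a).1)
        (fun a => (fst_convMul _ _ hg (twist_fst φ _ x hx) a).1) fun a => ?_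
      rw [(fst_convMul (toConv x) (toConv g₀) hx hg₀ a).2,
        (fst_convMul (toConv g) (toConv (twist φ (chVal χ) x hx)) hg (twist_fst φ _ x hx) a).2]
      simp only [ofConv_toConv]
      rw [hdecomp x a, hdecomp g₀ a, hdecomp g a, hdecomp (twist φ (chVal χ) x hx) a]
      simp only [TrivSqZeroExt.snd_sum, ← Finset.sum_add_distrib]
      refine Finset.sum_congr rfl fun m _ => ?_
      rw [twist_wt, twist_wt, twist_wt, twist_wt]
      linear_combination (g (wt φ a m)).snd * hid m
    have e1 : toConv x * (toConv g₀ * sPt φ χ k[ε]) = toConv x * toConv g₀ * sPt φ χ k[ε] :=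
      (mul_assoc (toConv x) (toConv g₀) (sPt φ χ k[ε])).symm
    rw [e1, key, ← hc]
    exact conj_cancel (G := WithConv (A →ₐ[k] k[ε])) _ _ _

end Tangent

end Groth.AlgGrp1
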