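import Groth.Agent.AlgGrp1.Orbit
import Groth.Agent.AlgGrp1.Points
import Groth.Agent.AlgGrp1.GenericFlat
import Groth.Agent.SpectralTopology.Constructible

/-!
Equivariant morphisms to homogeneous schemes: surjective and flat.
-/

universe u

open CategoryTheory Limits MonoidalCategory CartesianMonoidalCategory MonObj AlgebraicGeometry
  TopologicalSpace Topology

namespace Groth.AlgGrp1

section Restrict

variable {P Q X Y : Scheme.{u}} {a : P ⟶ X} {g : P ⟶ Q} {f : X ⟶ Y} {b : Q ⟶ Y}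

theorem flat_restrict_of_isPullback (sq : IsPullback a g f b) (V : Y.Opens) [Flat (f ∣_ V)] :
    Flat (g ∣_ (b ⁻¹ᵁ V)) := by
  have e : g ⁻¹ᵁ b ⁻¹ᵁ V ≤ a ⁻¹ᵁ f ⁻¹ᵁ V := by
    intro z hz
    show (a ≫ f) z ∈ V
    rw [sq.w]
    exact hz
  let l := a.resLE (f ⁻¹ᵁ V) (g ⁻¹ᵁ b ⁻¹ᵁ V) e
  have h1 := ((isPullback_morphismRestrict g (b ⁻¹ᵁ V)).flip).paste_horiz sq
  rw [← morphismRestrict_ι b V, ← Scheme.Hom.resLE_comp_ι a e] at h1
  refine MorphismProperty.of_isPullback (P := @Flat)
    (IsPullback.of_right h1 ?_ (isPullback_morphismRestrict f V).flip) inferInstance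
  rw [← cancel_mono V.ι, Category.assoc, Category.assoc, morphismRestrict_ι, morphismRestrict_ι,
    Scheme.Hom.resLE_comp_ι_assoc, sq.w, morphismRestrict_ι_assoc]

theorem flat_restrict_image (sq : IsPullback a g f b) (hb : IsOpenMap b.base) [Flat b] (W : Q.Opens)
    [Flat (g ∣_ W)] : Flat (f ∣_ (⟨b.base '' W, hb _ W.2⟩ : Y.Opens)) := by
  set V : Y.Opens := ⟨b.base '' W, hb _ W.2⟩
  have eW : W ≤ b ⁻¹ᵁ V := fun z hz => ⟨z, hz, rfl⟩
  let q := b.resLE V W eW
  have : Surjective q := ⟨fun ⟨y, hy⟩ => by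
    obtain ⟨z, hz, rfl⟩ := hy
    exact ⟨⟨z, hz⟩, Subtype.ext congr(($(Scheme.Hom.resLE_comp_ι b eW)).base ⟨z, hz⟩)⟩⟩
  have : Flat (W.ι ≫ b) := inferInstance
  have : Flat q := by
    have : Flat (q ≫ V.ι) := by rw [Scheme.Hom.resLE_comp_ι]; infer_instance
    exact inferInstanceAs (Flat (b.resLE V W eW))
  have e : g ⁻¹ᵁ W ≤ a ⁻¹ᵁ f ⁻¹ᵁ V := by
    intro z hz
    show (a ≫ f) z ∈ V
    rw [sq.w]
    exact eW hz
  let l := a.resLE (f ⁻¹ᵁ V) (g ⁻¹ᵁ W) e
  have h1 := ((isPullback_morphismRestrict g W).flip).paste_horiz sq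
  rw [← Scheme.Hom.resLE_comp_ι b eW, ← Scheme.Hom.resLE_comp_ι a e] at h1
  have hl : l ≫ f ∣_ V = g ∣_ W ≫ q := by
    rw [← cancel_mono V.ι, Category.assoc, Category.assoc, morphismRestrict_ι,
      Scheme.Hom.resLE_comp_ι, Scheme.Hom.resLE_comp_ι_assoc, sq.w, morphismRestrict_ι_assoc]
  have sq' := IsPullback.of_right h1 hl (isPullback_morphismRestrict f V).flip
  have : Flat l := MorphismProperty.of_isPullback (P := @Flat) sq'.flip inferInstance
  have : Surjective l := MorphismProperty.of_isPullback (P := @Surjective) sq'.flip inferInstance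
  have : Flat (l ≫ f ∣_ V) := by rw [hl]; infer_instance
  exact Groth.FlatMor2.flat_of_comp_surjective l _

end Restrict

variable {k : Type u} [Field k] {G X Y : Over (Spec (CommRingCat.of k))} [GrpObj G]

/-- If the points over an algebraically closed field are permuted transitively, an element of the
group moves any closed point to any other closed point. -/
theorem exists_snd_act_of_transitive {K : Type u} [Field K] [Algebra k K] [IsAlgClosed K]
    [LocallyOfFiniteType Y.hom] (b : AlgGrp.Action G Y)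
    (htr : ∀ y y' : specAlg k K ⟶ Y, ∃ g : specAlg k K ⟶ G, lift g y ≫ b.act = y')
    (y y' : Y.left) (hy : y ∈ closedPoints Y.left) (hy' : y' ∈ closedPoints Y.left) :
    ∃ z : (G ⊗ Y).left, (snd G Y).left.base z = y ∧ b.act.left.base z = y' := by
  obtain ⟨p, hp⟩ := exists_point_over_closed K Y y hy
  obtain ⟨p', hp'⟩ := exists_point_over_closed K Y y' hy'
  obtain ⟨g, hg⟩ := htr p p'
  refine ⟨(lift g p).left.base (IsLocalRing.closedPoint K), ?_, ?_⟩
  · rw [← hp]
    exact congr(($(lift_snd g p)).left.base (IsLocalRing.closedPoint K))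
  · rw [← hp', ← hg]
    rfl

/-- An equivariant morphism to a homogeneous scheme is surjective. -/
theorem surjective_of_equivariant {K : Type u} [Field K] [Algebra k K] [IsAlgClosed K]
    [LocallyOfFiniteType X.hom] [QuasiCompact X.hom] [LocallyOfFiniteType Y.hom] [QuasiCompact Y.hom]
    [Nonempty X.left] (a : AlgGrp.Action G X) (b : AlgGrp.Action G Y) (f : X ⟶ Y)
    (hf : (G ◁ f) ≫ b.act = a.act ≫ f)
    (htr : ∀ y y' : specAlg k K ⟶ Y, ∃ g : specAlg k K ⟶ G, lift g y ≫ b.act = y') :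
    Surjective f.left := by
  have := isLocallyNoetherian_left Y
  have : CompactSpace Y.left := QuasiCompact.compactSpace_of_compactSpace Y.hom
  have : AlgebraicGeometry.IsNoetherian Y.left := ⟨⟩
  have : CompactSpace X.left := QuasiCompact.compactSpace_of_compactSpace X.hom
  have := lfp_left f
  have : QuasiCompact (f.left ≫ Y.hom) := by rw [Over.w]; infer_instance
  have : QuasiCompact f.left := QuasiCompact.of_comp _ Y.hom
  have hC : IsConstructible (Set.range f.left.base) := by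
    rw [show Set.range f.left.base = f.left.base '' Set.univ from Set.image_univ.symm]
    exact f.left.isConstructible_image IsConstructible.univ
  have := LocallyOfFiniteType.jacobsonSpace Y.hom
  have hinv := isInvariant_range a b f hf
  have hne : ∀ {E : Set Y.left}, IsConstructible E → E.Nonempty → (E ∩ closedPoints Y.left).Nonempty := by
    intro E hE ⟨e, he⟩
    obtain ⟨n, Z, hZ, rfl⟩ := Groth.SpectralTopology.exists_isLocallyClosed_pieces hE
    obtain ⟨i, hi⟩ := Set.mem_iUnion.1 he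
    obtain ⟨c, hc, hcc⟩ := nonempty_inter_closedPoints ⟨e, hi⟩ (hZ i)
    exact ⟨c, Set.mem_iUnion.2 ⟨i, hc⟩, hcc⟩
  obtain ⟨y₀, hy₀, hy₀c⟩ := hne hC (Set.range_nonempty _)
  refine ⟨fun y => ?_⟩
  by_contra hy
  obtain ⟨y₁, hy₁, hy₁c⟩ := hne hC.compl ⟨y, hy⟩
  obtain ⟨z, h1, h2⟩ := exists_snd_act_of_transitive b htr y₀ y₁ hy₀c hy₁c
  have hz : z ∈ (snd G Y).left.base ⁻¹' Set.range f.left.base := by
    rw [Set.mem_preimage, h1]; exact hy₀
  rw [← hinv] at hz
  exact hy₁ (h2 ▸ hz)

/-- An equivariant morphism to a reduced homogeneous scheme is flat. -/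
theorem flat_of_equivariant {K : Type u} [Field K] [Algebra k K] [IsAlgClosed K]
    [LocallyOfFiniteType X.hom] [QuasiCompact X.hom] [LocallyOfFiniteType Y.hom] [QuasiCompact Y.hom]
    [IsReduced Y.left] (a : AlgGrp.Action G X) (b : AlgGrp.Action G Y) (f : X ⟶ Y)
    (hf : (G ◁ f) ≫ b.act = a.act ≫ f)
    (htr : ∀ y y' : specAlg k K ⟶ Y, ∃ g : specAlg k K ⟶ G, lift g y ≫ b.act = y') :
    Flat f.left := by
  rcases isEmpty_or_nonempty Y.left with hY | hY
  · have : IsEmpty X.left := Function.isEmpty f.left.base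
    have : IsOpenImmersion f.left := isOpenImmersion_of_isEmpty _
    infer_instance
  have := isLocallyNoetherian_left Y
  have : CompactSpace Y.left := QuasiCompact.compactSpace_of_compactSpace Y.hom
  have : AlgebraicGeometry.IsNoetherian Y.left := ⟨⟩
  have := lfp_left f
  have : QuasiCompact (f.left ≫ Y.hom) := by rw [Over.w]; infer_instance
  have : QuasiCompact f.left := QuasiCompact.of_comp _ Y.hom
  obtain ⟨V, hVne, hV⟩ := exists_flat_restrict f.left
  let σX := shear a
  let σY := shear b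
  have : IsIso σX.hom.left := inferInstanceAs (IsIso ((Over.forget _).map σX.hom))
  have : IsIso σY.hom.left := inferInstanceAs (IsIso ((Over.forget _).map σY.hom))
  have hσ : σX.hom ≫ (G ◁ f) = (G ◁ f) ≫ σY.hom := by
    apply CartesianMonoidalCategory.hom_ext <;> simp [σX, σY, shear, hf]
  have h2 : Flat ((G ◁ f).left ∣_ ((snd G Y).left ⁻¹ᵁ V)) :=
    flat_restrict_of_isPullback (isPullback_whiskerLeft G f) V
  have h3 : Flat ((G ◁ f).left ∣_ (σY.hom.left ⁻¹ᵁ (snd G Y).left ⁻¹ᵁ V)) :=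
    flat_restrict_of_isPullback (a := σX.hom.left) (b := σY.hom.left) (f := (G ◁ f).left)
      (IsPullback.of_horiz_isIso ⟨by rw [← Over.comp_left, ← Over.comp_left, hσ]⟩) _
  have : Flat (snd G Y).left := inferInstanceAs (Flat (pullback.snd G.hom Y.hom))
  have h4 := flat_restrict_image (isPullback_whiskerLeft G f) (isOpenMap_snd G Y)
    (σY.hom.left ⁻¹ᵁ (snd G Y).left ⁻¹ᵁ V)
  set V' : Y.left.Opens := ⟨(snd G Y).left.base '' _, isOpenMap_snd G Y _
    (σY.hom.left ⁻¹ᵁ (snd G Y).left ⁻¹ᵁ V).2⟩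
  have := LocallyOfFiniteType.jacobsonSpace Y.hom
  obtain ⟨y₀, hy₀, hy₀c⟩ := nonempty_inter_closedPoints hVne V.2.isLocallyClosed
  have htop : V' = ⊤ := by
    refine Opens.ext (Set.eq_univ_of_forall fun y => ?_)
    by_contra hy
    obtain ⟨y₁, hy₁, hy₁c⟩ := nonempty_inter_closedPoints (Z := (V' : Set Y.left)ᶜ) ⟨y, hy⟩
      V'.2.isClosed_compl.isLocallyClosed
    obtain ⟨z, h1, h2⟩ := exists_snd_act_of_transitive b htr y₁ y₀ hy₁c hy₀c
    refine hy₁ ⟨z, ?_, h1⟩
    show (snd G Y).left.base (σY.hom.left.base z) ∈ V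
    have h5 : (snd G Y).left.base (σY.hom.left.base z) = b.act.left.base z :=
      congr(($(show σY.hom ≫ snd G Y = b.act from lift_snd _ _)).left.base z)
    rw [h5, h2]
    exact hy₀
  have h4' : Flat (f.left ∣_ V') := h4
  rw [htop] at h4'
  exact (IsZariskiLocalAtTarget.iff_of_iSup_eq_top (P := @Flat) (fun _ : Unit => (⊤ : Y.left.Opens))
    (iSup_const)).2 fun _ => h4'

end Groth.AlgGrp1
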