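import Groth.Agent.AlgGrp1.LineAction
import Mathlib.LinearAlgebra.Matrix.Kronecker
import Mathlib.LinearAlgebra.Dimension.Free

/-!
Conjugation on a finite subscheme stable under conjugation: an action whose stabilizer is its centralizer.
-/

set_option autoImplicit false
universe u

open CategoryTheory Limits MonoidalCategory CartesianMonoidalCategory MonObj GrpObj AlgebraicGeometry
open Groth.GrassRep
open scoped TensorProduct Kronecker

noncomputable section

namespace Groth.AlgGrp1.InfConj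

variable {k : Type u} [Field k] {G : Over (Spec (CommRingCat.of k))}

/-- `R ⊗ B` -/
abbrev tens (R B : CommAlgCat.{u} k) : CommAlgCat.{u} k := CommAlgCat.of k (R ⊗[k] B)

/-- the left inclusion -/
abbrev inL (R B : CommAlgCat.{u} k) : R ⟶ tens R B := CommAlgCat.ofHom Algebra.TensorProduct.includeLeft

/-- the right inclusion -/
abbrev inR (R B : CommAlgCat.{u} k) : B ⟶ tens R B := CommAlgCat.ofHom Algebra.TensorProduct.includeRight

/-- functoriality in the first factor -/
abbrev mapL {R R' : CommAlgCat.{u} k} (f : R ⟶ R') (B : CommAlgCat.{u} k) : tens R B ⟶ tens R' B :=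
  CommAlgCat.ofHom (Algebra.TensorProduct.map f.hom (AlgHom.id k B))

variable [GrpObj G] {B : CommAlgCat.{u} k} (j : Pt B ⟶ G)

/-- the conjugate of `j` by a point -/
def cnj (R : CommAlgCat.{u} k) (g : Pt R ⟶ G) : Pt (tens R B) ⟶ G :=
  (ptMap (inL R B) ≫ g) * (ptMap (inR R B) ≫ j) * (ptMap (inL R B) ≫ g)⁻¹

theorem cnj_eq_iff (R : CommAlgCat.{u} k) (g : Pt R ⟶ G) :
    cnj j R g = ptMap (inR R B) ≫ j ↔
      (ptMap (inL R B) ≫ g) * (ptMap (inR R B) ≫ j) = (ptMap (inR R B) ≫ j) * (ptMap (inL R B) ≫ g) := by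
  rw [cnj, mul_inv_eq_iff_eq_mul]

theorem ptMap_cnj {R R' : CommAlgCat.{u} k} (f : R ⟶ R') (g : Pt R ⟶ G) :
    ptMap (mapL f B) ≫ cnj j R g = cnj j R' (ptMap f ≫ g) := by
  have e1 : inL R B ≫ mapL f B = f ≫ inL R' B := by
    ext x
    show Algebra.TensorProduct.map f.hom (AlgHom.id k B) (x ⊗ₜ[k] 1) = f.hom x ⊗ₜ[k] 1
    simp
  have e2 : inR R B ≫ mapL f B = inR R' B := by
    ext x
    show Algebra.TensorProduct.map f.hom (AlgHom.id k B) (1 ⊗ₜ[k] x) = 1 ⊗ₜ[k] x
    simp
  simp only [cnj, MonObj.comp_mul, GrpObj.comp_inv, ← Category.assoc, ← ptMap_comp, e1, e2]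

theorem alg_ext [Mono j] {C : CommAlgCat.{u} k} {f f' : B ⟶ C} (h : ptMap f ≫ j = ptMap f' ≫ j) : f = f' := by
  have h' := congrArg CommaMorphism.left ((cancel_mono j).1 h)
  simp only [ptMap_left] at h'
  have h'' := Spec.map_injective h'
  ext x
  exact congr($(h'').hom x)

/-- the `R`-linear extension of `B → R ⊗ B` -/
def extR {R : CommAlgCat.{u} k} (a : B ⟶ tens R B) : tens R B ⟶ tens R B :=
  CommAlgCat.ofHom (Algebra.TensorProduct.lift Algebra.TensorProduct.includeLeft a.hom fun _ _ => .all ..)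

theorem inL_extR {R : CommAlgCat.{u} k} (a : B ⟶ tens R B) : inL R B ≫ extR a = inL R B := by
  ext x
  show (extR a).hom (x ⊗ₜ[k] 1) = x ⊗ₜ[k] 1
  simp [extR]

theorem inR_extR {R : CommAlgCat.{u} k} (a : B ⟶ tens R B) : inR R B ≫ extR a = a := by
  ext x
  show (extR a).hom (1 ⊗ₜ[k] x) = a.hom x
  simp [extR, ← Algebra.TensorProduct.one_def]

variable {n : Type} [Fintype n] [DecidableEq n] (bB : Module.Basis n k B)

/-- coefficients in a basis of `B` -/
def coef (R : CommAlgCat.{u} k) (a : B ⟶ tens R B) : Matrix n n R :=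
  Matrix.of fun i l => (Algebra.TensorProduct.basis R bB).repr (a.hom (bB i)) l

theorem hom_eq_sum {R : CommAlgCat.{u} k} (a : B ⟶ tens R B) (i : n) :
    a.hom (bB i) = ∑ l, coef bB R a i l ⊗ₜ[k] bB l := by
  conv_lhs => rw [← (Algebra.TensorProduct.basis R bB).sum_repr (a.hom (bB i))]
  refine Finset.sum_congr rfl fun l _ => ?_
  rw [Algebra.TensorProduct.basis_apply, TensorProduct.smul_tmul', smul_eq_mul, _root_.mul_one]
  rfl

theorem coef_inR (R : CommAlgCat.{u} k) : coef bB R (inR R B) = 1 := by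
  ext i l
  show (Algebra.TensorProduct.basis R bB).repr ((1 : R) ⊗ₜ[k] bB i) l = _
  simp only [Algebra.TensorProduct.basis_repr_tmul, Matrix.one_apply]
  by_cases h : i = l <;> simp [h]

theorem coef_injective {R : CommAlgCat.{u} k} {a a' : B ⟶ tens R B} (h : coef bB R a = coef bB R a') : a = a' := by
  apply CommAlgCat.hom_ext
  apply AlgHom.toLinearMap_injective
  refine bB.ext fun i => ?_
  show a.hom (bB i) = a'.hom (bB i)
  rw [hom_eq_sum bB, hom_eq_sum bB, h]

theorem coef_mapL {R R' : CommAlgCat.{u} k} (f : R ⟶ R') (a : B ⟶ tens R B) :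
    coef bB R' (a ≫ mapL f B) = (coef bB R a).map f.hom := by
  ext i l
  show (Algebra.TensorProduct.basis R' bB).repr (Algebra.TensorProduct.map f.hom (AlgHom.id k B) (a.hom (bB i))) l = _
  rw [hom_eq_sum bB, map_sum, map_sum, Finset.sum_apply']
  simp [Algebra.TensorProduct.basis_repr_tmul, Finsupp.single_apply, apply_ite, Matrix.map_apply]

theorem coef_extR {R : CommAlgCat.{u} k} (a a' : B ⟶ tens R B) :
    coef bB R (a ≫ extR a') = coef bB R a * coef bB R a' := by
  ext i m
  show (Algebra.TensorProduct.basis R bB).repr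
    ((extR a').hom (a.hom (bB i))) m = _
  rw [hom_eq_sum bB a i]
  simp only [extR, CommAlgCat.hom_ofHom]
  simp only [map_sum, Algebra.TensorProduct.lift_tmul, Algebra.TensorProduct.includeLeft_apply, hom_eq_sum bB a',
    Finset.mul_sum, Algebra.TensorProduct.tmul_mul_tmul, _root_.one_mul, Finset.sum_apply',
    Algebra.TensorProduct.basis_repr_tmul]
  simp [Matrix.mul_apply, Finsupp.single_apply, apply_ite]

/-- **The action whose stabilizer centralizes `j`.** -/
theorem exists_centralizerAction [Module.Finite k B] [Mono j]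
    (hj : ∀ (R : CommAlgCat.{u} k) (g : Pt R ⟶ G), ∃ a : B ⟶ tens R B, ptMap a ≫ j = cnj j R g) :
    ∃ (X : Over (Spec (CommRingCat.of k))) (act : AlgGrp.Action G X) (o : 𝟙_ (Over (Spec (CommRingCat.of k))) ⟶ X),
      IsProper X.hom ∧ ∀ (R : CommAlgCat.{u} k) (g : Pt R ⟶ G),
        lift g (toUnit _ ≫ o) ≫ act.act = toUnit _ ≫ o ↔ cnj j R g = ptMap (inR R B) ≫ j := by
  classical
  let bB := Module.finBasis k B
  set r := Module.finrank k B
  choose a ha using hj
  let Ψ : ∀ R : CommAlgCat.{u} k, (Pt R ⟶ G) → Matrix (Fin r) (Fin r) R := fun R g => coef bB R (a R g)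
  have hΨn : ∀ (R R' : CommAlgCat.{u} k) (f : R ⟶ R') (g : Pt R ⟶ G), Ψ R' (ptMap f ≫ g) = (Ψ R g).map f.hom :=
    fun R R' f g => by
      simp only [Ψ]
      rw [← coef_mapL bB f, alg_ext j (f := a R' (ptMap f ≫ g)) (f' := a R g ≫ mapL f B) (by
        rw [ptMap_comp, Category.assoc, ha, ha, ptMap_cnj])]
  have hΨm : ∀ (R : CommAlgCat.{u} k) (g h : Pt R ⟶ G), Ψ R (g * h) = Ψ R g * Ψ R h := fun R g h => by
    simp only [Ψ]
    rw [← coef_extR, alg_ext j (f := a R (g * h)) (f' := a R g ≫ extR (a R h)) (by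
      rw [ptMap_comp, Category.assoc, ha, ha, cnj, cnj]
      simp only [MonObj.comp_mul, GrpObj.comp_inv, ← Category.assoc, ← ptMap_comp, inL_extR, inR_extR, ha, cnj]
      group)]
  have hΨ1 : ∀ R : CommAlgCat.{u} k, Ψ R 1 = 1 := fun R => by
    simp only [Ψ]
    rw [← coef_inR bB R, alg_ext j (f := a R 1) (f' := inR R B) (by rw [ha, cnj, MonObj.comp_one]; group)]
  have hiff : ∀ (R : CommAlgCat.{u} k) (g : Pt R ⟶ G), Ψ R g = 1 ↔ cnj j R g = ptMap (inR R B) ≫ j := fun R g =>
    ⟨fun h => by rw [← ha R g, coef_injective bB (h.trans (coef_inR bB R).symm)],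
     fun h => by rw [← coef_inR bB R]; exact congrArg (coef bB R) (alg_ext j ((ha R g).trans h))⟩
  -- the matrix whose line stabilizer is the kernel
  let e : (Fin r × Fin r) ⊕ Fin 1 ≃ Fin (r * r + 1) := (Equiv.sumCongr finProdFinEquiv (Equiv.refl _)).trans finSumFinEquiv
  let M : ∀ R : CommAlgCat.{u} k, (Pt R ⟶ G) → Matrix ((Fin r × Fin r) ⊕ Fin 1) ((Fin r × Fin r) ⊕ Fin 1) R :=
    fun R g => Matrix.fromBlocks (Ψ R g ⊗ₖ (1 : Matrix (Fin r) (Fin r) R)) 0 0 1
  let Φ : ∀ R : CommAlgCat.{u} k, (Pt R ⟶ G) → Matrix (Fin (r * r + 1)) (Fin (r * r + 1)) R :=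
    fun R g => (M R g).submatrix e.symm e.symm
  let v : (Fin r × Fin r) ⊕ Fin 1 → k := Sum.elim (fun p => if p.1 = p.2 then 1 else 0) fun _ => 1
  obtain ⟨X, act, o, hX, hstab⟩ := Line.exists_lineAction Φ
    (fun R R' f g => by
      ext x y
      simp only [Φ, M, Matrix.submatrix_apply, Matrix.map_apply]
      rcases e.symm x with p | p <;> rcases e.symm y with q | q
      · by_cases h : p.2 = q.2 <;> simp [hΨn, Matrix.one_apply, h]
      · simp
      · simp
      · by_cases h : p = q <;> simp [Matrix.one_apply, h])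
    (fun R g h => by
      simp only [Φ, M]
      rw [Matrix.submatrix_mul_equiv, Matrix.fromBlocks_multiply, hΨm]
      simp [← Matrix.mul_kronecker_mul])
    (fun R => by simp [Φ, M, hΨ1])
    (v ∘ e.symm) (e (Sum.inr 0)) (by simp [v])
  refine ⟨X, act, o, hX, fun R g => ?_⟩
  rw [hstab, ← hiff]
  have hv : ∀ c : R, (Φ R g).mulVec (fun x => algebraMap k R ((v ∘ e.symm) x)) =
      (fun x => algebraMap k R ((v ∘ e.symm) x) * c) ↔
      (M R g).mulVec (fun x => algebraMap k R (v x)) = fun x => algebraMap k R (v x) * c := fun c => by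
    simp only [Φ]
    rw [show (fun x => algebraMap k R ((v ∘ e.symm) x)) = (fun x => algebraMap k R (v x)) ∘ e.symm from rfl,
      Matrix.submatrix_mulVec_equiv]
    constructor
    · intro h
      funext x
      simpa [Function.comp_assoc] using congrFun h (e x)
    · intro h
      funext x
      simpa [Function.comp_assoc] using congrFun h (e.symm x)
  simp only [hv]
  constructor
  · rintro ⟨c, hc⟩
    have hc1 : c = 1 := by
      have := congrFun hc (Sum.inr 0)
      simpa [M, v, Matrix.mulVec, dotProduct, Matrix.one_apply] using this.symm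
    ext i l
    have := congrFun hc (Sum.inl (i, l))
    simpa [M, v, hc1, Matrix.mulVec, dotProduct, Fintype.sum_prod_type, Matrix.one_apply, apply_ite] using this
  · intro h
    refine ⟨1, funext fun x => ?_⟩
    simp [M, h, v]

end Groth.AlgGrp1.InfConj
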