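import Groth.Agent.Sga3.SectionConj
import Groth.Agent.Misc1.Unip.Primitive
import Mathlib.RingTheory.Bialgebra.TensorProduct
import Mathlib.RingTheory.HopfAlgebra.TensorProduct
import Mathlib.RingTheory.HopfAlgebra.Quotient

/-!
In an extension of a diagonalisable group by a unipotent one, two homomorphisms from a torus which
lift the same homomorphism to the quotient are conjugate by a point of the kernel.
-/

set_option autoImplicit false
universe u

open TensorProduct Coalgebra WithConv
open Groth.Sga3.UnipotentExt Groth.Sga3.SectionConj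

noncomputable section

namespace Groth.AlgGrp1.LiftConj

variable {k : Type u} [Field k]
variable {A B C D : Type u} [CommRing A] [HopfAlgebra k A] [CommRing B] [HopfAlgebra k B]
  [CommRing C] [HopfAlgebra k C] [CommRing D] [HopfAlgebra k D]

/-- the first inclusion into a tensor product, as a bialgebra map -/
def inl (A C : Type u) [CommRing A] [HopfAlgebra k A] [CommRing C] [HopfAlgebra k C] :
    A →ₐc[k] A ⊗[k] C :=
  (Bialgebra.TensorProduct.map (BialgHom.id k A) (Bialgebra.unitBialgHom k C)).comp
    ((Bialgebra.TensorProduct.rid k k A).symm : A →ₐc[k] A ⊗[k] k)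

/-- the second inclusion into a tensor product, as a bialgebra map -/
def inr (A C : Type u) [CommRing A] [HopfAlgebra k A] [CommRing C] [HopfAlgebra k C] :
    C →ₐc[k] A ⊗[k] C :=
  (Bialgebra.TensorProduct.map (Bialgebra.unitBialgHom k A) (BialgHom.id k C)).comp
    ((Bialgebra.TensorProduct.lid k C).symm : C →ₐc[k] k ⊗[k] C)

@[simp] theorem inl_apply (a : A) : inl (k := k) A C a = a ⊗ₜ[k] 1 := by
  simp [inl, Bialgebra.unitBialgHom]

@[simp] theorem inr_apply (c : C) : inr (k := k) A C c = 1 ⊗ₜ[k] c := by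
  simp [inr, Bialgebra.unitBialgHom]

/-- the ideal on which two maps disagree -/
def coeqIdeal (α β : B →ₐc[k] D) : Ideal D := Ideal.span (Set.range fun b => α b - β b)

theorem coeqIdeal_le (α β : B →ₐc[k] D) {E : Type u} [CommRing E] (f : D →+* E)
    (h : ∀ b, f (α b) = f (β b)) : coeqIdeal α β ≤ RingHom.ker f :=
  Ideal.span_le.2 (by rintro _ ⟨b, rfl⟩; simp [h b])

theorem mk_coeq (α β : B →ₐc[k] D) (b : B) :
    Ideal.Quotient.mk (coeqIdeal α β) (α b) = Ideal.Quotient.mk (coeqIdeal α β) (β b) :=
  Ideal.Quotient.eq.2 (Ideal.subset_span ⟨b, rfl⟩)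

/-- The coequalizer ideal of two bialgebra maps is a Hopf ideal. -/
theorem isHopfIdeal_coeq (α β : B →ₐc[k] D) : (coeqIdeal α β).IsHopfIdeal k := by
  set I := coeqIdeal α β
  let Q : D →ₐ[k] D ⧸ I := Ideal.Quotient.mkₐ k I
  let F : D →ₐ[k] (D ⧸ I) ⊗[k] (D ⧸ I) :=
    (Algebra.TensorProduct.map Q Q).comp (Bialgebra.comulAlgHom k D)
  have hF : ∀ x ∈ I, F x = 0 := by
    intro x hx
    refine RingHom.mem_ker.1 (coeqIdeal_le α β F.toRingHom (fun b => ?_) hx)
    change Algebra.TensorProduct.map Q Q (comul (R := k) (α b)) =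
      Algebra.TensorProduct.map Q Q (comul (R := k) (β b))
    rw [← CoalgHomClass.map_comp_comul_apply α b, ← CoalgHomClass.map_comp_comul_apply β b]
    generalize comul (R := k) b = z
    induction z using TensorProduct.induction_on with
    | zero => simp
    | tmul p q =>
      simp only [TensorProduct.map_tmul, Algebra.TensorProduct.map_tmul]
      exact congrArg₂ _ (mk_coeq α β p) (mk_coeq α β q)
    | add p q hp hq => simp only [map_add, hp, hq]
  have hco : (I.restrictScalars k).IsCoideal := by
    refine ⟨fun x hx => ?_, fun x hx => ?_⟩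
    · have h : Bialgebra.counitAlgHom k D x = 0 :=
        RingHom.mem_ker.1 (coeqIdeal_le α β (Bialgebra.counitAlgHom k D).toRingHom
          (fun b => by
            change Bialgebra.counitAlgHom k D (α b) = Bialgebra.counitAlgHom k D (β b)
            simp) hx)
      exact h
    · refine Eq.trans ?_ (hF x hx)
      simp only [F, AlgHom.comp_apply, Bialgebra.comulAlgHom_apply]
      generalize comul (R := k) x = z
      induction z using TensorProduct.induction_on with
      | zero => rw [map_zero, map_zero]; rfl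
      | tmul b c => simp [Q]; rfl
      | add b c hb hc => simp only [map_add, hb, hc]; rfl
  refine { hco with antipode_mem := fun x hx => ?_ }
  have h : I ≤ I.comap (HopfAlgebra.antipodeAlgHom k D) := Ideal.span_le.2 (by
    rintro _ ⟨b, rfl⟩
    change HopfAlgebra.antipode k (α b - β b) ∈ I
    rw [map_sub, ← Groth.Sga3.HopfKer.map_antipode α b, ← Groth.Sga3.HopfKer.map_antipode β b]
    exact Ideal.subset_span ⟨_, rfl⟩)
  exact h hx

variable [IsAlgClosed k] [Algebra.FiniteType k A] [Algebra.FiniteType k C]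

/-- **Two lifts of a homomorphism from a torus to the diagonalisable quotient are conjugate.** -/
theorem exists_conj_lift (hC : SGA3b.IsDiag k C) [IsReduced C] (ψ : B →ₐc[k] A)
    (J : Ideal A) [J.IsHopfIdeal k]
    (hJ : J = Ideal.map (ψ : B →+* A) (RingHom.ker (Bialgebra.counitAlgHom k B)))
    (hU : HopfRep.IsUnipotent k (A ⧸ J)) (χ : B →ₐc[k] C) (φ φ₀ : A →ₐc[k] C)
    (hφ : φ.comp ψ = χ) (hφ₀ : φ₀.comp ψ = χ) :
    ∃ u : A →ₐ[k] k, (∀ a ∈ J, u a = 0) ∧
      toConv (φ : A →ₐ[k] C) = conjP u (toConv (φ₀ : A →ₐ[k] C)) := by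
  let α : B →ₐc[k] A ⊗[k] C := (inl A C).comp ψ
  let β : B →ₐc[k] A ⊗[k] C := (inr A C).comp χ
  let I : Ideal (A ⊗[k] C) := coeqIdeal α β
  haveI hI : I.IsHopfIdeal k := isHopfIdeal_coeq α β
  let E := (A ⊗[k] C) ⧸ I
  let q : A ⊗[k] C →ₐc[k] E := Bialgebra.Quotient.mkBialgHom (R := k) I
  let ψ' : C →ₐc[k] E := q.comp (inr A C)
  let ι : A →ₐc[k] E := q.comp (inl A C)
  -- the retraction attached to a lift
  have hret : ∀ f : A →ₐc[k] C, f.comp ψ = χ → ∃ r : E →ₐc[k] C,
      r.comp ψ' = BialgHom.id k C ∧ r.comp ι = f := by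
    intro f hf
    let g : A ⊗[k] C →ₐc[k] C :=
      (Bialgebra.mulBialgHom k C).comp (Bialgebra.TensorProduct.map f (BialgHom.id k C))
    have hg : ∀ a c, g (a ⊗ₜ c) = f a * c := fun a c => by
      simp [g]
    have hgI : ∀ x ∈ I, g x = 0 := fun x hx => RingHom.mem_ker.1
      (coeqIdeal_le α β (g : A ⊗[k] C →+* C) (fun b => by
        change g (α b) = g (β b)
        simp only [α, β, BialgHom.comp_apply, inl_apply, inr_apply, hg, map_one, one_mul, mul_one]
        exact DFunLike.congr_fun hf b) hx)
    let r₀ : E →ₐ[k] C := Ideal.Quotient.liftₐ I (g : A ⊗[k] C →ₐ[k] C) hgI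
    let r : E →ₐc[k] C := BialgHom.ofAlgHom r₀
      (by
        refine AlgHom.ext fun z => ?_
        obtain ⟨z, rfl⟩ := Ideal.Quotient.mk_surjective z
        change counit (R := k) (g z) = counit (R := k) (q z)
        rw [CoalgHomClass.counit_comp_apply, CoalgHomClass.counit_comp_apply])
      (by
        refine AlgHom.ext fun z => ?_
        obtain ⟨z, rfl⟩ := Ideal.Quotient.mk_surjective z
        change Algebra.TensorProduct.map r₀ r₀ (comul (R := k) (q z)) = comul (R := k) (g z)
        rw [← CoalgHomClass.map_comp_comul_apply q z, ← CoalgHomClass.map_comp_comul_apply g z]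
        generalize comul (R := k) z = w
        induction w using TensorProduct.induction_on with
        | zero => simp
        | tmul x y =>
          simp only [TensorProduct.map_tmul, Algebra.TensorProduct.map_tmul]
          rfl
        | add x y hx hy => simp only [map_add, hx, hy])
    refine ⟨r, BialgHom.ext fun c => ?_, BialgHom.ext fun a => ?_⟩
    · change g (inr A C c) = c
      rw [inr_apply, hg, map_one, one_mul]
    · change g (inl A C a) = f a
      rw [inl_apply, hg, mul_one]
  obtain ⟨r', hr', hr'ι⟩ := hret φ₀ hφ₀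
  obtain ⟨r'', hr'', hr''ι⟩ := hret φ hφ
  have hψ' : Function.Injective ψ' := fun a b h => by
    have h' := congrArg r' h
    rwa [← BialgHom.comp_apply, ← BialgHom.comp_apply, hr'] at h'
  let J' : Ideal E := Ideal.map (ψ' : C →+* E) (RingHom.ker (Bialgebra.counitAlgHom k C))
  haveI hJ' : J'.IsHopfIdeal k := isHopfIdeal_aug (ψ := ψ') rfl
  let π : A →ₐc[k] E ⧸ J' := (Bialgebra.Quotient.mkBialgHom (R := k) J').comp ι
  -- the kernel of the extended quotient map is the same
  have hkill : ∀ c, Ideal.Quotient.mk J' (ψ' c) = algebraMap k (E ⧸ J') (counit (R := k) c) := by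
    intro c
    rw [← Ideal.Quotient.mk_algebraMap, Ideal.Quotient.eq,
      show algebraMap k E (counit (R := k) c) = ψ' (algebraMap k C (counit (R := k) c)) from
        (AlgHom.commutes (ψ' : C →ₐ[k] E) _).symm, ← map_sub]
    refine Ideal.mem_map_of_mem _ ?_
    rw [RingHom.mem_ker, map_sub, AlgHom.commutes, Algebra.algebraMap_self, RingHom.id_apply,
      Bialgebra.counitAlgHom_apply, sub_self]
  have hπJ : ∀ a ∈ J, π a = 0 := by
    have : J ≤ RingHom.ker (π : A →+* E ⧸ J') := by
      rw [hJ, Ideal.map_le_iff_le_comap]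
      intro b hb
      rw [RingHom.mem_ker, Bialgebra.counitAlgHom_apply] at hb
      rw [Ideal.mem_comap, RingHom.mem_ker]
      change Ideal.Quotient.mk J' (q (inl A C (ψ b))) = 0
      rw [show q (inl A C (ψ b)) = ψ' (χ b) from mk_coeq α β b, hkill,
        CoalgHomClass.counit_comp_apply, hb, map_zero]
    exact fun a ha => RingHom.mem_ker.1 (this ha)
  have hsurj : Function.Surjective π := by
    intro y
    obtain ⟨y, rfl⟩ := Ideal.Quotient.mk_surjective y
    obtain ⟨y, rfl⟩ := Ideal.Quotient.mk_surjective y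
    induction y using TensorProduct.induction_on with
    | zero => exact ⟨0, by rw [map_zero, map_zero, map_zero]⟩
    | tmul a c =>
      refine ⟨algebraMap k A (counit (R := k) c) * a, ?_⟩
      have hac : (a ⊗ₜ[k] c : A ⊗[k] C) = inl A C a * inr A C c := by simp
      rw [hac, map_mul, map_mul, map_mul,
        show π (algebraMap k A (counit (R := k) c)) = algebraMap k (E ⧸ J') (counit (R := k) c) from
          (π : A →ₐ[k] E ⧸ J').commutes _,
        show Ideal.Quotient.mk J' (Ideal.Quotient.mk I (inr A C c)) = _ from hkill c, mul_comm]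
      rfl
    | add x y hx hy =>
      obtain ⟨p, hp⟩ := hx
      obtain ⟨p', hp'⟩ := hy
      exact ⟨p + p', by rw [map_add, hp, hp', map_add, map_add]⟩
  let π₀ : A ⧸ J →ₐ[k] E ⧸ J' := Ideal.Quotient.liftₐ J (π : A →ₐ[k] E ⧸ J') hπJ
  let π' : A ⧸ J →ₐc[k] E ⧸ J' := BialgHom.ofAlgHom π₀
    (by
      refine AlgHom.ext fun z => ?_
      obtain ⟨z, rfl⟩ := Ideal.Quotient.mk_surjective z
      change counit (R := k) (π z) = counit (R := k) (Bialgebra.Quotient.mkBialgHom (R := k) J z)
      rw [CoalgHomClass.counit_comp_apply, CoalgHomClass.counit_comp_apply])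
    (by
      refine AlgHom.ext fun z => ?_
      obtain ⟨z, rfl⟩ := Ideal.Quotient.mk_surjective z
      change Algebra.TensorProduct.map π₀ π₀
        (comul (R := k) (Bialgebra.Quotient.mkBialgHom (R := k) J z)) = comul (R := k) (π z)
      rw [← CoalgHomClass.map_comp_comul_apply (Bialgebra.Quotient.mkBialgHom (R := k) J) z,
        ← CoalgHomClass.map_comp_comul_apply π z]
      generalize comul (R := k) z = w
      induction w using TensorProduct.induction_on with
      | zero => simp
      | tmul x y =>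
        simp only [TensorProduct.map_tmul, Algebra.TensorProduct.map_tmul]
        rfl
      | add x y hx hy => simp only [map_add, hx, hy])
  have hU' : HopfRep.IsUnipotent k (E ⧸ J') :=
    Groth.Misc1.Unip.isUnipotent_of_surjective π' (fun y => by
      obtain ⟨a, rfl⟩ := hsurj y
      exact ⟨Ideal.Quotient.mk J a, rfl⟩) hU
  haveI : Algebra.FiniteType k (A ⊗[k] C) := Algebra.FiniteType.trans (S := A) inferInstance inferInstance
  haveI : Algebra.FiniteType k E :=
    Algebra.FiniteType.of_surjective (q : A ⊗[k] C →ₐ[k] E) Ideal.Quotient.mk_surjective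
  obtain ⟨u', hu', he⟩ := exists_conjugating E C hC ψ' hψ' J' rfl hU'
    (Or.inr (Or.inl inferInstance)) r' r'' hr' hr''
  refine ⟨u'.comp (ι : A →ₐ[k] E), fun a ha => ?_, ?_⟩
  · change u' (ι a) = 0
    exact hu' _ (Ideal.Quotient.eq_zero_iff_mem.1 (hπJ a ha))
  · rw [← hr''ι, ← hr'ι]
    have := congrArg (precomp ι) he
    rw [precomp_conjP] at this
    exact this

end Groth.AlgGrp1.LiftConj
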