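import Groth.Agent.AlgGrp1.Rigidity
import Groth.Agent.AlgGrp1.Basic
import Groth.Agent.AlgGrp1.Sub
import Groth.Agent.AlgGrp1.Points
import Groth.Agent.Abvar.AlgClosedAux
import Groth.Agent.Agf.SubobjGrp
import Groth.Agent.VarietyBC.TensorAlgClosed
import Groth.Agent.GrpschAbsch.SmoothField
import Mathlib.RingTheory.Smooth.Basic
import Mathlib.RingTheory.Jacobson.Ring

/-!
# Nilpotent global functions on a non-reduced algebraic group

A non-reduced group scheme of finite type over an algebraically closed field has a nonzero nilpotent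
global function. If `I` is the nilradical and `I ^ (m + 1) = 0`, then a section `f` of `I ^ m` over
an affine open `V` gives a global section `x ↦ f (c * r(x)⁻¹ * x)`, where `r` is any local
retraction onto the reduced subgroup: the value does not depend on `r`.
-/

set_option autoImplicit false

universe u

open CategoryTheory Limits MonoidalCategory CartesianMonoidalCategory MonObj GrpObj AlgebraicGeometry
  TopologicalSpace
open scoped TensorProduct

noncomputable section

namespace Groth.AlgGrp1.Nil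

section Rings

variable {A B C L : Type u} [CommRing A] [CommRing B] [CommRing C] [CommRing L]

theorem map_mem_nilradical_pow (φ : A →+* B) {m : ℕ} {x : A} (hx : x ∈ nilradical A ^ m) :
    φ x ∈ nilradical B ^ m := by
  have h : (nilradical A).map φ ≤ nilradical B :=
    Ideal.map_le_iff_le_comap.2 fun a (ha : a ∈ nilradical A) => mem_nilradical.2 ((mem_nilradical.1 ha).map φ)
  exact Ideal.pow_right_mono h m (Ideal.map_pow φ _ m ▸ Ideal.mem_map_of_mem φ hx)

theorem nilradical_le_map_localization [Algebra C L] (M : Submonoid C) [IsLocalization M L]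
    (I : Ideal C) (h : nilradical C ≤ I) : nilradical L ≤ I.map (algebraMap C L) := by
  intro x hx
  obtain ⟨n, hn⟩ := mem_nilradical.1 hx
  obtain ⟨t, s, rfl⟩ := IsLocalization.exists_mk'_eq M x
  rw [← IsLocalization.mk'_pow, IsLocalization.mk'_eq_zero_iff] at hn
  obtain ⟨s', hs'⟩ := hn
  have hmem : (s' : C) * t ∈ I := h (mem_nilradical.2 ⟨n + 1, by
    calc ((s' : C) * t) ^ (n + 1) = (s' : C) ^ n * t * (↑s' * t ^ n) := by ring
      _ = 0 := by rw [hs', mul_zero]⟩)
  have h2 := Ideal.mem_map_of_mem (algebraMap C L) hmem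
  rw [map_mul, Ideal.unit_mul_mem_iff_mem _ (IsLocalization.map_units L s')] at h2
  exact IsLocalization.mk'_mem_iff.2 h2

theorem map_pow_eq_zero {n : ℕ} [Algebra C L] (M : Submonoid C) [IsLocalization M L]
    (h : nilradical C ^ n = ⊥) : nilradical L ^ n = ⊥ := by
  refine le_bot_iff.1 ((Ideal.pow_right_mono (nilradical_le_map_localization M _ le_rfl) n).trans ?_)
  rw [← Ideal.map_pow, h, Ideal.map_bot]

/-- Two homomorphisms congruent modulo nilpotents agree on the top power of the nilradical. -/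
theorem eq_of_congr {m : ℕ} (φ : A →+* C) (a b : C →+* L) (hφ : a.comp φ = b.comp φ)
    (hab : ∀ c, a c - b c ∈ nilradical L) (hnil : nilradical C ≤ (nilradical A).map φ)
    (hm : nilradical L ^ (m + 1) = ⊥) {G : C} (hG : G ∈ nilradical C ^ m) : a G = b G := by
  have hG' : G ∈ (nilradical A ^ m).map φ := Ideal.map_pow φ _ m ▸ Ideal.pow_right_mono hnil m hG
  rw [Ideal.map] at hG'
  clear hG
  induction hG' using Submodule.span_induction with
  | mem x hx =>
    obtain ⟨y, -, rfl⟩ := hx
    exact congr($hφ y)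
  | zero => simp
  | add x y _ _ hx hy => rw [map_add, map_add, hx, hy]
  | smul c x hx' hx =>
    rw [smul_eq_mul, map_mul, map_mul, ← hx]
    have h1 : a x ∈ nilradical L ^ m := by
      refine map_mem_nilradical_pow a ?_
      have : (nilradical A ^ m).map φ ≤ nilradical C ^ m :=
        Ideal.map_le_iff_le_comap.2 fun y hy => map_mem_nilradical_pow φ hy
      exact this hx'
    have h2 : (a c - b c) * a x ∈ nilradical L ^ (m + 1) := by
      rw [pow_succ']
      exact Ideal.mul_mem_mul (hab c) h1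
    rw [hm, Ideal.mem_bot, sub_mul, sub_eq_zero] at h2
    exact h2

/-- A homomorphism killing the generators kills the power of the nilradical. -/
theorem eq_zero_of_kills {m : ℕ} (φ : A →+* C) (a : C →+* L)
    (hk : ∀ y ∈ nilradical A ^ m, a (φ y) = 0) (hnil : nilradical C ≤ (nilradical A).map φ)
    {G : C} (hG : G ∈ nilradical C ^ m) : a G = 0 := by
  have hG' : G ∈ (nilradical A ^ m).map φ := Ideal.map_pow φ _ m ▸ Ideal.pow_right_mono hnil m hG
  have hle : (nilradical A ^ m).map φ ≤ RingHom.ker a :=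
    Ideal.map_le_iff_le_comap.2 fun y hy => RingHom.mem_ker.2 (hk y hy)
  exact hle hG'

/-- An element vanishing near every prime vanishes. -/
theorem eq_zero_of_locally (x : A)
    (h : ∀ P : Ideal A, P.IsPrime → ∃ g, g ∉ P ∧ algebraMap A (Localization.Away g) x = 0) : x = 0 := by
  by_contra hx
  have hne : Submodule.colon (⊥ : Ideal A) {x} ≠ ⊤ := fun e => hx (by
    have : (1 : A) ∈ Submodule.colon (⊥ : Ideal A) {x} := e ▸ trivial
    simpa using Submodule.mem_colon_singleton.1 this)
  obtain ⟨P, hP, hle⟩ := Ideal.exists_le_maximal _ hne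
  obtain ⟨g, hg, h0⟩ := h P hP.isPrime
  obtain ⟨⟨_, n, rfl⟩, hn⟩ := (IsLocalization.map_eq_zero_iff (Submonoid.powers g) _ x).1 h0
  exact hg (hP.isPrime.mem_of_pow_mem n (hle (Submodule.mem_colon_singleton.2 (by simpa using hn))))

end Rings

variable {k : Type u} [Field k]

section SpecMaps

variable {R R' R'' : Type u} [CommRing R] [Algebra k R] [CommRing R'] [Algebra k R'] [CommRing R'']
  [Algebra k R'']

@[simp] theorem specAlgMap_left (φ : R →ₐ[k] R') :
    (specAlgMap φ).left = Spec.map (CommRingCat.ofHom φ.toRingHom) := rfl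

theorem specAlgMap_comp (φ : R →ₐ[k] R') (ψ : R' →ₐ[k] R'') :
    specAlgMap (ψ.comp φ) = specAlgMap ψ ≫ specAlgMap φ := by
  apply Over.OverMorphism.ext
  rw [Over.comp_left, specAlgMap_left, specAlgMap_left, specAlgMap_left, ← Spec.map_comp]
  rfl

theorem specAlgMap_id : specAlgMap (AlgHom.id k R) = 𝟙 (specAlg k R) := by
  apply Over.OverMorphism.ext
  exact Spec.map_id _

theorem specAlgMap_injective {φ ψ : R →ₐ[k] R'} (h : specAlgMap φ = specAlgMap ψ) : φ = ψ := by
  have h1 := Spec.map_injective (congrArg CommaMorphism.left h)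
  exact AlgHom.ext fun x => congr($(h1).hom x)

/-- A morphism of spectra over `k` comes from a homomorphism of algebras. -/
theorem exists_algHom (f : specAlg k R' ⟶ specAlg k R) : ∃ φ : R →ₐ[k] R', specAlgMap φ = f := by
  refine ⟨⟨(Spec.preimage f.left).hom, fun c => ?_⟩, ?_⟩
  · have h : CommRingCat.ofHom (algebraMap k R) ≫ Spec.preimage f.left =
        CommRingCat.ofHom (algebraMap k R') := Spec.map_injective (by
      rw [Spec.map_comp, Spec.map_preimage]
      exact Over.w f)
    exact congr($(h).hom c)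
  · apply Over.OverMorphism.ext
    exact Spec.map_preimage f.left

end SpecMaps

variable {N : Over (Spec (CommRingCat.of k))}

/-- The algebra structure on sections. -/
abbrev algU (U : N.left.Opens) : Algebra k Γ(N.left, U) :=
  ((Scheme.ΓSpecIso (CommRingCat.of k)).inv ≫ N.hom.appLE ⊤ U le_top).hom.toAlgebra

attribute [local instance] algU

/-- The inclusion of an affine open. -/
def incl {U : N.left.Opens} (hU : IsAffineOpen U) : specAlg k Γ(N.left, U) ⟶ N :=
  Over.homMk hU.fromSpec (by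
    show hU.fromSpec ≫ N.hom = Spec.map ((Scheme.ΓSpecIso (CommRingCat.of k)).inv ≫ N.hom.appLE ⊤ U le_top)
    rw [Spec.map_comp, ← IsAffineOpen.SpecMap_appLE_fromSpec N.hom (isAffineOpen_top _) hU le_top]
    congr 1
    rw [IsAffineOpen.fromSpec_top, Scheme.isoSpec_Spec_inv])

@[simp] theorem incl_left {U : N.left.Opens} (hU : IsAffineOpen U) : (incl hU).left = hU.fromSpec := rfl

instance {U : N.left.Opens} (hU : IsAffineOpen U) : IsOpenImmersion (incl hU).left :=
  hU.isOpenImmersion_fromSpec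

theorem mono_incl {U : N.left.Opens} (hU : IsAffineOpen U) : Mono (incl hU) :=
  Over.mono_of_mono_left _

/-- Restriction as a homomorphism of algebras. -/
def res {U W : N.left.Opens} (h : W ≤ U) : Γ(N.left, U) →ₐ[k] Γ(N.left, W) where
  __ := (N.left.presheaf.map (homOfLE h).op).hom
  commutes' c := by
    show ((Scheme.ΓSpecIso (CommRingCat.of k)).inv ≫ N.hom.appLE ⊤ U le_top ≫
      N.left.presheaf.map (homOfLE h).op).hom c = _
    rw [Scheme.Hom.appLE_map]
    rfl

theorem res_incl {U W : N.left.Opens} (hU : IsAffineOpen U) (hW : IsAffineOpen W) (h : W ≤ U) :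
    specAlgMap (res h) ≫ incl hU = incl hW := by
  apply Over.OverMorphism.ext
  exact hU.map_fromSpec hW (homOfLE h).op

/-- A factorization through an affine open. -/
theorem exists_factor {R : Type u} [CommRing R] [Algebra k R] {V : N.left.Opens} (hV : IsAffineOpen V)
    (g : specAlg k R ⟶ N) (h : ∀ p, g.left.base p ∈ V) :
    ∃ υ : Γ(N.left, V) →ₐ[k] R, specAlgMap υ ≫ incl hV = g := by
  have h' : Set.range g.left.base ⊆ Set.range hV.fromSpec.base := by
    rw [hV.range_fromSpec]
    rintro _ ⟨p, rfl⟩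
    exact h p
  obtain ⟨φ, hφ⟩ := exists_algHom (k := k)
    (Over.homMk (IsOpenImmersion.lift hV.fromSpec g.left h') (by
      have hw := Over.w (incl hV)
      rw [incl_left] at hw
      rw [← hw, IsOpenImmersion.lift_fac_assoc, Over.w g]) : specAlg k R ⟶ specAlg k Γ(N.left, V))
  exact ⟨φ, by rw [hφ]; exact Over.OverMorphism.ext (IsOpenImmersion.lift_fac _ _ _)⟩

/-- A factorization through an affine open near a point. -/
theorem exists_factor_away {R : Type u} [CommRing R] [Algebra k R] {V : N.left.Opens}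
    (hV : IsAffineOpen V) (g : specAlg k R ⟶ N) (Q : PrimeSpectrum R) (hQ : g.left.base Q ∈ V) :
    ∃ (h : R) (γ : Γ(N.left, V) →ₐ[k] Localization.Away h), h ∉ Q.asIdeal ∧
      specAlgMap (IsScalarTower.toAlgHom k R (Localization.Away h)) ≫ g = specAlgMap γ ≫ incl hV := by
  obtain ⟨_, ⟨_, ⟨h, rfl⟩, rfl⟩, hh, hsub⟩ :=
    PrimeSpectrum.isBasis_basic_opens.exists_subset_of_mem_open
      (show Q ∈ g.left.base ⁻¹' (V : Set N.left) from hQ) (V.2.preimage g.left.continuous)
  obtain ⟨γ, hγ⟩ := exists_factor hV (specAlgMap (IsScalarTower.toAlgHom k R (Localization.Away h)) ≫ g)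
    (fun p => hsub (by
      have hp : PrimeSpectrum.comap (algebraMap R (Localization.Away h)) p ∈
          Set.range (PrimeSpectrum.comap (algebraMap R (Localization.Away h))) := ⟨p, rfl⟩
      rw [PrimeSpectrum.localization_away_comap_range (Localization.Away h) h] at hp
      exact hp))
  exact ⟨h, γ, hh, hγ.symm⟩

theorem extension_eq {R R' L : Type u} [CommRing R] [Algebra k R] [CommRing R'] [Algebra k R']
    [CommRing L] [Algebra k L] {V : N.left.Opens} (hV : IsAffineOpen V) {g : specAlg k R ⟶ N} {h : R}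
    {γ : Γ(N.left, V) →ₐ[k] Localization.Away h}
    (hγ : specAlgMap (IsScalarTower.toAlgHom k R (Localization.Away h)) ≫ g = specAlgMap γ ≫ incl hV)
    {a : R →ₐ[k] R'} {υ : Γ(N.left, V) →ₐ[k] R'} (ha : specAlgMap a ≫ g = specAlgMap υ ≫ incl hV)
    (φ : R' →ₐ[k] L) (a' : Localization.Away h →ₐ[k] L)
    (ha' : a'.comp (IsScalarTower.toAlgHom k R (Localization.Away h)) = φ.comp a) :
    a'.comp γ = φ.comp υ := by
  have := mono_incl hV
  apply specAlgMap_injective
  rw [← cancel_mono (incl hV), specAlgMap_comp, specAlgMap_comp, Category.assoc, Category.assoc,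
    ← hγ, ← Category.assoc, ← specAlgMap_comp, ha', specAlgMap_comp, Category.assoc, ha]

/-- Endomorphisms retracting an affine scheme onto its reduction. -/
def Good {A : Type u} [CommRing A] [Algebra k A] (e : A →ₐ[k] A) : Prop :=
  (∀ a ∈ nilradical A, e a = 0) ∧ ∀ a, e a - a ∈ nilradical A

/-- The quotient lift of a good endomorphism. -/
def Good.bar {A : Type u} [CommRing A] [Algebra k A] {e : A →ₐ[k] A} (he : Good e) :
    (A ⧸ nilradical A) →ₐ[k] A := Ideal.Quotient.liftₐ _ e he.1

theorem Good.bar_comp {A : Type u} [CommRing A] [Algebra k A] {e : A →ₐ[k] A} (he : Good e) :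
    he.bar.comp (Ideal.Quotient.mkₐ k _) = e := Ideal.Quotient.liftₐ_comp _ _ _

theorem nilradical_tensor_le [IsAlgClosed k] (A : Type u) [CommRing A] [Algebra k A] :
    nilradical ((A ⧸ nilradical A) ⊗[k] A) ≤
      (nilradical A).map (Algebra.TensorProduct.includeRight (R := k) (A := A ⧸ nilradical A)) := by
  have : IsReduced (A ⧸ nilradical A) :=
    (Ideal.isRadical_iff_quotient_reduced _).1 (Ideal.radical_isRadical _)
  have : IsReduced ((A ⧸ nilradical A) ⊗[k] (A ⧸ nilradical A)) := Groth.VarietyBC.isReduced_tensor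
  have hker := Algebra.TensorProduct.lTensor_ker (A := A ⧸ nilradical A)
    (Ideal.Quotient.mkₐ k (nilradical A)) Ideal.Quotient.mk_surjective
  intro x hx
  have h1 : Algebra.TensorProduct.map (AlgHom.id k (A ⧸ nilradical A))
      (Ideal.Quotient.mkₐ k (nilradical A)) x = 0 := ((mem_nilradical.1 hx).map _).eq_zero
  have h2 : x ∈ RingHom.ker (Algebra.TensorProduct.map (AlgHom.id k (A ⧸ nilradical A))
      (Ideal.Quotient.mkₐ k (nilradical A))) := h1
  rw [hker, show RingHom.ker (Ideal.Quotient.mkₐ k (nilradical A)) = nilradical A from Ideal.mk_ker] at h2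
  exact h2

variable [GrpObj N]

/-- The morphism `x ↦ c * r(x)⁻¹ * x`. -/
def twist {U : N.left.Opens} (hU : IsAffineOpen U) (c : 𝟙_ _ ⟶ N)
    (e : Γ(N.left, U) →ₐ[k] Γ(N.left, U)) : specAlg k Γ(N.left, U) ⟶ N :=
  (toUnit _ ≫ c) * ((specAlgMap e ≫ incl hU)⁻¹ * incl hU)

/-- The value on `U` of the section attached to `f`. -/
def IsVal {V : N.left.Opens} (hV : IsAffineOpen V) (c : 𝟙_ _ ⟶ N) (f : Γ(N.left, V))
    {U : N.left.Opens} (hU : IsAffineOpen U) (x : Γ(N.left, U)) : Prop :=
  ∃ (e : Γ(N.left, U) →ₐ[k] Γ(N.left, U)) (υ : Γ(N.left, V) →ₐ[k] Γ(N.left, U)),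
    Good e ∧ specAlgMap υ ≫ incl hV = twist hU c e ∧ υ f = x

theorem twist_eq {U : N.left.Opens} (hU : IsAffineOpen U) (c : 𝟙_ _ ⟶ N)
    {e : Γ(N.left, U) →ₐ[k] Γ(N.left, U)} (he : Good e) :
    specAlgMap (Algebra.TensorProduct.lift he.bar (AlgHom.id k _) (fun _ _ => Commute.all _ _)) ≫
      ((toUnit _ ≫ c) *
        ((specAlgMap (Algebra.TensorProduct.includeLeft : (Γ(N.left, U) ⧸ nilradical Γ(N.left, U)) →ₐ[k] _) ≫
            specAlgMap (Ideal.Quotient.mkₐ k _) ≫ incl hU)⁻¹ *
          (specAlgMap (Algebra.TensorProduct.includeRight : Γ(N.left, U) →ₐ[k] _) ≫ incl hU))) =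
    twist hU c e := by
  simp only [twist, MonObj.comp_mul, GrpObj.comp_inv, ← Category.assoc, ← specAlgMap_comp]
  rw [← AlgHom.comp_assoc, Algebra.TensorProduct.lift_comp_includeLeft, Algebra.TensorProduct.lift_comp_includeRight',
    specAlgMap_id, Category.id_comp, Good.bar_comp, toUnit_unique (_ ≫ toUnit _) (toUnit _)]

theorem val_unique [IsAlgClosed k] {m : ℕ} {V : N.left.Opens} (hV : IsAffineOpen V) {c : 𝟙_ _ ⟶ N}
    {f : Γ(N.left, V)} (hf : f ∈ nilradical Γ(N.left, V) ^ m) {U : N.left.Opens} (hU : IsAffineOpen U)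
    (hm : nilradical Γ(N.left, U) ^ (m + 1) = ⊥) {x x' : Γ(N.left, U)}
    (hx : IsVal hV c f hU x) (hx' : IsVal hV c f hU x') : x = x' := by
  obtain ⟨e, υ, he, hυ, rfl⟩ := hx
  obtain ⟨e', υ', he', hυ', rfl⟩ := hx'
  let A := Γ(N.left, U)
  let T := (A ⧸ nilradical A) ⊗[k] A
  let a : T →ₐ[k] A := Algebra.TensorProduct.lift he.bar (AlgHom.id k _) (fun _ _ => Commute.all _ _)
  let b : T →ₐ[k] A := Algebra.TensorProduct.lift he'.bar (AlgHom.id k _) (fun _ _ => Commute.all _ _)
  obtain ⟨g, hga, hgb⟩ : ∃ g : specAlg k T ⟶ N, specAlgMap a ≫ g = specAlgMap υ ≫ incl hV ∧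
      specAlgMap b ≫ g = specAlgMap υ' ≫ incl hV :=
    ⟨_, (twist_eq hU c he).trans hυ.symm, (twist_eq hU c he').trans hυ'.symm⟩
  have hab : ∀ t, a t - b t ∈ nilradical A := by
    intro t
    induction t using TensorProduct.induction_on with
    | zero => simp
    | tmul s y =>
      obtain ⟨s, rfl⟩ := Ideal.Quotient.mk_surjective (I := nilradical Γ(N.left, U)) s
      erw [Algebra.TensorProduct.lift_tmul, Algebra.TensorProduct.lift_tmul]
      simp only [AlgHom.coe_id, id_eq, ← sub_mul]
      refine Ideal.mul_mem_right _ _ ?_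
      have h1 : he.bar (Ideal.Quotient.mk _ s) = e s := congr($(he.bar_comp) s)
      have h2 : he'.bar (Ideal.Quotient.mk _ s) = e' s := congr($(he'.bar_comp) s)
      rw [h1, h2, show e s - e' s = (e s - s) - (e' s - s) by ring]
      exact sub_mem (he.2 s) (he'.2 s)
    | add t t' ht ht' =>
      rw [map_add, map_add, add_sub_add_comm]
      exact add_mem ht ht'
  rw [← sub_eq_zero]
  refine eq_zero_of_locally _ fun P hP => ?_
  have hPV : g.left.base (PrimeSpectrum.comap a.toRingHom ⟨P, hP⟩) ∈ V := by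
    have h1 : g.left.base ((specAlgMap a).left.base ⟨P, hP⟩) =
        (specAlgMap υ ≫ incl hV).left.base ⟨P, hP⟩ := congr(($hga).left.base ⟨P, hP⟩)
    have h2 : (incl hV).left.base ((specAlgMap υ).left.base ⟨P, hP⟩) ∈ Set.range hV.fromSpec.base := ⟨_, rfl⟩
    rw [hV.range_fromSpec] at h2
    exact h1 ▸ h2
  obtain ⟨h, γ, hh, hγ⟩ := exists_factor_away hV g _ hPV
  refine ⟨a h, hh, ?_⟩
  let L := Localization.Away (a h)
  let φ : A →ₐ[k] L := IsScalarTower.toAlgHom k A L
  have hua : IsUnit (φ (a h)) := IsLocalization.Away.algebraMap_isUnit (a h)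
  have hub : IsUnit (φ (b h)) := by
    have h1 : φ (b h) = φ (a h) + -φ (a h - b h) := by rw [map_sub]; ring
    rw [h1]
    exact ((mem_nilradical.1 (hab h)).map φ).neg.isUnit_add_left_of_commute hua (Commute.all _ _)
  let a' : Localization.Away h →ₐ[k] L := IsLocalization.liftAlgHom (M := Submonoid.powers h)
    (f := φ.comp a) (by rintro ⟨_, n, rfl⟩; exact map_pow (φ.comp a) h n ▸ hua.pow n)
  let b' : Localization.Away h →ₐ[k] L := IsLocalization.liftAlgHom (M := Submonoid.powers h)
    (f := φ.comp b) (by rintro ⟨_, n, rfl⟩; exact map_pow (φ.comp b) h n ▸ hub.pow n)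
  have ha' : ∀ t, a' (algebraMap T _ t) = φ (a t) := fun t => IsLocalization.lift_eq _ t
  have hb' : ∀ t, b' (algebraMap T _ t) = φ (b t) := fun t => IsLocalization.lift_eq _ t
  have e1 := extension_eq hV hγ hga φ a' (AlgHom.ext ha')
  have e2 := extension_eq hV hγ hgb φ b' (AlgHom.ext hb')
  rw [map_sub, sub_eq_zero]
  show φ (υ f) = φ (υ' f)
  rw [← AlgHom.comp_apply, ← AlgHom.comp_apply, ← e1, ← e2]
  refine eq_of_congr ((algebraMap T _).comp (Algebra.TensorProduct.includeRight : A →ₐ[k] T).toRingHom)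
    a'.toRingHom b'.toRingHom ?_ ?_ ?_ (map_pow_eq_zero (Submonoid.powers (a h)) hm)
    (map_mem_nilradical_pow γ.toRingHom hf)
  · refine RingHom.ext fun y => ?_
    show a' (algebraMap T _ (1 ⊗ₜ y)) = b' (algebraMap T _ (1 ⊗ₜ y))
    rw [ha', hb']
    have h1 : a (1 ⊗ₜ y) = y := (Algebra.TensorProduct.lift_tmul ..).trans (by simp)
    have h2 : b (1 ⊗ₜ y) = y := (Algebra.TensorProduct.lift_tmul ..).trans (by simp)
    exact congrArg φ (h1.trans h2.symm)
  · intro z
    obtain ⟨t, ⟨_, n, rfl⟩, rfl⟩ := IsLocalization.exists_mk'_eq (Submonoid.powers h) z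
    have hz := IsLocalization.mk'_spec (Localization.Away h) t (⟨_, n, rfl⟩ : Submonoid.powers h)
    have hza := congrArg a' hz
    have hzb := congrArg b' hz
    rw [map_mul, ha', ha'] at hza
    rw [map_mul, hb', hb'] at hzb
    set w := IsLocalization.mk' (Localization.Away h) t (⟨_, n, rfl⟩ : Submonoid.powers h)
    have hnilt : ∀ s, φ (a s) - φ (b s) ∈ nilradical L := fun s => by
      rw [← map_sub]; exact mem_nilradical.2 ((mem_nilradical.1 (hab s)).map φ)
    have hu : IsUnit (φ (a (h ^ n))) := by rw [map_pow, map_pow]; exact hua.pow n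
    have key : (a' w - b' w) * φ (a (h ^ n)) =
        (φ (a t) - φ (b t)) - b' w * (φ (a (h ^ n)) - φ (b (h ^ n))) := by
      rw [sub_mul, hza, mul_sub, hzb]; ring
    have : (a' w - b' w) * φ (a (h ^ n)) ∈ nilradical L :=
      key ▸ sub_mem (hnilt t) (Ideal.mul_mem_left _ _ (hnilt _))
    exact (Ideal.mul_unit_mem_iff_mem _ hu).1 this
  · rw [← Ideal.map_map]
    exact nilradical_le_map_localization (Submonoid.powers h) _ (nilradical_tensor_le A)

theorem IsVal.restrict {V : N.left.Opens} {hV : IsAffineOpen V} {c : 𝟙_ _ ⟶ N} {f : Γ(N.left, V)}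
    {U : N.left.Opens} {hU : IsAffineOpen U} {x : Γ(N.left, U)} (hx : IsVal hV c f hU x)
    (g : Γ(N.left, U)) {W : N.left.Opens} (hW : IsAffineOpen W) (hg : W = N.left.basicOpen g)
    (hle : W ≤ U) : IsVal hV c f hW (res (k := k) hle x) := by
  obtain ⟨e, υ, he, hυ, rfl⟩ := hx
  let : Algebra Γ(N.left, U) Γ(N.left, W) := (res (k := k) hle).toRingHom.toAlgebra
  have : IsScalarTower k Γ(N.left, U) Γ(N.left, W) := .of_algHom (res hle)
  have : IsLocalization.Away g Γ(N.left, W) := hU.isLocalization_of_eq_basicOpen g (homOfLE hle) hg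
  let r := res (k := k) hle
  have hug : IsUnit (r (e g)) := by
    have h1 : r (e g) = r g + r (e g - g) := by rw [map_sub]; ring
    rw [h1]
    exact ((mem_nilradical.1 (he.2 g)).map r).isUnit_add_left_of_commute
      (IsLocalization.Away.algebraMap_isUnit (S := Γ(N.left, W)) g) (Commute.all _ _)
  let e' : Γ(N.left, W) →ₐ[k] Γ(N.left, W) := IsLocalization.liftAlgHom (M := Submonoid.powers g)
    (f := r.comp e) (by rintro ⟨_, n, rfl⟩; exact map_pow (r.comp e) g n ▸ hug.pow n)
  have he'r : ∀ y, e' (r y) = r (e y) := fun y => IsLocalization.lift_eq _ y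
  have he' : Good e' := by
    refine ⟨fun y hy => ?_, fun y => ?_⟩
    · have := nilradical_le_map_localization (Submonoid.powers g) _ le_rfl hy
      have hle : (nilradical Γ(N.left, U)).map (algebraMap Γ(N.left, U) Γ(N.left, W)) ≤ RingHom.ker e'.toRingHom :=
        Ideal.map_le_iff_le_comap.2 fun z hz => ?_
      exact hle this
      show e' (r z) = 0
      rw [he'r, he.1 z hz, map_zero]
    · obtain ⟨t, ⟨_, n, rfl⟩, rfl⟩ := IsLocalization.exists_mk'_eq (Submonoid.powers g) y
      set w := IsLocalization.mk' Γ(N.left, W) t (⟨_, n, rfl⟩ : Submonoid.powers g)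
      have hz : w * r (g ^ n) = r t := IsLocalization.mk'_spec _ t (⟨_, n, rfl⟩ : Submonoid.powers g)
      have hze := congrArg e' hz
      rw [map_mul, he'r, he'r] at hze
      have hnilt : ∀ s, r (e s) - r s ∈ nilradical Γ(N.left, W) := fun s => by
        rw [← map_sub]; exact mem_nilradical.2 ((mem_nilradical.1 (he.2 s)).map r)
      have key : (e' w - w) * r (g ^ n) =
          (r (e t) - r t) - e' w * (r (e (g ^ n)) - r (g ^ n)) := by
        rw [mul_sub, hze, sub_mul, hz]; ring
      have hu : IsUnit (r (g ^ n)) := by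
        rw [map_pow]; exact (IsLocalization.Away.algebraMap_isUnit (S := Γ(N.left, W)) g).pow n
      exact (Ideal.mul_unit_mem_iff_mem _ hu).1 (key ▸ sub_mem (hnilt t) (Ideal.mul_mem_left _ _ (hnilt _)))
  refine ⟨e', r.comp υ, he', ?_, rfl⟩
  rw [specAlgMap_comp, Category.assoc, hυ, twist, twist, MonObj.comp_mul, MonObj.comp_mul,
    GrpObj.comp_inv, res_incl hU hW, ← Category.assoc, ← Category.assoc,
    toUnit_unique (_ ≫ toUnit _) (toUnit _), ← specAlgMap_comp,
    show r.comp e = e'.comp r from (AlgHom.ext he'r).symm, specAlgMap_comp, Category.assoc, res_incl hU hW]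

section Field

variable [IsAlgClosed k] [LocallyOfFiniteType N.hom]

theorem finiteType_sections {U : N.left.Opens} (hU : IsAffineOpen U) :
    Algebra.FiniteType k Γ(N.left, U) := by
  have : LocallyOfFiniteType (specAlg k Γ(N.left, U)).hom := by rw [← Over.w (incl hU)]; infer_instance
  exact RingHom.finiteType_algebraMap.1
    ((HasRingHomProperty.Spec_iff (P := @LocallyOfFiniteType)
      (φ := CommRingCat.ofHom (algebraMap k Γ(N.left, U)))).1 this)

omit [GrpObj N] in
theorem exists_algHom_ker {A : Type u} [CommRing A] [Algebra k A] [Algebra.FiniteType k A]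
    (P : Ideal A) [P.IsMaximal] : ∃ ψ : A →ₐ[k] k, ∀ x, ψ x = 0 ↔ x ∈ P := by
  let := Ideal.Quotient.field P
  have : Module.Finite k (A ⧸ P) := finite_of_finite_type_of_isJacobsonRing k (A ⧸ P)
  let e : k ≃ₐ[k] A ⧸ P := AlgEquiv.ofBijective (Algebra.ofId k _)
    (IsAlgClosed.algebraMap_bijective_of_isIntegral (k := k) (K := A ⧸ P))
  exact ⟨e.symm.toAlgHom.comp (Ideal.Quotient.mkₐ k P), fun x => by
    simp [Ideal.Quotient.eq_zero_iff_mem]⟩

theorem twist_mem {U : N.left.Opens} (hU : IsAffineOpen U) {c : 𝟙_ _ ⟶ N}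
    {e : Γ(N.left, U) →ₐ[k] Γ(N.left, U)} (he : Good e) {V : N.left.Opens}
    (hcV : c.left.base (IsLocalRing.closedPoint k) ∈ V) (p : PrimeSpectrum Γ(N.left, U)) :
    (twist hU c e).left.base p ∈ V := by
  have := finiteType_sections (N := N) hU
  obtain ⟨P, hP, hpP⟩ := Ideal.exists_le_maximal p.asIdeal p.isPrime.ne_top
  obtain ⟨ψ, hψ⟩ := exists_algHom_ker (k := k) P
  have hψe : ψ.comp e = ψ := AlgHom.ext fun x => by
    have h1 : ψ (e x - x) = 0 := ((mem_nilradical.1 (he.2 x)).map ψ).eq_zero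
    rwa [map_sub, sub_eq_zero] at h1
  have h1 : specAlgMap ψ ≫ twist hU c e = toUnit _ ≫ c := by
    rw [twist, MonObj.comp_mul, MonObj.comp_mul, GrpObj.comp_inv, ← Category.assoc, ← Category.assoc,
      ← specAlgMap_comp, hψe, inv_mul_cancel, _root_.mul_one, toUnit_unique (_ ≫ toUnit _) (toUnit _)]
  let P' : PrimeSpectrum Γ(N.left, U) := ⟨P, hP.isPrime⟩
  have hP' : (specAlgMap ψ).left.base (IsLocalRing.closedPoint k) = P' := PrimeSpectrum.ext
    (Ideal.ext fun x => by
      show ψ x ∈ IsLocalRing.maximalIdeal k ↔ x ∈ P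
      rw [IsLocalRing.maximalIdeal_eq_bot, Ideal.mem_bot, hψ])
  have h2 : (twist hU c e).left.base P' ∈ V := by
    have h3 : (specAlgMap ψ ≫ twist hU c e).left.base (IsLocalRing.closedPoint k) ∈ V := by
      rw [h1]
      show c.left.base ((toUnit (specAlg k k)).left.base _) ∈ V
      have h4 : (toUnit (specAlg k k)).left.base (IsLocalRing.closedPoint k) = IsLocalRing.closedPoint k :=
        Subsingleton.elim (α := ↥(Spec (CommRingCat.of k))) _ _
      rw [h4]
      exact hcV
    rw [← hP']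
    exact h3
  exact (((PrimeSpectrum.le_iff_specializes p P').1 hpP).map (twist hU c e).left.continuous).mem_open V.2 h2

/-- The reduced subgroup. -/
theorem exists_reduced_subgroup : ∃ (R : Over (Spec (CommRingCat.of k))) (i : R ⟶ N),
    IsClosedImmersion i.left ∧ Surjective i.left ∧ IsReduced R.left ∧ Smooth R.hom := by
  obtain ⟨R, i, hi, hs, hR⟩ := exists_reduced N
  have : LocallyOfFiniteType R.hom := by rw [← Over.w i]; infer_instance
  have hG := Groth.Abvar.geometricallyReduced_of_isAlgClosed R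
  have : Mono i := Over.mono_of_mono_left i
  have factor : ∀ {T : Over (Spec (CommRingCat.of k))} [IsReduced T.left] (g : T ⟶ N), ∃ z : T ⟶ R, z ≫ i = g :=
    fun g => exists_factor_of_range_subset i g (fun x _ => i.left.surjective x)
  have : IsReduced (R ⊗ R).left := isReduced_tensorObj R R
  have : IsReduced (𝟙_ (Over (Spec (CommRingCat.of k)))).left :=
    inferInstanceAs (IsReduced (Spec (CommRingCat.of k)))
  obtain ⟨z₁, hz₁⟩ := factor ((fst R R ≫ i) * (snd R R ≫ i))
  obtain ⟨z₂, hz₂⟩ := factor i⁻¹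
  obtain ⟨z₀, hz₀⟩ := factor η[N]
  obtain ⟨_, _⟩ := Groth.Agf.exists_grpObj_of_subgroup i (fun T g => ∃ z : T ⟶ R, z ≫ i = g)
    (fun T g => Iff.rfl)
    (fun T => ⟨toUnit T ≫ z₀, by rw [Category.assoc, hz₀]; rfl⟩)
    (fun T u v ⟨a, ha⟩ ⟨b, hb⟩ => ⟨lift a b ≫ z₁, by
      rw [Category.assoc, hz₁, MonObj.comp_mul, lift_fst_assoc, lift_snd_assoc, ha, hb]⟩)
    (fun T u ⟨a, ha⟩ => ⟨a ≫ z₂, by rw [Category.assoc, hz₂, GrpObj.comp_inv, ha]⟩)
  let : GrpObj (Over.mk R.hom) := (inferInstance : GrpObj R)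
  exact ⟨R, i, hi, hs, hR, Groth.GrpschAbsch.smooth_of_perfectField_of_isReduced R.hom⟩

theorem isLocallyNoetherian : IsLocallyNoetherian N.left := isLocallyNoetherian_left N

/-- Existence of good endomorphisms. -/
theorem exists_good {U : N.left.Opens} (hU : IsAffineOpen U) :
    ∃ e : Γ(N.left, U) →ₐ[k] Γ(N.left, U), Good e := by
  obtain ⟨R, i, hi, hs, hR, hsm⟩ := exists_reduced_subgroup (N := N)
  let W := i.left ⁻¹ᵁ U
  have hW : IsAffineOpen W := hU.preimage i.left
  let : Algebra k Γ(R.left, W) := ((Scheme.ΓSpecIso (CommRingCat.of k)).inv ≫ R.hom.appLE ⊤ W le_top).hom.toAlgebra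
  have hcomp : N.hom.appLE ⊤ U le_top ≫ i.left.app U = R.hom.appLE ⊤ W le_top := by
    simp only [← Over.w i, Scheme.Hom.appLE_comp_appLE, Scheme.Hom.app_eq_appLE]
    rfl
  let π : Γ(N.left, U) →ₐ[k] Γ(R.left, W) :=
    { (i.left.app U).hom with
      commutes' := fun c => by
        show ((Scheme.ΓSpecIso (CommRingCat.of k)).inv ≫ N.hom.appLE ⊤ U le_top ≫ i.left.app U).hom c = _
        rw [hcomp]
        rfl }
  have hπ : Function.Surjective π := i.left.app_surjective U hU
  have hker : RingHom.ker π.toRingHom = nilradical Γ(N.left, U) := by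
    refine le_antisymm (fun x hx => ?_) (fun x hx => ?_)
    · have h0 : N.left.basicOpen x = ⊥ := by
        refine Opens.ext (Set.eq_empty_iff_forall_notMem.2 fun y hy => ?_)
        obtain ⟨z, rfl⟩ := i.left.surjective y
        have hz : z ∈ i.left ⁻¹ᵁ N.left.basicOpen x := hy
        rw [Scheme.preimage_basicOpen, show i.left.app U x = 0 from hx, Scheme.basicOpen_zero] at hz
        exact hz.elim
      exact mem_nilradical.2
        ((Scheme.isNilpotent_iff_basicOpen_eq_bot_of_isCompact hU.isCompact x).2 h0)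
    · exact ((mem_nilradical.1 hx).map π).eq_zero
  have hS : RingHom.Smooth (algebraMap k Γ(R.left, W)) := by
    have h1 : RingHom.Smooth (R.hom.appLE ⊤ W le_top).hom :=
      Scheme.Hom.smooth_appLE R.hom (isAffineOpen_top _) hW le_top
    exact RingHom.Smooth.respectsIso.2 _ (Scheme.ΓSpecIso (CommRingCat.of k)).symm.commRingCatIsoToRingEquiv h1
  have : Algebra.Smooth k Γ(R.left, W) := RingHom.smooth_algebraMap.1 hS
  have : IsNoetherianRing Γ(N.left, U) := by
    have := isLocallyNoetherian (N := N)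
    exact IsLocallyNoetherian.component_noetherian ⟨U, hU⟩
  let q : (Γ(N.left, U) ⧸ RingHom.ker π.toRingHom) ≃ₐ[k] Γ(R.left, W) :=
    Ideal.quotientKerAlgEquivOfSurjective hπ
  have hnil : IsNilpotent (RingHom.ker π.toRingHom) := hker ▸ IsNoetherianRing.isNilpotent_nilradical _
  let s := Algebra.FormallySmooth.lift (RingHom.ker π.toRingHom) hnil q.symm.toAlgHom
  have hsπ : ∀ y, π (s y) = y := fun y => by
    have h1 := Algebra.FormallySmooth.mk_lift (RingHom.ker π.toRingHom) hnil q.symm.toAlgHom y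
    have h2 := congrArg q h1
    erw [Ideal.quotientKerAlgEquivOfSurjective_mk] at h2
    exact h2.trans (q.apply_symm_apply y)
  refine ⟨s.comp π, fun a ha => ?_, fun a => ?_⟩
  · rw [← hker] at ha
    rw [AlgHom.comp_apply, show π a = 0 from ha, map_zero]
  · rw [← hker]
    show π (s (π a) - a) = 0
    rw [map_sub, hsπ, sub_self]

theorem exists_val {V : N.left.Opens} (hV : IsAffineOpen V) {c : 𝟙_ _ ⟶ N}
    (hcV : c.left.base (IsLocalRing.closedPoint k) ∈ V) (f : Γ(N.left, V))
    {U : N.left.Opens} (hU : IsAffineOpen U) : ∃ x, IsVal hV c f hU x := by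
  obtain ⟨e, he⟩ := exists_good (N := N) hU
  obtain ⟨υ, hυ⟩ := exists_factor hV (twist hU c e) (twist_mem hU he hcV)
  exact ⟨υ f, e, υ, he, hυ, rfl⟩

/-- The global section. -/
theorem exists_global {m : ℕ} (hm : ∀ U : N.left.affineOpens, nilradical Γ(N.left, U.1) ^ (m + 1) = ⊥)
    {V : N.left.Opens} (hV : IsAffineOpen V) {c : 𝟙_ _ ⟶ N}
    (hcV : c.left.base (IsLocalRing.closedPoint k) ∈ V) {f : Γ(N.left, V)}
    (hf : f ∈ nilradical Γ(N.left, V) ^ m) :
    ∃ σ : Γ(N.left, ⊤), ∀ U : N.left.affineOpens, IsVal hV c f U.2 (res (k := k) le_top σ) := by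
  choose x hx using fun U : N.left.affineOpens => exists_val hV hcV f U.2
  have hcompat : TopCat.Presheaf.IsCompatible N.left.presheaf (fun U : N.left.affineOpens => U.1) x := by
    intro U U'
    refine TopCat.Sheaf.eq_of_locally_eq' N.left.sheaf
      (fun W : {W : N.left.affineOpens // W.1 ≤ U.1 ⊓ U'.1 ∧
        (∃ g : Γ(N.left, U.1), W.1 = N.left.basicOpen g) ∧
        (∃ g : Γ(N.left, U'.1), W.1 = N.left.basicOpen g)} => W.1.1)
      (U.1 ⊓ U'.1) (fun W => homOfLE W.2.1) ?_ _ _ fun W => ?_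
    · intro z hz
      obtain ⟨g, g', hgg, hzg⟩ := exists_basicOpen_le_affine_inter U.2 U'.2 z hz
      exact Opens.mem_iSup.2 ⟨⟨⟨_, U.2.basicOpen g⟩,
        le_inf (N.left.basicOpen_le g) ((le_of_eq hgg).trans (N.left.basicOpen_le g')), ⟨g, rfl⟩, ⟨g', hgg⟩⟩, hzg⟩
    · obtain ⟨⟨W, hW⟩, hle, ⟨g, hg⟩, g', hg'⟩ := W
      show N.left.presheaf.map (homOfLE hle).op (N.left.presheaf.map _ (x U)) =
        N.left.presheaf.map (homOfLE hle).op (N.left.presheaf.map _ (x U'))
      rw [← ConcreteCategory.comp_apply, ← ConcreteCategory.comp_apply, ← Functor.map_comp,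
        ← Functor.map_comp]
      exact val_unique hV hf hW (hm ⟨W, hW⟩)
        ((hx U).restrict g hW hg (hle.trans inf_le_left))
        ((hx U').restrict g' hW hg' (hle.trans inf_le_right))
  obtain ⟨σ, hσ, -⟩ := TopCat.Sheaf.existsUnique_gluing' N.left.sheaf
    (fun U : N.left.affineOpens => U.1) ⊤ (fun U => homOfLE le_top)
    (le_of_eq (iSup_affineOpens_eq_top N.left).symm) x hcompat
  exact ⟨σ, fun U => by
    have h : res (k := k) (le_top : U.1 ≤ ⊤) σ = x U := hσ U
    rw [h]; exact hx U⟩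

/-- If all the values at `V` vanish, then the power of the nilradical vanishes. -/
theorem pow_eq_bot_of_vals_eq_zero {m : ℕ} {V : N.left.Opens} (hV : IsAffineOpen V) {c : 𝟙_ _ ⟶ N}
    (hcV : c.left.base (IsLocalRing.closedPoint k) ∈ V)
    (h : ∀ f ∈ nilradical Γ(N.left, V) ^ m, ∀ x, IsVal hV c f hV x → x = 0) :
    nilradical Γ(N.left, V) ^ m = ⊥ := by
  obtain ⟨e, he⟩ := exists_good (N := N) hV
  obtain ⟨υ, hυ⟩ := exists_factor hV (twist hV c e) (twist_mem hV he hcV)
  refine eq_bot_iff.2 fun f hf => Ideal.mem_bot.2 (eq_zero_of_locally f fun P hP => ?_)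
  let B := Γ(N.left, V)
  let T := (B ⧸ nilradical B) ⊗[k] B
  let a : T →ₐ[k] B := Algebra.TensorProduct.lift he.bar υ (fun _ _ => Commute.all _ _)
  let g : specAlg k T ⟶ N :=
    (specAlgMap (Algebra.TensorProduct.includeLeft : (B ⧸ nilradical B) →ₐ[k] T) ≫
        specAlgMap (Ideal.Quotient.mkₐ k _) ≫ incl hV) *
      ((toUnit _ ≫ c)⁻¹ * (specAlgMap (Algebra.TensorProduct.includeRight : B →ₐ[k] T) ≫ incl hV))
  have hga : specAlgMap a ≫ g = specAlgMap (AlgHom.id k B) ≫ incl hV := by
    simp only [g, a, MonObj.comp_mul, GrpObj.comp_inv, ← Category.assoc, ← specAlgMap_comp]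
    rw [← AlgHom.comp_assoc, Algebra.TensorProduct.lift_comp_includeLeft, Algebra.TensorProduct.lift_comp_includeRight',
      Good.bar_comp, hυ, twist, toUnit_unique (_ ≫ toUnit _) (toUnit _), specAlgMap_id, Category.id_comp,
      inv_mul_cancel_left, mul_inv_cancel_left]
  have hPV : g.left.base (PrimeSpectrum.comap a.toRingHom ⟨P, hP⟩) ∈ V := by
    have h1 : g.left.base ((specAlgMap a).left.base ⟨P, hP⟩) =
        (specAlgMap (AlgHom.id k B) ≫ incl hV).left.base ⟨P, hP⟩ := congr(($hga).left.base ⟨P, hP⟩)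
    have h2 : (incl hV).left.base ((specAlgMap (AlgHom.id k B)).left.base ⟨P, hP⟩) ∈
        Set.range hV.fromSpec.base := ⟨_, rfl⟩
    rw [hV.range_fromSpec] at h2
    exact h1 ▸ h2
  obtain ⟨s, γ, hs, hγ⟩ := exists_factor_away hV g _ hPV
  refine ⟨a s, hs, ?_⟩
  let L := Localization.Away (a s)
  let φ : B →ₐ[k] L := IsScalarTower.toAlgHom k B L
  have hua : IsUnit (φ (a s)) := IsLocalization.Away.algebraMap_isUnit (a s)
  let a' : Localization.Away s →ₐ[k] L := IsLocalization.liftAlgHom (M := Submonoid.powers s)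
    (f := φ.comp a) (by rintro ⟨_, n, rfl⟩; exact map_pow (φ.comp a) s n ▸ hua.pow n)
  have ha' : ∀ t, a' (algebraMap T _ t) = φ (a t) := fun t => IsLocalization.lift_eq _ t
  have e1 := extension_eq hV hγ hga φ a' (AlgHom.ext ha')
  show φ f = 0
  rw [show φ f = (φ.comp (AlgHom.id k B)) f from rfl, ← e1]
  refine eq_zero_of_kills ((algebraMap T _).comp (Algebra.TensorProduct.includeRight : B →ₐ[k] T).toRingHom)
    a'.toRingHom (fun y hy => ?_) ?_ (map_mem_nilradical_pow γ.toRingHom hf)
  · show a' (algebraMap T _ (1 ⊗ₜ y)) = 0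
    rw [ha']
    have : υ y = 0 := h y hy _ ⟨e, υ, he, hυ, rfl⟩
    have h1 : a (1 ⊗ₜ y) = 0 := (Algebra.TensorProduct.lift_tmul ..).trans (by simp [this])
    exact (congrArg φ h1).trans (map_zero φ)
  · rw [← Ideal.map_map]
    exact nilradical_le_map_localization (Submonoid.powers s) _ (nilradical_tensor_le B)

end Field

end Groth.AlgGrp1.Nil
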