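import Groth.Agent.AlgGrp1.ImageHom
import Groth.Agent.AlgGrp1.Geom

/-!
The product of two smooth connected normal subgroups.
-/

set_option autoImplicit false
universe u

open CategoryTheory Limits MonoidalCategory CartesianMonoidalCategory MonObj GrpObj AlgebraicGeometry

noncomputable section

namespace Groth.AlgGrp1

variable {k : Type u} [Field k]

/-- The product of two smooth connected normal subgroups, with the property `P` stable under extensions
and quotients. -/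
theorem exists_normal_product
    (P : ∀ (E : Over (Spec (CommRingCat.of k))) [GrpObj E], Prop)
    (hPa : ∀ (N E Q : Over (Spec (CommRingCat.of k))) [GrpObj N] [GrpObj E] [GrpObj Q]
      [LocallyOfFiniteType N.hom] [QuasiCompact N.hom] [LocallyOfFiniteType E.hom] [QuasiCompact E.hom] [LocallyOfFiniteType Q.hom] [QuasiCompact Q.hom]
      (i : N ⟶ E) (q : E ⟶ Q) [IsMonHom i] [IsMonHom q] [Flat q.left] [Surjective q.left],
      AlgGrp.IsKernel i q → P N → P Q → P E)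
    (hPb : ∀ (E Q : Over (Spec (CommRingCat.of k))) [GrpObj E] [GrpObj Q] [LocallyOfFiniteType E.hom] [QuasiCompact E.hom] [LocallyOfFiniteType Q.hom] [QuasiCompact Q.hom]
      (q : E ⟶ Q) [IsMonHom q] [Flat q.left] [Surjective q.left], P E → P Q)
    {G N N' : Over (Spec (CommRingCat.of k))} [GrpObj G] [GrpObj N] [GrpObj N']
    [LocallyOfFiniteType G.hom] [QuasiCompact G.hom]
    (j : N ⟶ G) [IsMonHom j] [IsClosedImmersion j.left] [Smooth N.hom] [ConnectedSpace N.left]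
    (hj : AlgGrp.IsNormalHom j) (hP : P N)
    (j' : N' ⟶ G) [IsMonHom j'] [IsClosedImmersion j'.left] [Smooth N'.hom] [ConnectedSpace N'.left]
    (hj' : AlgGrp.IsNormalHom j') (hP' : P N') :
    ∃ (K : Over (Spec (CommRingCat.of k))) (_ : GrpObj K) (c : K ⟶ G), IsMonHom c ∧ IsClosedImmersion c.left ∧
      Smooth K.hom ∧ ConnectedSpace K.left ∧ AlgGrp.IsNormalHom c ∧ P K ∧
      (∃ f : N ⟶ K, f ≫ c = j) ∧ (∃ f : N' ⟶ K, f ≫ c = j') := by
  have : Mono j := Over.mono_of_mono_left j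
  have : LocallyOfFiniteType N.hom := inferInstance
  have : LocallyOfFiniteType N'.hom := inferInstance
  have : QuasiCompact N.hom := by rw [← Over.w j]; infer_instance
  have : QuasiCompact N'.hom := by rw [← Over.w j']; infer_instance
  have hmp : ∀ {T : Over (Spec (CommRingCat.of k))} (a b : T ⟶ G ⊗ N'),
      (a * b) ≫ fst G N' = (a ≫ fst G N') * (b ≫ fst G N') ∧
      (a * b) ≫ snd G N' = (a ≫ snd G N') * (b ≫ snd G N') := fun a b =>
    ⟨MonObj.mul_comp _ _ _, MonObj.mul_comp _ _ _⟩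
  obtain ⟨E, ⟨ε⟩⟩ : ∃ E : Over (Spec (CommRingCat.of k)), Nonempty (E ≅ N ⊗ N') := ⟨_, ⟨Iso.refl _⟩⟩
  let π₁ : E ⟶ N := ε.hom ≫ fst N N'
  let π₂ : E ⟶ N' := ε.hom ≫ snd N N'
  let pair : ∀ {T : Over (Spec (CommRingCat.of k))}, (T ⟶ N) → (T ⟶ N') → (T ⟶ E) := fun a b => lift a b ≫ ε.inv
  have hπ₁ : ∀ {T : Over (Spec (CommRingCat.of k))} (a : T ⟶ N) (b : T ⟶ N'), pair a b ≫ π₁ = a := fun a b => by
    simp [pair, π₁]
  have hπ₂ : ∀ {T : Over (Spec (CommRingCat.of k))} (a : T ⟶ N) (b : T ⟶ N'), pair a b ≫ π₂ = b := fun a b => by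
    simp [pair, π₂]
  have hext : ∀ {T : Over (Spec (CommRingCat.of k))} (x y : T ⟶ E), x ≫ π₁ = y ≫ π₁ → x ≫ π₂ = y ≫ π₂ → x = y :=
    fun x y h1 h2 => by
      rw [← cancel_mono ε.hom]
      exact CartesianMonoidalCategory.hom_ext _ _ (by simpa [π₁] using h1) (by simpa [π₂] using h2)
  let e : E ⟶ G ⊗ N' := lift ((π₁ ≫ j) * (π₂ ≫ j')) π₂
  have he₁ : ∀ {T : Over (Spec (CommRingCat.of k))} (x : T ⟶ E),
      x ≫ e ≫ fst G N' = ((x ≫ π₁) ≫ j) * ((x ≫ π₂) ≫ j') := fun x => by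
    simp only [e, lift_fst, MonObj.comp_mul, Category.assoc]
  have he₂ : ∀ {T : Over (Spec (CommRingCat.of k))} (x : T ⟶ E), x ≫ e ≫ snd G N' = x ≫ π₂ := fun x => by
    simp only [e, lift_snd]
  have : Mono e := ⟨fun {T} x y hxy => by
    have h2 : x ≫ π₂ = y ≫ π₂ := by rw [← he₂, ← he₂, ← Category.assoc, ← Category.assoc, hxy]
    have h1 : x ≫ e ≫ fst G N' = y ≫ e ≫ fst G N' := by rw [← Category.assoc, ← Category.assoc, hxy]
    rw [he₁, he₁, h2, mul_left_inj, cancel_mono] at h1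
    exact hext x y h1 h2⟩
  obtain ⟨_, hme⟩ := Groth.Agf.exists_grpObj_of_subgroup e
    (fun T y => ∃ n : T ⟶ N, n ≫ j = (y ≫ fst G N') * ((y ≫ snd G N') ≫ j')⁻¹)
    (fun T y => by
      constructor
      · rintro ⟨x, rfl⟩
        refine ⟨x ≫ π₁, ?_⟩
        rw [Category.assoc x e, Category.assoc x e, he₁, he₂, mul_inv_cancel_right]
      · rintro ⟨n, hn⟩
        refine ⟨pair n (y ≫ snd G N'), ?_⟩
        apply CartesianMonoidalCategory.hom_ext
        · rw [Category.assoc, he₁, hπ₁, hπ₂, hn, inv_mul_cancel_right]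
        · rw [Category.assoc, he₂, hπ₂])
    (fun T => ⟨1, by rw [MonObj.one_comp, MonObj.one_comp, MonObj.one_comp, MonObj.one_comp]; group⟩)
    (fun T a b ⟨n, hn⟩ ⟨m, hm⟩ => by
      obtain ⟨m', hm'⟩ := hj T ((a ≫ snd G N') ≫ j') m
      refine ⟨n * m', ?_⟩
      rw [MonObj.mul_comp, hn, ← hm', hm, (hmp a b).1, (hmp a b).2, MonObj.mul_comp]
      group)
    (fun T a ⟨n, hn⟩ => by
      obtain ⟨n', hn'⟩ := hj T ((a ≫ snd G N') ≫ j')⁻¹ n⁻¹
      refine ⟨n', ?_⟩
      rw [← hn', GrpObj.inv_comp, hn, GrpObj.inv_comp, GrpObj.inv_comp, GrpObj.inv_comp]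
      group)
  have hpr₂ : ∀ {T : Over (Spec (CommRingCat.of k))} (u v : T ⟶ E),
      (u * v) ≫ π₂ = (u ≫ π₂) * (v ≫ π₂) := fun u v => by
    rw [← he₂, ← Category.assoc, MonObj.mul_comp, (hmp _ _).2, Category.assoc, Category.assoc, he₂, he₂]
  let m : E ⟶ G := e ≫ fst G N'
  have hpr₁ : ∀ {T : Over (Spec (CommRingCat.of k))} (u v : T ⟶ E),
      (u * v) ≫ m = (u ≫ m) * (v ≫ m) := fun u v => by
    simp only [m]
    rw [← Category.assoc, MonObj.mul_comp, (hmp _ _).1, Category.assoc, Category.assoc]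
  have : IsMonHom π₂ := isMonHom_of_points π₂ fun T u v => hpr₂ u v
  have : IsMonHom m := isMonHom_of_points m fun T u v => hpr₁ u v
  have hm : ∀ {T : Over (Spec (CommRingCat.of k))} (x : T ⟶ E), x ≫ m = ((x ≫ π₁) ≫ j) * ((x ≫ π₂) ≫ j') := fun x => he₁ x
  let n₀ : N ⟶ E := pair (𝟙 N) 1
  have hn₁ : ∀ {T : Over (Spec (CommRingCat.of k))} (x : T ⟶ N), (x ≫ n₀) ≫ π₁ = x := fun x => by
    rw [Category.assoc, hπ₁, Category.comp_id]
  have hn₂ : ∀ {T : Over (Spec (CommRingCat.of k))} (x : T ⟶ N), (x ≫ n₀) ≫ π₂ = 1 := fun x => by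
    rw [Category.assoc, hπ₂, MonObj.comp_one]
  have : IsMonHom n₀ := isMonHom_of_points n₀ fun T u v => by
    have h2 : ((u * v) ≫ n₀) ≫ π₂ = ((u ≫ n₀) * (v ≫ n₀)) ≫ π₂ := by
      rw [hpr₂, hn₂, hn₂, hn₂, _root_.one_mul]
    have h1 : ((u * v) ≫ n₀) ≫ m = ((u ≫ n₀) * (v ≫ n₀)) ≫ m := by
      rw [hpr₁, hm, hm, hm, hn₁, hn₁, hn₁, hn₂, hn₂, hn₂, MonObj.one_comp, _root_.mul_one, _root_.mul_one,
        _root_.mul_one, MonObj.mul_comp]
    rw [← cancel_mono e]
    apply CartesianMonoidalCategory.hom_ext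
    · rw [Category.assoc, Category.assoc ((u ≫ n₀) * (v ≫ n₀))]
      exact h1
    · rw [Category.assoc, Category.assoc ((u ≫ n₀) * (v ≫ n₀)), he₂, he₂]
      exact h2
  have : IsIso ε.hom.left := inferInstanceAs (IsIso ((Over.forget _).map ε.hom))
  have : LocallyOfFiniteType (N ⊗ N').hom :=
    inferInstanceAs (LocallyOfFiniteType (pullback.fst N.hom N'.hom ≫ N.hom))
  have : QuasiCompact (N ⊗ N').hom :=
    inferInstanceAs (QuasiCompact (pullback.fst N.hom N'.hom ≫ N.hom))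
  have : Smooth (N ⊗ N').hom :=
    inferInstanceAs (Smooth (pullback.fst N.hom N'.hom ≫ N.hom))
  have : LocallyOfFiniteType E.hom := by rw [← Over.w ε.hom]; infer_instance
  have : QuasiCompact E.hom := by rw [← Over.w ε.hom]; infer_instance
  have : Smooth E.hom := by rw [← Over.w ε.hom]; infer_instance
  have : Flat π₂.left := by
    have : Flat (snd N N').left := inferInstanceAs (Flat (pullback.snd N.hom N'.hom))
    simp only [π₂, Over.comp_left]; infer_instance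
  have : Surjective π₂.left := by
    have : Surjective N.hom := ⟨fun x => ⟨Classical.arbitrary _, Subsingleton.elim (α := ↥(Spec (CommRingCat.of k))) _ _⟩⟩
    have : Surjective (snd N N').left := inferInstanceAs (Surjective (pullback.snd N.hom N'.hom))
    simp only [π₂, Over.comp_left]; infer_instance
  have hk : AlgGrp.IsKernel n₀ π₂ := IsKernel.mk' ⟨fun x y h => by
      have := congrArg (· ≫ π₁) h
      simpa only [hn₁] using this⟩ fun T x => by
    constructor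
    · rintro ⟨y, rfl⟩
      exact hn₂ y
    · intro hx
      exact ⟨x ≫ π₁, hext _ _ (hn₁ _) (by rw [hn₂, hx])⟩
  have hPE : P E := hPa N E N' n₀ π₂ hk hP hP'
  obtain ⟨K, _, c, g, _, hc, _, _, _, _, _, hgc⟩ := exists_image_hom m
  have : ConnectedSpace E.left := by
    have : GeometricallyConnected N.hom := geometricallyConnected_of_point N.hom η[N].left (Over.w η[N])
    have : UniversallyOpen N'.hom := inferInstance
    have : UniversallyOpen N.hom := inferInstance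
    have : ConnectedSpace (N ⊗ N').left := inferInstanceAs (ConnectedSpace ↥(pullback N.hom N'.hom))
    have : IsIso ε.inv.left := inferInstanceAs (IsIso ((Over.forget _).map ε.inv))
    exact ε.inv.left.surjective.connectedSpace ε.inv.left.continuous
  have hval : ∀ {T : Over (Spec (CommRingCat.of k))} (w : T ⟶ E),
      (w ≫ g) ≫ c = ((w ≫ π₁) ≫ j) * ((w ≫ π₂) ≫ j') := fun w => by
    rw [Category.assoc, hgc, hm]
  have hnor : AlgGrp.IsNormalHom c := fun T x y => by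
    have : Mono c := Over.mono_of_mono_left c
    obtain ⟨T', d, w, hd, hw⟩ := (isCover g).exists_lift y
    obtain ⟨y', hy'⟩ := factor_of_cover hd (i := c) (x * (y ≫ c) * x⁻¹) (by
      obtain ⟨n₁, hn₁'⟩ := hj T' (d ≫ x) (w ≫ π₁)
      obtain ⟨h₁, hh₁⟩ := hj' T' (d ≫ x) (w ≫ π₂)
      refine ⟨pair n₁ h₁ ≫ g, ?_⟩
      rw [hval, hπ₁, hπ₂, ← hn₁', ← hh₁, MonObj.comp_mul, MonObj.comp_mul, GrpObj.comp_inv, ← Category.assoc d y c,
        ← hw, hval]
      group)
    exact ⟨y', hy'.symm⟩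
  refine ⟨K, _, c, ‹_›, hc, smooth_of_flat_surjective_hom g, connectedSpace_of_surjective g, hnor,
    hPb E K g hPE, ⟨pair (𝟙 N) 1 ≫ g, ?_⟩, ⟨pair 1 (𝟙 N') ≫ g, ?_⟩⟩
  · rw [hval, hπ₁, hπ₂, MonObj.one_comp, Category.id_comp, _root_.mul_one]
  · rw [hval, hπ₁, hπ₂, MonObj.one_comp, Category.id_comp, _root_.one_mul]

end Groth.AlgGrp1
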