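import Mathlib.RingTheory.HopfAlgebra.Quotient
import Mathlib.RingTheory.Jacobson.Ring
import Mathlib.LinearAlgebra.Matrix.ToLin
import Mathlib.LinearAlgebra.Basis.VectorSpace
import Mathlib.RingTheory.Nullstellensatz

/-!
Invariant functions separate a normal subgroup of a reduced affine algebraic group over an
algebraically closed field from the other rational points.
-/

set_option autoImplicit false
universe u

open scoped TensorProduct

noncomputable section

namespace Groth.AlgGrp1.NormalSep

variable {k : Type u} [Field k] {A : Type u} [CommRing A] [HopfAlgebra k A]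

/-- the product of two points -/
def mulPt {R : Type u} [CommRing R] [Algebra k R] (g h : A →ₐ[k] R) : A →ₐ[k] R :=
  (Algebra.TensorProduct.lift g h fun _ _ => .all _ _).comp (Bialgebra.comulAlgHom k A)

/-- the inverse of a point -/
def invPt {R : Type u} [CommRing R] [Algebra k R] (g : A →ₐ[k] R) : A →ₐ[k] R :=
  g.comp (HopfAlgebra.antipodeAlgHom k A)

theorem mulPt_apply_of_comul {R : Type u} [CommRing R] [Algebra k R] (g h : A →ₐ[k] R) {ι : Type} [Fintype ι]
    (a : A) (x y : ι → A) (hc : Coalgebra.comul (R := k) a = ∑ l, x l ⊗ₜ[k] y l) :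
    mulPt g h a = ∑ l, g (x l) * h (y l) := by
  simp [mulPt, hc]

/-- elements killed by all rational points vanish -/
theorem eq_zero_of_points [IsAlgClosed k] [Algebra.FiniteType k A] [IsReduced A] {a : A}
    (h : ∀ g : A →ₐ[k] k, g a = 0) : a = 0 := by
  have : IsJacobsonRing A := isJacobsonRing_of_finiteType (A := k)
  have h0 : a ∈ (⊥ : Ideal A).jacobson := by
    rw [Ideal.jacobson, Submodule.mem_sInf]
    rintro M ⟨-, hM⟩
    letI : Field (A ⧸ M) := Ideal.Quotient.field M
    have : Module.Finite k (A ⧸ M) := finite_of_finite_type_of_isJacobsonRing k (A ⧸ M)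
    have hbij : Function.Bijective (algebraMap k (A ⧸ M)) := IsAlgClosed.algebraMap_bijective_of_isIntegral
    let e := AlgEquiv.ofBijective (Algebra.ofId k (A ⧸ M)) hbij
    have := h ((e.symm.toAlgHom).comp (Ideal.Quotient.mkₐ k M))
    rw [AlgHom.comp_apply] at this
    exact Ideal.Quotient.eq_zero_iff_mem.1 (e.symm.injective (this.trans (map_zero e.symm).symm))
  rw [IsJacobsonRing.out ‹IsJacobsonRing A› (Ideal.isRadical_bot_iff.2 inferInstance)] at h0
  exact h0

section Mat

variable {n : Type} [Fintype n] [DecidableEq n] (m : Matrix n n A)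
  (hc : ∀ i j, Coalgebra.comul (R := k) (m i j) = ∑ l, m i l ⊗ₜ[k] m l j)
  (he : ∀ i j, Coalgebra.counit (R := k) (m i j) = (1 : Matrix n n k) i j)

include hc in
omit [DecidableEq n] in
theorem map_mulPt {R : Type u} [CommRing R] [Algebra k R] (g h : A →ₐ[k] R) :
    m.map (mulPt g h) = m.map g * m.map h := by
  ext i j
  simp [mulPt_apply_of_comul g h (m i j) _ _ (hc i j), Matrix.mul_apply]

include hc he in
theorem map_invPt_mul {R : Type u} [CommRing R] [Algebra k R] (g : A →ₐ[k] R) :
    m.map (invPt g) * m.map g = 1 := by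
  ext i j
  have h := congrArg g (HopfAlgebra.mul_antipode_rTensor_comul_apply (R := k) (m i j))
  rw [hc] at h
  simp only [map_sum, LinearMap.rTensor_tmul, LinearMap.mul'_apply, map_mul] at h
  rw [Matrix.mul_apply]
  refine h.trans ?_
  rw [AlgHom.commutes, he]
  by_cases hij : i = j
  · subst hij; simp
  · simp [Matrix.one_apply_ne hij]

include hc he in
theorem map_mul_invPt {R : Type u} [CommRing R] [Algebra k R] (g : A →ₐ[k] R) :
    m.map g * m.map (invPt g) = 1 :=
  mul_eq_one_comm.1 (map_invPt_mul m hc he g)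

omit [Fintype n] in
include he in
theorem map_counit : m.map (Bialgebra.counitAlgHom k A) = 1 := by
  ext i j
  exact he i j

end Mat

variable [IsAlgClosed k] [Algebra.FiniteType k A] [IsReduced A]

/-- If `I` is the stabilizer of the line through `w`, is normal, and `g` does not kill `I`, then an
invariant function takes different values at `g` and at the unit. -/
theorem exists_invariant_ne {n : Type} [Fintype n] [DecidableEq n] (m : Matrix n n A)
    (hc : ∀ i j, Coalgebra.comul (R := k) (m i j) = ∑ l, m i l ⊗ₜ[k] m l j)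
    (he : ∀ i j, Coalgebra.counit (R := k) (m i j) = (1 : Matrix n n k) i j)
    (I : Ideal A) (w : n → k) (hw : w ≠ 0)
    (hrep : ∀ (R : Type u) [CommRing R] [Algebra k R] (φ : A →ₐ[k] R),
      (∀ a ∈ I, φ a = 0) ↔ ∃ c : R, (m.map φ).mulVec (fun j => algebraMap k R (w j)) = fun i => algebraMap k R (w i) * c)
    (hnorm : ∀ (g : A →ₐ[k] k), ∀ a ∈ I,
      mulPt (mulPt ((Algebra.ofId k (A ⧸ I)).comp (invPt g)) (Ideal.Quotient.mkₐ k I))
        ((Algebra.ofId k (A ⧸ I)).comp g) a = 0)
    (g : A →ₐ[k] k) (hg : ¬ ∀ a ∈ I, g a = 0) :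
    ∃ f : A, (∀ (R : Type u) [CommRing R] [Algebra k R] (h x : A →ₐ[k] R), (∀ a ∈ I, x a = 0) →
        mulPt h x f = h f) ∧
      g f ≠ Coalgebra.counit (R := k) f := by
  classical
  let B := A ⧸ I
  let Q : A →ₐ[k] B := Ideal.Quotient.mkₐ k I
  let cB := algebraMap k B
  let ev : (n → k) → Prop := fun u => ∃ c : B, (m.map Q).mulVec (cB ∘ u) = c • (cB ∘ u)
  let E : Set (n → k) := {u | ev u}
  have hwE : w ∈ E := by
    obtain ⟨c, hc'⟩ := (hrep B Q).1 fun a ha => Ideal.Quotient.eq_zero_iff_mem.2 ha
    exact ⟨c, hc'.trans (funext fun i => mul_comm _ _)⟩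
  -- a basis of the span of the eigenvectors through `w`
  have hli : LinearIndepOn k id ({w} : Set (n → k)) := LinearIndepOn.singleton (v := id) hw
  obtain ⟨b, hwb, hbE, hspan, hbli⟩ : ∃ b : Set (n → k), w ∈ b ∧ b ⊆ E ∧ E ⊆ Submodule.span k b ∧
      LinearIndepOn k id b := by
    have hsub : ({w} : Set (n → k)) ⊆ E := Set.singleton_subset_iff.2 hwE
    exact ⟨hli.extend hsub, hli.subset_extend hsub rfl, hli.extend_subset hsub, hli.subset_span_extend hsub,
      hli.linearIndepOn_extend hsub⟩
  have hfin : b.Finite := LinearIndependent.setFinite hbli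
  have := hfin.fintype
  let d := Fintype.card b
  let el : Fin d ≃ b := (Fintype.equivFin b).symm
  let Inc : Matrix n (Fin d) k := Matrix.of fun i j => (el j).1 i
  have hcol : ∀ j, (fun i => Inc i j) = (el j).1 := fun j => rfl
  have hInc : Function.Injective Inc.mulVecLin := by
    rw [Matrix.coe_mulVecLin]
    refine Matrix.mulVec_injective_iff.2 ?_
    exact hbli.comp el el.injective
  obtain ⟨p, hp⟩ := Inc.mulVecLin.exists_leftInverse_of_injective (LinearMap.ker_eq_bot.2 hInc)
  let P : Matrix (Fin d) n k := LinearMap.toMatrix' p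
  have hPInc : P * Inc = 1 := by
    have := congrArg LinearMap.toMatrix' hp
    rwa [LinearMap.toMatrix'_comp, LinearMap.toMatrix'_id, ← Matrix.toLin'_apply', LinearMap.toMatrix'_toLin'] at this
  have hfix : ∀ u ∈ E, Inc.mulVec (P.mulVec u) = u := by
    intro u hu
    have h1 : u ∈ LinearMap.range Inc.mulVecLin := by
      refine (Submodule.span_le.2 ?_) (hspan hu)
      intro z hz
      refine ⟨Pi.single (el.symm ⟨z, hz⟩) 1, ?_⟩
      rw [Matrix.mulVecLin_apply, Matrix.mulVec_single_one]
      funext i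
      show (el (el.symm ⟨z, hz⟩)).1 i = z i
      rw [Equiv.apply_symm_apply]
    obtain ⟨z, rfl⟩ := h1
    rw [Matrix.mulVecLin_apply, Matrix.mulVec_mulVec (M := P), hPInc, Matrix.one_mulVec]
  -- eigenvalues
  have hlam' : ∀ j, ev ((el j).1) := fun j => hbE (el j).2
  choose lam hlam using hlam'
  -- the rational points preserve the span
  have hstab : ∀ (g : A →ₐ[k] k) (j : Fin d), (m.map g).mulVec (el j).1 ∈ E := by
    intro g j
    let gB := (Algebra.ofId k B).comp g
    let gB' := (Algebra.ofId k B).comp (invPt g)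
    let x := mulPt (mulPt gB' Q) gB
    let σ : B →ₐ[k] B := Ideal.Quotient.liftₐ I x (hnorm g)
    have hx : m.map x = (m.map Q).map σ := by ext; rfl
    have e1 : m.map gB' = (m.map (invPt g)).map cB := by ext; rfl
    have e2 : m.map gB = (m.map g).map cB := by ext; rfl
    have hmul : (m.map g).map cB * (m.map x) = m.map Q * (m.map g).map cB := by
      rw [show m.map x = m.map gB' * m.map Q * m.map gB from by rw [map_mulPt m hc, map_mulPt m hc], e1, e2,
        ← Matrix.mul_assoc, ← Matrix.mul_assoc, ← Matrix.map_mul, map_mul_invPt m hc he,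
        Matrix.map_one _ (map_zero _) (map_one _), Matrix.one_mul]
    have hσ : ((m.map Q).map σ).mulVec (cB ∘ (el j).1) = σ (lam j) • (cB ∘ (el j).1) := by
      have := congrArg (fun z : n → B => σ ∘ z) (hlam j)
      funext i
      have hi := congrFun this i
      simp only [Function.comp_apply, Pi.smul_apply, smul_eq_mul, map_mul, Matrix.mulVec, dotProduct, map_sum,
        Matrix.map_apply, cB, AlgHom.commutes] at hi ⊢
      exact hi
    refine ⟨σ (lam j), ?_⟩
    have e3 : cB ∘ (m.map g).mulVec (el j).1 = ((m.map g).map cB).mulVec (cB ∘ (el j).1) :=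
      funext fun i => RingHom.map_mulVec cB _ _ i
    rw [e3, Matrix.mulVec_mulVec, ← hmul, ← Matrix.mulVec_mulVec, hx, hσ, Matrix.mulVec_smul]
  let cA := algebraMap k A
  have hInv : m * Inc.map cA = Inc.map cA * (P.map cA * m * Inc.map cA) := by
    ext i j
    rw [← sub_eq_zero]
    refine eq_zero_of_points (k := k) fun g => ?_
    rw [map_sub, sub_eq_zero]
    have eI : (Inc.map cA).map g = Inc := by ext; simp [cA]
    have eP : (P.map cA).map g = P := by ext; simp [cA]
    have h := congrFun (hfix _ (hstab g j)) i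
    show (m * Inc.map cA).map g i j = (Inc.map cA * (P.map cA * m * Inc.map cA)).map g i j
    rw [Matrix.map_mul, Matrix.map_mul, Matrix.map_mul, Matrix.map_mul, eI, eP, ← hcol j] at *
    refine Eq.trans ?_ (Eq.trans h.symm ?_)
    · rfl
    · rw [Matrix.mul_assoc P]
      rfl
  -- the restricted representation
  let M' : Matrix (Fin d) (Fin d) A := P.map cA * m * Inc.map cA
  let N : ∀ {R : Type u} [CommRing R] [Algebra k R] (_ : A →ₐ[k] R), Matrix (Fin d) (Fin d) R :=
    fun {R} _ _ φ => M'.map φ
  have hN : ∀ {R : Type u} [CommRing R] [Algebra k R] (φ : A →ₐ[k] R),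
      N φ = P.map (algebraMap k R) * m.map φ * Inc.map (algebraMap k R) := by
    intro R _ _ φ
    have eI : (Inc.map cA).map φ = Inc.map (algebraMap k R) := by ext; simp [cA]
    have eP : (P.map cA).map φ = P.map (algebraMap k R) := by ext; simp [cA]
    simp only [N, M', Matrix.map_mul, eI, eP]
  have hNI : ∀ {R : Type u} [CommRing R] [Algebra k R] (φ : A →ₐ[k] R),
      m.map φ * Inc.map (algebraMap k R) = Inc.map (algebraMap k R) * N φ := by
    intro R _ _ φ
    have := congrArg (fun M : Matrix n (Fin d) A => M.map φ) hInv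
    simp only [Matrix.map_mul] at this
    have eI : (Inc.map cA).map φ = Inc.map (algebraMap k R) := by ext; simp [cA]
    rw [eI] at this
    rw [this, hN]
    congr 1
    have eP : (P.map cA).map φ = P.map (algebraMap k R) := by ext; simp [cA]
    rw [eP]
  have hPI : ∀ (R : Type u) [CommRing R] [Algebra k R], P.map (algebraMap k R) * Inc.map (algebraMap k R) = 1 := by
    intro R _ _
    rw [← Matrix.map_mul, hPInc, Matrix.map_one _ (map_zero _) (map_one _)]
  have hNmul : ∀ {R : Type u} [CommRing R] [Algebra k R] (φ ψ : A →ₐ[k] R), N (mulPt φ ψ) = N φ * N ψ := by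
    intro R _ _ φ ψ
    rw [hN, map_mulPt m hc, Matrix.mul_assoc, Matrix.mul_assoc, hNI, ← Matrix.mul_assoc, ← Matrix.mul_assoc, ← hN]
  have hNinv : ∀ {R : Type u} [CommRing R] [Algebra k R] (φ : A →ₐ[k] R), N φ * N (invPt φ) = 1 := by
    intro R _ _ φ
    rw [hN φ, Matrix.mul_assoc, ← hNI, ← Matrix.mul_assoc, Matrix.mul_assoc (P.map _), map_mul_invPt m hc he,
      Matrix.mul_one, hPI]
  have hNinv' : ∀ {R : Type u} [CommRing R] [Algebra k R] (φ : A →ₐ[k] R), N (invPt φ) * N φ = 1 :=
    fun φ => mul_eq_one_comm.1 (hNinv φ)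
  have hdiag : ∀ {R : Type u} [CommRing R] [Algebra k R] (x : A →ₐ[k] R), (∀ a ∈ I, x a = 0) →
      ∃ l : Fin d → R, N x = Matrix.diagonal l := by
    intro R _ _ x hx
    let σ : B →ₐ[k] R := Ideal.Quotient.liftₐ I x hx
    refine ⟨fun j => σ (lam j), ?_⟩
    have h1 : m.map x * Inc.map (algebraMap k R) = Inc.map (algebraMap k R) * Matrix.diagonal fun j => σ (lam j) := by
      ext i j
      rw [Matrix.mul_diagonal]
      have := congrArg σ (congrFun (hlam j) i)
      simp only [Matrix.mulVec, dotProduct, map_sum, map_mul, Pi.smul_apply, smul_eq_mul, Function.comp_apply,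
        Matrix.map_apply, cB, AlgHom.commutes] at this
      rw [Matrix.mul_apply, Matrix.map_apply, mul_comm]
      exact this
    rw [hN, Matrix.mul_assoc, h1, ← Matrix.mul_assoc, hPI, Matrix.one_mul]
  -- the index of `w`
  let j₀ := el.symm ⟨w, hwb⟩
  have hcol₀ : ∀ i, Inc i j₀ = w i := fun i => by
    show (el (el.symm ⟨w, hwb⟩)).1 i = w i
    rw [Equiv.apply_symm_apply]
  let f : Fin d → Fin d → A := fun a b => M' a j₀ * HopfAlgebra.antipodeAlgHom k A (M' j₀ b)
  have hf : ∀ {R : Type u} [CommRing R] [Algebra k R] (φ : A →ₐ[k] R) a b,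
      φ (f a b) = N φ a j₀ * N (invPt φ) j₀ b := by
    intro R _ _ φ a b
    rw [map_mul]
    rfl
  have hinvf : ∀ a b (R : Type u) [CommRing R] [Algebra k R] (h x : A →ₐ[k] R), (∀ a ∈ I, x a = 0) →
      mulPt h x (f a b) = h (f a b) := by
    intro a b R _ _ h x hx
    obtain ⟨l, hl⟩ := hdiag x hx
    have h2 : N (invPt (mulPt h x)) = N (invPt x) * N (invPt h) := by
      calc N (invPt (mulPt h x)) = N (invPt (mulPt h x)) * ((N h * N x) * (N (invPt x) * N (invPt h))) := by
            rw [Matrix.mul_assoc (N h), ← Matrix.mul_assoc (N x), hNinv, Matrix.one_mul, hNinv, Matrix.mul_one]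
        _ = _ := by rw [← Matrix.mul_assoc (N (invPt (mulPt h x))), ← hNmul, hNinv', Matrix.one_mul]
    have h3 : ∀ j, l j₀ * N (invPt x) j₀ j = (1 : Matrix (Fin d) (Fin d) R) j₀ j := fun j => by
      rw [← hNinv x, hl, Matrix.diagonal_mul]
    rw [hf, hf, hNmul, hl, Matrix.mul_diagonal, h2]
    have h4 : l j₀ * (N (invPt x) * N (invPt h)) j₀ b = N (invPt h) j₀ b := by
      rw [Matrix.mul_apply, Finset.mul_sum]
      simp only [← mul_assoc, h3]
      rw [← Matrix.mul_apply, Matrix.one_mul]
    rw [mul_assoc, h4]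
  have hN1 : N (Bialgebra.counitAlgHom k A) = 1 := by
    rw [hN, map_counit m he, Matrix.mul_one, hPI]
  have hN1' : N (invPt (Bialgebra.counitAlgHom k A)) = 1 := by
    have := hNinv (Bialgebra.counitAlgHom k A)
    rwa [hN1, Matrix.one_mul] at this
  by_contra hcon
  push Not at hcon
  have heq : ∀ a b, N g a j₀ * N (invPt g) j₀ b =
      (1 : Matrix (Fin d) (Fin d) k) a j₀ * (1 : Matrix (Fin d) (Fin d) k) j₀ b := by
    intro a b
    have := hcon (f a b) (hinvf a b)
    rw [hf] at this
    rw [this, show Coalgebra.counit (R := k) (f a b) = Bialgebra.counitAlgHom k A (f a b) from rfl, hf, hN1, hN1']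
  apply hg
  refine (hrep k g).2 ⟨N g j₀ j₀, ?_⟩
  have hzero : ∀ a, a ≠ j₀ → N g a j₀ = 0 := by
    intro a ha
    have h00 := heq j₀ j₀
    rw [Matrix.one_apply_eq, one_mul] at h00
    have := heq a j₀
    rw [Matrix.one_apply_ne ha, zero_mul] at this
    exact (mul_eq_zero.1 this).resolve_right fun h => by rw [h, mul_zero] at h00; exact zero_ne_one h00
  funext i
  have := congrFun (congrFun (hNI (R := k) g) i) j₀
  simp only [Algebra.algebraMap_self, RingHom.id_apply, Matrix.mul_apply, Matrix.map_apply, hcol₀] at this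
  simp only [Matrix.mulVec, dotProduct, Algebra.algebraMap_self, RingHom.id_apply, Matrix.map_apply]
  rw [this, Finset.sum_eq_single j₀ (fun a _ ha => by rw [hzero a ha, mul_zero]) (by simp), hcol₀]

end Groth.AlgGrp1.NormalSep
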