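import Groth.Agent.AlgGrp1.TorusConjGeneral
import Groth.Agent.AlgGrp1.CentreQuotient
import Groth.Agent.AlgGrp1.BorelExist
import Groth.Agent.GrpschAbsch.NeutralSet
import Groth.Agent.S5260

/-!
Normalizers of Cartan subgroups.
-/

set_option autoImplicit false
set_option linter.style.haveILetI false
universe u

open CategoryTheory Limits MonoidalCategory CartesianMonoidalCategory MonObj GrpObj AlgebraicGeometry
open WithConv

noncomputable section

namespace Groth.AlgGrp1

/-- Factorization through a monomorphism is local. -/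
theorem exists_factor_of_local {S : Scheme.{u}} {A C T : Over S} (i : T ⟶ C) [Mono i.left] (f : A ⟶ C)
    (h : ∀ a : A.left, ∃ U : A.left.Opens, a ∈ U ∧ ∃ z : U.toScheme ⟶ T.left, z ≫ i.left = U.ι ≫ f.left) :
    ∃ z : A ⟶ T, z ≫ i = f := by
  choose U hU z hz using h
  let 𝒰 := A.left.openCoverOfIsOpenCover U (TopologicalSpace.IsOpenCover.mk
    (eq_top_iff.2 fun a _ => TopologicalSpace.Opens.mem_iSup.2 ⟨a, hU a⟩))
  let g : A.left ⟶ T.left := 𝒰.glueMorphisms z fun (x y : A.left) => by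
    rw [← cancel_mono i.left, Category.assoc, Category.assoc]
    refine (congrArg (pullback.fst (U x).ι (U y).ι ≫ ·) (hz x)).trans ?_
    refine Eq.trans ?_ (congrArg (pullback.snd (U x).ι (U y).ι ≫ ·) (hz y)).symm
    exact pullback.condition_assoc _
  have hg : g ≫ i.left = f.left := 𝒰.hom_ext _ _ fun x => by
    rw [Scheme.Cover.ι_glueMorphisms_assoc]
    exact hz x
  exact ⟨Over.homMk g (by rw [← Over.w i, ← Category.assoc, hg, Over.w f]), Over.OverMorphism.ext hg⟩

/-- Equality of morphisms is local. -/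
theorem hom_eq_of_local {S : Scheme.{u}} {A T : Over S} (f g : A ⟶ T)
    (h : ∀ a : A.left, ∃ U : A.left.Opens, a ∈ U ∧ U.ι ≫ f.left = U.ι ≫ g.left) : f = g := by
  choose U hU hz using h
  let 𝒰 := A.left.openCoverOfIsOpenCover U (TopologicalSpace.IsOpenCover.mk
    (eq_top_iff.2 fun a _ => TopologicalSpace.Opens.mem_iSup.2 ⟨a, hU a⟩))
  exact Over.OverMorphism.ext (𝒰.hom_ext _ _ hz)

variable {k : Type u} [Field k] [IsAlgClosed k]

/-- Every point of a group lies in a connected open subscheme with a rational point. -/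
theorem exists_component_point (N : Over (Spec (CommRingCat.of k))) [GrpObj N] [LocallyOfFiniteType N.hom]
    (a : N.left) :
    ∃ (U : N.left.Opens) (_ : 𝟙_ (Over (Spec (CommRingCat.of k))) ⟶ Over.mk (U.ι ≫ N.hom)),
      a ∈ U ∧ PreconnectedSpace U.toScheme := by
  let U : N.left.Opens := ⟨connectedComponent a, Groth.GrpschAbsch.NeutralSet.isOpen_component N a⟩
  haveI := LocallyOfFiniteType.jacobsonSpace N.hom
  obtain ⟨c, hc, hcc⟩ := nonempty_inter_closedPoints (Z := (U : Set N.left))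
    ⟨a, mem_connectedComponent⟩ U.2.isLocallyClosed
  obtain ⟨r, hr⟩ := exists_rpt hcc
  have hrange : Set.range r.left ⊆ Set.range U.ι := by
    rw [Scheme.Opens.range_ι]
    rintro _ ⟨t, rfl⟩
    rw [show t = IsLocalRing.closedPoint k from Subsingleton.elim (α := ↥(Spec (CommRingCat.of k))) _ _]
    show rpt r ∈ (U : Set N.left)
    rw [hr]; exact hc
  refine ⟨U, Over.homMk (IsOpenImmersion.lift U.ι r.left hrange) ?_, mem_connectedComponent, ?_⟩
  · show IsOpenImmersion.lift _ _ _ ≫ U.ι ≫ N.hom = _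
    rw [IsOpenImmersion.lift_fac_assoc, Over.w r]
  · exact Subtype.preconnectedSpace isPreconnected_connectedComponent

/-- A morphism to a torus killed by a positive power is trivial. -/
theorem torus_hom_eq_one_of_pow {T H : Over (Spec (CommRingCat.of k))} [GrpObj T] [GrpObj H] [IsSeparated H.hom]
    (hT : Red.IsTorus T) (ψ : T ⟶ H) [IsMonHom ψ] (d : ℕ) (hd : 0 < d) (h : ψ ^ d = 1) : ψ = 1 := by
  obtain ⟨r, e, he⟩ := exists_diag_iso_of_isTorus hT
  haveI := he
  obtain ⟨hTa, hTs, hTc⟩ := isAffine_smooth_connected_of_isTorus hT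
  haveI := hTa; haveI := hTs
  have := geometricallyReduced_of_smooth_hom T
  refine eq_of_sepClosed_points k _ _ fun x => ?_
  let x' : CoactBr.sp k k ⟶ T := x
  obtain ⟨f, hf⟩ := hopfPts_surjective e x'
  obtain ⟨χ, hχ⟩ : ∃ χ : Multiplicative (Fin r → ℤ) →* k,
      ∀ m, f.ofConv (MonoidAlgebra.single m 1) = χ m ^ d := by
    let F : Multiplicative (Fin r → ℤ) →* k := f.ofConv.toMonoidHom.comp (MonoidAlgebra.of k _)
    have hne : ∀ m, F m ≠ 0 := fun m h0 => by
      have : F (m * m⁻¹) = 1 := by rw [mul_inv_cancel, map_one]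
      rw [map_mul, h0, zero_mul] at this
      exact zero_ne_one this
    choose u hu using fun i : Fin r => IsAlgClosed.exists_pow_nat_eq (F (Multiplicative.ofAdd (Pi.single i 1))) hd
    have hu0 : ∀ i, u i ≠ 0 := fun i h0 => hne (Multiplicative.ofAdd (Pi.single i 1)) (by
      rw [← hu i, h0, zero_pow hd.ne'])
    let χ : Multiplicative (Fin r → ℤ) →* k :=
      { toFun := fun m => ∏ i, u i ^ (Multiplicative.toAdd m i)
        map_one' := by simp
        map_mul' := fun a b => by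
          rw [← Finset.prod_mul_distrib]
          refine Finset.prod_congr rfl fun i _ => ?_
          rw [← zpow_add₀ (hu0 i)]
          rfl }
    refine ⟨χ, fun m => ?_⟩
    show F m = χ m ^ d
    have key : ∀ v : Fin r → ℤ, F (Multiplicative.ofAdd v) = ∏ i, F (Multiplicative.ofAdd (Pi.single i 1)) ^ (v i) := by
      intro v
      let Fu : Multiplicative (Fin r → ℤ) →* kˣ := MonoidHom.mk' (fun m => Units.mk0 (F m) (hne m))
        fun a b => Units.ext (map_mul F a b)
      have hv : Multiplicative.ofAdd v = ∏ i, (Multiplicative.ofAdd (Pi.single i 1 : Fin r → ℤ)) ^ (v i) := by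
        refine Multiplicative.toAdd.injective ?_
        rw [toAdd_ofAdd, toAdd_prod]
        funext j
        simp [Finset.sum_apply, Pi.single_apply]
      have h2 := congrArg (fun z => (Fu z : k)) hv
      simp only [map_prod, map_zpow, Units.coe_prod, Units.val_zpow_eq_zpow_val] at h2
      exact h2
    refine (key (Multiplicative.toAdd m)).trans ?_
    show _ = (∏ i, u i ^ (Multiplicative.toAdd m i)) ^ d
    rw [← Finset.prod_pow]
    refine Finset.prod_congr rfl fun i _ => ?_
    rw [← hu i, ← zpow_natCast, ← zpow_natCast, ← zpow_mul, ← zpow_mul, mul_comm]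
  let g : WithConv (MonoidAlgebra k (Multiplicative (Fin r → ℤ)) →ₐ[k] k) :=
    toConv (MonoidAlgebra.lift k k (Multiplicative (Fin r → ℤ)) χ)
  have hfg : f = g ^ d := by
    refine WithConv.ofConv_injective ?_
    ext m
    refine (hχ m).trans ?_
    have : ∀ j : ℕ, (g ^ j).ofConv (MonoidAlgebra.single m 1) = χ m ^ j := fun j => by
      induction j with
      | zero => rw [pow_zero, pow_zero]; simp [AlgHom.convOne_apply]
      | succ j ih =>
        rw [pow_succ, pow_succ, ← ih]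
        simp [AlgHom.convMul_apply, g]
    exact (this d).symm
  show x' ≫ ψ = x' ≫ 1
  rw [← hf, hfg, map_pow, MonObj.comp_one]
  have hp : ∀ j : ℕ, (hopfPts e g ^ j) ≫ ψ = (hopfPts e g ≫ ψ) ^ j := fun j => by
    induction j with
    | zero => rw [pow_zero, pow_zero, MonObj.one_comp]
    | succ j ih => rw [pow_succ, pow_succ, MonObj.mul_comp, ih]
  have hp' : ∀ j : ℕ, hopfPts e g ≫ (ψ ^ j) = (hopfPts e g ≫ ψ) ^ j := fun j => by
    induction j with
    | zero => rw [pow_zero, pow_zero, MonObj.comp_one]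
    | succ j ih => rw [pow_succ, pow_succ, MonObj.comp_mul, ih]
  rw [hp, ← hp', h, MonObj.comp_one]

variable {G T C : Over (Spec (CommRingCat.of k))} [GrpObj G] [GrpObj T] [GrpObj C]
  [Smooth G.hom] [QuasiCompact G.hom]

/-- Tori of the centralizer of a maximal torus lie in it. -/
theorem torus_le_of_central {iT : T ⟶ G} (hT : AGF.IsMaxTorus iT) (c : C ⟶ G) [IsMonHom c]
    [IsClosedImmersion c.left] (tC : T ⟶ C) (htC : tC ≫ c = iT)
    (hcen : ∀ (W : Over (Spec (CommRingCat.of k))) (t : W ⟶ T) (a : W ⟶ C), (t ≫ tC) * a = a * (t ≫ tC))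
    {U : Over (Spec (CommRingCat.of k))} [GrpObj U] (hU : Red.IsTorus U) (jU : U ⟶ C) [IsMonHom jU] :
    ∃ f : U ⟶ T, f ≫ tC = jU := by
  haveI := isSeparated_grpObj G
  haveI := hT.1; haveI := hT.2.1
  haveI : Mono c := Over.mono_of_mono_left c
  haveI : IsMonHom tC := isMonHom_of_points _ fun W p q => by
    rw [← cancel_mono c, MonObj.mul_comp (p ≫ tC), Category.assoc, Category.assoc, Category.assoc, htC,
      MonObj.mul_comp]
  obtain ⟨hTa, hTs, hTc⟩ := isAffine_smooth_connected_of_isTorus hT.2.2.1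
  obtain ⟨hUa, hUs, hUc⟩ := isAffine_smooth_connected_of_isTorus hU
  haveI := hTa; haveI := hTs; haveI := hTc; haveI := hUa; haveI := hUs; haveI := hUc
  haveI : LocallyOfFiniteType C.hom := by rw [← Over.w c]; infer_instance
  haveI : QuasiCompact C.hom := by rw [← Over.w c]; infer_instance
  let u : T ⊗ U ⟶ C := (fst T U ≫ tC) * (snd T U ≫ jU)
  haveI : IsMonHom u := isMonHom_of_points _ fun W p r => by
    simp only [u, MonObj.comp_mul, ← Category.assoc, MonObj.mul_comp]
    have h := hcen W (r ≫ fst T U) ((p ≫ snd T U) ≫ jU)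
    generalize ((p ≫ fst T U) ≫ tC) = A
    generalize ((r ≫ fst T U) ≫ tC) = A' at h ⊢
    generalize ((p ≫ snd T U) ≫ jU) = B at h ⊢
    generalize ((r ≫ snd T U) ≫ jU) = B'
    rw [_root_.mul_assoc, ← _root_.mul_assoc A', h, _root_.mul_assoc B, ← _root_.mul_assoc]
  haveI : IsAffine (T ⊗ U).left := inferInstanceAs (IsAffine (pullback T.hom U.hom))
  haveI : Smooth (T ⊗ U).hom := smooth_tensor_over T U
  haveI : ConnectedSpace (T ⊗ U).left := connectedSpace_tensor_of_point T U
  haveI : LocallyOfFiniteType (T ⊗ U).hom := inferInstance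
  haveI : QuasiCompact (T ⊗ U).hom := inferInstance
  obtain ⟨K, _, cK, g, hcm, hcc, hgm, hKlft, hKqc, hgf, hgs, hgc⟩ := exists_image_hom u
  haveI := hcm; haveI := hcc; haveI := hgm; haveI := hKlft; haveI := hKqc; haveI := hgf; haveI := hgs
  haveI : IsAffine K.left := isAffine_of_quotient g
  haveI : Smooth K.hom := smooth_of_flat_surjective_hom g
  haveI : ConnectedSpace K.left := connectedSpace_of_surjective g
  haveI : Mono cK := Over.mono_of_mono_left cK
  haveI : QuasiCompact g.left := by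
    haveI : QuasiCompact (g.left ≫ K.hom) := by rw [Over.w]; infer_instance
    exact QuasiCompact.of_comp g.left K.hom
  have hKcomm : ∀ (X : Over (Spec (CommRingCat.of k))) (p r : X ⟶ K), p * r = r * p :=
    comm_of_surjective_hom g fun X p r => by
      apply CartesianMonoidalCategory.hom_ext <;> simp only [MonObj.mul_comp]
      · exact Groth.Reductive2.torus_mul_comm hT.2.2.1 _ _
      · exact Groth.Reductive2.torus_mul_comm hU _ _
  obtain ⟨S, _, s, hsm, hsc, hS, hSabs⟩ := exists_torus_absorbing K ⟨1, fun X => by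
    rw [derivedSeries_one, eq_bot_iff, commutator_def, Subgroup.commutator_le]
    intro p _ r _
    rw [Subgroup.mem_bot, commutatorElement_eq_one_iff_mul_comm]
    exact hKcomm X p r⟩
  haveI := hsm; haveI := hsc
  obtain ⟨ja, hja⟩ : ∃ ja : T ⟶ K, ja ≫ cK = tC :=
    ⟨lift (𝟙 T) 1 ≫ g, by simp [hgc, u, MonObj.comp_mul]⟩
  obtain ⟨jb, hjb⟩ : ∃ jb : U ⟶ K, jb ≫ cK = jU :=
    ⟨lift 1 (𝟙 U) ≫ g, by simp [hgc, u, MonObj.comp_mul]⟩
  haveI : IsMonHom ja := isMonHom_of_points _ fun W p r => by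
    rw [← cancel_mono cK, MonObj.mul_comp (p ≫ ja), Category.assoc, Category.assoc, Category.assoc, hja,
      MonObj.mul_comp]
  haveI : IsMonHom jb := isMonHom_of_points _ fun W p r => by
    rw [← cancel_mono cK, MonObj.mul_comp (p ≫ jb), Category.assoc, Category.assoc, Category.assoc, hjb,
      MonObj.mul_comp]
  obtain ⟨p, fa, hfa⟩ := hSabs T ja hT.2.2.1
  obtain ⟨r, fb, hfb⟩ := hSabs U jb hU
  have htriv : ∀ {V : Over (Spec (CommRingCat.of k))} (p : 𝟙_ _ ⟶ K) (j : V ⟶ K), AGF.conjBy p j = j :=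
    fun {V} p j => by
      unfold AGF.conjBy
      rw [hKcomm V (toUnit V ≫ p) j, mul_inv_cancel_right]
  rw [htriv] at hfa hfb
  haveI : Mono s := Over.mono_of_mono_left s
  haveI : IsMonHom (s ≫ cK ≫ c) := inferInstance
  haveI : Mono (s ≫ cK ≫ c) := inferInstance
  haveI := hT.2.2.2 S (s ≫ cK ≫ c) fa hS (by rw [reassoc_of% hfa, reassoc_of% hja, htC])
  exact ⟨fb ≫ inv fa, by rw [← hja, ← hfa, Category.assoc, Category.assoc, IsIso.inv_hom_id_assoc, ← Category.assoc, hfb, hjb]⟩

/-- Points normalizing the centralizer of a maximal torus normalize the torus. -/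
theorem normalizes_torus_of_centralizer [ConnectedSpace G.left] {iT : T ⟶ G} (hT : AGF.IsMaxTorus iT)
    {c : C ⟶ G} (hc : Red.IsCentralizerOf iT c) {X : Over (Spec (CommRingCat.of k))} (g : X ⟶ G)
    (hg : Normalizes c g) : Normalizes iT g := by
  haveI := isSeparated_grpObj G
  haveI := hT.1; haveI := hT.2.1; haveI := hc.1
  haveI : Mono c := hc.2.1
  haveI := isClosedImmersion_of_isTorus iT hT.2.2.1
  obtain ⟨⟨Z', _, z', hz', hz'c, -⟩, -⟩ := Groth.Agent.S3006.result _ G T iT inferInstance hT.2.2.1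
  haveI : IsClosedImmersion c.left := by
    obtain ⟨e, he⟩ := exists_iso_centralizer hc hz'
    haveI : IsIso e.hom.left := ((Over.forget _).mapIso e).isIso_hom
    haveI := hz'c
    rw [← he, Over.comp_left]; infer_instance
  obtain ⟨hCs, hCc⟩ := smooth_connected_centralizer_torus iT hT.2.2.1 c hc
  haveI := hCs; haveI := hCc
  haveI : QuasiCompact C.hom := by rw [← Over.w c]; infer_instance
  haveI : QuasiSeparated C.hom := by rw [← Over.w c]; infer_instance
  obtain ⟨tC, htC⟩ := (hc.2.2 T iT).2 fun W w s => by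
    rw [← MonObj.mul_comp, ← MonObj.mul_comp, Groth.Reductive2.torus_mul_comm hT.2.2.1 (w) s]
  have hcen : ∀ (W : Over (Spec (CommRingCat.of k))) (t : W ⟶ T) (a : W ⟶ C),
      (t ≫ tC) * a = a * (t ≫ tC) := fun W t a => by
    have h := (hc.2.2 W (a ≫ c)).1 ⟨a, rfl⟩ W (𝟙 W) t
    rw [Category.id_comp] at h
    rw [← cancel_mono c, MonObj.mul_comp, MonObj.mul_comp, Category.assoc, htC, h]
  obtain ⟨N, _, nC, hN, hNc, -⟩ := Groth.Agent.S5260.result G C (fun s => by
    have : Subsingleton (Spec (CommRingCat.of k) : Scheme.{u}) := inferInstanceAs (Subsingleton (PrimeSpectrum k))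
    have e : C.hom ⁻¹' {s} = Set.univ := Set.eq_univ_of_forall fun _ => Subsingleton.elim _ _
    haveI : ConnectedSpace (C.hom ⁻¹' {s} : Set C.left) := isConnected_iff_connectedSpace.1 (e ▸ isConnected_univ)
    exact (C.hom.fiberHomeo s).symm.surjective.connectedSpace (C.hom.fiberHomeo s).symm.continuous) c
  haveI := hNc; haveI := hN.1; haveI : Mono nC := hN.2.1
  haveI : LocallyOfFiniteType N.hom := by rw [← Over.w nC]; infer_instance
  haveI : QuasiCompact N.hom := by rw [← Over.w nC]; infer_instance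
  haveI : IsSeparated N.hom := by rw [← Over.w nC]; infer_instance
  obtain ⟨⟨h', hh'⟩, -⟩ := (hN.2.2 N nC).1 ⟨𝟙 N, Category.id_comp nC⟩ (N ⊗ T) (fst N T) (snd N T ≫ tC)
  rw [Category.assoc, htC] at hh'
  obtain ⟨Z, _, z, hzm, hzc, -, hZ, -⟩ := exists_centre_quotient C
  haveI := hzm; haveI := hzc
  haveI : Mono z := Over.mono_of_mono_left z
  haveI : LocallyOfFiniteType Z.hom := by rw [← Over.w z]; infer_instance
  obtain ⟨ψ, hψ⟩ := (hZ _ h').2 fun W w a => by
    obtain ⟨-, ⟨a', ha'⟩⟩ := (hN.2.2 _ (fst N T ≫ nC)).1 ⟨fst N T, rfl⟩ W w a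
    have h1 := (hc.2.2 W (a' ≫ c)).1 ⟨a', rfl⟩ W (𝟙 W) (w ≫ snd N T)
    have h2 := congrArg (w ≫ ·) hh'
    simp only [MonObj.comp_mul, GrpObj.comp_inv, ← Category.assoc] at h2 ha' h1
    rw [Category.id_comp, ← ha'] at h1
    rw [← cancel_mono c, MonObj.mul_comp, MonObj.mul_comp]
    try simp only [← Category.assoc]
    rw [← h2]
    generalize (w ≫ fst N T) ≫ nC = x at h1 ⊢
    generalize a ≫ c = b at h1 ⊢
    generalize (w ≫ snd N T) ≫ iT = y at h1 ⊢
    calc x * y * x⁻¹ * b = x * (y * (x⁻¹ * b * x)) * x⁻¹ := by group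
      _ = x * (x⁻¹ * b * x * y) * x⁻¹ := by rw [h1]
      _ = b * (x * y * x⁻¹) := by group
  have hψc : ∀ {W : Over (Spec (CommRingCat.of k))} (a : W ⟶ N) (t : W ⟶ T),
      ((lift a t ≫ ψ) ≫ z) ≫ c = (a ≫ nC) * (t ≫ iT) * (a ≫ nC)⁻¹ := fun a t => by
    rw [Category.assoc _ ψ, hψ, Category.assoc, ← hh']
    simp [MonObj.comp_mul, GrpObj.comp_inv]
  have hZcomm : ∀ (W : Over (Spec (CommRingCat.of k))) (a b : W ⟶ Z), a * b = b * a := fun W a b => by
    have h := (hZ W (a ≫ z)).1 ⟨a, rfl⟩ W (𝟙 W) (b ≫ z)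
    rw [Category.id_comp] at h
    rw [← cancel_mono z, MonObj.mul_comp, MonObj.mul_comp, h]
  have hψmul : ∀ {W : Over (Spec (CommRingCat.of k))} (a : W ⟶ N) (t t' : W ⟶ T),
      lift a (t * t') ≫ ψ = (lift a t ≫ ψ) * (lift a t' ≫ ψ) := fun a t t' => by
    rw [← cancel_mono z, ← cancel_mono c, MonObj.mul_comp (lift a t ≫ ψ), MonObj.mul_comp ((lift a t ≫ ψ) ≫ z),
      hψc, hψc, hψc, MonObj.mul_comp]
    group
  -- the conjugates of the torus lie in the torus
  haveI : IsClosedImmersion tC.left := by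
    have : IsClosedImmersion (tC.left ≫ c.left) := by rw [← Over.comp_left, htC]; infer_instance
    exact IsClosedImmersion.of_comp tC.left c.left
  haveI : Mono tC.left := inferInstance
  obtain ⟨F, hF⟩ := exists_factor_of_local tC (ψ ≫ z) fun a => by
    obtain ⟨V, y₀, hV, hVc⟩ := exists_component_point N ((fst N T).left a)
    let Y : Over (Spec (CommRingCat.of k)) := Over.mk (V.ι ≫ N.hom)
    let y : Y ⟶ N := Over.homMk V.ι rfl
    haveI : IsOpenImmersion y.left := inferInstanceAs (IsOpenImmersion V.ι)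
    haveI : PreconnectedSpace Y.left := hVc
    haveI : LocallyOfFiniteType Y.hom := inferInstanceAs (LocallyOfFiniteType (V.ι ≫ N.hom))
    haveI : QuasiCompact Y.hom := by
      haveI := isLocallyNoetherian_left N
      exact inferInstanceAs (QuasiCompact (V.ι ≫ N.hom))
    haveI : IsSeparated Y.hom := inferInstanceAs (IsSeparated (V.ι ≫ N.hom))
    have hconst := fun {W : Over (Spec (CommRingCat.of k))} (b : W ⟶ Y) (t : W ⟶ T) =>
      pointed_family_hom_const y₀ (Groth.Reductive.FreeDiag.isMultTypeFT_of_isTorus hT.2.2.1) hZcomm ((y ▷ T) ≫ ψ)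
        (fun W b t t' => by simp only [lift_whiskerRight_assoc, hψmul]) b t
    let jU : T ⟶ C := lift (toUnit T ≫ y₀ ≫ y) (𝟙 T) ≫ ψ ≫ z
    haveI : IsMonHom jU := isMonHom_of_points _ fun W p r => by
      simp only [jU, comp_lift_assoc, Category.comp_id, ← Category.assoc (p * r) (toUnit T), ← Category.assoc p (toUnit T),
        ← Category.assoc r (toUnit T), toUnit_unique ((p * r) ≫ toUnit T) (toUnit W), toUnit_unique (p ≫ toUnit T) (toUnit W),
        toUnit_unique (r ≫ toUnit T) (toUnit W)]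
      rw [← Category.assoc, hψmul, MonObj.mul_comp, Category.assoc, Category.assoc]
    obtain ⟨f, hf⟩ := torus_le_of_central hT c tC htC hcen hT.2.2.1 jU
    let W : (N ⊗ T).left.Opens := (fst N T).left ⁻¹ᵁ V
    let A : Over (Spec (CommRingCat.of k)) := Over.mk (W.ι ≫ (N ⊗ T).hom)
    let w : A ⟶ N ⊗ T := Over.homMk W.ι rfl
    have hr : Set.range (w ≫ fst N T).left ⊆ Set.range V.ι := by
      rw [Scheme.Opens.range_ι]
      rintro _ ⟨x, rfl⟩
      exact x.2
    let b : A ⟶ Y := Over.homMk (IsOpenImmersion.lift V.ι (w ≫ fst N T).left hr) (by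
      show IsOpenImmersion.lift _ _ _ ≫ V.ι ≫ N.hom = _
      rw [IsOpenImmersion.lift_fac_assoc, Over.w (w ≫ fst N T)])
    have hb : b ≫ y = w ≫ fst N T := Over.OverMorphism.ext (IsOpenImmersion.lift_fac _ _ _)
    refine ⟨W, hV, ((w ≫ snd N T) ≫ f).left, ?_⟩
    have h3 := hconst b (w ≫ snd N T)
    simp only [lift_whiskerRight_assoc, hb] at h3
    have h4 : ((w ≫ snd N T) ≫ f) ≫ tC = w ≫ ψ ≫ z := by
      have h5 : lift (w ≫ fst N T) (w ≫ snd N T) = w := by
        apply CartesianMonoidalCategory.hom_ext <;> simp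
      rw [h5] at h3
      rw [Category.assoc, hf, ← Category.assoc w ψ, h3]
      simp only [jU, comp_lift_assoc, Category.comp_id, Category.assoc]
      rw [← Category.assoc w, ← Category.assoc (w ≫ snd N T) (toUnit T),
        toUnit_unique ((w ≫ snd N T) ≫ toUnit T) (toUnit A)]
    exact congrArg CommaMorphism.left h4
  have hone : ∀ {W : Over (Spec (CommRingCat.of k))} (a : W ⟶ G) (t : W ⟶ T), Normalizes c a →
      ∃ t' : W ⟶ T, a * (t ≫ iT) * a⁻¹ = t' ≫ iT := fun {W} a t ha => by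
    obtain ⟨b, rfl⟩ := (hN.2.2 W a).2 ha
    refine ⟨lift b t ≫ F, ?_⟩
    rw [← hψc, ← htC, ← Category.assoc (lift b t ≫ F), Category.assoc (lift b t) F, hF, ← Category.assoc (lift b t)]
  intro W x h
  refine ⟨hone _ h (hg.comp x), ?_⟩
  obtain ⟨t', ht'⟩ := hone _ h (hg.inv.comp x)
  rw [GrpObj.comp_inv, _root_.inv_inv] at ht'
  exact ⟨t', ht'⟩

/-- In a solvable group, normalizing a torus means centralizing it. -/
theorem centralizes_of_normalizes_solvable [ConnectedSpace G.left] (hs : Red.IsSolvableGrp G) {iT : T ⟶ G}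
    (hT : AGF.IsMaxTorus iT) {X : Over (Spec (CommRingCat.of k))} (g : X ⟶ G) (hg : Normalizes iT g)
    (W : Over (Spec (CommRingCat.of k))) (x : W ⟶ X) (t : W ⟶ T) :
    (x ≫ g) * (t ≫ iT) = (t ≫ iT) * (x ≫ g) := by
  haveI := isSeparated_grpObj G
  haveI := hT.1; haveI := hT.2.1
  obtain ⟨hTa, hTs, hTc⟩ := isAffine_smooth_connected_of_isTorus hT.2.2.1
  haveI := hTa; haveI := hTs; haveI := hTc
  obtain ⟨M, _, m, E, _, q, hm, hmc, hMs, hMq, hMc, hEa, hEs, hEc, hqm, hqf, hqs, hqq, hker, hMcomm, -, hcen⟩ :=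
    exists_central_affine_quotient G
  haveI := hm; haveI := hmc; haveI := hEa; haveI := hEs; haveI := hEc; haveI := hqm; haveI := hqs
  obtain ⟨n, hn⟩ := hs
  have hsE : Red.IsSolvableGrp E := isSolvableGrp_of_derivedSeries n E (by
    let qh : (𝟙_ (Over (Spec (CommRingCat.of k))) ⟶ G) →* (𝟙_ _ ⟶ E) :=
      MonoidHom.mk' (· ≫ q) fun a b => MonObj.mul_comp a b q
    have hqsur : Function.Surjective qh := fun e => exists_rpt_lift q e (q.left.surjective _)
    rw [← map_derivedSeries_eq hqsur n, hn, Subgroup.map_bot])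
  obtain ⟨S₁, _, iS₁, π₁, hiS₁, hπ₁, hret, hcl₁, hS₁, habs₁⟩ := exists_torus_absorbing' E hsE
  haveI := hiS₁; haveI := hπ₁; haveI := hcl₁
  have hπc : ∀ {V : Over (Spec (CommRingCat.of k))} (a b : V ⟶ S₁), a * b = b * a := fun a b =>
    Groth.Reductive2.torus_mul_comm hS₁ a b
  obtain ⟨K, _, cK, gK, hcm, hcc, hgm, hgs, hK, hgK⟩ := exists_torus_image hT.2.2.1 (iT ≫ q)
  haveI := hcm; haveI := hcc; haveI := hgm
  haveI : Mono cK := Over.mono_of_mono_left cK
  obtain ⟨e, f', hf'⟩ := habs₁ K cK hK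
  haveI : Mono (cK ≫ π₁) := by
    have : cK ≫ π₁ = f' := by
      have h1 := congrArg (· ≫ π₁) hf'
      simp only [Category.assoc, hret, Category.comp_id, AGF.conjBy, MonObj.mul_comp, GrpObj.inv_comp] at h1
      rw [h1, hπc (toUnit K ≫ e ≫ π₁), mul_inv_cancel_right]
    rw [this]
    haveI := mono_conjBy e cK
    exact mono_of_mono_fac hf'
  obtain ⟨-, N, _, nT, hN, hNc, hNs⟩ :=
    Groth.Agent.S3006.result _ G T iT (isClosedImmersion_of_isTorus iT hT.2.2.1) hT.2.2.1
  haveI := hNc; haveI := hN.1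
  haveI : LocallyOfFiniteType N.hom := by rw [← Over.w nT]; infer_instance
  haveI : QuasiCompact N.hom := by rw [← Over.w nT]; infer_instance
  haveI : IsSeparated N.hom := by rw [← Over.w nT]; infer_instance
  haveI : IsSeparated T.hom := inferInstance
  obtain ⟨⟨J, hJ⟩, -⟩ := (hN.2.2 N nT).1 ⟨𝟙 N, Category.id_comp nT⟩ (N ⊗ T) (fst N T) (snd N T)
  have hJl : ∀ {V : Over (Spec (CommRingCat.of k))} (a : V ⟶ N) (s : V ⟶ T),
      (lift a s ≫ J) ≫ iT = (a ≫ nT) * (s ≫ iT) * (a ≫ nT)⁻¹ := fun a s => by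
    rw [Category.assoc, ← hJ]
    simp [MonObj.comp_mul, GrpObj.comp_inv]
  have hJmul : ∀ {V : Over (Spec (CommRingCat.of k))} (a : V ⟶ N) (s s' : V ⟶ T),
      lift a (s * s') ≫ J = (lift a s ≫ J) * (lift a s' ≫ J) := fun a s s' => by
    rw [← cancel_mono iT, MonObj.mul_comp (lift a s ≫ J), hJl, hJl, hJl, MonObj.mul_comp]
    group
  -- rational points of the normalizer centralize
  have core : ∀ y : 𝟙_ (Over (Spec (CommRingCat.of k))) ⟶ N, lift (toUnit T ≫ y) (𝟙 T) ≫ J = 𝟙 T := by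
    intro y
    set φ : T ⟶ T := lift (toUnit T ≫ y) (𝟙 T) ≫ J with hφdef
    set a : T ⟶ G := toUnit T ≫ (y ≫ nT) with ha
    have hφ : φ ≫ iT = a * iT * a⁻¹ := by
      rw [hφdef, hJl, Category.id_comp, Category.assoc, ha]
    haveI : IsMonHom φ := isMonHom_of_points _ fun V p r => by
      simp only [φ, comp_lift_assoc, Category.comp_id, ← Category.assoc (p * r) (toUnit T), ← Category.assoc p (toUnit T),
        ← Category.assoc r (toUnit T), toUnit_unique ((p * r) ≫ toUnit T) (toUnit V), toUnit_unique (p ≫ toUnit T) (toUnit V),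
        toUnit_unique (r ≫ toUnit T) (toUnit V)]
      exact hJmul _ _ _
    let ψ : T ⟶ T := φ * (𝟙 T)⁻¹
    haveI : IsMonHom ψ := isMonHom_of_points _ fun V p r => by
      simp only [ψ, MonObj.comp_mul, GrpObj.comp_inv, Category.comp_id, MonObj.mul_comp, _root_.mul_inv_rev]
      generalize p ≫ φ = A
      generalize r ≫ φ = A'
      rw [Groth.Reductive2.torus_mul_comm hT.2.2.1 r⁻¹ p⁻¹, _root_.mul_assoc, ← _root_.mul_assoc A',
        Groth.Reductive2.torus_mul_comm hT.2.2.1 A' p⁻¹, _root_.mul_assoc p⁻¹, ← _root_.mul_assoc]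
    -- the commutator lies in the kernel
    have hψK : (ψ ≫ gK) ≫ (cK ≫ π₁) = (1 : T ⟶ K) ≫ (cK ≫ π₁) := by
      rw [MonObj.one_comp, Category.assoc, reassoc_of% hgK]
      simp only [ψ, MonObj.mul_comp, GrpObj.inv_comp, Category.id_comp]
      rw [← Category.assoc φ, hφ]
      simp only [MonObj.mul_comp, GrpObj.inv_comp, ← Category.assoc]
      rw [hπc ((a ≫ q) ≫ π₁), mul_inv_cancel_right, mul_inv_cancel]
    have hψq : (ψ ≫ iT) ≫ q = 1 := by
      have := (cancel_mono (cK ≫ π₁)).1 hψK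
      rw [Category.assoc, ← hgK, ← Category.assoc, this, MonObj.one_comp]
    obtain ⟨mu, hmu⟩ := IsKernel.exists_lift hker (ψ ≫ iT) hψq
    have hcomm : a * (ψ ≫ iT) * a⁻¹ = ψ ≫ iT := by
      rw [← hmu, ← hcen, mul_inv_cancel_right]
    have hit : φ ≫ iT = (ψ ≫ iT) * iT := by
      simp only [ψ, MonObj.mul_comp, GrpObj.inv_comp, Category.id_comp, inv_mul_cancel_right]
    have hpow : ∀ j : ℕ, a ^ j * iT * (a ^ j)⁻¹ = (ψ ≫ iT) ^ j * iT := fun j => by
      induction j with
      | zero => simp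
      | succ j ih =>
        have e : a ^ (j + 1) * iT * (a ^ (j + 1))⁻¹ = a * (a ^ j * iT * (a ^ j)⁻¹) * a⁻¹ := by
          rw [pow_succ']; group
        rw [e, ih, show a * ((ψ ≫ iT) ^ j * iT) * a⁻¹ = (a * (ψ ≫ iT) ^ j * a⁻¹) * (a * iT * a⁻¹) by group,
          ← conj_pow, hcomm, ← hφ, hit, pow_succ, _root_.mul_assoc]
    obtain ⟨d, hd, hdfix⟩ := exists_pow_commute iT hT.2.2.1 (y ≫ nT) ((hN.2.2 _ _).1 ⟨y, rfl⟩)
    have hid : ψ ^ d = 1 := by
      have hpc : ∀ j : ℕ, toUnit T ≫ ((y ≫ nT) ^ j) = a ^ j := fun j => by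
        induction j with
        | zero => rw [pow_zero, pow_zero, MonObj.comp_one]
        | succ j ih => rw [pow_succ, pow_succ, MonObj.comp_mul, ih]
      have hψp : ∀ j : ℕ, (ψ ^ j) ≫ iT = (ψ ≫ iT) ^ j := fun j => by
        induction j with
        | zero => rw [pow_zero, pow_zero, MonObj.one_comp]
        | succ j ih => rw [pow_succ, pow_succ, MonObj.mul_comp, ih]
      unfold AGF.conjBy at hdfix
      rw [hpc, hpow] at hdfix
      rw [← cancel_mono iT, MonObj.one_comp, hψp]
      exact mul_eq_right.1 hdfix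
    have := torus_hom_eq_one_of_pow hT.2.2.1 ψ d hd hid
    exact mul_inv_eq_one.1 this
  have hall : J = snd N T := hom_eq_of_local _ _ fun a => by
    obtain ⟨V, y₀, hV, hVc⟩ := exists_component_point N ((fst N T).left a)
    let Y : Over (Spec (CommRingCat.of k)) := Over.mk (V.ι ≫ N.hom)
    let y : Y ⟶ N := Over.homMk V.ι rfl
    haveI : IsOpenImmersion y.left := inferInstanceAs (IsOpenImmersion V.ι)
    haveI : PreconnectedSpace Y.left := hVc
    haveI : LocallyOfFiniteType Y.hom := inferInstanceAs (LocallyOfFiniteType (V.ι ≫ N.hom))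
    haveI : QuasiCompact Y.hom := by
      haveI := isLocallyNoetherian_left N
      exact inferInstanceAs (QuasiCompact (V.ι ≫ N.hom))
    haveI : IsSeparated Y.hom := inferInstanceAs (IsSeparated (V.ι ≫ N.hom))
    let W' : (N ⊗ T).left.Opens := (fst N T).left ⁻¹ᵁ V
    let A : Over (Spec (CommRingCat.of k)) := Over.mk (W'.ι ≫ (N ⊗ T).hom)
    let w : A ⟶ N ⊗ T := Over.homMk W'.ι rfl
    have hr : Set.range (w ≫ fst N T).left ⊆ Set.range V.ι := by
      rw [Scheme.Opens.range_ι]
      rintro _ ⟨x, rfl⟩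
      exact x.2
    let b : A ⟶ Y := Over.homMk (IsOpenImmersion.lift V.ι (w ≫ fst N T).left hr) (by
      show IsOpenImmersion.lift _ _ _ ≫ V.ι ≫ N.hom = _
      rw [IsOpenImmersion.lift_fac_assoc, Over.w (w ≫ fst N T)])
    have hb : b ≫ y = w ≫ fst N T := Over.OverMorphism.ext (IsOpenImmersion.lift_fac _ _ _)
    refine ⟨W', hV, ?_⟩
    have h3 := pointed_family_hom_const y₀ (Groth.Reductive.FreeDiag.isMultTypeFT_of_isTorus hT.2.2.1)
      (fun V p r => Groth.Reductive2.torus_mul_comm hT.2.2.1 p r) ((y ▷ T) ≫ J)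
      (fun V b t t' => by simp only [lift_whiskerRight_assoc, hJmul]) b (w ≫ snd N T)
    simp only [lift_whiskerRight_assoc, hb] at h3
    have h5 : lift (w ≫ fst N T) (w ≫ snd N T) = w := by
      apply CartesianMonoidalCategory.hom_ext <;> simp
    rw [h5] at h3
    have h6 := congrArg ((w ≫ snd N T) ≫ ·) (core (y₀ ≫ y))
    simp only [comp_lift_assoc, Category.comp_id] at h6
    rw [← Category.assoc (w ≫ snd N T) (toUnit T), toUnit_unique ((w ≫ snd N T) ≫ toUnit T) (toUnit A), ← Category.assoc (toUnit A)] at h6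
    exact congrArg CommaMorphism.left (h3.trans h6)
  obtain ⟨z, hz⟩ := (hN.2.2 X g).2 hg
  have h := hJl (x ≫ z) t
  rw [hall, lift_snd, Category.assoc, hz] at h
  exact (mul_inv_eq_iff_eq_mul.1 h.symm)

/-- **In a solvable group the centralizer of a maximal torus is its own normalizer.** -/
theorem le_centralizer_of_normalizes [ConnectedSpace G.left] (hs : Red.IsSolvableGrp G) {iT : T ⟶ G}
    (hT : AGF.IsMaxTorus iT) {c : C ⟶ G} (hc : Red.IsCentralizerOf iT c) {X : Over (Spec (CommRingCat.of k))}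
    (g : X ⟶ G) (hg : Normalizes c g) : ∃ z : X ⟶ C, z ≫ c = g :=
  (hc.2.2 X g).2 fun W x t =>
    centralizes_of_normalizes_solvable hs hT g (normalizes_torus_of_centralizer hT hc g hg) W x t

end Groth.AlgGrp1
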