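import Groth.Agent.AlgGrp1.BorelRelative
import Groth.Agent.AlgGrp1.MonoHom
import Groth.Agent.GrpschSep.Fibre
import Groth.Agent.Reductive2.TorusBasic

/-!
Smooth connected subgroups containing Cartan subgroups are open in their normalizers.
-/

set_option autoImplicit false
set_option linter.style.haveILetI false
universe u

open CategoryTheory Limits MonoidalCategory CartesianMonoidalCategory MonObj GrpObj AlgebraicGeometry
open Groth.AlgGrp2 (bcPt bcPtInv bcPt_injective bcPt_comp bcPt_comp_map bcPt_mul bcPt_inv bcPt_bcPtInv)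
open scoped DualNumber

noncomputable section

namespace Groth.AlgGrp1

/-- A fibre is connected when its geometric fibre is. -/
theorem isConnected_fibre_of_geomFibre {S : Scheme.{u}} (X : Over S) (s : S)
    [ConnectedSpace (Red.geomFibre s X).left] : _root_.IsConnected (X.hom.base ⁻¹' {s}) := by
  have : ConnectedSpace ↥(pullback X.hom (Red.geomPt s)) := ‹ConnectedSpace (Red.geomFibre s X).left›
  have hr : X.hom.base ⁻¹' {s} = Set.range (pullback.fst X.hom (Red.geomPt s)).base := by
    rw [Scheme.Pullback.range_fst]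
    refine congrArg (X.hom.base ⁻¹' ·) (Set.ext fun y => ⟨fun hy => ⟨IsLocalRing.closedPoint _, ?_⟩, ?_⟩)
    · rw [Set.mem_singleton_iff] at hy
      rw [hy, Scheme.Hom.comp_apply, Scheme.fromSpecResidueField_apply]
    · rintro ⟨z, rfl⟩
      rw [Set.mem_singleton_iff, Scheme.Hom.comp_apply, Scheme.fromSpecResidueField_apply]
  rw [hr]
  exact isConnected_range (pullback.fst X.hom (Red.geomPt s)).continuous

/-- Being an open immersion is detected on geometric fibres, for a flat source. -/
theorem isOpenImmersion_of_geomFibres {S : Scheme.{u}} {A B : Over S} (f : A ⟶ B) [Flat A.hom]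
    [LocallyOfFinitePresentation A.hom] [LocallyOfFiniteType B.hom]
    (h : ∀ s : S, IsOpenImmersion ((Over.pullback (Red.geomPt s)).map f).left) : IsOpenImmersion f.left := by
  have hA : A.hom = f.left ≫ B.hom := (Over.w f).symm
  have : Flat (f.left ≫ B.hom) := hA ▸ ‹Flat A.hom›
  have : LocallyOfFinitePresentation (f.left ≫ B.hom) := hA ▸ ‹LocallyOfFinitePresentation A.hom›
  refine FlatMor2.FibCrit.isOpenImmersion_of_fibres f.left B.hom fun s => ?_
  have e := Reductive.FreeDiag.prop_map_fieldPoint_iff f @IsOpenImmersion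
    (AlgebraicClosure (S.residueField s)) (Red.geomPt s)
  have e' : (Red.geomPt s).base (IsLocalRing.closedPoint _) = s := by
    rw [Scheme.Hom.comp_apply, Scheme.fromSpecResidueField_apply]
  rw [e'] at e
  have h1 : IsOpenImmersion ((Over.pullback (S.fromSpecResidueField s)).map f).left := e.1 (h s)
  let c : (f.left ≫ B.hom).fiber s ≅ pullback A.hom (S.fromSpecResidueField s) := pullback.congrHom hA.symm rfl
  have h2 : MoreMor.fiberMap f.left B.hom s = c.hom ≫ ((Over.pullback (S.fromSpecResidueField s)).map f).left := by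
    apply pullback.hom_ext
    · rw [Category.assoc, show ((Over.pullback (S.fromSpecResidueField s)).map f).left ≫
          pullback.fst B.hom (S.fromSpecResidueField s) =
          pullback.fst A.hom (S.fromSpecResidueField s) ≫ f.left from pullback.lift_fst _ _ _,
        MoreMor.fiberMap]
      refine (pullback.lift_fst _ _ _).trans ?_
      rw [← Category.assoc, show c.hom ≫ pullback.fst A.hom (S.fromSpecResidueField s) =
        (f.left ≫ B.hom).fiberι s from (pullback.lift_fst _ _ _).trans (Category.comp_id _)]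
    · rw [Category.assoc, show ((Over.pullback (S.fromSpecResidueField s)).map f).left ≫
          pullback.snd B.hom (S.fromSpecResidueField s) =
          pullback.snd A.hom (S.fromSpecResidueField s) from pullback.lift_snd _ _ _,
        MoreMor.fiberMap]
      refine (pullback.lift_snd _ _ _).trans ?_
      exact ((pullback.lift_snd _ _ _).trans (Category.comp_id _)).symm
  rw [h2]
  exact @IsOpenImmersion.comp _ _ _ c.hom _ inferInstance h1

/-- An ideal with formally smooth quotient killed by the tangent vectors at its zeros is generated by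
an idempotent. -/
theorem exists_idempotent_of_tangents {k : Type u} [Field k] [IsAlgClosed k] {A : Type u} [CommRing A]
    [Algebra k A] [Algebra.FiniteType k A] (I : Ideal A) [Algebra.FormallySmooth k (A ⧸ I)]
    (h : ∀ P : A →ₐ[k] k[ε], (∀ a ∈ I, (P a).fst = 0) → ∀ a ∈ I, P a = 0) :
    ∃ e, IsIdempotentElem e ∧ I = Ideal.span {e} := by
  haveI : IsNoetherianRing A := Algebra.FiniteType.isNoetherianRing k A
  have hsurj : Function.Surjective (Ideal.Quotient.factorₐ k (Ideal.pow_le_self two_ne_zero : I ^ 2 ≤ I)) := by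
    intro x
    obtain ⟨a, rfl⟩ := Ideal.Quotient.mk_surjective x
    exact ⟨Ideal.Quotient.mk _ a, rfl⟩
  have hnil : IsNilpotent (RingHom.ker (Ideal.Quotient.factorₐ k (Ideal.pow_le_self two_ne_zero : I ^ 2 ≤ I) : A ⧸ I ^ 2 →+* A ⧸ I)) := ⟨2, by
      refine (pow_two _).trans (eq_bot_iff.2 (Ideal.mul_le.2 ?_))
      intro x hx y hy
      obtain ⟨a, rfl⟩ := Ideal.Quotient.mk_surjective x
      obtain ⟨b, rfl⟩ := Ideal.Quotient.mk_surjective y
      have ha : a ∈ I := Ideal.Quotient.eq_zero_iff_mem.1 hx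
      have hb : b ∈ I := Ideal.Quotient.eq_zero_iff_mem.1 hy
      rw [Ideal.mem_bot, ← map_mul, Ideal.Quotient.eq_zero_iff_mem, pow_two]
      exact Ideal.mul_mem_mul ha hb⟩
  let σ : A ⧸ I →ₐ[k] A ⧸ I ^ 2 := Algebra.FormallySmooth.liftOfSurjective (AlgHom.id k (A ⧸ I))
    (Ideal.Quotient.factorₐ k (Ideal.pow_le_self two_ne_zero)) hsurj hnil
  have hσ : ∀ a : A, ∃ b : A, Ideal.Quotient.mk (I ^ 2) b = σ (Ideal.Quotient.mk I a) ∧ a - b ∈ I := by
    intro a
    obtain ⟨b, hb⟩ := Ideal.Quotient.mk_surjective (σ (Ideal.Quotient.mk I a))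
    refine ⟨b, hb, Ideal.Quotient.eq.1 ?_⟩
    have := Algebra.FormallySmooth.liftOfSurjective_apply (AlgHom.id k (A ⧸ I))
      (Ideal.Quotient.factorₐ k (Ideal.pow_le_self two_ne_zero : I ^ 2 ≤ I)) hsurj hnil (Ideal.Quotient.mk I a)
    exact this.symm.trans (congrArg (Ideal.Quotient.factorₐ k (Ideal.pow_le_self two_ne_zero)) hb.symm)
  set J := Submodule.annihilator (I : Submodule A A) with hJ
  have htop : J ⊔ I = ⊤ := by
    by_contra hI
    obtain ⟨m, hm, hJIm⟩ := Ideal.exists_le_maximal _ hI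
    obtain ⟨p, hp⟩ : ∃ p : A →ₐ[k] k, RingHom.ker p = m := by
      letI := Ideal.Quotient.field m
      have : Algebra.FiniteType k (A ⧸ m) :=
        Algebra.FiniteType.of_surjective (Ideal.Quotient.mkₐ k m) Ideal.Quotient.mk_surjective
      have : Module.Finite k (A ⧸ m) := finite_of_finite_type_of_isJacobsonRing k (A ⧸ m)
      have hb : Function.Bijective (Algebra.ofId k (A ⧸ m)) := IsAlgClosed.algebraMap_bijective_of_isIntegral
      refine ⟨(AlgEquiv.ofBijective _ hb).symm.toAlgHom.comp (Ideal.Quotient.mkₐ k m), ?_⟩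
      ext a
      rw [RingHom.mem_ker, AlgHom.comp_apply]
      exact (map_eq_zero_iff _ (AlgEquiv.ofBijective _ hb).symm.injective).trans Ideal.Quotient.eq_zero_iff_mem
    have hpI : ∀ a ∈ I, p a = 0 := fun a ha => by
      rw [← RingHom.mem_ker, hp]
      exact hJIm (Ideal.mem_sup_right ha)
    -- the conormal space at the point vanishes
    have key : (I : Submodule A A) ≤ m • (I : Submodule A A) := by
      by_contra hle
      obtain ⟨a₀, ha₀, ha₀'⟩ := SetLike.not_le_iff_exists.1 hle
      have hmI : (m • (I : Submodule A A) : Submodule A A) = m * I := rfl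
      rw [hmI] at ha₀'
      obtain ⟨φ, hφ, hker⟩ := Submodule.exists_dual_map_eq_bot_of_notMem (R := k)
        (p := (m * I : Ideal A).restrictScalars k) (x := a₀) ha₀' inferInstance
      have hφ0 : ∀ z ∈ m * I, φ z = 0 := fun z hz => by
        have h2 : φ z ∈ ((m * I : Ideal A).restrictScalars k).map φ := Submodule.mem_map_of_mem hz
        rw [hker] at h2
        exact h2
      have hI2 : I ^ 2 ≤ m * I := by
        rw [pow_two]
        exact Ideal.mul_mono_left fun a ha => by rw [← hp, RingHom.mem_ker]; exact hpI a ha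
      choose s hs hs' using hσ
      let D : A → k := fun x => φ (x - s x)
      have hDwd : ∀ x y : A, Ideal.Quotient.mk (I ^ 2) y = σ (Ideal.Quotient.mk I x) → D x = φ (x - y) := by
        intro x y hy
        refine sub_eq_zero.1 ?_
        show φ (x - s x) - φ (x - y) = 0
        rw [← map_sub]
        refine hφ0 _ (hI2 ?_)
        rw [sub_sub_sub_cancel_left, ← Ideal.Quotient.eq, hy, hs]
      have hlin : ∀ x z : A, z ∈ I → φ (x * z) = p x * φ z := fun x z hz => by
        refine sub_eq_zero.1 ?_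
        rw [← smul_eq_mul (a := p x), ← map_smul, ← map_sub, Algebra.smul_def, ← sub_mul]
        refine hφ0 _ (Ideal.mul_mem_mul ?_ hz)
        rw [← hp, RingHom.mem_ker, map_sub, AlgHom.commutes, Algebra.algebraMap_self, RingHom.id_apply, sub_self]
      have hps : ∀ x, p (s x) = p x := fun x => by
        have := hpI _ (hs' x)
        rw [map_sub, sub_eq_zero] at this
        exact this.symm
      have hmul : ∀ x y, D (x * y) = p x * D y + D x * p y := fun x y => by
        rw [hDwd (x * y) (s x * s y) (by rw [map_mul, hs, hs, ← map_mul, ← map_mul])]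
        show φ _ = p x * φ _ + φ _ * p y
        rw [show x * y - s x * s y = x * (y - s y) + s y * (x - s x) by ring, map_add, hlin _ _ (hs' y),
          hlin _ _ (hs' x), hps, _root_.mul_comm (p y)]
      have hadd : ∀ x y, D (x + y) = D x + D y := fun x y => by
        rw [hDwd (x + y) (s x + s y) (by rw [map_add, hs, hs, ← map_add, ← map_add])]
        show φ _ = φ _ + φ _
        rw [← map_add φ]
        congr 1
        ring
      have hcst : ∀ r : k, D (algebraMap k A r) = 0 := fun r => by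
        rw [hDwd (algebraMap k A r) (algebraMap k A r) (by
          rw [Ideal.Quotient.mk_algebraMap, Ideal.Quotient.mk_algebraMap, AlgHom.commutes]), sub_self, map_zero]
      let P : A →ₐ[k] k[ε] :=
        { toFun := fun x => TrivSqZeroExt.inl (p x) + TrivSqZeroExt.inr (D x)
          map_one' := by
            have := hcst 1
            rw [map_one] at this
            exact TrivSqZeroExt.ext (by simp) (by simp [this])
          map_mul' := fun x y => TrivSqZeroExt.ext (by simp) (by simp [hmul x y, _root_.mul_comm (D x)])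
          map_zero' := by
            have := hcst 0
            rw [map_zero] at this
            exact TrivSqZeroExt.ext (by simp) (by simp [this])
          map_add' := fun x y => TrivSqZeroExt.ext (by simp) (by simp [hadd x y])
          commutes' := fun r => TrivSqZeroExt.ext (by simp [TrivSqZeroExt.algebraMap_eq_inl])
            (by simp [hcst r, TrivSqZeroExt.algebraMap_eq_inl]) }
      have h1 := congrArg TrivSqZeroExt.snd (h P (fun a ha => by simp [P, hpI a ha]) a₀ ha₀)
      simp only [P, AlgHom.coe_mk, RingHom.coe_mk, MonoidHom.coe_mk, OneHom.coe_mk, TrivSqZeroExt.snd_add,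
        TrivSqZeroExt.snd_inl, TrivSqZeroExt.snd_inr, zero_add, TrivSqZeroExt.snd_zero] at h1
      rw [hDwd a₀ 0 (by rw [map_zero, Ideal.Quotient.eq_zero_iff_mem.2 ha₀, map_zero]), sub_zero] at h1
      exact hφ h1
    obtain ⟨r, hr, hrI⟩ := Submodule.exists_sub_one_mem_and_smul_eq_zero_of_fg_of_le_smul m (I : Submodule A A)
      (IsNoetherian.noetherian _) key
    have hrJ : r ∈ m := hJIm (Ideal.mem_sup_left (Submodule.mem_annihilator.2 hrI))
    exact hm.ne_top ((Ideal.eq_top_iff_one m).2 (by simpa using m.sub_mem hrJ hr))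
  obtain ⟨j, hj, e, he, hje⟩ := Submodule.mem_sup.1 (show (1 : A) ∈ J ⊔ I by rw [htop]; trivial)
  have hmul : ∀ a ∈ I, e * a = a := fun a ha => by
    have hja : j * a = 0 := Submodule.mem_annihilator.1 hj a ha
    linear_combination (-1 : A) * hja + a * hje
  refine ⟨e, hmul e he, le_antisymm (fun a ha => ?_) ((Ideal.span_singleton_le_iff_mem _).2 he)⟩
  exact Ideal.mem_span_singleton'.2 ⟨a, by rw [_root_.mul_comm, hmul a ha]⟩

variable {k : Type u} [Field k] [IsAlgClosed k]

/-- A closed smooth subscheme containing the tangent vectors at its points is open. -/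
theorem isOpenImmersion_of_tangents {B N : Over (Spec (CommRingCat.of k))} [GrpObj N] [IsAffine N.left]
    [LocallyOfFiniteType N.hom] [Smooth B.hom] (f : B ⟶ N) [IsClosedImmersion f.left]
    (h : ∀ (v : CoactBr.sp k k[ε] ⟶ N) (b : CoactBr.sp k k ⟶ B),
      b ≫ f = CoactBr.pt (TrivSqZeroExt.fstHom k k k) ≫ v → ∃ w, w ≫ f = v) : IsOpenImmersion f.left := by
  obtain ⟨A, _, _, _, e, he⟩ := exists_hopf_iso N
  have hci : IsClosedImmersion (f ≫ e.inv).left := by
    have : IsIso e.inv.left := inferInstanceAs (IsIso ((Over.forget _).map e.inv))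
    rw [Over.comp_left]; infer_instance
  obtain ⟨I, eB, hI⟩ := IsClosedImmersion.Spec_iff.1 hci
  let eB' : B ≅ CoactBr.sp k (A ⧸ I) := Over.isoMk eB (by
    show eB.hom ≫ Spec.map (CommRingCat.ofHom (algebraMap k (A ⧸ I))) = B.hom
    rw [← Over.w (f ≫ e.inv), hI]
    refine Eq.trans ?_ (Category.assoc _ _ _).symm
    refine congrArg (eB.hom ≫ ·) ?_
    refine Eq.trans ?_ (Spec.map_comp (CommRingCat.ofHom (algebraMap k A)) (CommRingCat.ofHom (Ideal.Quotient.mk I)))
    rfl)
  have hf : f ≫ e.inv = eB'.hom ≫ CoactBr.pt (Ideal.Quotient.mkₐ k I) := Over.OverMorphism.ext hI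
  haveI : Algebra.Smooth k (A ⧸ I) := by
    have hiso : IsIso eB'.inv.left := ((Over.forget _).mapIso eB').isIso_inv
    have h1 : Smooth (Spec.map (CommRingCat.ofHom (algebraMap k (A ⧸ I)))) := by
      change Smooth (CoactBr.sp k (A ⧸ I)).hom
      rw [← Over.w eB'.inv]
      infer_instance
    rw [HasRingHomProperty.Spec_iff (P := @Smooth)] at h1
    exact RingHom.smooth_algebraMap.1 h1
  have hopen := exists_idempotent_of_tangents I fun P hP a ha => by
    obtain ⟨w, hw⟩ := h (CoactBr.pt P ≫ e.hom)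
      (CoactBr.pt (Ideal.Quotient.liftₐ I ((TrivSqZeroExt.fstHom k k k).comp P) hP) ≫ eB'.inv) (by
        rw [← cancel_mono e.inv, Category.assoc, Category.assoc, hf, eB'.inv_hom_id_assoc, ← CoactBr.pt_comp,
          Category.assoc, Category.assoc, e.hom_inv_id, Category.comp_id, ← CoactBr.pt_comp]
        exact congrArg CoactBr.pt (AlgHom.ext fun a => rfl))
    obtain ⟨Q, hQ⟩ := Groth.AlgGrp2.pt_surjective (w ≫ eB'.hom)
    have : P = Q.comp (Ideal.Quotient.mkₐ k I) := CoactBr.pt_injective (by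
      rw [CoactBr.pt_comp, hQ, Category.assoc, ← hf, ← Category.assoc, hw, Category.assoc, e.hom_inv_id,
        Category.comp_id])
    rw [this, AlgHom.comp_apply, Ideal.Quotient.mkₐ_eq_mk, Ideal.Quotient.eq_zero_iff_mem.2 ha, map_zero]
  obtain ⟨a, ha, haI⟩ := hopen
  haveI : IsOpenImmersion (CoactBr.pt (Ideal.Quotient.mkₐ k I)).left :=
    (isOpenImmersion_SpecMap_iff_of_surjective (CommRingCat.ofHom (Ideal.Quotient.mk I))
      Ideal.Quotient.mk_surjective).2 ⟨a, ha, Ideal.mk_ker.trans haI⟩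
  have hf' : f.left = eB'.hom.left ≫ (CoactBr.pt (Ideal.Quotient.mkₐ k I)).left ≫ e.hom.left := by
    rw [← Over.comp_left, ← Over.comp_left, ← Category.assoc, ← hf, Category.assoc, e.inv_hom_id, Category.comp_id]
  haveI : IsIso eB'.hom.left := ((Over.forget _).mapIso eB').isIso_hom
  haveI : IsIso e.hom.left := ((Over.forget _).mapIso e).isIso_hom
  rw [hf']; infer_instance

/-- Points lift along fpqc morphisms after fpqc base change. -/
theorem exists_lift_fpqc {S : Scheme.{u}} {X Y W : Over S} (p : X ⟶ Y) [Flat p.left] [Surjective p.left]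
    [QuasiCompact p.left] (y : W ⟶ Y) :
    ∃ (W' : Over S) (π : W' ⟶ W) (x : W' ⟶ X), Flat π.left ∧ Surjective π.left ∧ QuasiCompact π.left ∧
      x ≫ p = π ≫ y := by
  let W' : Over S := Over.mk (pullback.fst y.left p.left ≫ W.hom)
  let π : W' ⟶ W := Over.homMk (pullback.fst y.left p.left) rfl
  let x : W' ⟶ X := Over.homMk (pullback.snd y.left p.left) (by
    show pullback.snd _ _ ≫ X.hom = pullback.fst _ _ ≫ W.hom
    rw [← Over.w p, ← Over.w y, pullback.condition_assoc])
  exact ⟨W', π, x, inferInstanceAs (Flat (pullback.fst _ _)), inferInstanceAs (Surjective (pullback.fst _ _)),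
    inferInstanceAs (QuasiCompact (pullback.fst _ _)), Over.OverMorphism.ext pullback.condition.symm⟩

variable {G H T N : Over (Spec (CommRingCat.of k))} [GrpObj G] [GrpObj H] [GrpObj T] [GrpObj N]

/-- In an affine group a smooth closed subgroup containing the centralizer of a torus is open in its
normalizer. -/
theorem isOpenImmersion_normalizer_of_affine [IsAffine G.left] [LocallyOfFiniteType G.hom] (iH : H ⟶ G)
    [IsMonHom iH] [IsClosedImmersion iH.left] [Smooth H.hom] (jH : T ⟶ H) [IsMonHom jH] (hT : Red.IsTorus T)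
    (hC : ∀ (X : Over (Spec (CommRingCat.of k))) (g : X ⟶ G),
      (∀ (X' : Over (Spec (CommRingCat.of k))) (x : X' ⟶ X) (t : X' ⟶ T),
        (x ≫ g) * (t ≫ jH ≫ iH) = (t ≫ jH ≫ iH) * (x ≫ g)) → ∃ y : X ⟶ H, y ≫ iH = g)
    (nN : N ⟶ G) (hN : Red.IsNormalizerOf iH nN) [IsClosedImmersion nN.left] (f : H ⟶ N) (hf : f ≫ nN = iH) :
    IsOpenImmersion f.left := by
  haveI := hN.1; haveI : Mono nN := hN.2.1
  haveI : IsAffine N.left := isAffine_of_isAffineHom nN.left
  haveI : LocallyOfFiniteType N.hom := by rw [← Over.w nN]; infer_instance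
  haveI : IsMonHom f := isMonHom_of_points _ fun W p q => by
    rw [← cancel_mono nN, MonObj.mul_comp (p ≫ f), Category.assoc, Category.assoc, Category.assoc, hf,
      MonObj.mul_comp]
  haveI : IsClosedImmersion f.left := by
    have : IsClosedImmersion (f.left ≫ nN.left) := by rw [← Over.comp_left, hf]; infer_instance
    exact IsClosedImmersion.of_comp f.left nN.left
  obtain ⟨t₀, -, htan⟩ := exists_generic_point (jH ≫ f) hT
  refine isOpenImmersion_of_tangents f fun v b hb => ?_
  let base : CoactBr.sp k k ⟶ CoactBr.sp k k[ε] := CoactBr.pt (TrivSqZeroExt.fstHom k k k)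
  obtain ⟨h₀, hb'⟩ : ∃ h₀ : 𝟙_ (Over (Spec (CommRingCat.of k))) ⟶ H, b = toUnit _ ≫ h₀ :=
    ⟨unitSp.hom ≫ b, by
      rw [← cancel_epi (unitSp (k := k)).hom, ← Category.assoc (unitSp (k := k)).hom (toUnit _),
        toUnit_unique ((unitSp (k := k)).hom ≫ toUnit _) (𝟙 _), Category.id_comp]⟩
  set w : CoactBr.sp k k[ε] ⟶ N := (toUnit _ ≫ h₀ ≫ f)⁻¹ * v * (toUnit _ ≫ t₀ ≫ jH ≫ f) with hw
  have hwb : base ≫ w = toUnit _ ≫ t₀ ≫ jH ≫ f := by
    rw [hw, MonObj.comp_mul, MonObj.comp_mul, GrpObj.comp_inv, ← hb, hb', ← Category.assoc base,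
      ← Category.assoc base, toUnit_unique (base ≫ toUnit _) (toUnit _), Category.assoc, inv_mul_cancel,
      _root_.one_mul]
  obtain ⟨x, z, -, -, hz, hxz⟩ := htan w hwb
  obtain ⟨zH, hzH⟩ := hC _ (z ≫ nN) fun W a s => by
    have h0 := congrArg (· ≫ nN) (hz W a s)
    simp only [MonObj.mul_comp, Category.assoc, hf] at h0
    exact h0
  obtain ⟨⟨y, hy⟩, -⟩ := (hN.2.2 _ (x ≫ nN)).1 ⟨x, rfl⟩ _ (𝟙 _) zH
  rw [Category.id_comp, hzH] at hy
  refine ⟨(toUnit _ ≫ h₀) * y * (toUnit _ ≫ t₀ ≫ jH)⁻¹, ?_⟩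
  have hyw : y ≫ f = w := by
    rw [← cancel_mono nN, Category.assoc, hf, ← hy, ← hxz, MonObj.mul_comp, MonObj.mul_comp, GrpObj.inv_comp]
  rw [MonObj.mul_comp, MonObj.mul_comp, GrpObj.inv_comp, hyw, hw]
  simp only [Category.assoc]
  group

/-- Commuting with a torus may be checked modulo a smooth connected central kernel. -/
theorem commutes_of_commutes_quotient {M E : Over (Spec (CommRingCat.of k))} [GrpObj M] [GrpObj E]
    [Smooth G.hom] [QuasiCompact G.hom] [Smooth M.hom] [QuasiCompact M.hom] [ConnectedSpace M.left]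
    [IsAffine E.left] [Smooth E.hom] [ConnectedSpace E.left] {m : M ⟶ G} [IsMonHom m] [IsClosedImmersion m.left]
    {q : G ⟶ E} [IsMonHom q] [Flat q.left] [Surjective q.left] [QuasiCompact q.left] (hker : AlgGrp.IsKernel m q)
    (hcen : ∀ (X : Over (Spec (CommRingCat.of k))) (a : X ⟶ M) (g : X ⟶ G), (a ≫ m) * g = g * (a ≫ m))
    (j : T ⟶ G) [IsMonHom j] (hT : Red.IsTorus T) {W : Over (Spec (CommRingCat.of k))} (g : W ⟶ G)
    (hg : ∀ (W' : Over (Spec (CommRingCat.of k))) (x : W' ⟶ W) (t : W' ⟶ T),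
      (x ≫ g ≫ q) * (t ≫ j ≫ q) = (t ≫ j ≫ q) * (x ≫ g ≫ q)) :
    ∀ (W' : Over (Spec (CommRingCat.of k))) (x : W' ⟶ W) (t : W' ⟶ T),
      (x ≫ g) * (t ≫ j) = (t ≫ j) * (x ≫ g) := by
  haveI := isSeparated_grpObj G; haveI := isSeparated_grpObj M
  obtain ⟨hTa, hTs, hTc⟩ := isAffine_smooth_connected_of_isTorus hT
  haveI : Mono m := Over.mono_of_mono_left m
  obtain ⟨Z, _, z, hz, hzc, hzs⟩ := Groth.Agent.S5247.result T E
    (Groth.Reductive.FreeDiag.isMultTypeFT_of_isTorus hT) inferInstance inferInstance (j ≫ q)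
  haveI := hz.1; haveI := hzc; haveI := hzs
  haveI : Mono z := hz.2.1
  haveI : IsAffine Z.left := isAffine_of_isAffineHom z.left
  haveI := connectedSpace_centralizer_torus (j ≫ q) hT z hz
  -- the preimage of the centralizer
  obtain ⟨D, d, qD, sq⟩ : ∃ (D : Over (Spec (CommRingCat.of k))) (d : D ⟶ G) (qD : D ⟶ Z),
      IsPullback d qD q z := ⟨_, _, _, IsPullback.of_hasPullback q z⟩
  haveI : Mono d := sq.mono_fst_of_mono
  have hD : ∀ (W : Over (Spec (CommRingCat.of k))) (g : W ⟶ G),
      (∃ y, y ≫ d = g) ↔ ∃ y, y ≫ z = g ≫ q := fun W g =>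
    ⟨fun ⟨y, hy⟩ => ⟨y ≫ qD, by rw [Category.assoc, ← sq.w, ← Category.assoc, hy]⟩,
      fun ⟨y, hy⟩ => ⟨sq.lift g y hy.symm, sq.lift_fst _ _ _⟩⟩
  obtain ⟨_, hd⟩ := Groth.Agf.exists_grpObj_of_subgroup d (fun W g => ∃ y, y ≫ z = g ≫ q) hD
    (fun W => ⟨1, by rw [MonObj.one_comp, MonObj.one_comp]⟩)
    (fun W a b ⟨y, hy⟩ ⟨y', hy'⟩ => ⟨y * y', by rw [MonObj.mul_comp, MonObj.mul_comp, hy, hy']⟩)
    (fun W a ⟨y, hy⟩ => ⟨y⁻¹, by rw [GrpObj.inv_comp, GrpObj.inv_comp, hy]⟩)
  haveI := hd
  haveI : IsMonHom qD := isMonHom_of_points _ fun W a b => by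
    rw [← cancel_mono z, MonObj.mul_comp (a ≫ qD), Category.assoc, Category.assoc, Category.assoc, ← sq.w,
      ← Category.assoc, ← Category.assoc, ← Category.assoc, ← MonObj.mul_comp, MonObj.mul_comp a b d]
  haveI : IsClosedImmersion d.left :=
    MorphismProperty.of_isPullback (sq.map (Over.forget _)).flip ‹IsClosedImmersion z.left›
  haveI : Flat qD.left := MorphismProperty.of_isPullback (sq.map (Over.forget _)) ‹Flat q.left›
  haveI : Surjective qD.left := MorphismProperty.of_isPullback (sq.map (Over.forget _)) ‹Surjective q.left›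
  haveI : Smooth q.left := IsKernel.descends hker @Smooth ‹Smooth M.hom›
  haveI : Smooth qD.left := MorphismProperty.of_isPullback (sq.map (Over.forget _)) ‹Smooth q.left›
  haveI : Smooth D.hom := by rw [← Over.w qD]; infer_instance
  obtain ⟨mD, hmD⟩ := (hD M m).2 ⟨1, by rw [MonObj.one_comp, IsKernel.comp_eq_one hker]⟩
  have hkerD : AlgGrp.IsKernel mD qD := IsKernel.mk' (mono_of_mono_fac hmD) fun W g => by
    rw [← cancel_mono z, MonObj.one_comp, Category.assoc, ← sq.w, ← Category.assoc,
      ← IsKernel.exists_iff hker]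
    exact exists_congr fun y => by rw [← cancel_mono d, Category.assoc, hmD]
  haveI : QuasiCompact D.hom := by rw [← Over.w d]; infer_instance
  haveI : ConnectedSpace D.left := connectedSpace_of_extension hkerD inferInstance inferInstance
  haveI : IsSeparated D.hom := by rw [← Over.w d]; infer_instance
  haveI : PreconnectedSpace D.left := inferInstance
  -- the commutator with the torus is trivial on it
  let f : D ⊗ T ⟶ G := (fst D T ≫ d) * (snd D T ≫ j) * (fst D T ≫ d)⁻¹ * (snd D T ≫ j)⁻¹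
  have hf : ∀ {W : Over (Spec (CommRingCat.of k))} (g : W ⟶ D) (t : W ⟶ T),
      lift g t ≫ f = (g ≫ d) * (t ≫ j) * (g ≫ d)⁻¹ * (t ≫ j)⁻¹ := fun g t => by
    simp [f, MonObj.comp_mul, GrpObj.comp_inv]
  obtain ⟨ψ, hψ⟩ := IsKernel.exists_lift hker f (by
    obtain ⟨y, hy⟩ := (hD _ (fst D T ≫ d)).1 ⟨fst D T, rfl⟩
    have h := (hz.2.2 _ _).1 ⟨y, hy⟩ _ (𝟙 _) (snd D T)
    rw [Category.id_comp] at h
    simp only [f, MonObj.mul_comp, GrpObj.inv_comp, Category.assoc] at h ⊢
    rw [h]
    group)
  have hψ1 : ψ = 1 := pointed_family_hom_eq_one (1 : 𝟙_ _ ⟶ D)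
    (Groth.Reductive.FreeDiag.isMultTypeFT_of_isTorus hT) ψ
    (fun W g t t' => by
      have hc' := hcen W (lift g t' ≫ ψ) (t ≫ j)
      rw [← cancel_mono m, MonObj.mul_comp (lift g t ≫ ψ)]
      simp only [Category.assoc, hψ, hf] at hc' ⊢
      rw [MonObj.mul_comp]
      generalize g ≫ d = a at hc' ⊢
      generalize t ≫ j = b at hc' ⊢
      generalize t' ≫ j = b' at hc' ⊢
      calc a * (b * b') * a⁻¹ * (b * b')⁻¹
          = a * b * a⁻¹ * ((a * b' * a⁻¹ * b'⁻¹) * b⁻¹) := by group
        _ = a * b * a⁻¹ * (b⁻¹ * ((b * (a * b' * a⁻¹ * b'⁻¹)) * b⁻¹)) := by group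
        _ = a * b * a⁻¹ * (b⁻¹ * (((a * b' * a⁻¹ * b'⁻¹) * b) * b⁻¹)) := by rw [← hc']
        _ = _ := by group)
    (fun W t => by
      rw [← cancel_mono m, Category.assoc, hψ, hf, MonObj.comp_one, MonObj.one_comp, MonObj.one_comp]
      group)
  obtain ⟨y, hy⟩ := (hD W g).2 ((hz.2.2 W (g ≫ q)).2 hg)
  intro W' x t
  have h := congrArg (lift (x ≫ y) t ≫ ·) hψ
  simp only [hψ1, MonObj.one_comp, MonObj.comp_one, hf, Category.assoc, hy] at h
  exact mul_inv_eq_iff_eq_mul.1 (mul_inv_eq_one.1 h.symm)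

/-- A smooth connected subgroup containing the centralizer of a torus is open in its normalizer. -/
theorem isOpenImmersion_normalizer_of_field [Smooth G.hom] [QuasiCompact G.hom] [ConnectedSpace G.left] (iH : H ⟶ G)
    [IsMonHom iH] [IsClosedImmersion iH.left] [Smooth H.hom] [ConnectedSpace H.left] (jH : T ⟶ H) [IsMonHom jH]
    (hT : Red.IsTorus T)
    (hC : ∀ (X : Over (Spec (CommRingCat.of k))) (g : X ⟶ G),
      (∀ (X' : Over (Spec (CommRingCat.of k))) (x : X' ⟶ X) (t : X' ⟶ T),
        (x ≫ g) * (t ≫ jH ≫ iH) = (t ≫ jH ≫ iH) * (x ≫ g)) → ∃ y : X ⟶ H, y ≫ iH = g)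
    (nN : N ⟶ G) (hN : Red.IsNormalizerOf iH nN) (f : H ⟶ N) (hf : f ≫ nN = iH) : IsOpenImmersion f.left := by
  obtain ⟨M, _, m, E, _, q, hm, hmc, hMs, hMq, hMc, hEa, hEs, hEc, hqm, hqf, hqs, hqq, hker, -, -, hcen⟩ :=
    exists_central_affine_quotient G
  haveI := hm; haveI := hmc; haveI := hMs; haveI := hMq; haveI := hMc; haveI := hEa; haveI := hEs; haveI := hEc
  haveI := hqm; haveI := hqf; haveI := hqs; haveI := hqq
  haveI := hN.1; haveI : Mono nN := hN.2.1
  haveI : Mono iH := Over.mono_of_mono_left iH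
  haveI : QuasiCompact H.hom := by rw [← Over.w iH]; infer_instance
  obtain ⟨B, _, c, p, hcm, hcc, hpm, hlft, hqc, hpf, hps, hpc⟩ := exists_image_hom (iH ≫ q)
  haveI := hcm; haveI := hcc; haveI := hpm; haveI := hlft; haveI := hqc; haveI := hpf; haveI := hps
  haveI : Mono c := Over.mono_of_mono_left c
  haveI : Smooth B.hom := smooth_of_flat_surjective_hom p
  haveI : ConnectedSpace B.left := connectedSpace_of_surjective p
  haveI : QuasiCompact p.left := by
    haveI : IsSeparated B.hom := by rw [← Over.w c]; infer_instance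
    haveI : QuasiCompact (p.left ≫ B.hom) := by rw [Over.w]; infer_instance
    exact QuasiCompact.of_comp p.left B.hom
  have hMH : ∀ (W : Over (Spec (CommRingCat.of k))) (a : W ⟶ M), ∃ y, y ≫ iH = a ≫ m := fun W a =>
    hC W _ fun W' x t => by rw [← Category.assoc]; exact hcen W' (x ≫ a) _
  -- the subgroup is the inverse image of its image
  have hpre : ∀ (W : Over (Spec (CommRingCat.of k))) (g : W ⟶ G) (y : W ⟶ B), y ≫ c = g ≫ q →
      ∃ z : W ⟶ H, z ≫ iH = g := fun W g y hy => by
    obtain ⟨W', π, h, hπf, hπs, hπq, hh⟩ := exists_lift_fpqc p y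
    haveI := hπf; haveI := hπs; haveI := hπq
    obtain ⟨a, ha⟩ := IsKernel.exists_lift hker ((π ≫ g) * (h ≫ iH)⁻¹) (by
      rw [MonObj.mul_comp, GrpObj.inv_comp, Category.assoc, Category.assoc, ← hy, ← hpc, ← Category.assoc h, hh,
        Category.assoc, mul_inv_cancel])
    obtain ⟨b, hb⟩ := hMH W' a
    exact exists_factor_of_cover π iH g (b * h) (by rw [MonObj.mul_comp, hb, ha, inv_mul_cancel_right])
  have hCE : ∀ (X : Over (Spec (CommRingCat.of k))) (g : X ⟶ E),
      (∀ (X' : Over (Spec (CommRingCat.of k))) (x : X' ⟶ X) (t : X' ⟶ T),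
        (x ≫ g) * (t ≫ (jH ≫ p) ≫ c) = (t ≫ (jH ≫ p) ≫ c) * (x ≫ g)) → ∃ y : X ⟶ B, y ≫ c = g := fun X g hg => by
    obtain ⟨X', π, g', hπf, hπs, hπq, hg'⟩ := exists_lift_fpqc q g
    haveI := hπf; haveI := hπs; haveI := hπq
    obtain ⟨y, hy⟩ := hC X' g' (commutes_of_commutes_quotient hker hcen (jH ≫ iH) hT g' fun W' x t => by
      have := hg W' (x ≫ π) t
      simpa only [Category.assoc, hpc, hg'] using this)
    exact exists_factor_of_cover π c g (y ≫ p) (by rw [Category.assoc, hpc, ← Category.assoc, hy, hg'])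
  haveI : QuasiSeparated B.hom := by rw [← Over.w c]; infer_instance
  obtain ⟨N', _, n', hN', hN'c, -⟩ := Groth.Agent.S5260.result E B (fun s => by
    have : Subsingleton (Spec (CommRingCat.of k) : Scheme.{u}) := inferInstanceAs (Subsingleton (PrimeSpectrum k))
    have e : B.hom ⁻¹' {s} = Set.univ := Set.eq_univ_of_forall fun _ => Subsingleton.elim _ _
    haveI : ConnectedSpace (B.hom ⁻¹' {s} : Set B.left) := isConnected_iff_connectedSpace.1 (e ▸ isConnected_univ)
    exact (B.hom.fiberHomeo s).symm.surjective.connectedSpace (B.hom.fiberHomeo s).symm.continuous) c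
  haveI := hN'c; haveI := hN'.1; haveI : Mono n' := hN'.2.1
  obtain ⟨f', hf'⟩ := (hN'.2.2 B c).2 (by
    have := normalizes_of_factor c (𝟙 B)
    rwa [Category.id_comp] at this)
  haveI hopen : IsOpenImmersion f'.left :=
    isOpenImmersion_normalizer_of_affine c (jH ≫ p) hT hCE n' hN' f' hf'
  obtain ⟨φ, hφ⟩ := (hN'.2.2 N (nN ≫ q)).2 fun X x h => by
    obtain ⟨X', π, h', hπf, hπs, hπq, hh⟩ := exists_lift_fpqc p h
    haveI := hπf; haveI := hπs; haveI := hπq
    obtain ⟨⟨a, ha⟩, ⟨b, hb⟩⟩ := (hN.2.2 N nN).1 ⟨𝟙 N, Category.id_comp nN⟩ X' (π ≫ x) h'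
    have hhc : π ≫ h ≫ c = h' ≫ iH ≫ q := by rw [← Category.assoc, ← hh, Category.assoc, hpc]
    constructor
    · obtain ⟨a', ha'⟩ := exists_factor_of_cover π c ((x ≫ nN ≫ q) * (h ≫ c) * (x ≫ nN ≫ q)⁻¹) (a ≫ p) (by
        have := congrArg (· ≫ q) ha
        simp only [MonObj.mul_comp, GrpObj.inv_comp, Category.assoc] at this
        rw [Category.assoc, hpc, ← this, MonObj.comp_mul, MonObj.comp_mul, GrpObj.comp_inv, hhc])
      exact ⟨a', ha'.symm⟩
    · obtain ⟨b', hb'⟩ := exists_factor_of_cover π c ((x ≫ nN ≫ q)⁻¹ * (h ≫ c) * (x ≫ nN ≫ q)) (b ≫ p) (by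
        have := congrArg (· ≫ q) hb
        simp only [MonObj.mul_comp, GrpObj.inv_comp, Category.assoc] at this
        rw [Category.assoc, hpc, ← this, MonObj.comp_mul, MonObj.comp_mul, GrpObj.comp_inv, hhc])
      exact ⟨b', hb'.symm⟩
  have w : f ≫ φ = p ≫ f' := by
    rw [← cancel_mono n', Category.assoc, Category.assoc, hφ, hf', hpc, ← Category.assoc, hf]
  have sq : IsPullback f p φ f' := IsPullback.of_isLimit (PullbackCone.IsLimit.mk w
    (fun s => (hpre _ (s.fst ≫ nN) s.snd (by
      rw [Category.assoc, ← hφ, ← Category.assoc, s.condition, Category.assoc, hf'])).choose)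
    (fun s => by
      rw [← cancel_mono nN, Category.assoc, hf]
      exact (hpre _ (s.fst ≫ nN) s.snd (by
        rw [Category.assoc, ← hφ, ← Category.assoc, s.condition, Category.assoc, hf'])).choose_spec)
    (fun s => by
      rw [← cancel_mono c, Category.assoc, hpc, ← Category.assoc,
        (hpre _ (s.fst ≫ nN) s.snd (by
          rw [Category.assoc, ← hφ, ← Category.assoc, s.condition, Category.assoc, hf'])).choose_spec,
        Category.assoc, ← hφ, ← Category.assoc, s.condition, Category.assoc, hf'])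
    (fun s m h₁ _ => by
      rw [← cancel_mono iH, (hpre _ (s.fst ≫ nN) s.snd (by
        rw [Category.assoc, ← hφ, ← Category.assoc, s.condition, Category.assoc, hf'])).choose_spec, ← h₁,
        Category.assoc, hf]))
  exact MorphismProperty.of_isPullback (sq.map (Over.forget _)).flip hopen

end Groth.AlgGrp1

namespace Groth.AlgGrp1

variable {S : Scheme.{u}} {G H : Over S} [GrpObj G] [GrpObj H]

/-- Cartan subgroups of geometric fibres: a subgroup containing one contains the centralizer of a torus in it. -/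
theorem exists_torus_of_isCartanOver {k : Type u} [Field k] [IsAlgClosed k]
    {G H C : Over (Spec (CommRingCat.of k))} [GrpObj G] [GrpObj H] [GrpObj C] (iH : H ⟶ G) [IsMonHom iH] [Mono iH]
    (c : C ⟶ H) (hc : SGA3x.IsCartanOver k (c ≫ iH)) :
    ∃ (T : Over (Spec (CommRingCat.of k))) (_ : GrpObj T) (jH : T ⟶ H), IsMonHom jH ∧ Red.IsTorus T ∧
      ∀ (X : Over (Spec (CommRingCat.of k))) (g : X ⟶ G),
        (∀ (X' : Over (Spec (CommRingCat.of k))) (x : X' ⟶ X) (t : X' ⟶ T),
          (x ≫ g) * (t ≫ jH ≫ iH) = (t ≫ jH ≫ iH) * (x ≫ g)) → ∃ y : X ⟶ H, y ≫ iH = g := by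
  obtain ⟨-, -, T, _, i, hT, hC⟩ := hc
  obtain ⟨hmi, hiT⟩ : IsMonHom i ∧ Red.IsTorus T := ⟨hT.1, hT.2.2.1⟩
  haveI := hmi
  obtain ⟨t, ht⟩ := (hC.2.2 T i).2 fun X' x h => by
    rw [← MonObj.mul_comp, ← MonObj.mul_comp]
    refine congrArg (· ≫ i) ?_
    exact Groth.Reductive2.torus_mul_comm hiT x h
  have hj : (t ≫ c) ≫ iH = i := by rw [Category.assoc, ht]
  refine ⟨T, inferInstance, t ≫ c, isMonHom_of_points _ fun W a b => ?_, hiT, fun X g hg => ?_⟩
  · rw [← cancel_mono iH, MonObj.mul_comp (a ≫ t ≫ c), Category.assoc, Category.assoc a, Category.assoc b, hj,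
      MonObj.mul_comp]
  · obtain ⟨y, hy⟩ := (hC.2.2 X g).2 fun X' x h => by
      have := hg X' x h
      rwa [hj] at this
    exact ⟨y ≫ c, by rw [Category.assoc, hy]⟩

/-- Smooth subgroups with connected fibres containing Cartan subgroups on geometric fibres are open in
their normalizers. -/
theorem exists_normalizer_open [Smooth G.hom] [QuasiCompact G.hom] [QuasiSeparated G.hom]
    (hconn : ∀ s : S, _root_.IsConnected (G.hom.base ⁻¹' {s})) [Smooth H.hom] (i : H ⟶ G) [IsMonHom i] [Mono i]
    (hHconn : ∀ s : S, ConnectedSpace ↥(Red.geomFibre s H).left)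
    (hHC : ∀ s : S, ∃ (C' : Over (Spec (CommRingCat.of (AlgebraicClosure (S.residueField s))))) (_ : GrpObj C')
      (c' : C' ⟶ Red.geomFibre s H), SGA3x.IsCartanOver _ (c' ≫ (Over.pullback (Red.geomPt s)).map i)) :
    ∃ (N : Over S) (_ : GrpObj N) (n : N ⟶ G) (f : H ⟶ N), Red.IsNormalizerOf i n ∧ IsClosedImmersion n.left ∧
      QuasiCompact N.hom ∧ LocallyOfFinitePresentation N.hom ∧ f ≫ n = i ∧ IsOpenImmersion f.left := by
  haveI : Mono ((Over.forget S).map i) := inferInstance
  haveI : Mono i.left := ‹Mono ((Over.forget S).map i)›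
  have hfib : ∀ s : S, ConnectedSpace ↥(H.hom.fiber s) := fun s => by
    haveI := hHconn s
    haveI : ConnectedSpace (H.hom ⁻¹' {s} : Set H.left) :=
      isConnected_iff_connectedSpace.1 (isConnected_fibre_of_geomFibre H s)
    exact (H.hom.fiberHomeo s).symm.surjective.connectedSpace (H.hom.fiberHomeo s).symm.continuous
  haveI : QuasiCompact H.hom := Groth.GrpschSep.quasiCompact_of_connected_fibres
    (fun s => inferInstanceAs (LocallyOfFiniteType (pullback.snd H.hom (S.fromSpecResidueField s)))) hfib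
  haveI : QuasiSeparated H.hom := by rw [← Over.w i]; infer_instance
  obtain ⟨N, _, n, hN, hnc, hnlfp⟩ := Groth.Agent.S5260.result G H hfib i
  haveI := hnc; haveI := hnlfp; haveI := hN.1; haveI : Mono n := hN.2.1
  haveI : LocallyOfFinitePresentation N.hom := by rw [← Over.w n]; infer_instance
  haveI : QuasiCompact N.hom := by rw [← Over.w n]; infer_instance
  obtain ⟨f, hf⟩ := (hN.2.2 H i).2 (by
    have := normalizes_of_factor i (𝟙 H)
    rwa [Category.id_comp] at this)
  refine ⟨N, inferInstance, n, f, hN, hnc, inferInstance, inferInstance, hf,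
    isOpenImmersion_of_geomFibres f fun s => ?_⟩
  let p := Red.geomPt s
  obtain ⟨C', _, c', hc'⟩ := hHC s
  haveI : Smooth (Red.geomFibre s G).hom := inferInstanceAs (Smooth (pullback.snd G.hom p))
  haveI : Smooth (Red.geomFibre s H).hom := inferInstanceAs (Smooth (pullback.snd H.hom p))
  haveI : QuasiCompact (Red.geomFibre s G).hom := inferInstanceAs (QuasiCompact (pullback.snd G.hom p))
  haveI : QuasiCompact (Red.geomFibre s H).hom := inferInstanceAs (QuasiCompact (pullback.snd H.hom p))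
  haveI := connectedSpace_geomFibre G s (hconn s)
  haveI := hHconn s
  haveI := isSeparated_grpObj (Red.geomFibre s G)
  let iH : Red.geomFibre s H ⟶ Red.geomFibre s G := (Over.pullback p).map i
  let nN : Red.geomFibre s N ⟶ Red.geomFibre s G := (Over.pullback p).map n
  haveI : Mono iH := inferInstanceAs (Mono ((Over.pullback p).map i))
  haveI : Mono nN := inferInstanceAs (Mono ((Over.pullback p).map n))
  haveI : IsMonHom iH := inferInstanceAs (IsMonHom ((Over.pullback p).map i))
  haveI : IsClosedImmersion iH.left := isClosedImmersion_of_mono_hom iH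
  obtain ⟨T, _, jH, hjH, hT, hC⟩ := exists_torus_of_isCartanOver iH c' hc'
  haveI := hjH
  haveI : QuasiSeparated (Red.geomFibre s H).hom := inferInstanceAs (QuasiSeparated (pullback.snd H.hom p))
  obtain ⟨N', _, n', hN', hN'c, -⟩ := Groth.Agent.S5260.result (Red.geomFibre s G) (Red.geomFibre s H) (fun x => by
    have : Subsingleton (Spec (CommRingCat.of (AlgebraicClosure (S.residueField s))) : Scheme.{u}) :=
      inferInstanceAs (Subsingleton (PrimeSpectrum _))
    have e : (Red.geomFibre s H).hom ⁻¹' {x} = Set.univ := Set.eq_univ_of_forall fun _ => Subsingleton.elim _ _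
    haveI : ConnectedSpace ((Red.geomFibre s H).hom ⁻¹' {x} : Set (Red.geomFibre s H).left) :=
      isConnected_iff_connectedSpace.1 (e ▸ isConnected_univ)
    exact ((Red.geomFibre s H).hom.fiberHomeo x).symm.surjective.connectedSpace
      ((Red.geomFibre s H).hom.fiberHomeo x).symm.continuous) iH
  haveI : Mono n' := hN'.2.1
  obtain ⟨f', hf'⟩ := (hN'.2.2 _ iH).2 (by
    have := normalizes_of_factor iH (𝟙 (Red.geomFibre s H))
    rwa [Category.id_comp] at this)
  haveI hopen : IsOpenImmersion f'.left := isOpenImmersion_normalizer_of_field iH jH hT hC n' hN' f' hf'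
  obtain ⟨ψ, hψ⟩ := (hN'.2.2 _ nN).2 (normalizes_bc' p ((hN.2.2 N n).1 ⟨𝟙 N, Category.id_comp n⟩))
  let fs : Red.geomFibre s H ⟶ Red.geomFibre s N := (Over.pullback p).map f
  have hfs : fs ≫ nN = iH := by
    show (Over.pullback p).map f ≫ (Over.pullback p).map n = (Over.pullback p).map i
    rw [← Functor.map_comp, hf]
  have w : fs ≫ ψ = 𝟙 _ ≫ f' := by rw [← cancel_mono n', Category.assoc, hψ, hfs, Category.id_comp, hf']
  have sq : IsPullback fs (𝟙 _) ψ f' := IsPullback.of_isLimit (PullbackCone.IsLimit.mk w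
    (fun c => c.snd)
    (fun c => by
      rw [← cancel_mono nN, Category.assoc, hfs, ← hf', ← Category.assoc, ← c.condition, Category.assoc, hψ])
    (fun c => Category.comp_id _)
    (fun c m _ h₂ => by rw [← h₂, Category.comp_id]))
  exact MorphismProperty.of_isPullback (sq.map (Over.forget _)).flip hopen

/-- Central subgroups lie in smooth subgroups with connected fibres containing Cartan subgroups. -/
theorem exists_factor_of_central [Smooth G.hom] [QuasiCompact G.hom] [QuasiSeparated G.hom]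
    (hconn : ∀ s : S, _root_.IsConnected (G.hom.base ⁻¹' {s})) [Smooth H.hom] (i : H ⟶ G) [IsMonHom i] [Mono i]
    (hHconn : ∀ s : S, ConnectedSpace ↥(Red.geomFibre s H).left)
    (hHC : ∀ s : S, ∃ (C' : Over (Spec (CommRingCat.of (AlgebraicClosure (S.residueField s))))) (_ : GrpObj C')
      (c' : C' ⟶ Red.geomFibre s H), SGA3x.IsCartanOver _ (c' ≫ (Over.pullback (Red.geomPt s)).map i))
    {Z : Over S} (z : Z ⟶ G) (hc : ∀ (X : Over S) (x : X ⟶ Z) (g : X ⟶ G), (x ≫ z) * g = g * (x ≫ z)) :
    ∃ f : Z ⟶ H, f ≫ i = z := by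
  obtain ⟨N, _, n, f, hN, -, -, -, hf, hfo⟩ := exists_normalizer_open hconn i hHconn hHC
  haveI := hfo; haveI : Mono n := hN.2.1
  obtain ⟨zN, hzN⟩ := (hN.2.2 Z z).2 fun X x h => by
    refine ⟨⟨h, ?_⟩, ⟨h, ?_⟩⟩
    · rw [hc X x (h ≫ i), mul_inv_cancel_right]
    · rw [mul_assoc ((x ≫ z)⁻¹), ← hc X x (h ≫ i), inv_mul_cancel_left]
  have hr : Set.range zN.left.base ⊆ Set.range f.left.base := by
    rintro _ ⟨x, rfl⟩
    let s := Z.hom.base x
    let p := Red.geomPt s
    obtain ⟨C', _, c', hc'⟩ := hHC s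
    haveI : Mono ((Over.pullback p).map i) := inferInstance
    obtain ⟨T, _, jH, -, -, hC⟩ := exists_torus_of_isCartanOver ((Over.pullback p).map i) c' hc'
    obtain ⟨g, hg⟩ := hC _ ((Over.pullback p).map z) fun X' a t => bcPt_injective p (by
      rw [bcPt_mul, bcPt_mul, bcPt_comp_map]
      exact hc _ _ _)
    have hgf : g ≫ (Over.pullback p).map f = (Over.pullback p).map zN := by
      rw [← cancel_mono ((Over.pullback p).map n), Category.assoc, ← Functor.map_comp, ← Functor.map_comp, hf, hzN, hg]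
    obtain ⟨y, hy⟩ : x ∈ Set.range (pullback.fst Z.hom p).base := by
      rw [Scheme.Pullback.range_fst]
      exact ⟨IsLocalRing.closedPoint _, by rw [Scheme.Hom.comp_apply, Scheme.fromSpecResidueField_apply]⟩
    refine ⟨(pullback.fst H.hom p).base (g.left.base y), ?_⟩
    have e : g.left ≫ pullback.fst H.hom p ≫ f.left = pullback.fst Z.hom p ≫ zN.left := by
      have h1 : ((Over.pullback p).map f).left ≫ pullback.fst N.hom p = pullback.fst H.hom p ≫ f.left :=
        pullback.lift_fst _ _ _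
      have h2 : ((Over.pullback p).map zN).left ≫ pullback.fst N.hom p = pullback.fst Z.hom p ≫ zN.left :=
        pullback.lift_fst _ _ _
      rw [← h1, ← h2, ← Category.assoc, ← Over.comp_left, hgf]
    have e' := congrArg (fun φ => φ.base y) e
    simp only [Scheme.Hom.comp_base, TopCat.coe_comp, Function.comp_apply] at e'
    rw [← hy]
    exact e'
  let l : Z ⟶ H := Over.homMk (IsOpenImmersion.lift f.left zN.left hr) (by
    rw [← Over.w f, ← Category.assoc, IsOpenImmersion.lift_fac, Over.w])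
  exact ⟨l, by
    rw [← hf, ← Category.assoc, show l ≫ f = zN from Over.OverMorphism.ext (IsOpenImmersion.lift_fac _ _ _), hzN]⟩

end Groth.AlgGrp1

end
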