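import Groth.Agent.Agf.Fn
import Groth.Agent.AlgGrp1.KPoints
import Mathlib.LinearAlgebra.TensorProduct.Finiteness

/-!
Functions on a reduced group scheme over an algebraically closed field: values at rational points,
and the finiteness of the span of the translates of a function.
-/

set_option autoImplicit false
universe u

open CategoryTheory MonoidalCategory CartesianMonoidalCategory MonObj GrpObj AlgebraicGeometry
open Groth.Agf (Fn pull evalPt evalPt_comp evalPt_comp_apply evalPt_ptMap)
open scoped TensorProduct Groth.Agf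

noncomputable section

namespace Groth.AlgGrp1

variable {k : Type u} [Field k] {X G : Over (Spec (CommRingCat.of k))}

/-- The structure morphism to the base point. -/
def toPt (X : Over (Spec (CommRingCat.of k))) : X ⟶ VecGrp.pt k k :=
  Over.homMk X.hom (by
    show X.hom ≫ Spec.map (CommRingCat.ofHom (algebraMap k k)) = X.hom
    rw [show CommRingCat.ofHom (algebraMap k k) = 𝟙 _ from rfl, Spec.map_id, Category.comp_id])

theorem toPt_unique {X : Over (Spec (CommRingCat.of k))} (a b : X ⟶ VecGrp.pt k k) : a = b := by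
  have h : ∀ c : X ⟶ VecGrp.pt k k, c.left = X.hom := fun c => by
    have := Over.w c
    rwa [show (VecGrp.pt k k).hom = 𝟙 _ from Spec.map_id _, Category.comp_id] at this
  exact Over.OverMorphism.ext ((h a).trans (h b).symm)

theorem ptMap_comp {A B C : Type u} [CommRing A] [Algebra k A] [CommRing B] [Algebra k B] [CommRing C]
    [Algebra k C] (φ : A →ₐ[k] B) (ψ : B →ₐ[k] C) :
    VecGrp.ptMap (ψ.comp φ) = VecGrp.ptMap ψ ≫ VecGrp.ptMap φ := by
  apply Over.OverMorphism.ext
  exact (Spec.map_comp (CommRingCat.ofHom φ.toRingHom) (CommRingCat.ofHom ψ.toRingHom))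

variable [IsAlgClosed k]

/-- A function on a reduced scheme of finite type is determined by its values at rational points. -/
theorem fn_ext_points [LocallyOfFiniteType X.hom] [IsReduced X.left] {a b : Fn X}
    (h : ∀ g : VecGrp.pt k k ⟶ X, evalPt g a = evalPt g b) : a = b := by
  rw [← sub_eq_zero]
  have h0 : ∀ g : VecGrp.pt k k ⟶ X, evalPt g (a - b) = 0 := fun g => by rw [map_sub, h, sub_self]
  generalize a - b = c at h0 ⊢
  refine (basicOpen_eq_bot_iff (X := X.left) c).1 ?_
  by_contra hne
  have hne' : (X.left.basicOpen c : Set X.left).Nonempty := by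
    rw [Set.nonempty_iff_ne_empty]
    exact fun e => hne (TopologicalSpace.Opens.coe_eq_empty.1 e)
  obtain ⟨g, hg⟩ := exists_point_mem_open (K := k) _ (X.left.basicOpen c).2 hne'
  have h1 : pull (g : VecGrp.pt k k ⟶ X) c = 0 := by
    apply Groth.Agf.ptFn_bijective.1
    rw [map_zero]
    exact h0 g
  have h2 : IsLocalRing.closedPoint k ∈ g.left ⁻¹ᵁ X.left.basicOpen c := hg
  rw [Scheme.preimage_basicOpen] at h2
  have h3 : g.left.app ⊤ c = 0 := h1
  rw [h3, Scheme.basicOpen_zero] at h2
  exact h2

variable [GrpObj G] [LocallyOfFiniteType G.hom] [QuasiCompact G.hom] [IsReduced G.left]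

/-- Right translation by a rational point. -/
def rTr (x : VecGrp.pt k k ⟶ G) : G ⟶ G := 𝟙 G * (toPt G ≫ x)

/-- Left translation by a rational point. -/
def lTr (x : VecGrp.pt k k ⟶ G) : G ⟶ G := (toPt G ≫ x) * 𝟙 G

omit [IsAlgClosed k] [LocallyOfFiniteType G.hom] [QuasiCompact G.hom] [IsReduced G.left] in
theorem comp_rTr (y x : VecGrp.pt k k ⟶ G) : y ≫ rTr x = y * x := by
  rw [rTr, MonObj.comp_mul, Category.comp_id, ← Category.assoc, toPt_unique (y ≫ toPt G) (𝟙 _), Category.id_comp]

omit [IsAlgClosed k] [LocallyOfFiniteType G.hom] [QuasiCompact G.hom] [IsReduced G.left] in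
theorem comp_lTr (y x : VecGrp.pt k k ⟶ G) : x ≫ lTr y = y * x := by
  rw [lTr, MonObj.comp_mul, Category.comp_id, ← Category.assoc, toPt_unique (x ≫ toPt G) (𝟙 _), Category.id_comp]

omit [IsAlgClosed k] [LocallyOfFiniteType G.hom] [QuasiCompact G.hom] [IsReduced G.left] in
theorem rTr_comp (x y : VecGrp.pt k k ⟶ G) : rTr x ≫ rTr y = rTr (x * y) := by
  conv_lhs => rw [rTr, rTr, MonObj.comp_mul, Category.comp_id, ← Category.assoc,
    toPt_unique ((𝟙 G * toPt G ≫ x) ≫ toPt G) (toPt G)]
  rw [rTr, MonObj.comp_mul, _root_.mul_assoc]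

omit [IsAlgClosed k] [LocallyOfFiniteType G.hom] [QuasiCompact G.hom] [IsReduced G.left] in
theorem rTr_one : rTr (1 : VecGrp.pt k k ⟶ G) = 𝟙 G := by
  rw [rTr, MonObj.comp_one, _root_.mul_one]

/-- The translates of a function span a finite-dimensional stable space. -/
theorem exists_finite_translates (f : Fn G) :
    ∃ V : Submodule k (Fn G), Module.Finite k V ∧ f ∈ V ∧ ∀ x, ∀ v ∈ V, pull (rTr x) v ∈ V := by
  classical
  let V : Submodule k (Fn G) := Submodule.span k (Set.range fun x => pull (rTr x) f)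
  refine ⟨V, ?_, Submodule.subset_span ⟨1, show pull (rTr 1) f = f by rw [rTr_one, Groth.Agf.pull_id]; rfl⟩,
    fun x v hv => ?_⟩
  swap
  · induction hv using Submodule.span_induction with
    | zero => rw [map_zero]; exact zero_mem _
    | add a b _ _ ha hb => rw [map_add]; exact add_mem ha hb
    | smul r a _ ha => rw [map_smul]; exact Submodule.smul_mem _ _ ha
    | mem a ha =>
      obtain ⟨y, rfl⟩ := ha
      refine Submodule.subset_span ⟨x * y, ?_⟩
      show pull (rTr (x * y)) f = pull (rTr x) (pull (rTr y) f)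
      rw [← rTr_comp, Groth.Agf.pull_comp]
  let E : Fn G →ₗ[k] ((VecGrp.pt k k ⟶ G) → k) := LinearMap.pi fun g => (evalPt g).toLinearMap
  have hE : Function.Injective E := fun a b hab => fn_ext_points fun g => congrFun hab g
  -- a finite affine cover
  have : CompactSpace G.left := QuasiCompact.compactSpace_of_compactSpace G.hom
  obtain ⟨s, hs⟩ := isCompact_univ.elim_finite_subcover (fun U : G.left.affineOpens => (U.1 : Set G.left))
    (fun U => U.1.2) (fun p _ => by
      obtain ⟨U, hU, hpU, -⟩ := G.left.isBasis_affineOpens.exists_subset_of_mem_open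
        (Set.mem_univ p) isOpen_univ
      obtain ⟨U, hU', rfl⟩ := hU
      exact Set.mem_iUnion.2 ⟨⟨U, hU'⟩, hpU⟩)
  let ob : G.left.affineOpens → Over (Spec (CommRingCat.of k)) := fun U => Over.mk (U.1.ι ≫ G.hom)
  let inc : ∀ U, ob U ⟶ G := fun U => Over.homMk U.1.ι rfl
  have haff : ∀ U, IsAffine (ob U).left := fun U => U.2
  have hlift : ∀ y : VecGrp.pt k k ⟶ G, ∃ U : s, ∃ y' : VecGrp.pt k k ⟶ ob U.1, y' ≫ inc U.1 = y := by
    intro y
    obtain ⟨U, hU⟩ := Set.mem_iUnion.1 (hs (Set.mem_univ (y.left.base (IsLocalRing.closedPoint k))))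
    obtain ⟨hUs, hU⟩ := Set.mem_iUnion.1 hU
    have hr : Set.range y.left ⊆ Set.range U.1.ι := by
      rintro _ ⟨p, rfl⟩
      rw [Scheme.Opens.range_ι]
      rwa [Subsingleton.elim (α := ↥(Spec (CommRingCat.of k))) p (IsLocalRing.closedPoint k)]
    refine ⟨⟨U, hUs⟩, Over.homMk (IsOpenImmersion.lift U.1.ι y.left hr) ?_,
      Over.OverMorphism.ext (IsOpenImmersion.lift_fac _ _ _)⟩
    show IsOpenImmersion.lift U.1.ι y.left hr ≫ U.1.ι ≫ G.hom = _
    rw [IsOpenImmersion.lift_fac_assoc, Over.w y]
  choose idx pt' hpt' using hlift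
  let z : ∀ a b : s, VecGrp.pt k (Fn (ob a.1) ⊗[k] Fn (ob b.1)) ⟶ G := fun a b =>
    have := haff a.1
    have := haff b.1
    (VecGrp.ptMap (Algebra.TensorProduct.includeLeft : Fn (ob a.1) →ₐ[k] _ ⊗[k] Fn (ob b.1)) ≫
        Groth.Agf.univ (ob a.1) ≫ inc a.1) *
      (VecGrp.ptMap (Algebra.TensorProduct.includeRight : Fn (ob b.1) →ₐ[k] Fn (ob a.1) ⊗[k] _) ≫
        Groth.Agf.univ (ob b.1) ≫ inc b.1)
  choose S hS using fun a b : s => TensorProduct.exists_finset (R := k) (evalPt (z a b) f)
  let c : s → ∀ a : s, Fn (ob a.1) → ((VecGrp.pt k k ⟶ G) → k) := fun _ a e y =>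
    if h : idx y = a then evalPt (h ▸ pt' y : VecGrp.pt k k ⟶ ob a.1) e else 0
  let W : Submodule k ((VecGrp.pt k k ⟶ G) → k) :=
    Submodule.span k ↑((Finset.univ : Finset (s × s)).biUnion fun ab =>
      (S ab.1 ab.2).image fun p => c ab.2 ab.1 p.1)
  have hmem : ∀ x, E (pull (rTr x) f) ∈ W := by
    intro x
    have key : E (pull (rTr x) f) =
        ∑ a : s, ∑ p ∈ S a (idx x), evalPt (pt' x) p.2 • c (idx x) a p.1 := by
      funext y
      rw [Finset.sum_apply, Finset.sum_eq_single (idx y)
        (fun a _ ha => by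
          rw [Finset.sum_apply]
          refine Finset.sum_eq_zero fun p _ => ?_
          simp [c, Ne.symm ha])
        (fun h => absurd (Finset.mem_univ _) h), Finset.sum_apply]
      have := haff (idx y).1
      have := haff (idx x).1
      let m : Fn (ob (idx y).1) ⊗[k] Fn (ob (idx x).1) →ₐ[k] k :=
        Algebra.TensorProduct.lift (evalPt (pt' y)) (evalPt (pt' x)) fun _ _ => Commute.all _ _
      have hr : m.comp Algebra.TensorProduct.includeRight = evalPt (pt' x) := AlgHom.ext fun b => by simp [m]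
      have hz : VecGrp.ptMap m ≫ z (idx y) (idx x) = y * x := by
        rw [MonObj.comp_mul, ← Category.assoc, ← ptMap_comp, ← Category.assoc (VecGrp.ptMap m), ← ptMap_comp,
          Algebra.TensorProduct.lift_comp_includeLeft,
          hr, ← Category.assoc, Groth.Agf.ptMap_univ, hpt',
          ← Category.assoc, Groth.Agf.ptMap_univ, hpt']
      have hyx : E (pull (rTr x) f) y = evalPt (y * x) f := by
        show evalPt y (pull (rTr x) f) = _
        rw [← evalPt_comp_apply, comp_rTr]
      rw [hyx, ← hz, evalPt_ptMap, AlgHom.comp_apply, hS, map_sum]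
      refine Finset.sum_congr rfl fun p _ => ?_
      simp only [c, m, dite_true, Algebra.TensorProduct.lift_tmul, Pi.smul_apply, smul_eq_mul]
      exact mul_comm _ _
    rw [key]
    refine Submodule.sum_mem _ fun a _ => Submodule.sum_mem _ fun p hp => Submodule.smul_mem _ _ ?_
    refine Submodule.subset_span ?_
    simp only [Finset.coe_biUnion, Set.mem_iUnion, Finset.coe_image]
    exact ⟨(a, idx x), Finset.mem_univ _, p, hp, rfl⟩
  have hle : ∀ v ∈ V, E v ∈ W := fun v hv => by
    induction hv using Submodule.span_induction with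
    | zero => rw [map_zero]; exact zero_mem _
    | add a b _ _ ha hb => rw [map_add]; exact add_mem ha hb
    | smul r a _ ha => rw [map_smul]; exact Submodule.smul_mem _ _ ha
    | mem a ha => obtain ⟨y, rfl⟩ := ha; exact hmem y
  have : Module.Finite k W := Module.Finite.span_of_finite k (Finset.finite_toSet _)
  exact Module.Finite.of_injective (E.restrict hle) fun a b hab =>
    Subtype.ext (hE (congrArg Subtype.val hab))

end Groth.AlgGrp1
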