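import Groth.Agent.AlgGrp1.FlatLocusInj
import Groth.Agent.AlgGrp1.Orbit
import Groth.Agent.AlgGrp1.KPoints
import Groth.Agent.AlgGrp1.FiniteHom
import Groth.Agent.AlgGrp1.Translates
import Groth.Agent.AlgGrp1.AffineKernelBC
import Groth.Agent.Agf.ImageSubgroup
import Groth.Agent.Agf.Quot
import Groth.Agent.AlgGrp2.ConstFun
import Groth.Agent.Flatmor4.ImageDom
import Groth.Agent.FlatMor2.FlatComp

/-!
Scheme-theoretically dominant orbit maps of arbitrary algebraic groups over a field are flat, and orbits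
carry quotient scheme structures.
-/

set_option autoImplicit false
universe u

open CategoryTheory Limits MonoidalCategory CartesianMonoidalCategory MonObj GrpObj AlgebraicGeometry

open scoped TensorProduct

noncomputable section

namespace Groth.AlgGrp1

section Scheme

/-- A scheme-theoretically dominant morphism of finite type onto a nonempty Noetherian scheme whose base
change to itself is flat is flat on a nonempty open. -/
theorem exists_flat_open_of_self_flat {G X : Scheme.{u}} (g : G ⟶ X) [LocallyOfFiniteType g] [QuasiCompact g]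
    [IsSchemeTheoreticallyDominant g] [IsLocallyNoetherian X] [Nonempty X] (h : Flat (pullback.fst g g)) :
    ∃ V : G.Opens, (V : Set G).Nonempty ∧ Flat (V.ι ≫ g) := by
  obtain ⟨X', hX', hx, -⟩ := exists_isAffineOpen_mem_and_subset
    (x := Classical.arbitrary X) (U := (⊤ : X.Opens)) trivial
  have : IsAffine X'.toScheme := hX'
  have : Nonempty X'.toScheme := ⟨⟨_, hx⟩⟩
  let j := (g ⁻¹ᵁ X').ι
  have : CompactSpace (g ⁻¹ᵁ X').toScheme := isCompact_iff_compactSpace.1 (g.isCompact_preimage hX'.isCompact)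
  let 𝒰 := (g ⁻¹ᵁ X').toScheme.affineCover.finiteSubcover
  have : ∀ i, IsAffine (𝒰.X i) := fun i => inferInstanceAs (IsAffine ((g ⁻¹ᵁ X').toScheme.affineCover.X _))
  let c : (∐ 𝒰.X) ⟶ (g ⁻¹ᵁ X').toScheme := Sigma.desc 𝒰.f
  have : Surjective c := ⟨fun x => by
    obtain ⟨y, hy⟩ := 𝒰.covers x
    refine ⟨(Sigma.ι 𝒰.X (𝒰.idx x)).base y, ?_⟩
    rw [← Scheme.Hom.comp_apply, Sigma.ι_desc]
    exact hy⟩
  have : Flat c := by
    refine (IsZariskiLocalAtSource.iff_of_openCover (P := @Flat) (sigmaOpenCover 𝒰.X)).2 fun i => ?_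
    show Flat (Sigma.ι 𝒰.X i ≫ Sigma.desc 𝒰.f)
    rw [Sigma.ι_desc]
    infer_instance
  have : LocallyOfFinitePresentation c := by
    refine (IsZariskiLocalAtSource.iff_of_openCover (P := @LocallyOfFinitePresentation) (sigmaOpenCover 𝒰.X)).2 fun i => ?_
    show LocallyOfFinitePresentation (Sigma.ι 𝒰.X i ≫ Sigma.desc 𝒰.f)
    rw [Sigma.ι_desc]
    infer_instance
  have : QuasiCompact c := by
    have : CompactSpace (∐ 𝒰.X : Scheme) := inferInstance
    have : QuasiSeparatedSpace (g ⁻¹ᵁ X').toScheme := by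
      have := isLocallyNoetherian_of_isOpenImmersion X'.ι
      have : IsLocallyNoetherian (g ⁻¹ᵁ X').toScheme := LocallyOfFiniteType.isLocallyNoetherian (g ∣_ X')
      infer_instance
    infer_instance
  have : Epi c := Flat.epi_of_flat_of_surjective c
  let e : (∐ 𝒰.X) ⟶ X'.toScheme := c ≫ g ∣_ X'
  have heι : e ≫ X'.ι = (c ≫ j) ≫ g := by simp [e, j]
  let φ := e.appTop
  have hφ : Function.Injective φ.hom := by
    have h1 : Function.Injective (g.app X') := g.app_injective X'
    have h2 : Function.Injective ((g ∣_ X').appTop) := by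
      intro x y hxy
      have hn := congr($(morphismRestrict_app g X' ⊤) x)
      have hn' := congr($(morphismRestrict_app g X' ⊤) y)
      have h3 : Function.Injective (g.app (X'.ι ''ᵁ ⊤)) := g.app_injective _
      apply h3
      have h4 : Function.Injective (G.presheaf.map (eqToHom (image_morphismRestrict_preimage g X' ⊤)).op) :=
        (ConcreteCategory.bijective_of_isIso _).1
      exact h4 (hn.symm.trans (hxy.trans hn'))
    intro x y hxy
    apply h2
    apply Groth.AlgGrp2.ConstFun.appTop_injective_of_epi c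
    simpa [φ, e] using hxy
  have : IsLocallyNoetherian X'.toScheme := isLocallyNoetherian_of_isOpenImmersion X'.ι
  have : IsNoetherianRing Γ(X'.toScheme, ⊤) := IsLocallyNoetherian.component_noetherian ⟨⊤, isAffineOpen_top _⟩
  have hnat : Spec.map φ = (∐ 𝒰.X).isoSpec.inv ≫ e ≫ X'.toScheme.isoSpec.hom := by
    rw [← Category.assoc, ← Scheme.isoSpec_inv_naturality]
    simp [φ]
  have : LocallyOfFiniteType e := by simp only [e]; infer_instance
  have : LocallyOfFiniteType (Spec.map φ) := by rw [hnat]; infer_instance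
  -- the base change is flat
  let h' := (c ≫ j) ≫ g
  have : Flat (c ≫ j) := inferInstance
  have h1 : Flat (pullback.fst h' g) := by
    rw [← pullbackRightPullbackFstIso_inv_fst g g (c ≫ j)]
    have : Flat (pullback.fst (c ≫ j) (pullback.fst g g)) := MorphismProperty.pullback_fst _ _ h
    infer_instance
  have h2 : Flat (pullback.fst h' h') := by
    rw [← pullbackLeftPullbackSndIso_inv_fst h' g (c ≫ j)]
    infer_instance
  let s := (∐ 𝒰.X).isoSpec.inv
  have hs : Spec.map φ ≫ X'.toScheme.isoSpec.inv ≫ X'.ι = s ≫ h' := by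
    rw [hnat, Category.assoc, Category.assoc, Iso.hom_inv_id_assoc, heι]
  have h3 : Flat (pullback.fst (s ≫ h') (s ≫ h')) := by
    rw [← pullbackLeftPullbackSndIso_inv_fst (s ≫ h') h' s]
    have : Flat (pullback.fst (s ≫ h') h') := by
      rw [← pullbackRightPullbackFstIso_inv_fst h' h' s]
      have : Flat (pullback.fst s (pullback.fst h' h')) := MorphismProperty.pullback_fst _ _ h2
      infer_instance
    infer_instance
  algebraize [φ.hom]
  have h4 : Flat (Spec.map (CommRingCat.ofHom (algebraMap Γ((∐ 𝒰.X : Scheme), ⊤)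
      (Γ((∐ 𝒰.X : Scheme), ⊤) ⊗[Γ(X'.toScheme, ⊤)] Γ((∐ 𝒰.X : Scheme), ⊤))))) := by
    have sq := isPullback_SpecMap_of_isPushout _ _ _ _
      (CommRingCat.isPushout_tensorProduct Γ(X'.toScheme, ⊤) Γ((∐ 𝒰.X : Scheme), ⊤) Γ((∐ 𝒰.X : Scheme), ⊤))
    have sq2 : IsPullback (pullback.fst (s ≫ h') (s ≫ h')) (pullback.snd (s ≫ h') (s ≫ h')) (Spec.map φ) (Spec.map φ) := by
      refine isPullback_of_comp_mono (c := X'.toScheme.isoSpec.inv ≫ X'.ι) ?_
      rw [hs]
      exact IsPullback.of_hasPullback _ _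
    have e1 : CommRingCat.ofHom (algebraMap Γ(X'.toScheme, ⊤) Γ((∐ 𝒰.X : Scheme), ⊤)) = φ := rfl
    rw [e1] at sq
    exact (MorphismProperty.cancel_left_of_respectsIso @Flat (sq2.isoIsPullback _ _ sq).hom _).1 (by
      erw [IsPullback.isoIsPullback_hom_fst]
      exact h3)
  rw [Flat.SpecMap_iff] at h4
  have hBB : Module.Flat Γ((∐ 𝒰.X : Scheme), ⊤)
      (Γ((∐ 𝒰.X : Scheme), ⊤) ⊗[Γ(X'.toScheme, ⊤)] Γ((∐ 𝒰.X : Scheme), ⊤)) := RingHom.flat_algebraMap_iff.1 h4
  have hft : Algebra.FiniteType Γ(X'.toScheme, ⊤) Γ((∐ 𝒰.X : Scheme), ⊤) := RingHom.finiteType_algebraMap.1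
    ((HasRingHomProperty.Spec_iff (P := @LocallyOfFiniteType)).1 ‹LocallyOfFiniteType (Spec.map φ)›)
  have : Nontrivial Γ(X'.toScheme, ⊤) := by
    by_contra hn
    rw [not_nontrivial_iff_subsingleton] at hn
    exact IsEmpty.false (α := PrimeSpectrum Γ(X'.toScheme, ⊤)) (X'.toScheme.isoSpec.hom (Classical.arbitrary _))
  obtain ⟨b, hb, hflat⟩ := exists_flat_away_of_tensor_self_flat hφ
  let l : Spec (CommRingCat.of (Localization.Away b)) ⟶ Spec Γ((∐ 𝒰.X : Scheme), ⊤) :=
    Spec.map (CommRingCat.ofHom (algebraMap _ (Localization.Away b)))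
  have : IsOpenImmersion l := IsOpenImmersion.of_isLocalization b
  have hl : Flat (l ≫ Spec.map φ) := by
    rw [← Spec.map_comp, Flat.SpecMap_iff]
    exact RingHom.flat_algebraMap_iff.2 hflat
  have hne : Nonempty (Spec (CommRingCat.of (Localization.Away b))) := by
    have : Nontrivial (Localization.Away b) := by
      by_contra hn
      rw [not_nontrivial_iff_subsingleton, IsLocalization.subsingleton_iff (M := Submonoid.powers b)] at hn
      exact hb hn
    exact inferInstanceAs (Nonempty (PrimeSpectrum (Localization.Away b)))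
  let i := l ≫ s ≫ c ≫ j
  have : Flat i := inferInstance
  have : LocallyOfFinitePresentation i := inferInstance
  let V : G.Opens := ⟨Set.range i, i.isOpenMap.isOpen_range⟩
  refine ⟨V, Set.range_nonempty _, ?_⟩
  let q : Spec (CommRingCat.of (Localization.Away b)) ⟶ V.toScheme := IsOpenImmersion.lift V.ι i (by
    rw [Scheme.Opens.range_ι]; rfl)
  have hq : q ≫ V.ι = i := IsOpenImmersion.lift_fac _ _ _
  have : Surjective q := ⟨fun ⟨v, z, hz⟩ => ⟨z, V.ι.isOpenEmbedding.injective ((congr(($hq).base z)).trans hz)⟩⟩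
  have : Flat q := by
    have : Flat (q ≫ V.ι) := by rw [hq]; infer_instance
    exact MorphismProperty.of_postcomp (W := @Flat) (W' := @IsOpenImmersion) q V.ι inferInstance this
  have : Flat (q ≫ V.ι ≫ g) := by
    rw [← Category.assoc, hq, show i ≫ g = (l ≫ Spec.map φ) ≫ X'.toScheme.isoSpec.inv ≫ X'.ι by
      rw [Category.assoc l (Spec.map φ), hs]; simp [i, h']]
    infer_instance
  exact Groth.FlatMor2.flat_of_comp_surjective q _

end Scheme

variable {k : Type u} [Field k]

/-- The underlying morphism of an isomorphism over a base is an isomorphism. -/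
theorem isIso_hom_left {S : Scheme.{u}} {X Y : Over S} (e : X ≅ Y) : IsIso e.hom.left :=
  ((Over.forget S).mapIso e).isIso_hom

/-- A scheme-theoretically dominant orbit map of an algebraic group over an algebraically closed field
is flat. -/
theorem flat_orbitMap_algClosed [IsAlgClosed k] {G X : Over (Spec (CommRingCat.of k))} [GrpObj G]
    [LocallyOfFiniteType G.hom] [LocallyOfFiniteType X.hom] (a : AlgGrp.Action G X)
    (o : 𝟙_ (Over (Spec (CommRingCat.of k))) ⟶ X) [QuasiCompact (a.orbitMap o).left]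
    [IsSchemeTheoreticallyDominant (a.orbitMap o).left]
    (h : Flat (pullback.fst (a.orbitMap o).left (a.orbitMap o).left)) : Flat (a.orbitMap o).left := by
  have := isLocallyNoetherian_left X
  have := LocallyOfFiniteType.jacobsonSpace G.hom
  have : LocallyOfFiniteType (a.orbitMap o).left := by
    have : LocallyOfFiniteType ((a.orbitMap o).left ≫ X.hom) := by rw [Over.w]; infer_instance
    exact locallyOfFiniteType_of_comp _ X.hom
  have : Nonempty X.left := ⟨o.left.base (IsLocalRing.closedPoint k)⟩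
  obtain ⟨V, hVne, hV⟩ := exists_flat_open_of_self_flat (a.orbitMap o).left h
  obtain ⟨y, hyV, hyc⟩ := nonempty_inter_closedPoints hVne V.2.isLocallyClosed
  let S := {W : G.left.Opens // Flat (W.ι ≫ (a.orbitMap o).left)}
  have htop : (⨆ W : S, W.1) = ⊤ := by
    refine TopologicalSpace.Opens.ext (Set.eq_univ_of_forall fun z => ?_)
    by_contra hz
    obtain ⟨x, hx, hxc⟩ := nonempty_inter_closedPoints (Z := ((⨆ W : S, W.1 : G.left.Opens) : Set G.left)ᶜ)
      ⟨z, hz⟩ (⨆ W : S, W.1).2.isClosed_compl.isLocallyClosed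
    obtain ⟨qx, hqx⟩ := exists_point_over_closed k G x hxc
    obtain ⟨qy, hqy⟩ := exists_point_over_closed k G y hyc
    let i : 𝟙_ (Over (Spec (CommRingCat.of k))) ⟶ specAlg k k := Over.homMk (𝟙 _) (by
      show 𝟙 _ ≫ Spec.map (CommRingCat.ofHom (algebraMap k k)) = 𝟙 _
      rw [Category.id_comp]; exact Spec.map_id _)
    let t : 𝟙_ (Over (Spec (CommRingCat.of k))) ⟶ G := i ≫ (qy * qx⁻¹)
    let τ := translIso t
    let β : X ⟶ X := lift (toUnit X ≫ t) (𝟙 X) ≫ a.act
    let β' : X ⟶ X := lift (toUnit X ≫ t⁻¹) (𝟙 X) ≫ a.act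
    have hcomp : ∀ (u v : 𝟙_ (Over (Spec (CommRingCat.of k))) ⟶ G),
        (lift (toUnit X ≫ u) (𝟙 X) ≫ a.act) ≫ lift (toUnit X ≫ v) (𝟙 X) ≫ a.act =
          lift (toUnit X ≫ (v * u)) (𝟙 X) ≫ a.act := fun u v => by
      rw [comp_lift_assoc, Category.comp_id, ← Category.assoc _ (toUnit X) v, toUnit_unique (_ ≫ toUnit X) (toUnit X),
        ← a.lift_mul_act, ← MonObj.comp_mul]
    have hβ1 : lift (toUnit X ≫ (1 : 𝟙_ _ ⟶ G)) (𝟙 X) ≫ a.act = 𝟙 X := by
      rw [MonObj.comp_one, a.lift_one_act]
    have : IsIso β := ⟨β', by rw [hcomp, inv_mul_cancel, hβ1], by rw [hcomp, mul_inv_cancel, hβ1]⟩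
    have hsq : τ.hom ≫ a.orbitMap o = a.orbitMap o ≫ β := by
      rw [comp_orbit, show a.orbitMap o ≫ β = lift (toUnit G ≫ t) (a.orbitMap o) ≫ a.act by
        rw [show β = lift (toUnit X ≫ t) (𝟙 X) ≫ a.act from rfl, ← Category.assoc, comp_lift, Category.comp_id,
          ← Category.assoc, toUnit_unique (a.orbitMap o ≫ toUnit X) (toUnit G)],
        show τ.hom = (toUnit G ≫ t) * 𝟙 G from rfl, a.lift_mul_act, ← comp_orbit a (𝟙 G) o, Category.id_comp]
    have hmove : qx ≫ τ.hom = qy := by
      have hi : toUnit (specAlg k k) ≫ i = 𝟙 _ := toPt_unique (X := specAlg k k) _ _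
      show qx ≫ ((toUnit G ≫ t) * 𝟙 G) = qy
      rw [MonObj.comp_mul, Category.comp_id, ← Category.assoc, toUnit_unique (qx ≫ toUnit G) (toUnit _),
        show t = i ≫ (qy * qx⁻¹) from rfl, ← Category.assoc, hi, Category.id_comp, inv_mul_cancel_right]
    let W := τ.hom.left ⁻¹ᵁ V
    have hW : Flat (W.ι ≫ (a.orbitMap o).left) := by
      have : IsIso τ.hom.left := isIso_hom_left τ
      have : IsIso β.left := isIso_hom_left (asIso β)
      have h2 : (W.ι ≫ (a.orbitMap o).left) ≫ β.left = (τ.hom.left ∣_ V) ≫ V.ι ≫ (a.orbitMap o).left := by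
        rw [morphismRestrict_ι_assoc, Category.assoc, ← Over.comp_left, ← hsq, Over.comp_left]
      have : Flat ((W.ι ≫ (a.orbitMap o).left) ≫ β.left) := by rw [h2]; infer_instance
      exact (MorphismProperty.cancel_right_of_respectsIso @Flat _ β.left).1 this
    refine hx (TopologicalSpace.Opens.mem_iSup.2 ⟨⟨W, hW⟩, ?_⟩)
    show τ.hom.left.base x ∈ V
    rw [← hqx]
    exact (congr(($hmove).left (IsLocalRing.closedPoint k))).trans hqy ▸ hyV
  exact IsZariskiLocalAtSource.of_iSup_eq_top (P := @Flat) (fun W : S => W.1) htop fun W => W.2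

/-- A scheme-theoretically dominant orbit map of an algebraic group over a field is flat. -/
theorem flat_orbitMap {G X : Over (Spec (CommRingCat.of k))} [GrpObj G]
    [LocallyOfFiniteType G.hom] [LocallyOfFiniteType X.hom] (a : AlgGrp.Action G X)
    (o : 𝟙_ (Over (Spec (CommRingCat.of k))) ⟶ X) [QuasiCompact (a.orbitMap o).left]
    [IsSchemeTheoreticallyDominant (a.orbitMap o).left]
    (h : Flat (pullback.fst (a.orbitMap o).left (a.orbitMap o).left)) : Flat (a.orbitMap o).left := by
  let K := AlgebraicClosure k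
  let φ : Spec (CommRingCat.of K) ⟶ Spec (CommRingCat.of k) := Spec.map (CommRingCat.ofHom (algebraMap k K))
  have : LocallyOfFiniteType (Red.bc φ G).hom := inferInstanceAs (LocallyOfFiniteType (pullback.snd G.hom φ))
  have : LocallyOfFiniteType (Red.bc φ X).hom := inferInstanceAs (LocallyOfFiniteType (pullback.snd X.hom φ))
  let o' : 𝟙_ (Over (Spec (CommRingCat.of K))) ⟶ Red.bc φ X := Groth.AlgGrp2.bcPtInv φ (toUnit _ ≫ o)
  have horb : (a.bc φ).orbitMap o' = (Over.pullback φ).map (a.orbitMap o) := by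
    apply Groth.AlgGrp2.bcPt_injective φ
    have hl := a.lift_homEquiv_bc_act φ (T' := Red.bc φ G) (Groth.AlgGrp2.bcPt φ (𝟙 _))
      (toUnit _ ≫ o)
    have ho : toUnit (Red.bc φ G) ≫ o' = (Over.mapPullbackAdj φ).homEquiv _ X (toUnit _ ≫ o) := by
      apply Groth.AlgGrp2.bcPt_injective φ
      rw [Groth.AlgGrp2.bcPt_comp, Groth.AlgGrp2.bcPt_bcPtInv, ← Category.assoc]
      refine Eq.trans ?_ (Equiv.symm_apply_apply _ _).symm
      congr 1
    have hid : (Over.mapPullbackAdj φ).homEquiv (Red.bc φ G) G (Groth.AlgGrp2.bcPt φ (𝟙 _)) = 𝟙 _ :=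
      Equiv.apply_symm_apply _ _
    rw [hid, ← ho] at hl
    refine (congrArg (Groth.AlgGrp2.bcPt φ) hl).trans ((Equiv.symm_apply_apply _ _).trans ?_)
    have h2 := Groth.AlgGrp2.bcPt_comp_map φ (𝟙 (Red.bc φ G)) (a.orbitMap o)
    rw [Category.id_comp, comp_orbit] at h2
    exact h2.symm
  have sq := isPullback_bc_map φ (a.orbitMap o)
  have : Flat (pullback.fst X.hom φ) := MorphismProperty.pullback_fst _ _ inferInstance
  have : IsSchemeTheoreticallyDominant ((a.bc φ).orbitMap o').left := by
    rw [horb]; exact IsSchemeTheoreticallyDominant.of_isPullback sq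
  have : QuasiCompact ((a.bc φ).orbitMap o').left := by
    rw [horb]; exact MorphismProperty.of_isPullback sq ‹QuasiCompact (a.orbitMap o).left›
  have hflat : Flat ((a.bc φ).orbitMap o').left := by
    refine flat_orbitMap_algClosed (a.bc φ) o' ?_
    rw [horb]
    set g := (a.orbitMap o).left
    set g' := ((Over.pullback φ).map (a.orbitMap o)).left
    have sq1 := ((IsPullback.of_hasPullback g' g').paste_vert sq.flip).flip
    rw [← sq.w] at sq1
    let L : pullback g' g' ⟶ pullback g g :=
      pullback.lift (pullback.fst g' g' ≫ pullback.fst G.hom φ) (pullback.snd g' g' ≫ pullback.fst G.hom φ) (by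
        rw [Category.assoc, Category.assoc, sq.w, ← Category.assoc, ← Category.assoc, pullback.condition])
    rw [show pullback.snd g' g' ≫ pullback.fst G.hom φ = L ≫ pullback.snd g g from (pullback.lift_snd _ _ _).symm] at sq1
    have sq2 := IsPullback.of_right sq1 (pullback.lift_fst _ _ _) (IsPullback.of_hasPullback g g).flip
    exact MorphismProperty.of_isPullback (P := @Flat) sq2 h
  rw [horb] at hflat
  have : Surjective (pullback.fst G.hom φ) := inferInstance
  have : Flat (pullback.fst G.hom φ ≫ (a.orbitMap o).left) := by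
    rw [sq.w]; infer_instance
  exact Groth.FlatMor2.flat_of_comp_surjective (pullback.fst G.hom φ) _

end Groth.AlgGrp1
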