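import Groth.Agent.S18074
import Groth.Agent.S19702
import Groth.Agent.AlgGrp1.AffineKernelBC
import Groth.Agent.AlgGrp1.AntiAffineSmooth
import Groth.Agent.GrpschAbsch.GrpEtale

/-!
# Power maps of commutative algebraic groups are affine, given divisibility of anti-affine groups
-/

set_option autoImplicit false
universe u

open CategoryTheory Limits MonoidalCategory CartesianMonoidalCategory MonObj GrpObj AlgebraicGeometry

noncomputable section

namespace Groth.AlgGrp1

variable {k : Type u} [Field k]

/-- The `n`-th power maps of anti-affine groups over algebraically closed fields are surjective. -/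
def AntiAffineDivisible : Prop :=
  ∀ (k : Type u) [Field k] [IsAlgClosed k] (M : Over (Spec (CommRingCat.of k))) [GrpObj M] [Smooth M.hom]
    [QuasiCompact M.hom] [ConnectedSpace ↥M.left]
    (_ : Function.Bijective ((Scheme.ΓSpecIso (CommRingCat.of k)).inv ≫ M.hom.appTop).hom)
    (n : ℕ), 0 < n → Surjective ((𝟙 M) ^ n).left

/-- A scheme with a single point is affine. -/
theorem isAffine_of_subsingleton (X : Scheme.{u}) [Subsingleton X] : IsAffine X := by
  rcases isEmpty_or_nonempty X with h | ⟨⟨x⟩⟩
  · infer_instance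
  · obtain ⟨U, hU, hx, -⟩ := exists_isAffineOpen_mem_and_subset (x := x) (U := (⊤ : X.Opens)) trivial
    have hU' : U = ⊤ := top_unique fun y _ => (Subsingleton.elim x y) ▸ hx
    subst hU'
    have : IsAffine (⊤ : X.Opens).toScheme := hU
    exact IsAffine.of_isIso X.topIso.inv

/-- An anti-affine group killed by `n > 0` is trivial. -/
theorem isTrivialGrp_of_antiAffine_of_pow_eq_one (hdiv : AntiAffineDivisible.{u})
    (K : Over (Spec (CommRingCat.of k))) [GrpObj K] [LocallyOfFiniteType K.hom] [QuasiCompact K.hom]
    (hK : HasConstFunctions K) (n : ℕ) (hn : 0 < n) (h : (𝟙 K) ^ n = 1) : Red.IsTrivialGrp K := by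
  let g := Spec.map (CommRingCat.ofHom (algebraMap k (AlgebraicClosure k)))
  have hK' : HasConstFunctions (Red.bc g K) := (Groth.Agent.S19702.result k (AlgebraicClosure k) K).1 hK
  let L := Red.bc g K
  have : LocallyOfFiniteType L.hom := inferInstanceAs (LocallyOfFiniteType (pullback.snd K.hom g))
  have : QuasiCompact L.hom := inferInstanceAs (QuasiCompact (pullback.snd K.hom g))
  have : Smooth L.hom := AntiAffineSmooth.smooth_of_hasConstFunctions L hK'
  have : ConnectedSpace L.left := hK'.connectedSpace
  have := hdiv (AlgebraicClosure k) L hK' n hn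
  have h' : (𝟙 L) ^ n = 1 := by
    have e := ((Over.pullback g).homMonoidHom (X := K) (M := K)).map_pow (𝟙 K) n
    rw [h, map_one, Functor.homMonoidHom_apply, CategoryTheory.Functor.map_id] at e
    exact e.symm
  rw [h'] at this
  have : Subsingleton L.left := by
    refine ⟨fun a b => ?_⟩
    obtain ⟨a', rfl⟩ := (1 : L ⟶ L).left.surjective a
    obtain ⟨b', rfl⟩ := (1 : L ⟶ L).left.surjective b
    have e : (1 : L ⟶ L).left = (toUnit L).left ≫ η[L].left := rfl
    rw [e, Scheme.Hom.comp_apply, Scheme.Hom.comp_apply]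
    congr 1
    exact @Subsingleton.elim _ (inferInstanceAs (Subsingleton ↥(Spec (CommRingCat.of (AlgebraicClosure k))))) _ _
  have : Subsingleton K.left := by
    have : Surjective (pullback.fst K.hom g) := inferInstance
    exact @Function.Surjective.subsingleton _ _ _ ‹Subsingleton L.left› (pullback.fst K.hom g).surjective
  have := isAffine_of_subsingleton K.left
  exact Groth.Agent.S18074.isTrivial_of_affine K hK

/-- The `n`-th power map of a commutative algebraic group is affine for `n > 0`. -/
theorem isAffineHom_pow (hdiv : AntiAffineDivisible.{u})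
    (G : Over (Spec (CommRingCat.of k))) [GrpObj G] [IsCommMonObj G]
    [LocallyOfFiniteType G.hom] [QuasiCompact G.hom] (n : ℕ) (hn : 0 < n) :
    IsAffineHom ((𝟙 G ^ n : G ⟶ G).left) := by
  have := isSeparated_grpObj G
  have : IsMonHom (𝟙 G ^ n : G ⟶ G) := by rw [← zpow_natCast]; infer_instance
  let f : G ⟶ G := 𝟙 G ^ n
  have : QuasiCompact (f.left ≫ G.hom) := by rw [Over.w]; infer_instance
  have : QuasiCompact f.left := QuasiCompact.of_comp _ G.hom
  obtain ⟨N, ν, _, hN⟩ := Groth.Agf.exists_preimage f η[G]
  have : Mono ν := Over.mono_of_mono_left ν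
  have hN' : ∀ (T : Over (Spec (CommRingCat.of k))) (x : T ⟶ G), (∃ z : T ⟶ N, z ≫ ν = x) ↔ x ≫ f = 1 := by
    intro T x
    rw [hN]
    exact ⟨fun ⟨z, hz⟩ => hz.trans (congrArg (· ≫ η[G]) (toUnit_unique z (toUnit T))),
      fun h => ⟨toUnit T, h⟩⟩
  obtain ⟨_, _⟩ := Groth.Agf.exists_grpObj_of_subgroup ν (fun T x => x ≫ f = 1) hN' (fun T => MonObj.one_comp f)
    (fun T a b ha hb => by rw [MonObj.mul_comp, ha, hb, _root_.one_mul])
    (fun T a ha => by rw [GrpObj.inv_comp, ha, inv_one])
  have : LocallyOfFiniteType N.hom := by rw [← Over.w ν]; infer_instance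
  have : QuasiCompact N.hom := by rw [← Over.w ν]; infer_instance
  have : IsAffine N.left := by
    obtain ⟨K, _, c, _, _, hK, hKt⟩ := Groth.Agent.S18074.exists_antiAffine_affine_of_trivial N
    refine hKt ?_
    have : LocallyOfFiniteType K.hom := by rw [← Over.w c]; infer_instance
    have : QuasiCompact K.hom := by rw [← Over.w c]; infer_instance
    refine isTrivialGrp_of_antiAffine_of_pow_eq_one hdiv K hK n hn ?_
    have : Mono c := Over.mono_of_mono_left c
    have hz := (hN' K (c ≫ ν)).1 ⟨c, rfl⟩
    rw [MonObj.comp_pow, Category.comp_id] at hz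
    rw [← cancel_mono (c ≫ ν), MonObj.pow_comp, MonObj.one_comp, Category.id_comp]
    exact hz
  exact isAffineHom_of_affine_kernel f ν (IsKernel.mk' inferInstance hN')

end Groth.AlgGrp1
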