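/-
Affine opens containing the image of a profinite set in a Jacobson group scheme.
-/
import Groth.Agent.GrpschAbsch.FieldComp
import Groth.Agent.GrpschAbsch.ProfiniteProd
import Groth.Agent.AlgGrp1.Basic
import Groth.Agent.PropsBasic2.SchTop
import Mathlib.Topology.JacobsonSpace

universe u

open CategoryTheory CategoryTheory.Limits MonoidalCategory CartesianMonoidalCategory MonObj GrpObj
  AlgebraicGeometry TopologicalSpace

namespace Groth.AlgGrp1.ProfiniteImage

variable {k : Type u} [Field k] {G : Over (Spec (CommRingCat.of k))} [GrpObj G]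

/-- The point of a rational section. -/
noncomputable def pt (x : 𝟙_ (Over (Spec (CommRingCat.of k))) ⟶ G) : G.left :=
  x.left (IsLocalRing.closedPoint k)

lemma pt_comp (x : 𝟙_ (Over (Spec (CommRingCat.of k))) ⟶ G) (φ : G ⟶ G) : pt (x ≫ φ) = φ.left (pt x) := by
  simp only [pt, Over.comp_left]
  exact Scheme.Hom.comp_apply _ _ _

/-- Right translation by a section. -/
noncomputable def translateR (x : 𝟙_ (Over (Spec (CommRingCat.of k))) ⟶ G) : G ≅ G where
  hom := 𝟙 G * (toUnit G ≫ x)
  inv := 𝟙 G * (toUnit G ≫ x)⁻¹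
  hom_inv_id := by simp [MonObj.comp_mul, GrpObj.comp_inv, mul_assoc]
  inv_hom_id := by simp [MonObj.comp_mul, mul_assoc]

lemma comp_translateR (y x : 𝟙_ (Over (Spec (CommRingCat.of k))) ⟶ G) :
    y ≫ (translateR x).hom = y * x := by
  have : toUnit (𝟙_ (Over (Spec (CommRingCat.of k)))) = 𝟙 _ := toUnit_unique _ _
  simp [translateR, MonObj.comp_mul, this]

lemma comp_translate (y x : 𝟙_ (Over (Spec (CommRingCat.of k))) ⟶ G) :
    y ≫ (GrpschAbsch.translate G x).hom = x * y := by
  have : toUnit (𝟙_ (Over (Spec (CommRingCat.of k)))) = 𝟙 _ := toUnit_unique _ _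
  simp [GrpschAbsch.translate, MonObj.comp_mul, this]

lemma eta_eq_one : η[G] = (1 : 𝟙_ (Over (Spec (CommRingCat.of k))) ⟶ G) := by
  exact MonObj.one_eq_one (M := G)

lemma le_max {x : G.left} : ∃ m, IsMax m ∧ x ≤ m := by
  obtain ⟨z, hz, hzx⟩ := PropsBasic2.exists_genericPoint_specializes x
  refine ⟨z, fun w hw => ?_, Scheme.le_iff_specializes.mpr hzx⟩
  rw [(PropsBasic2.closure_mem_irreducibleComponents_iff z).1 hz w (Scheme.le_iff_specializes.mp hw)]

lemma mono_left (φ : G ⟶ G) {a b : G.left} (h : a ≤ b) : φ.left a ≤ φ.left b :=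
  Scheme.le_iff_specializes.mpr ((Scheme.le_iff_specializes.mp h).map φ.left.continuous)

lemma isMax_iso (φ : G ≅ G) {m : G.left} (hm : IsMax m) : IsMax (φ.hom.left m) :=
  GrpschAbsch.isMax_homeomorph (GrpschAbsch.leftHomeo φ) hm

/-- The section through a closed point. -/
lemma exists_pt [JacobsonSpace G.left]
    (hrat : ∀ g : G.left, IsClosed ({g} : Set G.left) → ∃ x : Spec (CommRingCat.of k) ⟶ G.left,
      x ≫ G.hom = 𝟙 _ ∧ x (IsLocalRing.closedPoint k) = g) {g : G.left} (hg : IsClosed {g}) :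
    ∃ x : 𝟙_ (Over (Spec (CommRingCat.of k))) ⟶ G, pt x = g := by
  obtain ⟨x, h1, h2⟩ := hrat g hg
  exact ⟨Over.homMk x h1, h2⟩

variable [JacobsonSpace G.left]
  (hrat : ∀ g : G.left, IsClosed ({g} : Set G.left) → ∃ x : Spec (CommRingCat.of k) ⟶ G.left,
    x ≫ G.hom = 𝟙 _ ∧ x (IsLocalRing.closedPoint k) = g)

/-- Sections in the component of the unit: left translation fixes all maximal points. -/
def InIdComp (z : 𝟙_ (Over (Spec (CommRingCat.of k))) ⟶ G) : Prop :=
  ∃ m, IsMax m ∧ pt η[G] ≤ m ∧ pt z ≤ m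

include hrat

lemma translate_fix {z : 𝟙_ (Over (Spec (CommRingCat.of k))) ⟶ G} (hz : InIdComp z) {m : G.left}
    (hm : IsMax m) : (GrpschAbsch.translate G z).hom.left m = m := by
  obtain ⟨c₀, hc₀, hc⟩ := nonempty_inter_closedPoints (Z := closure ({m} : Set G.left))
    ⟨m, subset_closure rfl⟩ isClosed_closure.isLocallyClosed
  obtain ⟨c, rfl⟩ := exists_pt hrat hc
  have hcm : pt c ≤ m := Scheme.le_iff_specializes.mpr (specializes_iff_mem_closure.mpr hc₀)
  obtain ⟨m₀, hm₀, he, hz⟩ := hz
  have h1 : pt c ≤ (translateR c).hom.left m₀ := by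
    have := mono_left (translateR c).hom he
    rwa [← pt_comp, comp_translateR, eta_eq_one, _root_.one_mul] at this
  have h2 : pt (z * c) ≤ (translateR c).hom.left m₀ := by
    have := mono_left (translateR c).hom hz
    rwa [← pt_comp, comp_translateR] at this
  have h3 : pt (z * c) ≤ (GrpschAbsch.translate G z).hom.left m := by
    have := mono_left (GrpschAbsch.translate G z).hom hcm
    rwa [← pt_comp, comp_translate] at this
  rw [GrpschAbsch.isMax_unique G hm (isMax_iso (translateR c) hm₀) hcm h1] at *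
  exact GrpschAbsch.isMax_unique G (isMax_iso _ (isMax_iso (translateR c) hm₀))
    (isMax_iso (translateR c) hm₀) h3 h2

omit hrat in
/-- Two sections on one component differ by a section of the unit component. -/
lemma inIdComp_div {a c : 𝟙_ (Over (Spec (CommRingCat.of k))) ⟶ G} {m : G.left} (hm : IsMax m)
    (ha : pt a ≤ m) (hc : pt c ≤ m) : InIdComp (a * c⁻¹) := by
  refine ⟨(translateR c⁻¹).hom.left m, isMax_iso _ hm, ?_, ?_⟩
  · have := mono_left (translateR c⁻¹).hom hc
    rwa [← pt_comp, comp_translateR, mul_inv_cancel, ← eta_eq_one] at this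
  · have := mono_left (translateR c⁻¹).hom ha
    rwa [← pt_comp, comp_translateR] at this

/-- The closure of an affine open is open. -/
lemma isOpen_closure (U : G.left.Opens) (hU : IsAffineOpen U) : IsOpen (closure (U : Set G.left)) := by
  have : IsSeparated G.hom := Groth.AlgGrp1.isSeparated_grpObj G
  have : IsAffine U.toScheme := hU
  have : QuasiCompact U.ι := by
    have : QuasiCompact (U.ι ≫ G.hom) := by rw [quasiCompact_iff_compactSpace]; infer_instance
    exact QuasiCompact.of_comp U.ι G.hom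
  rw [isOpen_iff_forall_mem_open]
  intro y hy
  obtain ⟨c₀, hcy, hc⟩ := nonempty_inter_closedPoints (Z := closure ({y} : Set G.left))
    ⟨y, subset_closure rfl⟩ isClosed_closure.isLocallyClosed
  have hcU : c₀ ∈ closure (U : Set G.left) :=
    closure_minimal (Set.singleton_subset_iff.2 hy) isClosed_closure hcy
  obtain ⟨w, hw⟩ := PropsBasic2.exists_specializes_of_mem_closure_range U.ι (y := c₀)
    (by rwa [U.range_ι])
  obtain ⟨m, hm, hwm⟩ := le_max (x := U.ι w)
  have hmU : m ∈ U := (Scheme.le_iff_specializes.mp hwm).mem_open U.2 w.2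
  obtain ⟨a₀, ⟨haU, ham⟩, ha⟩ := nonempty_inter_closedPoints (Z := (U : Set G.left) ∩ closure {m})
    ⟨m, hmU, subset_closure rfl⟩ (U.2.isLocallyClosed.inter isClosed_closure.isLocallyClosed)
  obtain ⟨c, rfl⟩ := exists_pt hrat hc
  obtain ⟨a, rfl⟩ := exists_pt hrat ha
  have hcm : pt c ≤ m :=
    Scheme.le_iff_specializes.mpr ((Scheme.le_iff_specializes.mp hwm).trans hw)
  have ham' : pt a ≤ m := Scheme.le_iff_specializes.mpr (specializes_iff_mem_closure.mpr ham)
  have hz := inIdComp_div hm ham' hcm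
  let φ := GrpschAbsch.translate G (a * c⁻¹)
  refine ⟨φ.hom.left ⁻¹' U, fun p hp => ?_, U.2.preimage φ.hom.left.continuous, ?_⟩
  · obtain ⟨mp, hmp, hp'⟩ := le_max (x := p)
    have h := (Scheme.le_iff_specializes.mp (mono_left φ.hom hp')).mem_open U.2 hp
    rw [translate_fix hrat hz hmp] at h
    exact closure_mono (Set.singleton_subset_iff.2 h)
      (specializes_iff_mem_closure.mp (Scheme.le_iff_specializes.mp hp'))
  · refine (specializes_iff_mem_closure.mpr hcy).mem_open (U.2.preimage φ.hom.left.continuous) ?_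
    show φ.hom.left (pt c) ∈ U
    rwa [← pt_comp, comp_translate, inv_mul_cancel_right]

/-- An affine open containing the image of the spectrum of a union of split algebras. -/
theorem exists_affineOpen [IsAlgClosed k] {A : Type u} [CommRing A] [Algebra k A]
    (hA : ∀ s : Finset A, ∃ (B : Subalgebra k A) (n : ℕ), (↑s : Set A) ⊆ (B : Set A) ∧
      Nonempty (B ≃ₐ[k] (Fin n → k)))
    (f : Spec (CommRingCat.of A) ⟶ G.left)
    (hf : f ≫ G.hom = Spec.map (CommRingCat.ofHom (algebraMap k A))) :
    ∃ U : G.left.Opens, IsAffineOpen U ∧ Set.range ⇑f ⊆ (U : Set G.left) := by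
  have : IsSeparated G.hom := Groth.AlgGrp1.isSeparated_grpObj G
  let T : Over (Spec (CommRingCat.of k)) := Over.mk (Spec.map (CommRingCat.ofHom (algebraMap k A)))
  let f' : T ⟶ G := Over.homMk f hf
  -- all points of the image are rational closed points
  have hrational : ∀ t : T.left, ∃ c : 𝟙_ (Over (Spec (CommRingCat.of k))) ⟶ G,
      pt c = f t ∧ IsClosed {f t} := by
    intro t
    let P : PrimeSpectrum A := t
    have hb : Function.Bijective (Algebra.ofId k (A ⧸ P.asIdeal)) := by
      refine ⟨RingHom.injective _, fun q => ?_⟩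
      obtain ⟨a, rfl⟩ := Ideal.Quotient.mk_surjective q
      obtain ⟨c, hc⟩ := GrpschAbsch.ProfiniteProd.exists_scalar hA P a
      exact ⟨c, ((Ideal.Quotient.eq).2 hc).symm⟩
    let e := AlgEquiv.ofBijective (Algebra.ofId k (A ⧸ P.asIdeal)) hb
    let ψ : A →ₐ[k] k := e.symm.toAlgHom.comp (Ideal.Quotient.mkₐ k P.asIdeal)
    let p : Spec (CommRingCat.of k) ⟶ Spec (CommRingCat.of A) := Spec.map (CommRingCat.ofHom ψ.toRingHom)
    have hp : p ≫ T.hom = 𝟙 _ := by
      show Spec.map _ ≫ Spec.map _ = _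
      rw [← Spec.map_comp, ← Spec.map_id, ← CommRingCat.ofHom_comp]
      congr 2
      exact ψ.comp_algebraMap
    have hpt : p (IsLocalRing.closedPoint k) = t := by
      apply PrimeSpectrum.ext
      show Ideal.comap ψ.toRingHom (IsLocalRing.maximalIdeal k) = P.asIdeal
      rw [IsLocalRing.maximalIdeal_eq_bot]
      ext a
      simp [ψ, Ideal.Quotient.eq_zero_iff_mem]
    let x : Spec (CommRingCat.of k) ⟶ G.left := p ≫ f
    have hx : x ≫ G.hom = 𝟙 _ := by
      show (p ≫ f) ≫ G.hom = _
      rw [Category.assoc, hf]; exact hp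
    have hxt : x (IsLocalRing.closedPoint k) = f t := by
      rw [show x = p ≫ f from rfl, Scheme.Hom.comp_apply, hpt]
    refine ⟨Over.homMk x hx, hxt, ?_⟩
    have : IsClosedImmersion (x ≫ G.hom) := by rw [hx]; infer_instance
    have : IsClosedImmersion x := IsClosedImmersion.of_comp x G.hom
    have hr := x.isClosedEmbedding.isClosed_range
    have : Set.range x = {f t} := by
      refine Set.eq_singleton_iff_unique_mem.2 ⟨⟨_, hxt⟩, ?_⟩
      rintro _ ⟨q, rfl⟩
      have : Subsingleton ↥(Spec (CommRingCat.of k)) := inferInstanceAs (Subsingleton (PrimeSpectrum k))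
      rw [Subsingleton.elim q (IsLocalRing.closedPoint k), hxt]
    rwa [this] at hr
  -- cover the image by affine opens
  have hKc : IsCompact (Set.range f) := isCompact_range f.continuous
  obtain ⟨s, hs⟩ := hKc.elim_finite_subcover (fun U : G.left.affineOpens => ((U : G.left.Opens) : Set G.left))
    (fun U => U.1.2) (fun y _ => by
      obtain ⟨U, hU, hy, -⟩ := exists_isAffineOpen_mem_and_subset (U := (⊤ : G.left.Opens)) (x := y) trivial
      exact Set.mem_iUnion.2 ⟨⟨U, hU⟩, hy⟩)
  let n := s.card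
  let e := s.equivFin.symm
  let U : Fin n → G.left.Opens := fun i => ((e i).1 : G.left.Opens)
  have hU : ∀ i, IsAffineOpen (U i) := fun i => (e i).1.2
  let W : Fin n → Set G.left := fun i => closure (U i : Set G.left)
  have hW : ∀ i, IsClopen (W i) := fun i => ⟨isClosed_closure, isOpen_closure hrat _ (hU i)⟩
  let V : Fin n → Set G.left := fun i => W i ∩ ⋂ j : Fin n, {x | j < i → x ∉ W j}
  have hV : ∀ i, IsClopen (V i) := fun i => (hW i).inter <| isClopen_iInter_of_finite fun j => by
    by_cases h : j < i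
    · simp only [h, true_implies]; exact (hW j).compl
    · simp only [h, false_implies]; exact isClopen_univ
  have hVW : ∀ i, V i ⊆ W i := fun i => Set.inter_subset_left
  have hdisj : ∀ i j, i ≠ j → Disjoint (V i) (V j) := by
    intro i j hij
    rw [Set.disjoint_left]
    rintro x ⟨hi, hi'⟩ ⟨hj, hj'⟩
    rcases lt_or_gt_of_ne hij with h | h
    · exact Set.mem_iInter.1 hj' i h hi
    · exact Set.mem_iInter.1 hi' j h hj
  have hcov : ∀ t, ∃ i, f t ∈ V i := by
    intro t
    classical
    obtain ⟨U₀, hU₀, ht⟩ := Set.mem_iUnion₂.1 (hs ⟨t, rfl⟩)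
    have hne : (Finset.univ.filter fun i => f t ∈ W i).Nonempty := by
      refine ⟨e.symm ⟨U₀, hU₀⟩, Finset.mem_filter.2 ⟨Finset.mem_univ _, subset_closure ?_⟩⟩
      simpa [U] using ht
    refine ⟨_, (Finset.mem_filter.1 (Finset.min'_mem _ hne)).2, Set.mem_iInter.2 fun j hj hmem => ?_⟩
    exact (Finset.min'_le _ j (Finset.mem_filter.2 ⟨Finset.mem_univ _, hmem⟩)).not_gt hj
  -- the unit component
  obtain ⟨me, hme, heme⟩ := le_max (x := pt η[G])
  -- the translated products
  let ν : T ⊗ G ⟶ G := snd T G * (fst T G ≫ f')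
  let Ψ := (GrpschAbsch.ProfiniteProd.isHomeomorph_prod hA G.left G.hom).homeomorph
  let F : T.left × G.left → G.left := fun q => ν.left (Ψ.symm q)
  have hF : Continuous F := ν.left.continuous.comp Ψ.symm.continuous
  have hFval : ∀ (z : 𝟙_ (Over (Spec (CommRingCat.of k))) ⟶ G) (t : T.left),
      F (t, pt z) = (GrpschAbsch.translate G z).hom.left (f t) := by
    intro z t
    let ℓ : T ⟶ T ⊗ G := lift (𝟙 T) (toUnit T ≫ z)
    have h1 : Ψ (ℓ.left t) = (t, pt z) := by
      refine Prod.ext ?_ ?_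
      · show (fst T G).left (ℓ.left t) = t
        rw [← Scheme.Hom.comp_apply, ← Over.comp_left, lift_fst]
        rfl
      · show (snd T G).left (ℓ.left t) = pt z
        rw [← Scheme.Hom.comp_apply, ← Over.comp_left, lift_snd, Over.comp_left, Scheme.Hom.comp_apply]
        have : Subsingleton ↥(Spec (CommRingCat.of k)) := inferInstanceAs (Subsingleton (PrimeSpectrum k))
        exact congrArg z.left (Subsingleton.elim (α := ↥(Spec (CommRingCat.of k))) _ _)
    show ν.left (Ψ.symm (t, pt z)) = _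
    rw [← h1, Homeomorph.symm_apply_apply, ← Scheme.Hom.comp_apply, ← Over.comp_left]
    have h2 : ℓ ≫ ν = f' ≫ (GrpschAbsch.translate G z).hom := by
      simp [ℓ, ν, GrpschAbsch.translate, MonObj.comp_mul]
    rw [h2, Over.comp_left, Scheme.Hom.comp_apply]
    rfl
  -- a translation for each piece
  have hpiece : ∀ i, ∃ z : 𝟙_ (Over (Spec (CommRingCat.of k))) ⟶ G, InIdComp z ∧
      ∀ t, f t ∈ V i → (GrpschAbsch.translate G z).hom.left (f t) ∈ (U i : Set G.left) ∩ V i := by
    intro i
    have hO : IsOpen ((U i : Set G.left) ∩ V i) := (U i).2.inter (hV i).isOpen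
    let Ti : Set T.left := f ⁻¹' V i
    have hTi : IsCompact Ti := by
      have : CompactSpace T.left := inferInstanceAs (CompactSpace (Spec (CommRingCat.of A)))
      exact ((hV i).isClosed.preimage f.continuous).isCompact
    have hbox : ∀ t : Ti, ∃ (a : Set T.left) (b : Set G.left), IsOpen a ∧ IsOpen b ∧ t.1 ∈ a ∧
        (closure {me} ∩ b).Nonempty ∧ a ×ˢ b ⊆ F ⁻¹' ((U i : Set G.left) ∩ V i) := by
      rintro ⟨t, ht⟩
      obtain ⟨c, hct, hcl⟩ := hrational t
      have hct' : pt c ∈ V i := hct ▸ ht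
      have : IsAffine (U i).toScheme := hU i
      have : QuasiCompact (U i).ι := by
        have : QuasiCompact ((U i).ι ≫ G.hom) := by rw [quasiCompact_iff_compactSpace]; infer_instance
        exact QuasiCompact.of_comp (U i).ι G.hom
      obtain ⟨w, hw⟩ := PropsBasic2.exists_specializes_of_mem_closure_range (U i).ι (y := pt c)
        (by rw [(U i).range_ι]; exact hVW i hct')
      obtain ⟨m, hm, hwm⟩ := le_max (x := (U i).ι w)
      have hcm : m ⤳ pt c := (Scheme.le_iff_specializes.mp hwm).trans hw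
      have hmO : m ∈ (U i : Set G.left) ∩ V i :=
        ⟨(Scheme.le_iff_specializes.mp hwm).mem_open (U i).2 w.2, hcm.mem_open (hV i).isOpen hct'⟩
      obtain ⟨a₀, ⟨haO, ham⟩, ha⟩ := nonempty_inter_closedPoints
        (Z := ((U i : Set G.left) ∩ V i) ∩ closure {m})
        ⟨m, hmO, subset_closure rfl⟩ (hO.isLocallyClosed.inter isClosed_closure.isLocallyClosed)
      obtain ⟨a, rfl⟩ := exists_pt hrat ha
      have hz := inIdComp_div hm (Scheme.le_iff_specializes.mpr (specializes_iff_mem_closure.mpr ham))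
        (Scheme.le_iff_specializes.mpr hcm)
      have hmem : F (t, pt (a * c⁻¹)) ∈ (U i : Set G.left) ∩ V i := by
        rw [hFval, ← hct, ← pt_comp, comp_translate, inv_mul_cancel_right]
        exact haO
      obtain ⟨a', b', ha', hb', hta, hzb, hsub⟩ := isOpen_prod_iff.1 (hO.preimage hF) t _ hmem
      obtain ⟨m₀, hm₀, he₀, hz₀⟩ := hz
      rw [GrpschAbsch.isMax_unique G hm₀ hme he₀ heme] at hz₀
      exact ⟨a', b', ha', hb', hta,
        ⟨_, specializes_iff_mem_closure.mp (Scheme.le_iff_specializes.mp hz₀), hzb⟩, hsub⟩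
    choose a b ha hb hta hbne hsub using hbox
    obtain ⟨s', hs'⟩ := hTi.elim_finite_subcover a ha (fun t ht => Set.mem_iUnion.2 ⟨⟨t, ht⟩, hta _⟩)
    have hB : IsOpen (⋂ q ∈ s', b q) := isOpen_biInter_finset fun q _ => hb q
    have hne : (closure {me} ∩ ⋂ q ∈ s', b q).Nonempty := by
      refine ⟨me, subset_closure rfl, Set.mem_iInter₂.2 fun q _ => ?_⟩
      obtain ⟨y, hy, hyb⟩ := hbne q
      exact (specializes_iff_mem_closure.mpr hy).mem_open (hb q) hyb
    obtain ⟨z₀, ⟨hz₀, hzb⟩, hzc⟩ := nonempty_inter_closedPoints hne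
      (isClosed_closure.isLocallyClosed.inter hB.isLocallyClosed)
    obtain ⟨z, rfl⟩ := exists_pt hrat hzc
    refine ⟨z, ⟨me, hme, heme, Scheme.le_iff_specializes.mpr (specializes_iff_mem_closure.mpr hz₀)⟩,
      fun t ht => ?_⟩
    obtain ⟨q, hq, htq⟩ := Set.mem_iUnion₂.1 (hs' ht)
    rw [← hFval]
    exact hsub q ⟨htq, Set.mem_iInter₂.1 hzb q hq⟩
  choose z hz hzU using hpiece
  let Vo : Fin n → G.left.Opens := fun i => ⟨V i, (hV i).isOpen⟩
  have hUV : ∀ i, IsAffineOpen (U i ⊓ Vo i) := by
    intro i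
    have : IsAffine (U i).toScheme := hU i
    let O : (U i).toScheme.Opens := (U i).ι ⁻¹ᵁ Vo i
    have hcl : IsClosed (O : Set (U i).toScheme) := (hV i).isClosed.preimage (U i).ι.continuous
    have : IsClosedImmersion O.ι :=
      IsClosedImmersion.of_isPreimmersion _ (by rwa [O.range_ι])
    have hOaff : IsAffineOpen O := isAffine_of_isAffineHom O.ι
    have := hOaff.image_of_isOpenImmersion (U i).ι
    rwa [Scheme.Hom.image_preimage_eq_opensRange_inf, (U i).opensRange_ι] at this
  let U'' : Fin n → G.left.Opens := fun i => (GrpschAbsch.translate G (z i)).hom.left ⁻¹ᵁ (U i ⊓ Vo i)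
  have hsubV : ∀ i, (U'' i : Set G.left) ⊆ V i := by
    intro i p hp
    obtain ⟨m, hm, hpm⟩ := le_max (x := p)
    have h1 := (Scheme.le_iff_specializes.mp (mono_left (GrpschAbsch.translate G (z i)).hom hpm)).mem_open
      (hV i).isOpen hp.2
    rw [translate_fix hrat (hz i) hm] at h1
    exact (Scheme.le_iff_specializes.mp hpm).mem_closed (hV i).isClosed h1
  refine ⟨⨆ i, U'' i, IsAffineOpen.iSup_of_disjoint (fun i => ?_) (fun i j hij => ?_), ?_⟩
  · have : IsIso (GrpschAbsch.translate G (z i)).hom.left :=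
      inferInstanceAs (IsIso ((Over.forget _).map (GrpschAbsch.translate G (z i)).hom))
    exact (hUV i).preimage_of_isIso _
  · rw [Function.onFun, disjoint_iff]
    ext x
    simp only [Opens.coe_inf, Opens.coe_bot, Set.mem_inter_iff, Set.mem_empty_iff_false, iff_false, not_and]
    exact fun h1 h2 => Set.disjoint_left.1 (hdisj i j hij) (hsubV i h1) (hsubV j h2)
  · rintro _ ⟨t, rfl⟩
    obtain ⟨i, hi⟩ := hcov t
    exact Opens.mem_iSup.2 ⟨i, hzU i t hi⟩

end Groth.AlgGrp1.ProfiniteImage
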