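import Mathlib.FieldTheory.Minpoly.Field

/-!
# An integral element of a domain killed by a retraction to a field is zero
-/

universe u v w

namespace Groth.AlgGrp1

theorem eq_zero_of_isIntegral {k : Type u} {R : Type v} {K : Type w} [Field k] [CommRing R]
    [IsDomain R] [CommRing K] [Nontrivial K] [Algebra k R] [Algebra k K] (e : R →ₐ[k] K) {d : R}
    (hd : IsIntegral k d) (h : e d = 0) : d = 0 := by
  by_contra hne
  refine minpoly.coeff_zero_ne_zero hd hne ?_
  have h' : Polynomial.aeval (e d) (minpoly k d) = 0 := by
    rw [Polynomial.aeval_algHom_apply, minpoly.aeval, map_zero]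
  rw [h, ← Polynomial.coeff_zero_eq_aeval_zero'] at h'
  exact (algebraMap k K).injective (by rw [h', map_zero])

end Groth.AlgGrp1
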