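import Groth.Agent.AlgGrp1.NilpotentGrp
import Groth.Agent.Misc1.Unip.MultType
import Groth.Agent.Misc1.Unip.DimOne.Comm

/-!
Characters of connected solvable groups are determined on a torus absorbing all tori.
-/

set_option autoImplicit false
set_option linter.style.haveILetI false
universe u

open CategoryTheory Limits MonoidalCategory CartesianMonoidalCategory MonObj GrpObj AlgebraicGeometry
open WithConv TensorProduct
open Groth.ComodLib

noncomputable section

namespace Groth.AlgGrp1

variable {k : Type u} [Field k] [IsAlgClosed k]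

/-- A function multiplicative on points of a reduced group is group-like. -/
theorem groupLike_of_points_mul {A : Type u} [CommRing A] [HopfAlgebra k A] [Algebra.FiniteType k A]
    [_root_.IsReduced A] (c : A) (h1 : Coalgebra.counit (R := k) c = 1)
    (hmul : ∀ g h : WithConv (A →ₐ[k] k), (g * h).ofConv c = g.ofConv c * h.ofConv c) :
    IsGroupLikeElem k c := by
  have : _root_.IsReduced (A ⊗[k] A) := Groth.VarietyBC.isReduced_tensor
  have : Algebra.FiniteType k (A ⊗[k] A) := Algebra.FiniteType.trans (S := A) ‹_› inferInstance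
  refine ⟨h1, sub_eq_zero.1 ?_⟩
  by_contra hne
  obtain ⟨φ, hφ⟩ := Groth.Misc1.Unip.exists_point_ne_zero' (k := k) k
    (f := Coalgebra.comul (R := k) c - c ⊗ₜ[k] c) fun hn => hne hn.eq_zero
  refine hφ ?_
  rw [map_sub, sub_eq_zero]
  let g := φ.comp (Algebra.TensorProduct.includeLeft : A →ₐ[k] A ⊗[k] A)
  let g' := φ.comp (Algebra.TensorProduct.includeRight : A →ₐ[k] A ⊗[k] A)
  have hφ' : φ = Algebra.TensorProduct.lift g g' (fun _ _ => Commute.all _ _) :=
    Algebra.TensorProduct.ext' fun x y => by simp [g, g', ← map_mul]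
  have h2 := AlgHom.convMul_apply (toConv g) (toConv g') c
  rw [show (toConv g * toConv g') c = g c * g' c from hmul _ _] at h2
  have hr : φ (c ⊗ₜ[k] c) = g c * g' c := by simp [g, g', ← map_mul]
  rw [hr, h2, hφ']

/-- A character of a connected solvable group which is trivial on the tori is trivial. -/
theorem eq_one_of_char {B : Over (Spec (CommRingCat.of k))} [GrpObj B] [IsAffine B.left] [Smooth B.hom]
    [ConnectedSpace B.left] (hs : Red.IsSolvableGrp B) {A : Type u} [CommRing A] [HopfAlgebra k A]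
    [Algebra.FiniteType k A] (e : CoactBr.sp k A ≅ B) [IsMonHom e.hom] (c : A)
    (h1 : Coalgebra.counit (R := k) c = 1)
    (hmul : ∀ g h : WithConv (A →ₐ[k] k), (g * h).ofConv c = g.ofConv c * h.ofConv c)
    (htor : ∀ (S : Over (Spec (CommRingCat.of k))) [GrpObj S] (j : S ⟶ B) [IsMonHom j], Red.IsTorus S →
      ∀ (g : WithConv (A →ₐ[k] k)) (s : CoactBr.sp k k ⟶ S), s ≫ j = hopfPts e g → g.ofConv c = 1)
    (g : WithConv (A →ₐ[k] k)) : g.ofConv c = 1 := by
  obtain ⟨hdom, htri⟩ := isTrigonalizable_of_iso hs e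
  haveI := hdom
  obtain ⟨r, ψ, ρ, J, hJh, hρ, hJ, hU⟩ := exists_split_extension (k := k) A htri
  haveI := hJh
  let N := MonoidAlgebra k (Multiplicative (Fin r → ℤ))
  haveI := isMonHom_pt_bialg ρ
  let iS : CoactBr.sp k N ⟶ B := CoactBr.pt (ρ : A →ₐ[k] N) ≫ e.hom
  have hT : Red.IsTorus (CoactBr.sp k N) :=
    isTorus_of_diag_iso (Iso.refl _) (inferInstanceAs (IsMonHom (𝟙 _)))
  let a := convPre (k := k) ψ
  let b := convPre (k := k) ρ
  have hgl := groupLike_of_points_mul c h1 hmul
  have hb : ∀ f, (b f).ofConv c = 1 := fun f => by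
    refine htor _ iS hT (b f) (CoactBr.pt f.ofConv) ?_
    show _ = CoactBr.pt (f.ofConv.comp (ρ : A →ₐ[k] N)) ≫ e.hom
    rw [CoactBr.pt_comp, Category.assoc]
  have hab : ∀ f, a (b f) = f := fun f => WithConv.ofConv_injective (AlgHom.ext fun y =>
    congrArg f.ofConv (DFunLike.congr_fun hρ y))
  set u := g * (b (a g))⁻¹ with hu
  have hker : J ≤ RingHom.ker u.ofConv := by
    rw [hJ, Ideal.map_le_iff_le_comap]
    intro x hx
    rw [Ideal.mem_comap, RingHom.mem_ker]
    rw [RingHom.mem_ker, Bialgebra.counitAlgHom_apply] at hx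
    show (a u).ofConv x = 0
    rw [hu, map_mul, map_inv, hab, mul_inv_cancel]
    simp [AlgHom.convOne_apply, hx]
  have huc : u.ofConv c = 1 := by
    have hq : Bialgebra.Quotient.mkBialgHom (R := k) J c = 1 :=
      Groth.Misc1.Unip.groupLike_eq_one (fun x => exists_mem_fixSeries hU x)
        (hgl.map (Bialgebra.Quotient.mkBialgHom (R := k) J))
    have h2 : c - 1 ∈ J := Ideal.Quotient.eq.1 (hq.trans (map_one (Ideal.Quotient.mk J)).symm)
    have h3 := hker h2
    rw [RingHom.mem_ker, map_sub, map_one, sub_eq_zero] at h3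
    exact h3
  have hg : g = u * b (a g) := by rw [hu, inv_mul_cancel_right]
  rw [hg, hmul, huc, hb, _root_.one_mul]

end Groth.AlgGrp1
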